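import Mathlib.GroupTheory.Sylow
import Mathlib.GroupTheory.Solvable
import Mathlib.GroupTheory.QuotientGroup.Basic
import Mathlib.Algebra.Group.End

/-!
# Fixed point free automorphisms of order four

The heart of the theorem that a solvable group with a fixed point free automorphism of order
four has nilpotent derived subgroup: a group acting faithfully and irreducibly, compatibly with
such an automorphism, is abelian.
-/

set_option autoImplicit false

namespace CfsgLib.FPFFour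

open Subgroup
open scoped commutatorElement

section General

variable {G : Type*} [Group G] [Finite G]

omit [Finite G] in
theorem injective_inv_mul (σ : MulAut G) (hfpf : ∀ g : G, σ g = g → g = 1) :
    Function.Injective fun g : G => g⁻¹ * σ g := by
  intro a b h
  simp only at h
  have : σ (b * a⁻¹) = b * a⁻¹ := by
    rw [map_mul, map_inv]
    calc σ b * (σ a)⁻¹ = b * (b⁻¹ * σ b) * (σ a)⁻¹ := by group
      _ = b * (a⁻¹ * σ a) * (σ a)⁻¹ := by rw [h]
      _ = b * a⁻¹ := by group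
  exact (mul_inv_eq_one.1 (hfpf _ this)).symm

/-- Every element of an invariant subgroup has the form `k⁻¹ σ(k)` inside the subgroup. -/
theorem exists_eq_inv_mul (σ : MulAut G) (hfpf : ∀ g : G, σ g = g → g = 1) {K : Subgroup G}
    (hK : ∀ k ∈ K, σ k ∈ K) {x : G} (hx : x ∈ K) : ∃ k ∈ K, k⁻¹ * σ k = x := by
  let f : K → K := fun k => ⟨(k : G)⁻¹ * σ k, K.mul_mem (K.inv_mem k.2) (hK k k.2)⟩
  have hf : Function.Injective f := fun a b h =>
    Subtype.ext (injective_inv_mul σ hfpf (congrArg Subtype.val h))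
  obtain ⟨k, hk⟩ := (Finite.injective_iff_surjective.1 hf) ⟨x, hx⟩
  exact ⟨k, k.2, congrArg Subtype.val hk⟩

theorem fpf_of_mem (σ : MulAut G) (hfpf : ∀ g : G, σ g = g → g = 1) {K : Subgroup G}
    (hK : ∀ k ∈ K, σ k ∈ K) {g : G} (hg : g⁻¹ * σ g ∈ K) : g ∈ K := by
  obtain ⟨k, hk, he⟩ := exists_eq_inv_mul σ hfpf hK hg
  rwa [← injective_inv_mul σ hfpf he]

/-- A fixed point free automorphism inverts the fixed points of its square. -/
theorem inv_of_fix (σ : MulAut G) (hfpf : ∀ g : G, σ g = g → g = 1) {u : G}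
    (hu : σ (σ u) = u) : σ u = u⁻¹ := by
  let C : Subgroup G :=
    { carrier := {g | σ (σ g) = g}
      mul_mem' := fun {a b} (ha : σ (σ a) = a) (hb : σ (σ b) = b) => by
        show σ (σ (a * b)) = a * b
        rw [map_mul, map_mul, ha, hb]
      one_mem' := by show σ (σ 1) = 1; rw [map_one, map_one]
      inv_mem' := fun {a} (ha : σ (σ a) = a) => by
        show σ (σ a⁻¹) = a⁻¹
        rw [map_inv, map_inv, ha] }
  obtain ⟨k, hk, rfl⟩ := exists_eq_inv_mul σ hfpf (K := C)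
    (fun g (hg : σ (σ g) = g) => show σ (σ (σ g)) = σ g by rw [hg]) (show u ∈ C from hu)
  have hk' : σ (σ k) = k := hk
  rw [map_mul, map_inv, hk']
  group

theorem odd_card (σ : MulAut G) (hσ : σ ^ 4 = 1) (hfpf : ∀ g : G, σ g = g → g = 1) :
    Odd (Nat.card G) := by
  haveI : Fact (Nat.Prime 2) := ⟨Nat.prime_two⟩
  have hp : IsPGroup 2 (Subgroup.zpowers σ) := fun x => ⟨2, by
    obtain ⟨i, hi⟩ := Subgroup.mem_zpowers_iff.1 x.2
    apply Subtype.ext
    rw [Subgroup.coe_pow, ← hi, ← zpow_natCast, ← zpow_mul, mul_comm, zpow_mul, zpow_natCast]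
    norm_num [hσ]⟩
  have h := hp.card_modEq_card_fixedPoints G
  have hfix : MulAction.fixedPoints (Subgroup.zpowers σ) G = {1} := by
    ext g
    constructor
    · intro hg
      exact hfpf g (hg ⟨σ, Subgroup.mem_zpowers σ⟩)
    · rintro rfl x
      exact map_one (x : MulAut G)
  rw [hfix, Nat.card_coe_set_eq, Set.ncard_singleton] at h
  rw [Nat.odd_iff]
  exact h

theorem exists_sqrt (h : Odd (Nat.card G)) : ∃ k : ℕ, ∀ x : G, (x ^ k) ^ 2 = x := by
  obtain ⟨m, hm⟩ := h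
  refine ⟨m + 1, fun x => ?_⟩
  rw [← pow_mul, show (m + 1) * 2 = Nat.card G + 1 by omega, pow_succ, pow_card_eq_one',
    one_mul]

theorem mem_of_sq_mem (h : Odd (Nat.card G)) {S : Subgroup G} {x : G} (hx : x ^ 2 ∈ S) :
    x ∈ S := by
  obtain ⟨k, hk⟩ := exists_sqrt h
  have := S.pow_mem hx k
  rwa [← pow_mul, mul_comm, pow_mul, hk] at this

/-- A minimal nontrivial invariant normal subgroup of a solvable group is elementary abelian. -/
theorem exists_min_invariant [Nontrivial G] (hG : Group.IsSolvable G) (σ : MulAut G) :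
    ∃ (N : Subgroup G) (q : ℕ), q.Prime ∧ N ≠ ⊥ ∧ N.Normal ∧ (∀ n ∈ N, σ n ∈ N) ∧
      (∀ m ∈ N, ∀ n ∈ N, m * n = n * m) ∧ (∀ n ∈ N, n ^ q = 1) ∧
      ∀ U : Subgroup G, U ≤ N → U.Normal → (∀ x ∈ U, σ x ∈ U) → U = ⊥ ∨ U = N := by
  haveI := hG
  have hne : {U : Subgroup G | U ≠ ⊥ ∧ U.Normal ∧ ∀ x ∈ U, σ x ∈ U}.Nonempty :=
    ⟨⊤, top_ne_bot, inferInstance, fun _ _ => mem_top _⟩
  obtain ⟨N, hN⟩ := (Set.toFinite _).exists_minimal hne
  obtain ⟨hN0, hNn, hNσ⟩ := hN.1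
  haveI := hNn
  have hmin : ∀ U : Subgroup G, U ≤ N → U.Normal → (∀ x ∈ U, σ x ∈ U) → U = ⊥ ∨ U = N := by
    intro U hU hUn hUσ
    by_contra! h
    exact h.2 (le_antisymm hU (hN.2 ⟨h.1, hUn, hUσ⟩ hU))
  haveI : Nontrivial N := N.nontrivial_iff_ne_bot.2 hN0
  have hcomm : ∀ m ∈ N, ∀ n ∈ N, m * n = n * m := by
    have hlt : commutator N < ⊤ := Group.IsSolvable.commutator_lt_top_of_nontrivial N
    rcases hmin ⁅N, N⁆ N.commutator_le_self inferInstance (fun x hx => by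
        have hx' : σ.toMonoidHom x ∈ (⁅N, N⁆).map σ.toMonoidHom := Subgroup.mem_map_of_mem _ hx
        rw [Subgroup.map_commutator] at hx'
        have hle : N.map σ.toMonoidHom ≤ N := Subgroup.map_le_iff_le_comap.2 hNσ
        exact Subgroup.commutator_mono hle hle hx') with h | h
    · intro m hm n hn
      have : ⁅m, n⁆ ∈ (⊥ : Subgroup G) := h ▸ Subgroup.commutator_mem_commutator hm hn
      rwa [Subgroup.mem_bot, commutatorElement_eq_one_iff_mul_comm] at this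
    · exfalso
      rw [← Subgroup.map_subtype_commutator] at h
      have h2 : commutator N = ⊤ := Subgroup.map_injective N.subtype_injective
        (h.trans (by rw [← MonoidHom.range_eq_map, Subgroup.range_subtype]))
      exact hlt.ne h2
  obtain ⟨q, hq, hqd⟩ := Nat.exists_prime_and_dvd
    (Finite.one_lt_card (α := N)).ne'
  haveI := Fact.mk hq
  obtain ⟨x, hx⟩ := exists_prime_orderOf_dvd_card' (G := N) q hqd
  let U : Subgroup G :=
    { carrier := {n | n ∈ N ∧ n ^ q = 1}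
      mul_mem' := fun {a b} ha hb => ⟨N.mul_mem ha.1 hb.1, by
        rw [(show Commute a b from hcomm a ha.1 b hb.1).mul_pow, ha.2, hb.2, one_mul]⟩
      one_mem' := ⟨N.one_mem, one_pow _⟩
      inv_mem' := fun {a} ha => ⟨N.inv_mem ha.1, by rw [inv_pow, ha.2, inv_one]⟩ }
  refine ⟨N, q, hq, hN0, hNn, hNσ, hcomm, fun n hn => ?_, hmin⟩
  have hUN : U = N := by
    refine (hmin U (fun n hn => hn.1) ⟨fun n hn g => ⟨hNn.conj_mem n hn.1 g, ?_⟩⟩
      (fun n hn => ⟨hNσ n hn.1, ?_⟩)).resolve_left fun h => ?_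
    · rw [conj_pow, hn.2, mul_one, mul_inv_cancel]
    · rw [← map_pow, hn.2, map_one]
    · have hxU : (x : G) ∈ U := ⟨x.2, by rw [← Subgroup.coe_pow, ← hx, pow_orderOf_eq_one]; rfl⟩
      rw [h, Subgroup.mem_bot] at hxU
      rw [← Subgroup.orderOf_coe, hxU, orderOf_one] at hx
      exact hq.one_lt.ne hx
  exact (show n ∈ U from hUN ▸ hn).2

end General

theorem swap_inv {V : Type*} [CommGroup V] {a b c d : V} (h : a * b⁻¹ = c * d⁻¹) :
    a * c⁻¹ = b * d⁻¹ := by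
  rw [mul_inv_eq_iff_eq_mul] at h ⊢
  rw [h, mul_comm c d⁻¹, mul_assoc, mul_comm c b, ← mul_assoc, mul_comm d⁻¹ b]

theorem div_eq_of_mul_eq {V : Type*} [CommGroup V] {a b c d : V} (h : a * b = c * d) :
    a * d⁻¹ = c * b⁻¹ := by
  rw [mul_inv_eq_iff_eq_mul, mul_assoc, mul_comm b⁻¹ d, ← mul_assoc, ← h, mul_inv_cancel_right]

/-- The data for the main step. -/
structure Data (H V : Type*) [Group H] [CommGroup V] where
  σ : MulAut H
  s : MulAut V
  ρ : H →* MulAut V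
  N : Subgroup H
  q : ℕ
  r : ℕ
  hq : q.Prime
  hr : r.Prime
  σ4 : ∀ h, σ (σ (σ (σ h))) = h
  s4 : ∀ x, s (s (s (s x))) = x
  hfpf : ∀ h, σ h = h → h = 1
  sfpf : ∀ x, s x = x → x = 1
  oddH : Odd (Nat.card H)
  oddV : Odd (Nat.card V)
  faithful : Function.Injective ρ
  compat : ∀ h x, ρ (σ h) (s x) = s (ρ h x)
  expV : ∀ x : V, x ^ r = 1
  irred : ∀ U : Subgroup V, (∀ x ∈ U, s x ∈ U) → (∀ h, ∀ x ∈ U, ρ h x ∈ U) → U = ⊥ ∨ U = ⊤
  N_ne : N ≠ ⊥
  N_normal : N.Normal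
  N_inv : ∀ n ∈ N, σ n ∈ N
  N_comm : ∀ m ∈ N, ∀ n ∈ N, m * n = n * m
  N_exp : ∀ n ∈ N, n ^ q = 1
  N_min : ∀ U : Subgroup H, U ≤ N → U.Normal → (∀ x ∈ U, σ x ∈ U) → U = ⊥ ∨ U = N

namespace Data

variable {H V : Type*} [Group H] [Finite H] [CommGroup V] [Finite V] (D : Data H V)

/-- The square of the automorphism on `H`. -/
def τ : MulAut H := D.σ * D.σ
/-- The square of the automorphism on `V`. -/
def t : MulAut V := D.s * D.s

omit [Finite H] [Finite V] in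
theorem τ_apply (h : H) : D.τ h = D.σ (D.σ h) := rfl
omit [Finite H] [Finite V] in
theorem t_apply (x : V) : D.t x = D.s (D.s x) := rfl
omit [Finite H] [Finite V] in
theorem τ_τ (h : H) : D.τ (D.τ h) = h := D.σ4 h
omit [Finite H] [Finite V] in
theorem t_t (x : V) : D.t (D.t x) = x := D.s4 x
omit [Finite H] [Finite V] in
theorem compat_t (h : H) (x : V) : D.ρ (D.τ h) (D.t x) = D.t (D.ρ h x) := by
  rw [τ_apply, t_apply, t_apply, D.compat, D.compat]

omit [Finite V] in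
theorem σ_fix {u : H} (hu : D.τ u = u) : D.σ u = u⁻¹ := inv_of_fix D.σ D.hfpf hu

omit [Finite H] in
theorem s_fix {x : V} (hx : D.t x = x) : D.s x = x⁻¹ := inv_of_fix D.s D.sfpf hx

omit [Finite V] in
theorem commute_fix {u w : H} (hu : D.τ u = u) (hw : D.τ w = w) : u * w = w * u := by
  have h : D.σ (u * w) = (u * w)⁻¹ := D.σ_fix (by rw [map_mul, hu, hw])
  rw [map_mul, D.σ_fix hu, D.σ_fix hw, mul_inv_rev] at h
  have h2 := congrArg Inv.inv h
  simpa [mul_inv_rev] using h2.symm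

omit [Finite H] [Finite V] in
theorem ρ_mul (g h : H) (x : V) : D.ρ (g * h) x = D.ρ g (D.ρ h x) := by
  rw [map_mul]; rfl

omit [Finite H] [Finite V] in
theorem ρ_one (x : V) : D.ρ 1 x = x := by
  rw [map_one]; rfl

/-- Stabilizer of a point. -/
def St (x : V) : Subgroup H where
  carrier := {h | D.ρ h x = x}
  mul_mem' {a b} (ha : D.ρ a x = x) (hb : D.ρ b x = x) := by
    show D.ρ (a * b) x = x
    rw [ρ_mul, hb, ha]
  one_mem' := D.ρ_one x
  inv_mem' {a} (ha : D.ρ a x = x) := by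
    show D.ρ a⁻¹ x = x
    conv_lhs => rw [← ha]
    rw [← ρ_mul, inv_mul_cancel, ρ_one]

omit [Finite H] [Finite V] in
theorem mem_St {x : V} {h : H} : h ∈ D.St x ↔ D.ρ h x = x := Iff.rfl

/-- Fixed points of a subgroup. -/
def W (K : Subgroup H) : Subgroup V where
  carrier := {x | ∀ k ∈ K, D.ρ k x = x}
  mul_mem' {a b} ha hb k hk := by rw [map_mul, ha k hk, hb k hk]
  one_mem' k _ := map_one _
  inv_mem' {a} ha k hk := by rw [map_inv, ha k hk]

omit [Finite H] [Finite V] in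
theorem mem_W {K : Subgroup H} {x : V} : x ∈ D.W K ↔ ∀ k ∈ K, D.ρ k x = x := Iff.rfl

/-- A fixed point of `τ` fixes the fixed points of `t`. -/
theorem fix_fix {u : H} (hu : D.τ u = u) {x : V} (hx : D.t x = x) : D.ρ u x = x := by
  refine mem_of_sq_mem D.oddH (S := D.St x) ?_
  have h1 : D.t (D.ρ u x) = D.ρ u x := by rw [← D.compat_t, hu, hx]
  have h2 := D.s_fix h1
  rw [← D.compat, D.σ_fix hu, D.s_fix hx, map_inv, inv_inj] at h2
  show D.ρ (u ^ 2) x = x
  rw [pow_two, ρ_mul]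
  nth_rewrite 1 [← h2]
  rw [← ρ_mul, mul_inv_cancel, ρ_one]

omit [Finite V] in
/-- Every element is a product of a fixed and an inverted element. -/
theorem decomp (x : H) : ∃ c a : H, x = c * a ∧ D.τ c = c ∧ D.τ a = a⁻¹ ∧
    (x ∈ D.N → c ∈ D.N ∧ a ∈ D.N) := by
  obtain ⟨k, hk⟩ := exists_sqrt D.oddH
  set b := (D.τ x)⁻¹ * x with hb
  have hτb : D.τ b = b⁻¹ := by
    rw [hb, map_mul, map_inv, τ_τ, mul_inv_rev, inv_inv]
  refine ⟨x * (b ^ k)⁻¹, b ^ k, by group, ?_, by rw [map_pow, hτb, inv_pow], fun hx => ?_⟩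
  · rw [map_mul, map_inv, map_pow, hτb, inv_pow, inv_inv]
    have h1 : D.τ x = x * b⁻¹ := by rw [hb]; group
    rw [h1]
    nth_rewrite 1 [← hk b]
    rw [pow_two]
    group
  · have hτx : D.τ x ∈ D.N := by rw [τ_apply]; exact D.N_inv _ (D.N_inv _ hx)
    have hbN : b ^ k ∈ D.N := D.N.pow_mem (D.N.mul_mem (D.N.inv_mem hτx) hx) _
    exact ⟨D.N.mul_mem hx (D.N.inv_mem hbN), hbN⟩

omit [Finite H] in
theorem decompV (x : V) : ∃ p e : V, x = p * e ∧ D.t p = p ∧ D.t e = e⁻¹ ∧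
    ∀ U : Subgroup V, x ∈ U → D.t x ∈ U → p ∈ U ∧ e ∈ U := by
  obtain ⟨k, hk⟩ := exists_sqrt D.oddV
  have hp : D.t ((x * D.t x) ^ k) = (x * D.t x) ^ k := by
    rw [map_pow, map_mul, t_t, mul_comm]
  refine ⟨(x * D.t x) ^ k, x * ((x * D.t x) ^ k)⁻¹, ?_, hp, ?_, fun U h1 h2 => ?_⟩
  · rw [mul_left_comm, mul_inv_cancel, mul_one]
  · rw [map_mul, map_inv, hp, mul_inv_rev, inv_inv]
    have h3 := hk (x * D.t x)
    generalize (x * D.t x) ^ k = p at h3 ⊢
    rw [pow_two] at h3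
    calc D.t x * p⁻¹ = x⁻¹ * (x * D.t x) * p⁻¹ := by group
      _ = x⁻¹ * (p * p) * p⁻¹ := by rw [h3]
      _ = p * x⁻¹ := by rw [mul_comm p x⁻¹]; group
  · have hp' := U.pow_mem (U.mul_mem h1 h2) k
    exact ⟨hp', U.mul_mem h1 (U.inv_mem hp')⟩

theorem eq_one_of_fix_all {h : H} (hh : ∀ x, D.ρ h x = x) : h = 1 :=
  D.faithful (by rw [map_one]; ext x; exact hh x)

/-- `N` has no nontrivial fixed points. -/
theorem W_N : D.W D.N = ⊥ := by
  haveI := D.N_normal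
  refine (D.irred (D.W D.N) (fun x hx n hn => ?_) (fun h x hx n hn => ?_)).resolve_right
    fun htop => D.N_ne ?_
  · obtain ⟨m, rfl⟩ : ∃ m, D.σ m = n := D.σ.surjective n
    have hm : m ∈ D.N := by
      have := D.N_inv _ (D.N_inv _ (D.N_inv _ hn))
      rwa [D.σ4] at this
    rw [D.compat, hx m hm]
  · have := hx _ (D.N_normal.conj_mem n hn h⁻¹)
    rw [← ρ_mul]
    conv_rhs => rw [← this]
    rw [← ρ_mul]
    group
  · rw [Subgroup.eq_bot_iff_forall]
    intro n hn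
    exact D.eq_one_of_fix_all fun x => (show x ∈ D.W D.N from htop ▸ mem_top x) n hn

/-- Orders of `N` and `V` are coprime. -/
theorem q_ne_r : D.q ≠ D.r := by
  intro h
  haveI := Fact.mk D.hr
  let _ : MulAction D.N V :=
    { smul := fun n x => D.ρ (n : H) x
      one_smul := fun x => D.ρ_one x
      mul_smul := fun m n x => D.ρ_mul m n x }
  have hp : IsPGroup D.r D.N := fun n => ⟨1, by
    apply Subtype.ext
    rw [pow_one, Subgroup.coe_pow, ← h, D.N_exp _ n.2]; rfl⟩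
  have hV : Nontrivial V := by
    by_contra hV
    rw [not_nontrivial_iff_subsingleton] at hV
    exact D.N_ne ((Subgroup.eq_bot_iff_forall _).2 fun n _ =>
      D.eq_one_of_fix_all fun x => Subsingleton.elim _ _)
  obtain ⟨v, hv⟩ := exists_ne (1 : V)
  have hrdvd : D.r ∣ Nat.card V := by
    have := orderOf_eq_prime (D.expV v) hv
    rw [← this]
    exact orderOf_dvd_natCard v
  obtain ⟨x, hx, hne⟩ := hp.exists_fixed_point_of_prime_dvd_card_of_fixed_point V hrdvd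
    (a := (1 : V)) (fun n => map_one (D.ρ (n : H)))
  have : x ∈ D.W D.N := fun n hn => hx ⟨n, hn⟩
  rw [D.W_N, Subgroup.mem_bot] at this
  exact hne this.symm

/-- Maximal subgroups of `N` with nontrivial fixed points. -/
def Lam (K : Subgroup H) : Prop :=
  K ≤ D.N ∧ (∃ x : V, x ≠ 1 ∧ x ∈ D.W K) ∧ ∀ x : V, x ≠ 1 → x ∈ D.W K → D.N ⊓ D.St x ≤ K

theorem exists_lam {x : V} (hx : x ≠ 1) : ∃ K, D.Lam K := by
  obtain ⟨K, hK⟩ := (Set.toFinite {K : Subgroup H | K ≤ D.N ∧ ∃ y, y ≠ 1 ∧ y ∈ D.W K}).exists_maximal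
    ⟨⊥, bot_le, x, hx, fun k hk => by rw [Subgroup.mem_bot.1 hk, ρ_one]⟩
  refine ⟨K, hK.1.1, hK.1.2, fun y hy hyK => hK.2 ⟨inf_le_left, y, hy, fun k hk => hk.2⟩ ?_⟩
  exact le_inf hK.1.1 fun k hk => hyK k hk

variable {D}
variable {K : Subgroup H}

theorem Lam.mem_of_fix (hK : D.Lam K) {n : H} (hn : n ∈ D.N) {x : V} (hx : x ≠ 1)
    (hxW : x ∈ D.W K) (hfix : D.ρ n x = x) : n ∈ K := hK.2.2 x hx hxW ⟨hn, hfix⟩

theorem Lam.eq_one_of_fix (hK : D.Lam K) {n : H} (hn : n ∈ D.N) (hnK : n ∉ K) {x : V}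
    (hxW : x ∈ D.W K) (hfix : D.ρ n x = x) : x = 1 := by
  by_contra hx
  exact hnK (hK.mem_of_fix hn hx hxW hfix)

omit [Finite H] [Finite V] in
theorem W_invariant {g : H} (hg : ∀ k ∈ K, g * k = k * g) {x : V} (hx : x ∈ D.W K) :
    D.ρ g x ∈ D.W K := by
  intro k hk
  rw [← ρ_mul, ← hg k hk, ρ_mul, hx k hk]

theorem Lam.W_invariant_N (hK : D.Lam K) {g : H} (hg : g ∈ D.N) {x : V} (hx : x ∈ D.W K) :
    D.ρ g x ∈ D.W K :=
  W_invariant (fun k hk => D.N_comm g hg k (hK.1 hk)) hx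

/-- `N/K` is cyclic. -/
theorem Lam.step (hK : D.Lam K) {n m : H} (hn : n ∈ D.N) (hnK : n ∉ K) (hm : m ∈ D.N) :
    ∃ i : ℕ, m * n ^ i ∈ K := by
  by_contra! hno
  obtain ⟨w, hw1, hwW⟩ := hK.2.1
  have hQ : ∀ g ∈ D.N, g ∉ K → ∏ j ∈ Finset.range D.q, D.ρ (g ^ j) w = 1 := by
    intro g hg hgK
    refine hK.eq_one_of_fix hg hgK
      (prod_mem fun j _ => hK.W_invariant_N (D.N.pow_mem hg j) hwW) ?_
    have hq1 := D.hq.one_lt
    obtain ⟨q', hq'⟩ : ∃ q', D.q = q' + 1 := ⟨D.q - 1, by omega⟩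
    have hgq : g ^ (q' + 1) = 1 := hq' ▸ D.N_exp g hg
    rw [map_prod, hq']
    simp only [← ρ_mul, ← pow_succ']
    rw [Finset.prod_range_succ, Finset.prod_range_succ' (fun j => D.ρ (g ^ j) w), hgq, pow_zero]
  have h1 : ∏ i ∈ Finset.range D.q, ∏ j ∈ Finset.range D.q, D.ρ ((m * n ^ i) ^ j) w = 1 :=
    Finset.prod_eq_one fun i _ =>
      hQ _ (D.N.mul_mem hm (D.N.pow_mem hn i)) (hno i)
  rw [Finset.prod_comm] at h1
  rw [Finset.prod_eq_single_of_mem 0 (Finset.mem_range.2 D.hq.pos)] at h1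
  · simp only [pow_zero, ρ_one, Finset.prod_const, Finset.card_range] at h1
    have hd1 := orderOf_dvd_of_pow_eq_one h1
    have hd2 := orderOf_dvd_of_pow_eq_one (D.expV w)
    exact hw1 (orderOf_eq_one_iff.1 (Nat.eq_one_of_dvd_coprimes
      ((Nat.coprime_primes D.hq D.hr).2 D.q_ne_r) hd1 hd2))
  · intro j hj hj0
    have hjK : n ^ j ∉ K := by
      intro h
      apply hnK
      have hcop : Nat.Coprime j (orderOf n) := by
        refine Nat.Coprime.coprime_dvd_right (orderOf_dvd_of_pow_eq_one (D.N_exp n hn)) ?_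
        exact (D.hq.coprime_iff_not_dvd.2
          (Nat.not_dvd_of_pos_of_lt (Nat.pos_of_ne_zero hj0) (Finset.mem_range.1 hj))).symm
      obtain ⟨l, hl⟩ := exists_pow_eq_self_of_coprime hcop
      rw [← hl]
      exact K.pow_mem h l
    calc ∏ i ∈ Finset.range D.q, D.ρ ((m * n ^ i) ^ j) w
        = D.ρ (m ^ j) (∏ i ∈ Finset.range D.q, D.ρ ((n ^ j) ^ i) w) := by
          rw [map_prod]
          refine Finset.prod_congr rfl fun i _ => ?_
          rw [← ρ_mul, (show Commute m (n ^ i) from D.N_comm m hm _ (D.N.pow_mem hn i)).mul_pow,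
            ← pow_mul, ← pow_mul, mul_comm i j]
      _ = 1 := by rw [hQ _ (D.N.pow_mem hn j) hjK, map_one]

/-- Each member of `Lam` is `τ`-invariant. -/
theorem Lam.τ_mem (hK : D.Lam K) {k : H} (hk : k ∈ K) : D.τ k ∈ K := by
  by_contra hcon
  have hτkN : D.τ k ∈ D.N := by rw [τ_apply]; exact D.N_inv _ (D.N_inv _ (hK.1 hk))
  have hplus : ∀ n ∈ D.N, D.τ n = n → n ∈ K := by
    intro n hn hτn
    obtain ⟨x, hx1, hxW⟩ := hK.2.1
    set d := D.ρ n x * x⁻¹ with hd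
    have hdW : d ∈ D.W K := (D.W K).mul_mem (hK.W_invariant_N hn hxW) ((D.W K).inv_mem hxW)
    have hd' : d = (D.ρ n (D.t x) * (D.t x)⁻¹)⁻¹ := by
      have h1 : D.ρ n (x * D.t x) = x * D.t x :=
        D.fix_fix hτn (by rw [map_mul, t_t, mul_comm])
      rw [map_mul] at h1
      rw [hd, eq_inv_iff_mul_eq_one, mul_mul_mul_comm, h1, ← mul_inv_rev, mul_comm x,
        mul_inv_cancel]
    have hfix : D.ρ (D.τ k) d = d := by
      have h2 : D.ρ (D.τ k) (D.t x) = D.t x := by rw [D.compat_t, hxW k hk]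
      rw [hd', map_inv, map_mul, map_inv, ← ρ_mul, ← D.N_comm n hn _ hτkN, ρ_mul, h2]
    have hd1 := hK.eq_one_of_fix hτkN hcon hdW hfix
    exact hK.mem_of_fix hn hx1 hxW (mul_inv_eq_one.1 hd1)
  apply hcon
  obtain ⟨c, a, hka, hc, ha, hN⟩ := D.decomp k
  obtain ⟨hcN, -⟩ := hN (hK.1 hk)
  have hcK := hplus c hcN hc
  have haK : a ∈ K := by
    have := K.mul_mem (K.inv_mem hcK) hk
    rwa [hka, inv_mul_cancel_left] at this
  rw [hka, map_mul, hc, ha]
  exact K.mul_mem hcK (K.inv_mem haK)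

theorem Lam.t_mem (hK : D.Lam K) {x : V} (hx : x ∈ D.W K) : D.t x ∈ D.W K := by
  intro k hk
  rw [← D.τ_τ k, D.compat_t, hx _ (hK.τ_mem hk)]

theorem Lam.plus_or_minus (hK : D.Lam K) :
    (∀ n ∈ D.N, D.τ n = n → n ∈ K) ∨ (∀ n ∈ D.N, D.τ n = n⁻¹ → n ∈ K) := by
  by_contra! h
  obtain ⟨⟨n, hn, hτn, hnK⟩, ⟨m, hm, hτm, hmK⟩⟩ := h
  obtain ⟨i, hi⟩ := hK.step hn hnK hm
  have h2 := hK.τ_mem hi
  rw [map_mul, map_pow, hτm, hτn] at h2
  have h3 : (n ^ i) ^ 2 ∈ K := by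
    have := K.mul_mem hi h2
    rwa [D.N_comm m hm _ (D.N.pow_mem hn i), mul_assoc, mul_inv_cancel_left, ← pow_two] at this
  have h4 := K.mul_mem hi (K.inv_mem (mem_of_sq_mem D.oddH h3))
  rw [mul_inv_cancel_right] at h4
  exact hmK h4

/-- `τ` acts as `1` or `-1` on `N/K`. -/
theorem Lam.sign (hK : D.Lam K) :
    (∀ n ∈ D.N, D.τ n * n⁻¹ ∈ K) ∨ (∀ n ∈ D.N, D.τ n * n ∈ K) := by
  refine hK.plus_or_minus.symm.imp (fun h n hn => ?_) (fun h n hn => ?_)
  · obtain ⟨c, a, rfl, hc, ha, hN⟩ := D.decomp n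
    obtain ⟨hcN, haN⟩ := hN hn
    rw [map_mul, hc, ha, mul_inv_rev, D.N_comm c hcN _ (D.N.inv_mem haN), mul_assoc,
      ← mul_assoc c, D.N_comm c hcN _ (D.N.inv_mem haN), mul_assoc, mul_inv_cancel, mul_one]
    exact K.mul_mem (K.inv_mem (h a haN ha)) (K.inv_mem (h a haN ha))
  · obtain ⟨c, a, rfl, hc, ha, hN⟩ := D.decomp n
    obtain ⟨hcN, haN⟩ := hN hn
    rw [map_mul, hc, ha, D.N_comm c hcN a haN, mul_assoc, inv_mul_cancel_left]
    exact K.mul_mem (h c hcN hc) (h c hcN hc)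

theorem Lam.conj (hK : D.Lam K) (g : H) :
    D.Lam (K.map (MulAut.conj g).toMonoidHom) := by
  refine ⟨?_, ?_, fun x hx hxW n hn => ?_⟩
  · rintro - ⟨k, hk, rfl⟩
    exact D.N_normal.conj_mem k (hK.1 hk) g
  · obtain ⟨x, hx, hxW⟩ := hK.2.1
    refine ⟨D.ρ g x, fun h => hx ?_, ?_⟩
    · exact (D.ρ g).injective (h.trans (map_one _).symm)
    · rintro - ⟨k, hk, rfl⟩
      show D.ρ (g * k * g⁻¹) (D.ρ g x) = D.ρ g x
      rw [← ρ_mul, inv_mul_cancel_right, ρ_mul, hxW k hk]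
  · refine ⟨g⁻¹ * n * g, hK.2.2 (D.ρ g⁻¹ x) ?_ ?_ ⟨?_, ?_⟩, by
      show g * (g⁻¹ * n * g) * g⁻¹ = n
      group⟩
    · exact fun h => hx ((D.ρ g⁻¹).injective (h.trans (map_one _).symm))
    · intro k hk
      have := hxW _ ⟨k, hk, rfl⟩
      conv_rhs => rw [← this]
      rw [← ρ_mul, ← ρ_mul]
      show D.ρ (k * g⁻¹) x = D.ρ (g⁻¹ * (g * k * g⁻¹)) x
      group
    · simpa using D.N_normal.conj_mem n hn.1 g⁻¹
    · show D.ρ (g⁻¹ * n * g) (D.ρ g⁻¹ x) = D.ρ g⁻¹ x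
      rw [← ρ_mul, mul_inv_cancel_right, ρ_mul, hn.2]

omit [Finite H] [Finite V] in
theorem mem_map_conj {g y : H} :
    y ∈ K.map (MulAut.conj g).toMonoidHom ↔ g⁻¹ * y * g ∈ K := by
  constructor
  · rintro ⟨k, hk, rfl⟩
    show g⁻¹ * (g * k * g⁻¹) * g ∈ K
    rwa [show g⁻¹ * (g * k * g⁻¹) * g = k by group]
  · intro h
    exact ⟨_, h, by show g * (g⁻¹ * y * g) * g⁻¹ = y; group⟩

variable (D)

/-- The maximal subgroups separate. -/
theorem eq_one_of_trivial {h : H} (hh : ∀ K, D.Lam K → ∀ x ∈ D.W K, D.ρ h x = x) : h = 1 := by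
  refine D.eq_one_of_fix_all fun x => ?_
  let S : Subgroup V := Subgroup.closure {y | ∃ K, D.Lam K ∧ y ∈ D.W K}
  have hS : S = ⊤ := by
    refine (D.irred S (fun y hy => ?_) (fun g y hy => ?_)).resolve_left fun hbot => ?_
    · refine Subgroup.closure_induction (p := fun y _ => D.s y ∈ S) ?_ ?_ ?_ ?_ hy
      · rintro y ⟨K, hK, hyK⟩
        refine Subgroup.subset_closure ?_
        obtain ⟨K', hK', hle⟩ : ∃ K', D.Lam K' ∧ K' ≤ K.map D.σ.toMonoidHom := by
          refine ⟨K.map D.σ.toMonoidHom, ⟨?_, ?_, fun z hz hzW n hn => ?_⟩, le_rfl⟩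
          · rintro - ⟨k, hk, rfl⟩
            exact D.N_inv k (hK.1 hk)
          · obtain ⟨z, hz, hzW⟩ := hK.2.1
            refine ⟨D.s z, fun h => hz (D.s.injective (h.trans (map_one _).symm)), ?_⟩
            rintro - ⟨k, hk, rfl⟩
            show D.ρ (D.σ k) (D.s z) = D.s z
            rw [D.compat, hzW k hk]
          · obtain ⟨z', rfl⟩ := D.s.surjective z
            obtain ⟨n', rfl⟩ := D.σ.surjective n
            have hn' : n' ∈ D.N := by
              have := D.N_inv _ (D.N_inv _ (D.N_inv _ hn.1))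
              rwa [D.σ4] at this
            refine ⟨n', hK.2.2 z' (fun h => hz (by rw [h, map_one])) (fun k hk => ?_) ⟨hn', ?_⟩,
              rfl⟩
            · apply D.s.injective
              rw [← D.compat]
              exact hzW _ ⟨k, hk, rfl⟩
            · apply D.s.injective
              rw [← D.compat]
              exact hn.2
        refine ⟨K', hK', fun k hk => ?_⟩
        obtain ⟨k', hk', rfl⟩ := hle hk
        show D.ρ (D.σ k') (D.s y) = D.s y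
        rw [D.compat, hyK k' hk']
      · rw [map_one]; exact S.one_mem
      · intro a b _ _ ha hb; rw [map_mul]; exact S.mul_mem ha hb
      · intro a _ ha; rw [map_inv]; exact S.inv_mem ha
    · refine Subgroup.closure_induction (p := fun y _ => D.ρ g y ∈ S) ?_ ?_ ?_ ?_ hy
      · rintro y ⟨K, hK, hyK⟩
        refine Subgroup.subset_closure ⟨_, hK.conj g, ?_⟩
        rintro - ⟨k, hk, rfl⟩
        show D.ρ (g * k * g⁻¹) (D.ρ g y) = D.ρ g y
        rw [← ρ_mul, inv_mul_cancel_right, ρ_mul, hyK k hk]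
      · rw [map_one]; exact S.one_mem
      · intro a b _ _ ha hb; rw [map_mul]; exact S.mul_mem ha hb
      · intro a _ ha; rw [map_inv]; exact S.inv_mem ha
    · by_cases hx : x = 1
      · exact D.N_ne ((Subgroup.eq_bot_iff_forall _).2 fun n _ => D.eq_one_of_fix_all fun y => by
          by_contra hy
          obtain ⟨K, hK⟩ := D.exists_lam (x := y) (fun h => hy (by rw [h, map_one]))
          obtain ⟨z, hz, hzW⟩ := hK.2.1
          exact hz (Subgroup.mem_bot.1 (hbot ▸ Subgroup.subset_closure ⟨K, hK, hzW⟩)))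
      · obtain ⟨K, hK⟩ := D.exists_lam hx
        obtain ⟨z, hz, hzW⟩ := hK.2.1
        exact hz (Subgroup.mem_bot.1 (hbot ▸ Subgroup.subset_closure ⟨K, hK, hzW⟩))
  refine Subgroup.closure_induction (p := fun y _ => D.ρ h y = y) ?_ ?_ ?_ ?_
    (show x ∈ S from hS ▸ mem_top x)
  · rintro y ⟨K, hK, hyK⟩
    exact hh K hK y hyK
  · exact map_one _
  · intro a b _ _ ha hb; rw [map_mul, ha, hb]
  · intro a _ ha; rw [map_inv, ha]

theorem eq_one_of_mem_all {n : H} (hn : ∀ K, D.Lam K → n ∈ K) : n = 1 :=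
  D.eq_one_of_trivial fun K hK _ hx => hx n (hn K hK)

include D in
theorem commute_of_sq {g n : H} (h : g ^ 2 * n = n * g ^ 2) : g * n = n * g :=
  (Subgroup.mem_centralizer_iff.1 (mem_of_sq_mem D.oddH (S := Subgroup.centralizer {n})
    (Subgroup.mem_centralizer_iff.2 (by
      intro y hy; rw [Set.mem_singleton_iff.1 hy]; exact h.symm))) n rfl).symm

/-- Inverted elements centralise `N`. -/
theorem commute_inverted {a : H} (ha : D.τ a = a⁻¹) {n : H} (hn : n ∈ D.N) :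
    a * n = n * a := by
  haveI := D.N_normal
  suffices h : a * n * a⁻¹ * n⁻¹ = 1 by
    rwa [mul_inv_eq_one, mul_inv_eq_iff_eq_mul] at h
  refine D.eq_one_of_mem_all fun K hK => ?_
  let P : Subgroup H :=
    { carrier := {g | ∀ x ∈ D.N, g * x * g⁻¹ * x⁻¹ ∈ K}
      mul_mem' := fun {g h} hg hh x hx => by
        have := K.mul_mem (hg _ (D.N_normal.conj_mem x hx h)) (hh x hx)
        simpa [mul_assoc] using this
      one_mem' := fun x _ => by simp
      inv_mem' := fun {g} hg x hx => by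
        have := K.inv_mem (hg _ (D.N_normal.conj_mem x hx g⁻¹))
        simpa [mul_assoc] using this }
  suffices h : a ^ 2 ∈ P from mem_of_sq_mem D.oddH h n hn
  have hK' := hK.conj a⁻¹
  have key : (∀ x ∈ D.N, D.τ (a⁻¹ * x * a) * (a⁻¹ * x * a)⁻¹ ∈
        K.map (MulAut.conj a⁻¹).toMonoidHom) ∨
      (∀ x ∈ D.N, D.τ (a⁻¹ * x * a) * (a⁻¹ * x * a) ∈
        K.map (MulAut.conj a⁻¹).toMonoidHom) :=
    hK'.sign.imp (fun h x hx => h _ (by simpa using D.N_normal.conj_mem x hx a⁻¹))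
      (fun h x hx => h _ (by simpa using D.N_normal.conj_mem x hx a⁻¹))
  simp only [mem_map_conj] at key
  simp only [map_mul, map_inv, ha, inv_inv] at key
  have hτN : ∀ x ∈ D.N, D.τ x ∈ D.N := fun x hx => D.N_inv _ (D.N_inv _ hx)
  have hcN : ∀ x ∈ D.N, a ^ 2 * x * (a ^ 2)⁻¹ ∈ D.N := fun x hx => D.N_normal.conj_mem x hx _
  have e1 : ∀ x, a * (a * D.τ x * a⁻¹ * (a⁻¹ * x * a)⁻¹) * a⁻¹ =
      a ^ 2 * D.τ x * (a ^ 2)⁻¹ * x⁻¹ := fun x => by rw [pow_two]; group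
  have e2 : ∀ x, a * (a * D.τ x * a⁻¹ * (a⁻¹ * x * a)) * a⁻¹ =
      a ^ 2 * D.τ x * (a ^ 2)⁻¹ * x := fun x => by rw [pow_two]; group
  rcases key with hk | hk <;> rcases hK.sign with hs | hs
  · intro y hy
    obtain ⟨x, hx, rfl⟩ : ∃ x ∈ D.N, D.τ x = y := ⟨_, hτN y hy, D.τ_τ y⟩
    have h1 := hk x hx
    rw [e1] at h1
    have := K.mul_mem h1 (K.inv_mem (hs x hx))
    simpa [mul_assoc] using this
  · refine mem_of_sq_mem D.oddH (S := P) fun y hy => ?_
    have hneg : ∀ z ∈ D.N, a ^ 2 * z * (a ^ 2)⁻¹ * z ∈ K := by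
      intro z hz
      obtain ⟨x, hx, rfl⟩ : ∃ x ∈ D.N, D.τ x = z := ⟨_, hτN z hz, D.τ_τ z⟩
      have h1 := hk x hx
      rw [e1] at h1
      have := K.mul_mem h1 (hs x hx)
      rw [D.N_comm _ (hτN x hx) x hx] at this
      simpa [mul_assoc] using this
    have h2 := hneg y hy
    rw [D.N_comm _ (hcN y hy) y hy] at h2
    have := K.mul_mem (hneg _ (hcN y hy)) (K.inv_mem h2)
    simpa [pow_two, mul_assoc] using this
  · refine mem_of_sq_mem D.oddH (S := P) fun y hy => ?_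
    have hneg : ∀ z ∈ D.N, a ^ 2 * z * (a ^ 2)⁻¹ * z ∈ K := by
      intro z hz
      obtain ⟨x, hx, rfl⟩ : ∃ x ∈ D.N, D.τ x = z := ⟨_, hτN z hz, D.τ_τ z⟩
      have h1 := hk x hx
      rw [e2] at h1
      have := K.mul_mem h1 (hs x hx)
      rw [D.N_comm _ (hτN x hx) _ (D.N.inv_mem hx)] at this
      simpa [mul_assoc] using this
    have h2 := hneg y hy
    rw [D.N_comm _ (hcN y hy) y hy] at h2
    have := K.mul_mem (hneg _ (hcN y hy)) (K.inv_mem h2)
    simpa [pow_two, mul_assoc] using this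
  · intro y hy
    obtain ⟨x, hx, rfl⟩ : ∃ x ∈ D.N, D.τ x = y := ⟨_, hτN y hy, D.τ_τ y⟩
    have h1 := hk x hx
    rw [e2] at h1
    have := K.mul_mem h1 (K.inv_mem (hs x hx))
    simpa [mul_assoc] using this

/-- Fixed elements centralise `N`. -/
theorem commute_fixed {u : H} (hu : D.τ u = u) {n : H} (hn : n ∈ D.N) : u * n = n * u := by
  haveI := D.N_normal
  obtain ⟨c, b, rfl, hc, hb, hN⟩ := D.decomp n
  obtain ⟨hcN, hbN⟩ := hN hn
  suffices h : u * b = b * u by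
    rw [← mul_assoc, D.commute_fix hu hc, mul_assoc, h, ← mul_assoc]
  refine D.commute_of_sq ?_
  rw [← mul_inv_eq_iff_eq_mul, ← mul_inv_eq_one]
  refine D.eq_one_of_mem_all fun K hK => ?_
  have hτconj : ∀ m, D.τ m = m⁻¹ → D.τ (u * m * u⁻¹) = (u * m * u⁻¹)⁻¹ := fun m hm => by
    rw [map_mul, map_mul, map_inv, hu, hm]; group
  rcases em (∀ m ∈ D.N, D.τ m = m⁻¹ → m ∈ K) with hB | hB
  · refine K.mul_mem ?_ (K.inv_mem (hB b hbN hb))
    have h2 := hB _ (D.N_normal.conj_mem _ (D.N_normal.conj_mem b hbN u) u)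
      (hτconj _ (hτconj b hb))
    simpa [pow_two, mul_assoc] using h2
  · have hA := hK.plus_or_minus.resolve_right hB
    push Not at hB
    obtain ⟨n₀, hn₀N, hn₀, hn₀K⟩ := hB
    obtain ⟨x₀, hx₀, hx₀W, hx₀t⟩ : ∃ x₀, x₀ ≠ 1 ∧ x₀ ∈ D.W K ∧ D.t x₀ = x₀ := by
      by_contra! hno
      have hinv : ∀ x ∈ D.W K, D.t x = x⁻¹ := by
        intro x hx
        rw [eq_inv_iff_mul_eq_one]
        by_contra hne
        exact hno _ hne ((D.W K).mul_mem (hK.t_mem hx) hx) (by rw [map_mul, D.t_t, mul_comm])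
      obtain ⟨x, hx, hxW⟩ := hK.2.1
      have h1 := D.compat_t n₀ x
      rw [hn₀, hinv x hxW, hinv _ (hK.W_invariant_N hn₀N hxW), map_inv, inv_inj] at h1
      have h2 : D.ρ (n₀ ^ 2) x = x := by
        rw [pow_two, ρ_mul, ← h1, ← ρ_mul, mul_inv_cancel, ρ_one]
      exact hn₀K (mem_of_sq_mem D.oddH (hK.mem_of_fix (D.N.pow_mem hn₀N 2) hx hxW h2))
    have hux : D.ρ u x₀ = x₀ := D.fix_fix hu hx₀t
    have huK : ∀ k ∈ K, u * k * u⁻¹ ∈ K := by
      intro k hk
      refine hK.mem_of_fix (D.N_normal.conj_mem k (hK.1 hk) u) hx₀ hx₀W ?_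
      nth_rewrite 1 [← hux]
      rw [← ρ_mul, inv_mul_cancel_right, ρ_mul, hx₀W k hk, hux]
    by_cases hbK : b ∈ K
    · refine K.mul_mem ?_ (K.inv_mem hbK)
      have := huK _ (huK b hbK)
      simpa [pow_two, mul_assoc] using this
    obtain ⟨m, hm⟩ : ∃ m, m = u * b * u⁻¹ := ⟨_, rfl⟩
    have hmN : m ∈ D.N := hm ▸ D.N_normal.conj_mem b hbN u
    have hρc : ∀ g ∈ D.N, ∀ h ∈ D.N, ∀ x, D.ρ g (D.ρ h x) = D.ρ h (D.ρ g x) := fun g hg h hh x => by
      rw [← ρ_mul, D.N_comm g hg h hh, ρ_mul]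
    let S : Subgroup V :=
      { carrier := {x | x ∈ D.W K ∧ D.ρ m x * D.ρ m⁻¹ x = D.ρ b x * D.ρ b⁻¹ x}
        mul_mem' := fun {x y} hx hy => ⟨(D.W K).mul_mem hx.1 hy.1, by
          simp only [map_mul]
          rw [mul_mul_mul_comm, hx.2, hy.2, mul_mul_mul_comm]⟩
        one_mem' := ⟨(D.W K).one_mem, by simp⟩
        inv_mem' := fun {x} hx => ⟨(D.W K).inv_mem hx.1, by
          rw [map_inv (D.ρ m) x, map_inv (D.ρ m⁻¹) x, map_inv (D.ρ b) x, map_inv (D.ρ b⁻¹) x,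
            ← mul_inv, ← mul_inv, hx.2]⟩ }
    have hSN : ∀ g ∈ D.N, ∀ x ∈ S, D.ρ g x ∈ S := fun g hg x hx =>
      ⟨hK.W_invariant_N hg hx.1, by
        rw [hρc m hmN g hg, hρc m⁻¹ (D.N.inv_mem hmN) g hg, hρc b hbN g hg,
          hρc b⁻¹ (D.N.inv_mem hbN) g hg, ← map_mul, ← map_mul, hx.2]⟩
    have hplus : ∀ x ∈ D.W K, D.t x = x → x ∈ S := by
      intro x hx ht
      refine ⟨hx, ?_⟩
      have hux' : D.ρ u⁻¹ x = x := (D.St x).inv_mem (D.fix_fix hu ht)
      have hy : D.t (D.ρ b x * D.ρ b⁻¹ x) = D.ρ b x * D.ρ b⁻¹ x := by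
        rw [map_mul, ← D.compat_t, ← D.compat_t, map_inv D.τ, hb, inv_inv, ht, mul_comm]
      calc D.ρ m x * D.ρ m⁻¹ x = D.ρ u (D.ρ b x) * D.ρ u (D.ρ b⁻¹ x) := by
            rw [hm, ρ_mul, ρ_mul, hux', show (u * b * u⁻¹)⁻¹ = u * b⁻¹ * u⁻¹ by group, ρ_mul,
              ρ_mul, hux']
        _ = D.ρ b x * D.ρ b⁻¹ x := by rw [← map_mul, D.fix_fix hu hy]
    let Dm : V → V := fun x => D.ρ b x * (D.ρ b⁻¹ x)⁻¹
    have hDinj : ∀ x ∈ D.W K, ∀ y ∈ D.W K, Dm x = Dm y → x = y := by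
      intro x hx y hy h
      rw [← mul_inv_eq_one]
      refine hK.eq_one_of_fix (D.N.pow_mem hbN 2) (fun h2 => hbK (mem_of_sq_mem D.oddH h2))
        ((D.W K).mul_mem hx ((D.W K).inv_mem hy)) ?_
      have h' : D.ρ b (x * y⁻¹) = D.ρ b⁻¹ (x * y⁻¹) := by
        rw [map_mul, map_mul, map_inv (D.ρ b) y, map_inv (D.ρ b⁻¹) y]
        exact swap_inv h
      rw [pow_two, ρ_mul, h', ← ρ_mul, mul_inv_cancel, ρ_one]
    have hall : ∀ x ∈ D.W K, x ∈ S := by
      intro x hx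
      obtain ⟨p, e, rfl, hp, he, hU⟩ := D.decompV x
      obtain ⟨hpW, heW⟩ := hU _ hx (hK.t_mem hx)
      refine S.mul_mem (hplus p hpW hp) ?_
      let f : S → S := fun z => ⟨Dm z,
        S.mul_mem (hSN b hbN z z.2) (S.inv_mem (hSN b⁻¹ (D.N.inv_mem hbN) z z.2))⟩
      have hf : Function.Injective f := fun z w h =>
        Subtype.ext (hDinj z z.2.1 w w.2.1 (congrArg Subtype.val h))
      have hDe : Dm e ∈ S := by
        refine hplus _ ((D.W K).mul_mem (hK.W_invariant_N hbN heW)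
          ((D.W K).inv_mem (hK.W_invariant_N (D.N.inv_mem hbN) heW))) ?_
        show D.t (D.ρ b e * (D.ρ b⁻¹ e)⁻¹) = _
        rw [map_mul, map_inv, ← D.compat_t, ← D.compat_t, hb, map_inv D.τ, hb, inv_inv, he]
        simp only [Dm, map_inv, inv_inv]
        rw [mul_comm]
      obtain ⟨z, hz⟩ := (Finite.injective_iff_surjective.1 hf) ⟨Dm e, hDe⟩
      rw [← hDinj z z.2.1 e heW (congrArg Subtype.val hz)]
      exact z.2
    have hor : m * b⁻¹ ∈ K ∨ m * b ∈ K := by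
      obtain ⟨x, hx, hxW⟩ := hK.2.1
      by_cases hE : D.ρ ((m * b)⁻¹) x = x
      · right
        refine hK.mem_of_fix (D.N.mul_mem hmN hbN) hx hxW ?_
        nth_rewrite 1 [← hE]
        rw [← ρ_mul, mul_inv_cancel, ρ_one]
      · left
        set y := x * (D.ρ ((m * b)⁻¹) x)⁻¹ with hy
        have hy1 : y ≠ 1 := fun h => hE (mul_inv_eq_one.1 h).symm
        have hyW : y ∈ D.W K := (D.W K).mul_mem hxW ((D.W K).inv_mem
          (hK.W_invariant_N (D.N.inv_mem (D.N.mul_mem hmN hbN)) hxW))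
        refine hK.mem_of_fix (D.N.mul_mem hmN (D.N.inv_mem hbN)) hy1 hyW ?_
        have hmy : D.ρ m y = D.ρ b y := by
          have h0 := (hall x hxW).2
          rw [hy, map_mul, map_mul, map_inv (D.ρ m) _, map_inv (D.ρ b) _, ← ρ_mul, ← ρ_mul,
            show m * (m * b)⁻¹ = b⁻¹ by rw [D.N_comm m hmN b hbN]; group,
            show b * (m * b)⁻¹ = m⁻¹ by group]
          exact div_eq_of_mul_eq h0
        rw [D.N_comm m hmN _ (D.N.inv_mem hbN), ρ_mul, hmy, ← ρ_mul, inv_mul_cancel, ρ_one]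
    rcases hor with h | h
    · have := K.mul_mem (huK _ h) h
      simpa [hm, pow_two, mul_assoc] using this
    · have hmb : b * m ∈ K := D.N_comm b hbN m hmN ▸ h
      have := K.mul_mem (huK _ h) (K.inv_mem hmb)
      simpa [hm, pow_two, mul_assoc] using this

theorem mem_center_of_mem {n : H} (hn : n ∈ D.N) (x : H) : x * n = n * x := by
  obtain ⟨c, a, rfl, hc, ha, -⟩ := D.decomp x
  rw [mul_assoc, D.commute_inverted ha hn, ← mul_assoc, D.commute_fixed hc hn, mul_assoc]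

include D in
/-- `H` is abelian. -/
theorem comm (x y : H) : x * y = y * x := by
  let P : Subgroup H :=
    { carrier := {n | n ∈ D.N ∧ D.τ n = n}
      mul_mem' := fun {a b} ha hb => ⟨D.N.mul_mem ha.1 hb.1, by rw [map_mul, ha.2, hb.2]⟩
      one_mem' := ⟨D.N.one_mem, map_one _⟩
      inv_mem' := fun {a} ha => ⟨D.N.inv_mem ha.1, by rw [map_inv, ha.2]⟩ }
  have hPn : P.Normal := ⟨fun n hn g => by
    rwa [D.mem_center_of_mem hn.1 g, mul_inv_cancel_right]⟩
  rcases D.N_min P (fun n hn => hn.1) hPn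
      (fun n hn => ⟨D.N_inv n hn.1, by
        rw [D.τ_apply]; exact congrArg D.σ hn.2⟩) with hP | hP
  · have hneg : ∀ n ∈ D.N, D.τ n = n⁻¹ := by
      intro n hn
      obtain ⟨c, a, rfl, hc, ha, hN⟩ := D.decomp n
      have : c ∈ P := ⟨(hN hn).1, hc⟩
      rw [hP, Subgroup.mem_bot] at this
      subst this
      rwa [one_mul]
    have hC : ∀ u, D.τ u = u → u = 1 := by
      intro u hu
      refine D.eq_one_of_trivial fun K hK x hx => ?_
      obtain ⟨n, hn, hnK⟩ : ∃ n ∈ D.N, n ∉ K := by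
        by_contra! h
        obtain ⟨z, hz, hzW⟩ := hK.2.1
        exact hz (Subgroup.mem_bot.1 (D.W_N ▸ (show z ∈ D.W D.N from fun k hk => hzW k (h k hk))))
      obtain ⟨p, e, rfl, hp, he, hU⟩ := D.decompV x
      obtain ⟨hpW, heW⟩ := hU _ hx (hK.t_mem hx)
      rw [map_mul, D.fix_fix hu hp]
      congr 1
      rw [← mul_inv_eq_one]
      have hz : D.ρ u e * e⁻¹ ∈ D.W K := (D.W K).mul_mem
        (W_invariant (fun k hk => D.mem_center_of_mem (hK.1 hk) u) heW) ((D.W K).inv_mem heW)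
      refine hK.eq_one_of_fix (D.N.pow_mem hn 2) (fun h2 => hnK (mem_of_sq_mem D.oddH h2)) hz ?_
      set w := D.ρ n e * (D.ρ n⁻¹ e)⁻¹ with hw
      have htw : D.t w = w := by
        rw [hw, map_mul, map_inv, ← D.compat_t, ← D.compat_t, hneg n hn,
          hneg _ (D.N.inv_mem hn), inv_inv, he]
        simp only [map_inv, inv_inv]
        rw [mul_comm]
      have huw := D.fix_fix hu htw
      have hcm : ∀ g ∈ D.N, ∀ z, D.ρ u (D.ρ g z) = D.ρ g (D.ρ u z) := fun g hg z => by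
        rw [← ρ_mul, D.mem_center_of_mem hg u, ρ_mul]
      rw [hw, map_mul, map_inv, hcm n hn, hcm _ (D.N.inv_mem hn)] at huw
      have h3 : D.ρ n (D.ρ u e * e⁻¹) = D.ρ n⁻¹ (D.ρ u e * e⁻¹) := by
        rw [map_mul, map_mul, map_inv (D.ρ n) e, map_inv (D.ρ n⁻¹) e]
        exact swap_inv huw
      rw [pow_two, ρ_mul, h3, ← ρ_mul, mul_inv_cancel, ρ_one]
    have hall : ∀ h, D.τ h = h⁻¹ := by
      intro h
      obtain ⟨c, a, rfl, hc, ha, -⟩ := D.decomp h
      rw [hC c hc, one_mul]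
      exact ha
    have := hall (x * y)
    rw [map_mul, hall x, hall y, mul_inv_rev] at this
    have h2 := congrArg Inv.inv this
    simpa [mul_inv_rev] using h2.symm
  · have hfix : ∀ n ∈ D.N, D.τ n = n := fun n hn => (show n ∈ P from hP ▸ hn).2
    have hV : ∀ z : V, D.t z = z⁻¹ := by
      intro z
      rw [eq_inv_iff_mul_eq_one]
      have hz : D.t (D.t z * z) = D.t z * z := by rw [map_mul, D.t_t, mul_comm]
      have : D.t z * z ∈ D.W D.N := fun n hn => D.fix_fix (hfix n hn) hz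
      rwa [D.W_N, Subgroup.mem_bot] at this
    have hall : ∀ h, D.τ h = h := fun h => D.faithful (by
      ext z
      have h1 := D.compat_t h z⁻¹
      rw [hV, inv_inv, hV, map_inv, inv_inv] at h1
      exact h1)
    exact D.commute_fix (hall x) (hall y)

end Data

end CfsgLib.FPFFour
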