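import Mathlib.GroupTheory.Nilpotent
import Mathlib.Algebra.BigOperators.Group.Finset.Basic
import Cfsg.Agent.FGSA.FPFFour
import Cfsg.Agent.Coprime.Sylow

/-!
# Solvable groups with a fixed point free automorphism of prime order
-/

set_option autoImplicit false

namespace CfsgLib.FPFPrime

open CfsgLib.FPFFour

/-- If `c` of prime order acts fixed point freely on `Q` and `v` lies in a coprime abelian group
on which `Q` and `c` act compatibly with `c` fixed point free, then `Q` fixes `v`. -/
theorem fixes_of_fpf {Q V : Type*} [Group Q] [Finite Q] [CommGroup V] [Finite V]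
    (ρ : Q →* MulAut V) (c : MulAut Q) (s : MulAut V) {p : ℕ} (hp : p.Prime) (hs : s ^ p = 1)
    (hcompat : ∀ g v, ρ (c g) (s v) = s (ρ g v)) (hc : c ^ p = 1)
    (hcfpf : ∀ g, c g = g → g = 1) (hsfpf : ∀ v, s v = v → v = 1)
    (hcop : (Nat.card Q).Coprime (Nat.card V)) (g₀ : Q) (v : V) : ρ g₀ v = v := by
  classical
  haveI := Fintype.ofFinite Q
  have hmul : ∀ (g : Q) (i : ℕ), ∀ w, (c ^ i) g = (c ^ i) g ∧
      ρ ((c ^ i) g) ((s ^ i) w) = (s ^ i) (ρ g w) := by
    intro g i
    induction i with
    | zero => intro w; simp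
    | succ i ih =>
      intro w
      refine ⟨rfl, ?_⟩
      rw [pow_succ', pow_succ', MulAut.mul_apply, MulAut.mul_apply, MulAut.mul_apply, hcompat,
        (ih w).2]
  have hfpf : ∀ i, ¬ p ∣ i → ∀ g, (c ^ i) g = g → g = 1 := by
    intro i hi g hg
    apply hcfpf
    let F : Subgroup (MulAut Q) :=
      { carrier := {f | f g = g}
        mul_mem' := fun {a b} (ha : a g = g) (hb : b g = g) => by
          show a (b g) = g
          rw [hb, ha]
        one_mem' := rfl
        inv_mem' := fun {a} (ha : a g = g) => by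
          show a⁻¹ g = g
          nth_rewrite 1 [← ha]
          exact a.symm_apply_apply g }
    obtain ⟨l, hl⟩ := exists_pow_eq_self_of_coprime (x := c) (n := i)
      ((((hp.coprime_iff_not_dvd).2 hi).symm).coprime_dvd_right (orderOf_dvd_of_pow_eq_one hc))
    show c g = g
    rw [← hl]
    exact F.pow_mem (show c ^ i ∈ F from hg) l
  -- the norms of the twisted conjugates of `c`
  have hnorm : ∀ h : Q, ∏ i ∈ Finset.range p, ρ (h * ((c ^ i) h)⁻¹) ((s ^ i) v) = 1 := by
    intro h
    have h1 : ∀ i : ℕ, ρ (h * ((c ^ i) h)⁻¹) ((s ^ i) v) = ρ h ((s ^ i) (ρ h⁻¹ v)) := fun i => by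
      rw [map_mul, MulAut.mul_apply, ← map_inv, (hmul h⁻¹ i v).2]
    simp only [h1]
    rw [← map_prod (ρ h)]
    have h2 : ∏ i ∈ Finset.range p, (s ^ i) (ρ h⁻¹ v) = 1 := by
      refine hsfpf _ ?_
      obtain ⟨p', rfl⟩ : ∃ p', p = p' + 1 := ⟨p - 1, by have := hp.pos; omega⟩
      rw [map_prod]
      have e : ∀ (i : ℕ) (w : V), s ((s ^ i) w) = (s ^ (i + 1)) w := fun i w => by
        rw [pow_succ', MulAut.mul_apply]
      simp only [e]
      rw [Finset.prod_range_succ, Finset.prod_range_succ' (fun i => (s ^ i) (ρ h⁻¹ v)), hs,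
        pow_zero]
    rw [h2, map_one]
  have h3 : ∏ i ∈ Finset.range p, ∏ h : Q, ρ (h * ((c ^ i) h)⁻¹) ((s ^ i) v) = 1 := by
    rw [Finset.prod_comm]
    exact Finset.prod_eq_one fun h _ => hnorm h
  have hp0 : 0 ∈ Finset.range p := Finset.mem_range.2 hp.pos
  rw [← Finset.mul_prod_erase _ _ hp0] at h3
  simp only [pow_zero, MulAut.one_apply, mul_inv_cancel, map_one, Finset.prod_const,
    Finset.card_univ] at h3
  have h4 : ∀ i ∈ (Finset.range p).erase 0,
      ∏ h : Q, ρ (h * ((c ^ i) h)⁻¹) ((s ^ i) v) = ∏ x : Q, ρ x ((s ^ i) v) := by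
    intro i hi
    obtain ⟨hi0, hip⟩ := Finset.mem_erase.1 hi
    have hnd : ¬ p ∣ i :=
      Nat.not_dvd_of_pos_of_lt (Nat.pos_of_ne_zero hi0) (Finset.mem_range.1 hip)
    have hbij : Function.Bijective fun h : Q => h * ((c ^ i) h)⁻¹ := by
      refine Finite.injective_iff_bijective.1 fun a b hab => ?_
      have : (c ^ i) (b⁻¹ * a) = b⁻¹ * a := by
        rw [map_mul, map_inv]
        calc ((c ^ i) b)⁻¹ * (c ^ i) a = b⁻¹ * (b * ((c ^ i) b)⁻¹) * (c ^ i) a := by group
          _ = b⁻¹ * (a * ((c ^ i) a)⁻¹) * (c ^ i) a := by rw [hab]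
          _ = b⁻¹ * a := by group
      exact (inv_mul_eq_one.1 (hfpf i hnd _ this)).symm
    exact Fintype.prod_bijective _ hbij _ (fun x => ρ x ((s ^ i) v)) fun h => rfl
  rw [Finset.prod_congr rfl h4] at h3
  have h5 : ρ g₀ (∏ i ∈ (Finset.range p).erase 0, ∏ x : Q, ρ x ((s ^ i) v)) =
      ∏ i ∈ (Finset.range p).erase 0, ∏ x : Q, ρ x ((s ^ i) v) := by
    rw [map_prod]
    refine Finset.prod_congr rfl fun i _ => ?_
    rw [map_prod]
    exact Fintype.prod_equiv (Equiv.mulLeft g₀) _ _ fun x => by
      simp [map_mul, MulAut.mul_apply]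
  have h6 : ρ g₀ (v ^ Fintype.card Q) = v ^ Fintype.card Q := by
    rw [eq_inv_of_mul_eq_one_left h3, map_inv, h5]
  rw [map_pow] at h6
  rw [← Nat.card_eq_fintype_card] at h6
  exact (powCoprime (G := V) hcop.symm).injective (by simpa using h6)

universe u

theorem aux {p : ℕ} (hp : p.Prime) : ∀ (n : ℕ) (G : Type u) [Group G] [Finite G],
    Nat.card G = n → Group.IsSolvable G → ∀ c : MulAut G, c ^ p = 1 →
    (∀ g, c g = g → g = 1) → Group.IsNilpotent G := by
  intro n
  induction n using Nat.strong_induction_on with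
  | _ n ih =>
  intro G _ _ hn hG c hc hfpf
  subst hn
  rcases subsingleton_or_nontrivial G with hG1 | hG1
  · infer_instance
  haveI := hG
  haveI := Fact.mk hp
  obtain ⟨V, r, hr, hV0, hVn, hVc, hVcomm, hVexp, hVmin⟩ := exists_min_invariant hG c
  haveI := hVn
  haveI := Fact.mk hr
  have hcV : V.map c.toMonoidHom = V :=
    Subgroup.eq_of_le_of_card_ge (Subgroup.map_le_iff_le_comap.2 hVc)
      (Subgroup.card_map_of_injective (f := c.toMonoidHom) c.injective).ge
  letI : CommGroup V :=
    { (inferInstance : Group V) with mul_comm := fun a b => Subtype.ext (hVcomm a a.2 b b.2) }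
  have hquot : Group.IsNilpotent (G ⧸ V) := by
    refine ih (Nat.card (G ⧸ V)) ?_ (G ⧸ V) rfl inferInstance (QuotientGroup.congr V V c hcV) ?_ ?_
    · rw [Subgroup.card_eq_card_quotient_mul_card_subgroup V]
      haveI : Nontrivial V := V.nontrivial_iff_ne_bot.2 hV0
      exact lt_mul_right Nat.card_pos Finite.one_lt_card
    · have hpow : ∀ (i : ℕ) (g : G),
          (QuotientGroup.congr V V c hcV ^ i) (g : G ⧸ V) = ((c ^ i) g : G) := by
        intro i
        induction i with
        | zero => intro g; simp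
        | succ i ihi =>
          intro g
          rw [pow_succ', pow_succ', MulAut.mul_apply, MulAut.mul_apply, ihi]
          rfl
      ext x
      induction x using QuotientGroup.induction_on with
      | _ g => rw [hpow, hc]; rfl
    · intro x
      induction x using QuotientGroup.induction_on with
      | _ g =>
        intro h
        change ((c g : G) : G ⧸ V) = (g : G ⧸ V) at h
        rw [QuotientGroup.eq_one_iff]
        exact fpf_of_mem c hfpf hVc (QuotientGroup.eq.1 h.symm)
  -- the automorphism group generated by `c`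
  let A := Subgroup.zpowers c
  letI : MulDistribMulAction A G := MulDistribMulAction.compHom G A.subtype
  have hcardA : Nat.card A ∣ p := by
    rw [Nat.card_zpowers]; exact orderOf_dvd_of_pow_eq_one hc
  haveI : Group.IsSolvable A := Group.isSolvable_of_comm fun a b => by
    obtain ⟨-, i, rfl⟩ := a
    obtain ⟨-, j, rfl⟩ := b
    exact Subtype.ext ((Commute.refl c).zpow_zpow i j)
  have hcop : (Nat.card A).Coprime (Nat.card G) := by
    refine Nat.Coprime.coprime_dvd_left hcardA ((hp.coprime_iff_not_dvd).2 fun hd => ?_)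
    have hA : IsPGroup p A := fun x => ⟨1, by
      rw [pow_one]
      exact orderOf_dvd_iff_pow_eq_one.1 ((orderOf_dvd_natCard x).trans hcardA)⟩
    obtain ⟨x, -, hx1, hx⟩ := CfsgLib.Coprime.exists_fixed_ne_one_of_isPGroup hA (⊤ : Subgroup G)
      (CfsgLib.Coprime.IsInvariant.top _) (by rwa [Subgroup.card_top])
    exact hx1 (hfpf x (hx ⟨c, Subgroup.mem_zpowers c⟩))
  let φ : G →* MulAut V := MulAut.conjNormal
  have hφ : ∀ (g : G) (v : V), ((φ g v : V) : G) = g * v * g⁻¹ := fun g v => rfl
  let s : MulAut V :=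
    { toFun := fun v => ⟨c v, hVc v v.2⟩
      invFun := fun v => ⟨c.symm v, by
        obtain ⟨w, hw, hwv⟩ : (v : G) ∈ V.map c.toMonoidHom := hcV.symm ▸ v.2
        rw [← hwv]
        show c.symm (c w) ∈ V
        rwa [c.symm_apply_apply]⟩
      left_inv := fun v => Subtype.ext (c.symm_apply_apply v)
      right_inv := fun v => Subtype.ext (c.apply_symm_apply v)
      map_mul' := fun v w => Subtype.ext (map_mul c (v : G) w) }
  have hspow : ∀ (i : ℕ) (v : V), (((s ^ i) v : V) : G) = (c ^ i) (v : G) := by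
    intro i
    induction i with
    | zero => intro v; simp
    | succ i ihi =>
      intro v
      rw [pow_succ', pow_succ', MulAut.mul_apply, MulAut.mul_apply, ← ihi]
      rfl
  have hsyl : ∀ (q : ℕ), q.Prime → q ≠ r → q ∣ φ.ker.index → False := by
    intro q hq hqr hqd
    haveI := Fact.mk hq
    obtain ⟨Q, hQ⟩ := CfsgLib.Coprime.exists_invariant_sylow (A := A) hcop q
    have hcQ : ∀ g ∈ (Q : Subgroup G), c g ∈ (Q : Subgroup G) := fun g hg =>
      hQ ⟨c, Subgroup.mem_zpowers c⟩ g hg
    let c' : MulAut (Q : Subgroup G) :=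
      MulEquiv.ofBijective (((c.toMonoidHom).comp (Q : Subgroup G).subtype).codRestrict _
        fun g => hcQ g g.2) (Finite.injective_iff_bijective.1 fun a b h =>
          Subtype.ext (c.injective (congrArg Subtype.val h)))
    have hc' : ∀ (i : ℕ) (g : (Q : Subgroup G)),
        (((c' ^ i) g : (Q : Subgroup G)) : G) = (c ^ i) (g : G) := by
      intro i
      induction i with
      | zero => intro g; simp
      | succ i ihi =>
        intro g
        rw [pow_succ', pow_succ', MulAut.mul_apply, MulAut.mul_apply, ← ihi]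
        rfl
    have hle : (Q : Subgroup G) ≤ φ.ker := by
      intro g hg
      rw [MonoidHom.mem_ker]
      ext v
      have hcop' : (Nat.card (Q : Subgroup G)).Coprime (Nat.card V) := by
        have hVp : IsPGroup r V := fun v => ⟨1, Subtype.ext (by
          rw [Subgroup.coe_pow, pow_one]; exact hVexp v v.2)⟩
        obtain ⟨a, ha⟩ := IsPGroup.iff_card.1 Q.isPGroup'
        obtain ⟨b, hb⟩ := IsPGroup.iff_card.1 hVp
        rw [ha, hb]
        exact Nat.Coprime.pow _ _ ((Nat.coprime_primes hq hr).2 hqr)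
      have := fixes_of_fpf (φ.comp (Q : Subgroup G).subtype) c' s hp
        (by ext v; rw [hspow, hc]; rfl)
        (fun g v => Subtype.ext (by
          show c g * c v * (c g)⁻¹ = c ((g : G) * v * (g : G)⁻¹)
          rw [map_mul, map_mul, map_inv]))
        (by ext g; rw [hc', hc]; rfl)
        (fun g hg => Subtype.ext (hfpf g (congrArg Subtype.val hg)))
        (fun v hv => Subtype.ext (hfpf v (congrArg Subtype.val hv))) hcop' ⟨g, hg⟩ v
      exact congrArg Subtype.val this
    exact Q.not_dvd_index (hqd.trans (Subgroup.index_dvd_of_le hle))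
  -- `V` is central
  have hcentral : ∀ v ∈ V, ∀ g : G, g * v = v * g := by
    have hrange : IsPGroup r φ.range := by
      refine IsPGroup.of_card (n := φ.ker.index.primeFactorsList.length) ?_
      rw [← Subgroup.index_ker]
      exact Nat.eq_prime_pow_of_unique_prime_dvd φ.ker.index_ne_zero_of_finite
        fun {d} hd hdd => by_contra fun hne => hsyl d hd hne hdd
    let W : Subgroup G := V ⊓ Subgroup.center G
    haveI : Nontrivial V := V.nontrivial_iff_ne_bot.2 hV0
    have hW : W ≠ ⊥ := by
      have hrV : r ∣ Nat.card V := by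
        obtain ⟨v, hv⟩ := exists_ne (1 : V)
        rw [← orderOf_eq_prime (Subtype.ext (by rw [Subgroup.coe_pow]; exact hVexp v v.2) :
          v ^ r = 1) hv]
        exact orderOf_dvd_natCard v
      letI : MulDistribMulAction φ.range V := MulDistribMulAction.compHom V φ.range.subtype
      obtain ⟨x, -, hx1, hx⟩ := CfsgLib.Coprime.exists_fixed_ne_one_of_isPGroup hrange
        (⊤ : Subgroup V) (CfsgLib.Coprime.IsInvariant.top _) (by rwa [Subgroup.card_top])
      intro hW
      apply hx1
      refine Subtype.ext (Subgroup.mem_bot.1 (hW ▸ (⟨x.2, ?_⟩ : (x : G) ∈ W)))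
      refine Subgroup.mem_center_iff.2 fun g => ?_
      have hxg : φ g x = x := hx ⟨φ g, g, rfl⟩
      exact mul_inv_eq_iff_eq_mul.1 (congrArg Subtype.val hxg)
    rcases hVmin W inf_le_left inferInstance (fun x hx => ⟨hVc x hx.1, by
        show c x ∈ Subgroup.center G
        rw [Subgroup.mem_center_iff]
        intro g
        obtain ⟨g', rfl⟩ := c.surjective g
        rw [← map_mul, ← map_mul, Subgroup.mem_center_iff.1 hx.2 g']⟩) with h | h
    · exact absurd h hW
    · intro v hv g
      exact Subgroup.mem_center_iff.1 (h.ge hv).2 g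
  haveI := hquot
  exact Subgroup.isNilpotent_of_ker_le_center (QuotientGroup.mk' V) fun v hv =>
    Subgroup.mem_center_iff.2 fun g => hcentral v (by rwa [QuotientGroup.ker_mk'] at hv) g

/-- A finite solvable group with a fixed point free automorphism of prime order is nilpotent. -/
theorem isNilpotent {G : Type u} [Group G] [Finite G] (hG : Group.IsSolvable G) {p : ℕ}
    (hp : p.Prime) (c : MulAut G) (hc : c ^ p = 1) (hfpf : ∀ g, c g = g → g = 1) :
    Group.IsNilpotent G :=
  aux hp (Nat.card G) G rfl hG c hc hfpf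

end CfsgLib.FPFPrime
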