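import Cfsg.Agent.FGSA.GTCriterion
import Cfsg.Agent.FGSA.FPFPrime

/-!
Thompson: a finite group with a fixed point free automorphism of prime order is nilpotent.
-/

set_option autoImplicit false
set_option linter.style.haveILetI false

namespace CfsgLib.ThompsonNil

open Subgroup

universe u

variable {G : Type u} [Group G] [Finite G]

theorem map_eq_of_mem (c : MulAut G) {H : Subgroup G} (h : ∀ x ∈ H, c x ∈ H) :
    H.map c.toMonoidHom = H :=
  eq_of_le_of_card_ge (map_le_iff_le_comap.2 h)
    (card_map_of_injective (f := c.toMonoidHom) c.injective).ge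

/-- A fixed point free automorphism fixes some Sylow subgroup of each order. -/
theorem exists_invariant_sylow (c : MulAut G) (hfpf : ∀ g, c g = g → g = 1) (q : ℕ)
    [Fact q.Prime] : ∃ Q : Sylow q G, ∀ x ∈ (Q : Subgroup G), c x ∈ (Q : Subgroup G) := by
  have hinj : Function.Injective fun g : G => g⁻¹ * c g := by
    intro x y hxy
    have h1 : c (x * y⁻¹) = x * y⁻¹ := by
      have hx : c x = x * (x⁻¹ * c x) := by group
      have hy : c y = y * (x⁻¹ * c x) := by
        rw [show x⁻¹ * c x = y⁻¹ * c y from hxy]; group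
      rw [map_mul, map_inv, hx, hy]; group
    exact mul_inv_eq_one.1 (hfpf _ h1)
  have hkey : ∀ (x : G) (R : Sylow q G), c • (x • R) = c x • (c • R) := by
    intro x R
    apply Sylow.ext
    simp only [Sylow.smul_def, Sylow.pointwise_smul_def, ← mul_smul]
    congr 1
    ext y
    simp
  obtain ⟨Q₀⟩ : Nonempty (Sylow q G) := inferInstance
  obtain ⟨g, hg⟩ := MulAction.exists_smul_eq G (c • Q₀) Q₀
  obtain ⟨b, hb⟩ := Finite.injective_iff_surjective.1 hinj g
  have hcb : c b = b * g := by
    have hb' : b⁻¹ * c b = g := hb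
    rw [← hb', mul_inv_cancel_left]
  have hfix : c • (b • Q₀) = b • Q₀ := by rw [hkey, hcb, mul_smul, hg]
  refine ⟨b • Q₀, fun x hx => ?_⟩
  have hm : c x ∈ ((c • (b • Q₀) : Sylow q G) : Subgroup G) :=
    smul_mem_pointwise_smul x c _ hx
  rwa [hfix] at hm

/-- The restriction of an automorphism to an invariant subgroup. -/
noncomputable def restrict (c : MulAut G) (H : Subgroup G) (h : ∀ x ∈ H, c x ∈ H) : MulAut H :=
  MulEquiv.ofBijective ((c.toMonoidHom.comp H.subtype).codRestrict H fun x => h x x.2)
    (Finite.injective_iff_bijective.1 fun _ _ hab =>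
      Subtype.ext (c.injective (congrArg Subtype.val hab)))

theorem restrict_pow (c : MulAut G) (H : Subgroup G) (h : ∀ x ∈ H, c x ∈ H) (i : ℕ) (x : H) :
    (((restrict c H h ^ i) x : H) : G) = (c ^ i) (x : G) := by
  induction i generalizing x with
  | zero => simp
  | succ i ih =>
    rw [pow_succ', pow_succ', MulAut.mul_apply, MulAut.mul_apply, ← ih]
    rfl

theorem aux {p : ℕ} (hp : p.Prime) : ∀ (n : ℕ) (G : Type u) [Group G] [Finite G],
    Nat.card G = n → ∀ c : MulAut G, c ^ p = 1 → (∀ g, c g = g → g = 1) →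
    Group.IsNilpotent G := by
  intro n
  induction n using Nat.strong_induction_on with
  | _ n ih =>
  intro G _ _ hn c hc hfpf
  subst hn
  have hsub : ∀ H : Subgroup G, H ≠ ⊤ → (∀ x ∈ H, c x ∈ H) → Group.IsNilpotent H :=
    fun H hH h => ih _ (Solvable.card_lt_of_ne_top hH) H rfl (restrict c H h)
      (by ext x; rw [restrict_pow, hc]; rfl)
      (fun x hx => Subtype.ext (hfpf x (congrArg Subtype.val hx)))
  by_cases h2 : ∀ q : ℕ, q.Prime → q ∣ Nat.card G → q = 2
  · haveI : Fact (Nat.Prime 2) := ⟨Nat.prime_two⟩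
    exact (IsPGroup.of_card (n := (Nat.card G).primeFactorsList.length)
      (Nat.eq_prime_pow_of_unique_prime_dvd Nat.card_pos.ne' fun {d} hd hdd => h2 d hd hdd) :
      IsPGroup 2 G).isNilpotent
  refine FPFPrime.isNilpotent ?_ hp c hc hfpf
  push Not at h2
  obtain ⟨q, hq, hqd, hq2⟩ := h2
  haveI := Fact.mk hq
  obtain ⟨Q, hQ⟩ := exists_invariant_sylow c hfpf q
  have K := ZJ.zkind_centerThompsonA.{u} (p := q) hq2
  set Z := Cfsg.centerThompsonAOf (Q : Subgroup G) with hZdef
  have hcZ : Z.map c.toMonoidHom = Z := by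
    rw [hZdef, ← K.map G G c.toMonoidHom Q c.injective, map_eq_of_mem c hQ]
  have hZc : ∀ x ∈ Z, c x ∈ Z := fun x hx => hcZ ▸ mem_map_of_mem c.toMonoidHom hx
  have hQ1 : (Q : Subgroup G) ≠ ⊥ := Q.ne_bot_of_dvd_card hqd
  have hZ1 : Z ≠ ⊥ := K.ne_bot G _ Q.2 hQ1
  by_cases hN : normalizer (Z : Set G) = ⊤
  · -- a nontrivial abelian invariant normal subgroup
    haveI hZn : Z.Normal := normalizer_eq_top_iff.mp hN
    have hnil : Group.IsNilpotent (G ⧸ Z) := by
      refine ih _ (Solvable.card_quotient_lt hZ1) (G ⧸ Z) rfl (QuotientGroup.congr Z Z c hcZ) ?_ ?_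
      · have hpow : ∀ (i : ℕ) (g : G),
            (QuotientGroup.congr Z Z c hcZ ^ i) (g : G ⧸ Z) = ((c ^ i) g : G) := by
          intro i
          induction i with
          | zero => intro g; simp
          | succ i ihi =>
            intro g
            rw [pow_succ', pow_succ', MulAut.mul_apply, MulAut.mul_apply, ihi]
            rfl
        ext x
        induction x using QuotientGroup.induction_on with
        | _ g => rw [hpow, hc]; rfl
      · intro x
        induction x using QuotientGroup.induction_on with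
        | _ g =>
          intro h
          change ((c g : G) : G ⧸ Z) = (g : G ⧸ Z) at h
          rw [QuotientGroup.eq_one_iff]
          exact CfsgLib.FPFFour.fpf_of_mem c hfpf hZc (QuotientGroup.eq.1 h.symm)
    haveI : Group.IsNilpotent (G ⧸ Z) := hnil
    haveI : Group.IsSolvable Z := Group.isSolvable_of_comm fun a b =>
      Subtype.ext (K.comm G _ a a.2 b b.2)
    exact solvable_of_ker_le_range Z.subtype (QuotientGroup.mk' Z)
      (by rw [QuotientGroup.ker_mk', range_subtype])
  · have hNc : ∀ x ∈ normalizer (Z : Set G), c x ∈ normalizer (Z : Set G) := by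
      intro x hx
      have h1 := le_normalizer_map c.toMonoidHom (mem_map_of_mem c.toMonoidHom hx)
      rwa [hcZ] at h1
    haveI := hsub _ hN hNc
    have hG := FGSA.GT.hasNormalPComplement hq2 Q FGSA.GT.npc_of_isNilpotent
    set R := Cfsg.pResidual q G with hRdef
    have hR : R ≠ ⊤ := by
      intro htop
      have h1 := PResidual.hasNormalPComplement_iff.1 hG
      rw [← hRdef, htop, card_top] at h1
      exact hq.one_lt.ne' (Nat.eq_one_of_dvd_coprimes h1 hqd dvd_rfl)
    have hRc : ∀ x ∈ R, c x ∈ R := fun x hx =>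
      PResidual.map_pResidual_le (p := q) c.toMonoidHom (mem_map_of_mem c.toMonoidHom hx)
    haveI := hsub R hR hRc
    haveI : Group.IsNilpotent (G ⧸ R) := PResidual.isPGroup_quotient_pResidual.isNilpotent
    exact solvable_of_ker_le_range R.subtype (QuotientGroup.mk' R)
      (by rw [QuotientGroup.ker_mk', range_subtype])

/-- **Thompson's theorem**. -/
theorem isNilpotent {p : ℕ} (hp : p.Prime) (c : MulAut G) (hc : c ^ p = 1)
    (hfpf : ∀ g, c g = g → g = 1) : Group.IsNilpotent G :=
  aux hp (Nat.card G) G rfl c hc hfpf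

end CfsgLib.ThompsonNil
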