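import Mathlib.GroupTheory.Nilpotent
import Mathlib.GroupTheory.Sylow

/-!
# Elementary facts on finite nilpotent groups (slice A)
-/

set_option autoImplicit false

namespace CfsgLib.FGSA

open Subgroup

/-- In a nilpotent group elements of coprime order commute. -/
theorem commute_of_coprime_orderOf {G : Type*} [Group G] [Group.IsNilpotent G] :
    ∀ a b : G, (orderOf a).Coprime (orderOf b) → Commute a b := by
  refine Group.nilpotent_center_quotient_ind
    (P := fun G _ _ => ∀ a b : G, (orderOf a).Coprime (orderOf b) → Commute a b) G ?_ ?_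
  · intro G _ _ a b _
    exact Subsingleton.elim _ _
  · intro G _ _ ih a b h
    set c := a * b * a⁻¹ * b⁻¹ with hc
    have hq : Commute (a : G ⧸ center G) (b : G ⧸ center G) :=
      ih _ _ ((h.coprime_dvd_left (orderOf_map_dvd (QuotientGroup.mk' (center G)) a)).coprime_dvd_right
        (orderOf_map_dvd (QuotientGroup.mk' (center G)) b))
    have hcm : c ∈ center G := by
      rw [← QuotientGroup.eq_one_iff, hc]
      simp only [QuotientGroup.mk_mul, QuotientGroup.mk_inv]
      rw [hq.eq]; group
    have hcc : ∀ g : G, Commute c g := fun g => ((Subgroup.mem_center_iff.1 hcm) g).symm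
    have hb : c ^ orderOf b = 1 := by
      have h1 : a * b * a⁻¹ = c * b := by rw [hc]; group
      have h2 : (a * b * a⁻¹) ^ orderOf b = 1 := by rw [conj_pow, pow_orderOf_eq_one]; group
      rw [h1, (hcc b).mul_pow, pow_orderOf_eq_one, mul_one] at h2
      exact h2
    have ha : c⁻¹ ^ orderOf a = 1 := by
      have h1 : b * a * b⁻¹ = c⁻¹ * a := by rw [hc]; group
      have h2 : (b * a * b⁻¹) ^ orderOf a = 1 := by rw [conj_pow, pow_orderOf_eq_one]; group
      rw [h1, (hcc a).inv_left.mul_pow, pow_orderOf_eq_one, mul_one] at h2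
      exact h2
    have hc1 : c = 1 := by
      rw [← orderOf_eq_one_iff]
      rw [inv_pow, inv_eq_one] at ha
      exact Nat.eq_one_of_dvd_coprimes h (orderOf_dvd_of_pow_eq_one ha)
        (orderOf_dvd_of_pow_eq_one hb)
    show a * b = b * a
    calc a * b = c * (b * a) := by rw [hc]; group
      _ = b * a := by rw [hc1, one_mul]

/-- A predicate closed under products that holds on elements of prime power order holds everywhere
on a finite subgroup. -/
theorem le_of_prime_power_mem {G : Type*} [Group G] [Finite G] {A M : Subgroup G}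
    (h : ∀ (r : ℕ), r.Prime → ∀ a ∈ A, (∃ k, orderOf a = r ^ k) → a ∈ M) : A ≤ M := by
  intro a ha
  induction hn : orderOf a using Nat.strong_induction_on generalizing a with
  | _ n ih =>
    subst hn
    by_cases h1 : orderOf a = 1
    · rw [orderOf_eq_one_iff] at h1; subst h1; exact one_mem M
    obtain ⟨r, hr, hrd⟩ := Nat.exists_prime_and_dvd h1
    set n := orderOf a with hn
    have hn0 : n ≠ 0 := (orderOf_pos a).ne'
    set x := r ^ n.factorization r with hx
    set y := n / x with hy
    have hxy : x * y = n := Nat.ordProj_mul_ordCompl_eq_self n r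
    have hcop : Nat.Coprime x y := (Nat.coprime_ordCompl hr hn0).pow_left _
    have hy0 : y ≠ 0 := fun h' => by rw [h', mul_zero] at hxy; exact hn0 hxy.symm
    have hx1 : 1 < x := Nat.one_lt_pow (hr.factorization_pos_of_dvd hn0 hrd).ne' hr.one_lt
    have h2 : a ^ y ∈ M := h r hr _ (A.pow_mem ha _) ⟨n.factorization r, by
      rw [orderOf_pow' a hy0, ← hn, ← hx, ← hxy, Nat.gcd_eq_right (dvd_mul_left y x),
        Nat.mul_div_cancel _ (Nat.pos_of_ne_zero hy0)]⟩
    have h3 : a ^ x ∈ M := by
      refine ih _ ?_ (A.pow_mem ha _) rfl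
      rw [orderOf_pow' a (by omega), ← hn, ← hxy, Nat.gcd_eq_right (dvd_mul_right x y),
        Nat.mul_div_cancel_left _ (by omega), hxy]
      calc y = 1 * y := (one_mul y).symm
        _ < x * y := Nat.mul_lt_mul_of_pos_right hx1 (Nat.pos_of_ne_zero hy0)
        _ = n := hxy
    have h4 : a = (a ^ x) ^ Nat.gcdA x y * (a ^ y) ^ Nat.gcdB x y := by
      rw [← zpow_natCast a x, ← zpow_natCast a y, ← zpow_mul, ← zpow_mul, ← zpow_add,
        ← Nat.gcd_eq_gcd_ab, hcop.gcd_eq_one, Nat.cast_one, zpow_one]
    rw [h4]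
    exact M.mul_mem (M.zpow_mem h3 _) (M.zpow_mem h2 _)

/-- In a nilpotent subgroup the elements of `p`-power order lie in one `p`-subgroup. -/
theorem exists_pPart {G : Type*} [Group G] [Finite G] {A : Subgroup G} (hA : Group.IsNilpotent A)
    (p : ℕ) [Fact p.Prime] :
    ∃ P : Subgroup G, P ≤ A ∧ IsPGroup p P ∧ ∀ a ∈ A, (∃ k, orderOf a = p ^ k) → a ∈ P := by
  haveI := hA
  obtain ⟨P⟩ := (inferInstance : Nonempty (Sylow p A))
  haveI hn : (P : Subgroup A).Normal :=
    P.normal_of_normalizerCondition Group.normalizerCondition_of_isNilpotent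
  letI := Sylow.unique_of_normal P hn
  refine ⟨(P : Subgroup A).map A.subtype, Subgroup.map_subtype_le _, P.isPGroup'.map _, ?_⟩
  rintro a ha ⟨k, hk⟩
  have hp : IsPGroup p (Subgroup.zpowers (⟨a, ha⟩ : A)) := IsPGroup.of_card (n := k) (by
    rw [Nat.card_zpowers, ← Subgroup.orderOf_coe, hk])
  obtain ⟨Q, hQ⟩ := hp.exists_le_sylow
  rw [Subsingleton.elim Q P] at hQ
  exact ⟨⟨a, ha⟩, hQ (Subgroup.mem_zpowers _), rfl⟩

end CfsgLib.FGSA
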