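import Cfsg.Prelude.Def_Transfer
import Cfsg.Agent.Solvable.PGroupBasic
import Cfsg.Agent.PLocal.MaximalClass

/-!
# Non-abelian `p`-groups with an abelian subgroup of index `p`
-/

set_option autoImplicit false

namespace CfsgLib.AbelianIndexP

open Subgroup
open scoped commutatorElement

variable {S : Type*} [Group S] [Finite S] {p : ℕ} [hp : Fact p.Prime]

omit hp in
theorem eq_top_of_lt_of_index_prime (hpp : p.Prime) {A K : Subgroup S} (hA : A.index = p) (h : A < K) :
    K = ⊤ := by
  have h1 := relIndex_mul_index h.le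
  rw [hA] at h1
  rcases (Nat.dvd_prime hpp).1 (Dvd.intro_left _ h1) with h2 | h2
  · exact index_eq_one.1 h2
  · rw [h2] at h1
    have h3 : A.relIndex K = 1 := by
      have := hpp.pos
      exact Nat.eq_of_mul_eq_mul_right this (by rw [h1, one_mul])
    exact absurd (relIndex_eq_one.1 h3) (not_le_of_gt h)

omit hp in
theorem card_lt {A B : Subgroup S} (h : A < B) : Nat.card A < Nat.card B :=
  lt_of_le_of_ne (card_le_of_le h.le) fun he => h.ne (eq_of_le_of_card_ge h.le he.ge)

/-- In a non-abelian p-group the centre has index at least p². -/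
theorem le_index_center (hS : IsPGroup p S) (hna : ¬ IsMulCommutative S) : p ^ 2 ≤ (center S).index := by
  obtain ⟨n, hn⟩ := hS.index (center S)
  rcases Nat.lt_or_ge n 2 with h | h
  · exfalso
    haveI : IsCyclic (S ⧸ center S) := by
      rcases Nat.eq_zero_or_pos n with rfl | h0
      · haveI : Subsingleton (S ⧸ center S) := (Nat.card_eq_one_iff_unique.1
          (by rw [← index_eq_card, hn, pow_zero])).1
        infer_instance
      · obtain rfl : n = 1 := by omega
        exact isCyclic_of_prime_card (p := p) (by rw [← index_eq_card, hn, pow_one])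
    exact hna (MonoidHom.isMulCommutative_of_isCyclic_of_ker_le_center
      (QuotientGroup.mk' (center S)) (by rw [QuotientGroup.ker_mk']))
  · rw [hn]
    exact Nat.pow_le_pow_right hp.out.pos h

theorem normal_of_index_prime (hS : IsPGroup p S) {A : Subgroup S} (hA : A.index = p) : A.Normal := by
  refine (CfsgLib.PGroupBasic.coatom_normal_index hS ⟨fun h => ?_, fun K hK =>
    eq_top_of_lt_of_index_prime hp.out hA hK⟩).1
  rw [h, index_top] at hA
  exact hp.out.one_lt.ne hA

theorem center_le (hna : ¬ IsMulCommutative S) {A : Subgroup S} (hA : IsMulCommutative ↥A)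
    (hAi : A.index = p) : center S ≤ A := by
  intro z hz
  by_contra hzA
  apply hna
  have hlt : A < A ⊔ zpowers z :=
    lt_of_le_of_ne le_sup_left fun h => hzA (h ▸ mem_sup_right (mem_zpowers z))
  have htop := eq_top_of_lt_of_index_prime hp.out hAi hlt
  have hc : A ⊔ zpowers z ≤ centralizer (A : Set S) := by
    refine sup_le (le_centralizer_iff_isMulCommutative.2 hA) (zpowers_le.2 ?_)
    exact center_le_centralizer _ hz
  rw [htop] at hc
  have hAZ : A ≤ center S := fun a ha => mem_center_iff.2 fun g =>
    (mem_centralizer_iff.1 (hc (mem_top g)) a ha).symm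
  have hall : ∀ g : S, g ∈ center S := fun g => by
    have h := sup_le hAZ (zpowers_le.2 hz)
    rw [htop] at h
    exact h (mem_top g)
  exact ⟨⟨fun a b => mem_center_iff.1 (hall b) a⟩⟩

/-- The index of the centre is `p` times the order of the derived subgroup. -/
theorem index_center_eq (hS : IsPGroup p S) (hna : ¬ IsMulCommutative S) {A : Subgroup S}
    (hA : IsMulCommutative ↥A) (hAi : A.index = p) :
    (center S).index = p * Nat.card (commutator S) := by
  haveI hAn := normal_of_index_prime hS hAi
  have hne : A ≠ ⊤ := fun h => by rw [h, index_top] at hAi; exact hp.out.one_lt.ne hAi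
  obtain ⟨x, hx⟩ : ∃ x, x ∉ A := by
    by_contra! h
    exact hne (eq_top_iff.2 fun g _ => h g)
  have hcomA : ∀ a ∈ A, ∀ b ∈ A, a * b = b * a := fun a ha b hb =>
    congrArg Subtype.val (hA.is_comm.comm ⟨a, ha⟩ ⟨b, hb⟩)
  have htop : ∀ K : Subgroup S, A ≤ K → x ∈ K → K = ⊤ := fun K hK hxK =>
    eq_top_of_lt_of_index_prime hp.out hAi (lt_of_le_of_ne hK fun h => hx (h ▸ hxK))
  have hmem : ∀ a ∈ A, x * a * x⁻¹ * a⁻¹ ∈ A := fun a ha =>
    A.mul_mem (hAn.conj_mem a ha x) (A.inv_mem ha)
  let φ : A →* S := MonoidHom.mk' (fun a => x * (a : S) * x⁻¹ * (a : S)⁻¹) fun a b => by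
    show x * ((a : S) * (b : S)) * x⁻¹ * ((a : S) * (b : S))⁻¹ = _
    have hc := hcomA _ (inv_mem a.2) _ (hmem _ b.2)
    calc x * ((a : S) * b) * x⁻¹ * ((a : S) * b)⁻¹
        = x * a * x⁻¹ * ((x * b * x⁻¹ * (b : S)⁻¹) * (a : S)⁻¹) := by group
      _ = _ := by rw [← hc]; group
  have hker : φ.ker.map A.subtype = center S := by
    ext g
    constructor
    · rintro ⟨a, ha, rfl⟩
      have h1 : x * (a : S) * x⁻¹ * (a : S)⁻¹ = 1 := MonoidHom.mem_ker.1 ha
      have h2 : x * (a : S) = a * x := by
        calc x * (a : S) = (x * a * x⁻¹ * (a : S)⁻¹) * (a * x) := by group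
          _ = _ := by rw [h1, one_mul]
      refine mem_center_iff.2 fun g => ?_
      have hK := htop (centralizer {(a : S)}) (fun b hb => mem_centralizer_singleton_iff.2
        (hcomA b hb a a.2)) (mem_centralizer_singleton_iff.2 h2)
      exact mem_centralizer_singleton_iff.1 (hK ▸ mem_top g)
    · intro hg
      refine ⟨⟨g, center_le hna hA hAi hg⟩, MonoidHom.mem_ker.2 ?_, rfl⟩
      show x * g * x⁻¹ * g⁻¹ = 1
      rw [mem_center_iff.1 hg x]; group
  have hnorm : φ.range.Normal := by
    have hR : φ.range ≤ A := by rintro _ ⟨a, rfl⟩; exact hmem _ a.2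
    have hA' : A ≤ normalizer (φ.range : Set S) := fun g hg => mem_normalizer_iff.2 fun n => by
      constructor
      · intro hn
        rwa [hcomA g hg n (hR hn), mul_inv_cancel_right]
      · intro hn
        have hnA : n ∈ A := by
          have := A.mul_mem (A.mul_mem (A.inv_mem hg) (hR hn)) hg
          simpa [mul_assoc] using this
        rwa [hcomA g hg n hnA, mul_inv_cancel_right] at hn
    have hsub : φ.range.map (MulAut.conj x).toMonoidHom ≤ φ.range := by
      rintro _ ⟨_, ⟨a, rfl⟩, rfl⟩
      refine ⟨⟨x * a * x⁻¹, hAn.conj_mem _ a.2 x⟩, ?_⟩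
      show x * (x * a * x⁻¹) * x⁻¹ * (x * (a : S) * x⁻¹)⁻¹ = x * (x * a * x⁻¹ * (a : S)⁻¹) * x⁻¹
      group
    have hx' : x ∈ normalizer (φ.range : Set S) := by
      have heq : φ.range.map (MulAut.conj x).toMonoidHom = φ.range :=
        eq_of_le_of_card_ge hsub (card_map_of_injective (MulAut.conj x).injective).ge
      refine mem_normalizer_iff.2 fun n => ⟨fun hn => ?_, fun hn => ?_⟩
      · exact heq ▸ ⟨n, hn, rfl⟩
      · rw [← heq] at hn
        obtain ⟨m, hm, hmn⟩ := hn
        rwa [← (MulAut.conj x).injective hmn]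
    exact normalizer_eq_top_iff.1 (htop _ hA' hx')
  have hR : φ.range = commutator S := by
    apply le_antisymm
    · rintro _ ⟨a, rfl⟩
      show x * (a : S) * x⁻¹ * (a : S)⁻¹ ∈ _
      rw [_root_.commutator_def, ← commutatorElement_def]
      exact commutator_mem_commutator (mem_top _) (mem_top _)
    · haveI := hnorm
      let m := QuotientGroup.mk' φ.range
      have hax : ∀ a ∈ A, m x * m a = m a * m x := fun a ha => by
        rw [← map_mul, ← map_mul]
        refine (QuotientGroup.eq.2 ?_)
        have h1 : x * a * x⁻¹ * a⁻¹ ∈ φ.range := ⟨⟨a, ha⟩, rfl⟩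
        have h2 := hnorm.conj_mem _ (inv_mem h1) (x⁻¹ * a⁻¹)
        convert h2 using 1
        group
      have hA' : ∀ a ∈ A, ∀ g, m g * m a = m a * m g := fun a ha g => by
        have := htop ((centralizer {m a}).comap m)
          (fun b hb => mem_centralizer_singleton_iff.2 (by rw [← map_mul, ← map_mul, hcomA b hb a ha]))
          (mem_centralizer_singleton_iff.2 (hax a ha))
        exact mem_centralizer_singleton_iff.1 (this ▸ mem_top g : g ∈ (centralizer {m a}).comap m)
      have hc : ∀ g, m g ∈ center _ := fun g => by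
        have := htop ((center _).comap m)
          (fun a ha => mem_center_iff.2 fun h => by
            obtain ⟨h, rfl⟩ := QuotientGroup.mk'_surjective _ h
            exact hA' a ha h)
          (mem_center_iff.2 fun h => by
            obtain ⟨h, rfl⟩ := QuotientGroup.mk'_surjective _ h
            have := htop ((centralizer {m x}).comap m)
              (fun b hb => mem_centralizer_singleton_iff.2 (hax b hb).symm)
              (mem_centralizer_singleton_iff.2 rfl)
            exact mem_centralizer_singleton_iff.1 (this ▸ mem_top h : h ∈ (centralizer {m x}).comap m))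
        exact (this ▸ mem_top g : g ∈ (center _).comap m)
      rw [_root_.commutator_def, commutator_le]
      intro a _ b _
      rw [← QuotientGroup.ker_mk' φ.range, MonoidHom.mem_ker, map_commutatorElement]
      exact commutatorElement_eq_one_iff_mul_comm.2 (mem_center_iff.1 (hc b) (m a))
  have h1 := φ.ker.card_mul_index
  rw [index_ker, hR, ← card_map_of_injective (K := φ.ker) A.subtype_injective, hker] at h1
  have h2 := A.index_mul_card
  rw [← h1, hAi] at h2
  have h3 := (center S).index_mul_card
  refine Nat.eq_of_mul_eq_mul_right (Nat.card_pos (α := center S)) ?_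
  rw [h3, ← h2]
  ring

/-- Two distinct abelian subgroups of index `p` force a derived subgroup of order at most `p`. -/
theorem card_commutator_le (hS : IsPGroup p S) (hna : ¬ IsMulCommutative S) {A B : Subgroup S}
    (hA : IsMulCommutative ↥A) (hAi : A.index = p) (hB : IsMulCommutative ↥B) (hBi : B.index = p)
    (hne : B ≠ A) : Nat.card (commutator S) ≤ p := by
  have hnle : ¬ B ≤ A := fun h => hne (eq_of_le_of_card_ge h
    (Nat.eq_of_mul_eq_mul_left hp.out.pos (show p * Nat.card A = p * Nat.card B by
      rw [← hAi, A.index_mul_card, hAi, ← hBi, B.index_mul_card])).le)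
  have htop : A ⊔ B = ⊤ := eq_top_of_lt_of_index_prime hp.out hAi
    (lt_of_le_of_ne le_sup_left fun h => hnle (le_sup_right.trans h.symm.le))
  have hle : A ⊓ B ≤ center S := by
    intro g hg
    have h1 : A ⊔ B ≤ centralizer {g} := sup_le
      (fun a ha => mem_centralizer_singleton_iff.2
        (congrArg Subtype.val (hA.is_comm.comm ⟨a, ha⟩ ⟨g, hg.1⟩)))
      (fun a ha => mem_centralizer_singleton_iff.2
        (congrArg Subtype.val (hB.is_comm.comm ⟨a, ha⟩ ⟨g, hg.2⟩)))
    rw [htop] at h1
    exact mem_center_iff.2 fun h => mem_centralizer_singleton_iff.1 (h1 (mem_top h))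
  have h1 : (center S).index ∣ (A ⊓ B).index := index_dvd_of_le hle
  have h2 : (A ⊓ B).index ≤ p * p := by
    calc (A ⊓ B).index ≤ A.index * B.index := index_inf_le
      _ = _ := by rw [hAi, hBi]
  rw [index_center_eq hS hna hA hAi] at h1
  exact Nat.le_of_mul_le_mul_left
    ((Nat.le_of_dvd (Nat.pos_of_ne_zero index_ne_zero_of_finite) h1).trans h2) hp.out.pos

/-- If the derived subgroup has order `p` there are exactly `p + 1` abelian subgroups of index `p`. -/
theorem card_abelian_index_prime (hS : IsPGroup p S) (hna : ¬ IsMulCommutative S) {A : Subgroup S}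
    (hA : IsMulCommutative ↥A) (hAi : A.index = p) (hc : Nat.card (commutator S) = p) :
    Nat.card (S ⧸ center S) = p ^ 2 ∧
      Cfsg.IsElementaryAbelian p (⊤ : Subgroup (S ⧸ center S)) ∧
      Nat.card {B : Subgroup S // IsMulCommutative ↥B ∧ B.index = p} = p + 1 := by
  have hcard : Nat.card (S ⧸ center S) = p ^ 2 := by
    rw [← index_eq_card, index_center_eq hS hna hA hAi, hc, sq]
  have hncyc : ¬ IsCyclic (S ⧸ center S) := fun h => hna ⟨⟨fun a b =>
    commutative_of_cyclic_center_quotient (QuotientGroup.mk' (center S))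
      (by rw [QuotientGroup.ker_mk']) a b⟩⟩
  haveI hQc : IsMulCommutative (S ⧸ center S) := IsPGroup.isMulCommutative_of_card_eq_prime_sq hcard
  refine ⟨hcard, ⟨inferInstance, fun a _ => ?_⟩, ?_⟩
  · obtain ⟨k, hk, hk'⟩ := (Nat.dvd_prime_pow hp.out).1 (hcard ▸ orderOf_dvd_natCard a)
    rw [← orderOf_dvd_iff_pow_eq_one, hk']
    rcases Nat.lt_or_ge k 2 with h | h
    · exact (pow_dvd_pow p (by omega : k ≤ 1)).trans (pow_one p).dvd
    · obtain rfl : k = 2 := by omega
      exact absurd (isCyclic_of_orderOf_eq_card a (by rw [hk', hcard])) hncyc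
  rw [← CfsgLib.Uniserial.card_subgroups_prime hcard hncyc]
  let π := QuotientGroup.mk' (center S)
  have hπ : Function.Surjective π := QuotientGroup.mk'_surjective _
  refine Nat.card_congr
    { toFun := fun B => ⟨B.1.map π, ?_⟩
      invFun := fun K => ⟨K.1.comap π, ?_, ?_⟩
      left_inv := fun B => Subtype.ext ?_
      right_inv := fun K => Subtype.ext (map_comap_eq_self_of_surjective hπ K.1) }
  · have h := (B.1.map π).index_mul_card
    rw [index_map_eq _ hπ (by rw [QuotientGroup.ker_mk']; exact center_le hna B.2.1 B.2.2), B.2.2,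
      hcard, sq] at h
    exact Nat.eq_of_mul_eq_mul_left hp.out.pos h
  · haveI : IsCyclic K.1 := isCyclic_of_prime_card K.2
    let g : K.1.comap π →* K.1 := MonoidHom.mk' (fun b => ⟨π b, b.2⟩) fun a b => Subtype.ext (map_mul π _ _)
    exact ⟨⟨fun a b => commutative_of_cyclic_center_quotient g (fun c hc => mem_center_iff.2 fun d =>
      Subtype.ext (mem_center_iff.1
        ((QuotientGroup.eq_one_iff _).1 (congrArg Subtype.val hc : π c = 1)) d)) a b⟩⟩
  · have h := K.1.index_mul_card
    rw [K.2, hcard, sq] at h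
    rw [index_comap_of_surjective _ hπ]
    exact Nat.eq_of_mul_eq_mul_right hp.out.pos h
  · change (B.1.map π).comap π = B.1
    rw [comap_map_eq, QuotientGroup.ker_mk', sup_eq_left.2 (center_le hna B.2.1 B.2.2)]

/-- An element that is central modulo the centre has centralizer of index at most the order of the centre. -/
theorem card_le_center_mul_centralizer {x : S} (hx : ∀ g : S, x * g * x⁻¹ * g⁻¹ ∈ center S) :
    Nat.card S ≤ Nat.card (center S) * Nat.card ↥(centralizer ({x} : Set S)) := by
  let φ : S →* center S := MonoidHom.mk' (fun g => ⟨x * g * x⁻¹ * g⁻¹, hx g⟩) fun a b =>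
    Subtype.ext (by
      show x * (a * b) * x⁻¹ * (a * b)⁻¹ = x * a * x⁻¹ * a⁻¹ * (x * b * x⁻¹ * b⁻¹)
      have h := mem_center_iff.1 (hx b) a⁻¹
      calc x * (a * b) * x⁻¹ * (a * b)⁻¹ = x * a * x⁻¹ * ((x * b * x⁻¹ * b⁻¹) * a⁻¹) := by group
        _ = _ := by rw [← h]; group)
  have hker : φ.ker ≤ centralizer {x} := fun g hg => by
    have h := congrArg Subtype.val (MonoidHom.mem_ker.1 hg)
    exact mem_centralizer_singleton_iff.2 (commutatorElement_eq_one_iff_mul_comm.1 h).symm
  rw [← φ.ker.card_mul_index, index_ker, mul_comm]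
  exact Nat.mul_le_mul (card_le_card_group _) (card_le_of_le hker)

end CfsgLib.AbelianIndexP
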