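import Cfsg.Agent.AutFrattini.Basic
import Cfsg.Agent.FGSB.OrderPFix
import Cfsg.Agent.Solvable.RankTwo
import Cfsg.Agent.Dickson.Transfer
import Mathlib.LinearAlgebra.Matrix.ToLin

/-!
Automorphisms of `p`-groups of rank at most two, `p` odd.
-/

set_option autoImplicit false
set_option linter.style.haveILetI false
set_option linter.unusedSectionVars false

namespace CfsgLib.FGSA.RankTwoAut

open Subgroup
open scoped commutatorElement MatrixGroups

variable {R : Type*} [Group R] [Finite R] {p : ℕ} [hp : Fact p.Prime]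

/-- A characteristic subgroup of exponent `p` on which `p'`-automorphisms act faithfully. -/
theorem exists_faithful (hp2 : p ≠ 2) (hR : IsPGroup p R) :
    ∃ D : Subgroup R, D.Characteristic ∧ (∀ x ∈ D, x ^ p = 1) ∧
      ∀ f : MulAut R, (orderOf f).Coprime p → (∀ x ∈ D, f x = x) → f = 1 := by
  classical
  obtain ⟨H, hHc, hHp, hHz, hHC⟩ := CfsgLib.Kinf.exists_critical hR
  haveI := hHc
  have hcen : ∀ x : H, (x : R) ∈ centralizer (H : Set R) → x ∈ center H := fun x hx =>
    mem_center_iff.2 fun g => Subtype.ext (mem_centralizer_iff.1 hx g g.2)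
  have hcl : commutator H ≤ center H := by
    rw [_root_.commutator_def, commutator_le]
    exact fun a _ b _ => hcen _ (hHz (commutator_mem_commutator a.2 (mem_top (b : R)))).2
  have hpow : ∀ a : H, a ^ p ∈ center H := fun a => hcen _ (hHp a a.2)
  let W : Subgroup R :=
    { carrier := {x | x ∈ H ∧ x ^ p = 1}
      one_mem' := ⟨one_mem _, one_pow _⟩
      inv_mem' := fun {x} hx => ⟨inv_mem hx.1, by rw [inv_pow, hx.2, inv_one]⟩
      mul_mem' := fun {x y} hx hy => ⟨mul_mem hx.1 hy.1, by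
        have h := CfsgLib.OrderPFix.small_pow_mul hcl hpow (⟨x, hx.1⟩ : H) ⟨y, hy.1⟩
        rw [CfsgLib.OrderPFix.small, if_neg hp2] at h
        have h' : (x * y) ^ p = x ^ p * y ^ p := congrArg Subtype.val h
        rw [h', hx.2, hy.2, one_mul]⟩ }
  refine ⟨W, characteristic_iff_le_comap.2 fun φ x hx => ⟨characteristic_iff_le_comap.1 hHc φ hx.1, by
    show (φ x) ^ p = 1
    rw [← map_pow, hx.2, map_one]⟩, fun x hx => hx.2, fun f hf hfix => ?_⟩
  · let φ : H →* H := (f.toMonoidHom.comp H.subtype).codRestrict H fun c =>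
      characteristic_iff_le_comap.1 hHc f c.2
    have hit : ∀ (j : ℕ) (c : H), ((φ^[j] c : H) : R) = (f ^ j) (c : R) := by
      intro j
      induction j with
      | zero => intro c; rfl
      | succ j ih =>
        intro c
        rw [Function.iterate_succ_apply']
        show f ((φ^[j] c : H) : R) = _
        rw [ih, pow_succ']
        rfl
    have hfixH : ∀ x : H, φ x = x := by
      refine CfsgLib.OrderPFix.fix_of_class_two (hR.to_subgroup H) hcl hpow φ hf
        (fun x => Subtype.ext (by rw [hit, pow_orderOf_eq_one]; rfl)) fun t ht => Subtype.ext ?_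
      refine hfix t ⟨t.2, ?_⟩
      rcases ht with h | ⟨h, -⟩
      · rw [← h, ← Subgroup.orderOf_coe, pow_orderOf_eq_one]
      · exact absurd h hp2
    let e : MulAut R ≃* MulAut (⊤ : Subgroup R) := MulAut.congr Subgroup.topEquiv.symm
    have hz : (⊤ : Subgroup R) ⊓ centralizer (H : Set R) = H ⊓ centralizer (H : Set R) := by
      rw [top_inf_eq, inf_eq_right.2 hHC]
    have h' := CfsgLib.Kinf.aut_eq_one_of_critical (T := (⊤ : Subgroup R)) (A := H) (p := p)
      (hR.to_subgroup ⊤) le_top (by rw [Subgroup.commutator_comm]; exact hHz) hz (e f)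
      (by rw [MulEquiv.orderOf_eq]; exact hf)
      (fun x hx => Subtype.ext (show f (x : R) = x from congrArg Subtype.val (hfixH ⟨x, hx⟩)))
    exact e.injective (h'.trans e.map_one.symm)

/-- A small characteristic subgroup of exponent `p` on which `p'`-automorphisms act faithfully. -/
theorem exists_thin (hp2 : p ≠ 2) (hR : IsPGroup p R)
    (hrk : ∀ E : Subgroup R, Cfsg.IsElementaryAbelian p E → Nat.card E ≤ p ^ 2) :
    ∃ D : Subgroup R, D.Characteristic ∧ (∀ x ∈ D, x ^ p = 1) ∧ Nat.card D ≤ p ^ 3 ∧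
      ∀ f : MulAut R, (orderOf f).Coprime p → (∀ x ∈ D, f x = x) → f = 1 := by
  obtain ⟨D, hDc, hDe, hfaith⟩ := exists_faithful hp2 hR
  refine ⟨D, hDc, hDe, ?_, hfaith⟩
  refine CfsgLib.RankTwo.card_le_cube_of_exponent (fun a => Subtype.ext (hDe a a.2)) fun E hE => ?_
  rw [← card_map_of_injective (K := E) D.subtype_injective]
  refine hrk _ ⟨?_, ?_⟩
  · haveI := hE.1
    infer_instance
  · rintro _ ⟨a, ha, rfl⟩
    rw [← map_pow, hE.2 a ha, map_one]

/-- A group of exponent `p` and order at most `p ^ 3` without `E_{p³}` has thin Frattini quotient. -/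
theorem frattini_index_le (hR : IsPGroup p R)
    (hrk : ∀ E : Subgroup R, Cfsg.IsElementaryAbelian p E → Nat.card E ≤ p ^ 2)
    (he : ∀ x : R, x ^ p = 1) (hc : Nat.card R ≤ p ^ 3) : ∃ r ≤ 2, (frattini R).index = p ^ r := by
  obtain ⟨r, hr⟩ := hR.index (frattini R)
  refine ⟨r, ?_, hr⟩
  by_contra h2
  have h := (frattini R).card_mul_index
  rw [hr] at h
  have h1 : Nat.card (frattini R) * p ^ r ≤ 1 * p ^ r := by
    rw [one_mul, h]; exact hc.trans (Nat.pow_le_pow_right hp.out.pos (by omega))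
  have hF : frattini R = ⊥ :=
    eq_bot_of_card_eq _ (le_antisymm (Nat.le_of_mul_le_mul_right h1 (pow_pos hp.out.pos r)) Nat.card_pos)
  obtain ⟨hcm, -⟩ := CfsgLib.PGroupBasic.commutator_pow_le_frattini hR
  have hab : ∀ a b : R, a * b = b * a := fun a b => commutatorElement_eq_one_iff_mul_comm.1
    (mem_bot.1 (hF ▸ hcm (commutator_mem_commutator (mem_top a) (mem_top b))))
  have hcard := hrk ⊤ ⟨⟨⟨fun a b => Subtype.ext (hab a b)⟩⟩, fun a _ => he a⟩
  rw [card_top, ← h, hF, card_bot, one_mul] at hcard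
  exact h2 ((Nat.pow_le_pow_iff_right hp.out.one_lt).1 hcard)

/-- An additive action on a vector space over the prime field, in matrices. -/
theorem exists_matrix_rep {q : ℕ} [Fact q.Prime] {A : Type*} [Group A] {V : Type*} [AddCommGroup V]
    [Finite V] [Module (ZMod q) V] {r : ℕ} (h : Module.finrank (ZMod q) V = r) (L : A → (V →+ V))
    (h1 : ∀ v, L 1 v = v) (hmul : ∀ a b v, L (a * b) v = L a (L b v)) :
    ∃ ψ : A →* GL (Fin r) (ZMod q), ∀ a, ψ a = 1 → ∀ v, L a v = v := by
  classical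
  haveI : Module.Finite (ZMod q) V := Module.Finite.of_finite
  let b := Module.finBasisOfFinrankEq (ZMod q) V h
  let M : A →* Matrix (Fin r) (Fin r) (ZMod q) :=
    { toFun := fun a => LinearMap.toMatrix b b ((L a).toZModLinearMap q)
      map_one' := by
        rw [show (L 1).toZModLinearMap q = LinearMap.id from LinearMap.ext h1, LinearMap.toMatrix_id]
      map_mul' := fun a c => by
        rw [← LinearMap.toMatrix_comp, show (L (a * c)).toZModLinearMap q =
          ((L a).toZModLinearMap q).comp ((L c).toZModLinearMap q) from LinearMap.ext (hmul a c)] }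
  refine ⟨M.toHomUnits, fun a ha v => ?_⟩
  have h1' : M a = 1 := by simpa using congrArg Units.val ha
  have h2 : (L a).toZModLinearMap q = LinearMap.id := by
    refine (LinearMap.toMatrix b b).injective ?_
    rw [LinearMap.toMatrix_id]; exact h1'
  exact LinearMap.congr_fun h2 v

/-- The action on the Frattini quotient. -/
theorem exists_gl {D : Type*} [Group D] [Finite D] (hD : IsPGroup p D) {r : ℕ}
    (hr : (frattini D).index = p ^ r) :
    ∃ ψ : MulAut D →* GL (Fin r) (ZMod p), IsPGroup p ψ.ker := by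
  classical
  obtain ⟨hc, hpw⟩ := CfsgLib.PGroupBasic.commutator_pow_le_frattini (p := p) hD
  have hcomm : ∀ a b : D ⧸ frattini D, a * b = b * a :=
    (Normal.quotient_commutative_iff_commutator_le.2 hc).is_comm.comm
  letI : CommGroup (D ⧸ frattini D) := { (inferInstance : Group (D ⧸ frattini D)) with mul_comm := hcomm }
  letI : Module (ZMod p) (Additive (D ⧸ frattini D)) := AddCommGroup.zmodModule fun v => by
    obtain ⟨x, hx⟩ := QuotientGroup.mk_surjective (Additive.toMul v)
    apply Additive.toMul.injective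
    rw [toMul_nsmul, ← hx, toMul_zero, ← QuotientGroup.mk_pow, QuotientGroup.eq_one_iff]
    exact hpw x
  haveI : Finite (Additive (D ⧸ frattini D)) := Finite.of_equiv _ Additive.ofMul
  have hfr : Module.finrank (ZMod p) (Additive (D ⧸ frattini D)) = r :=
    CfsgLib.AutFrattini.finrank_additive (Q := D ⧸ frattini D) (p := p) (r := r) (by rw [← index_eq_card, hr])
  have hmap : ∀ α : MulAut D, frattini D ≤ (frattini D).comap α.toMonoidHom := fun α =>
    characteristic_iff_le_comap.1 inferInstance α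
  let L : MulAut D → (Additive (D ⧸ frattini D) →+ Additive (D ⧸ frattini D)) := fun α =>
    MonoidHom.toAdditive (QuotientGroup.map (frattini D) (frattini D) α.toMonoidHom (hmap α))
  have hL : ∀ (α : MulAut D) (x : D), L α (Additive.ofMul (x : D ⧸ frattini D)) =
      Additive.ofMul ((α x : D) : D ⧸ frattini D) := fun α x => rfl
  have hrep : ∀ v : Additive (D ⧸ frattini D), ∃ x : D, v = Additive.ofMul (x : D ⧸ frattini D) := fun v => by
    obtain ⟨x, hx⟩ := QuotientGroup.mk_surjective (Additive.toMul v)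
    exact ⟨x, by rw [hx]; rfl⟩
  obtain ⟨ψ, hψ⟩ := exists_matrix_rep hfr L
    (fun v => by obtain ⟨x, rfl⟩ := hrep v; rfl)
    (fun a b v => by obtain ⟨x, rfl⟩ := hrep v; rfl)
  refine ⟨ψ, ?_⟩
  obtain ⟨n, hn⟩ := IsPGroup.iff_card.1 hD
  have hdvd := CfsgLib.AutFrattini.card_dvd_of_trivial_mod_frattini hn hr ψ.ker fun α hα x => by
    have h3 := hψ α (MonoidHom.mem_ker.1 hα) (Additive.ofMul (x : D ⧸ frattini D))
    rw [hL] at h3
    have h4 : ((α x : D) : D ⧸ frattini D) = (x : D ⧸ frattini D) := congrArg Additive.toMul h3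
    refine (QuotientGroup.eq_one_iff (N := frattini D) (α x * x⁻¹)).1 ?_
    rw [QuotientGroup.mk_mul, QuotientGroup.mk_inv, h4, mul_inv_cancel]
  obtain ⟨i, -, hi⟩ := (Nat.dvd_prime_pow hp.out).1 hdvd
  exact IsPGroup.of_card hi

/-- The two-dimensional representation of the automorphism group. -/
theorem exists_rep (hp2 : p ≠ 2) (hR : IsPGroup p R)
    (hrk : ∀ E : Subgroup R, Cfsg.IsElementaryAbelian p E → Nat.card E ≤ p ^ 2) :
    ∃ r ≤ 2, ∃ ψ : MulAut R →* GL (Fin r) (ZMod p), IsPGroup p ψ.ker := by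
  classical
  obtain ⟨D, hDc, hDe, hD3, hfaith⟩ := exists_thin hp2 hR hrk
  obtain ⟨r, hr2, hr⟩ := frattini_index_le (R := D) (hR.to_subgroup D) (fun E hE => by
    rw [← card_map_of_injective (K := E) D.subtype_injective]
    refine hrk _ ⟨?_, ?_⟩
    · haveI := hE.1
      infer_instance
    · rintro _ ⟨a, ha, rfl⟩
      rw [← map_pow, hE.2 a ha, map_one]) (fun x => Subtype.ext (hDe x x.2)) hD3
  obtain ⟨ψ, hψ⟩ := exists_gl (hR.to_subgroup D) hr
  have hmem : ∀ (f : MulAut R) (x : D), f x ∈ D := fun f x => characteristic_iff_le_comap.1 hDc f x.2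
  let res : MulAut R →* MulAut D := MonoidHom.mk' (fun f =>
    { toFun := fun x => ⟨f x, hmem f x⟩
      invFun := fun x => ⟨f.symm x, hmem f.symm x⟩
      left_inv := fun x => Subtype.ext (f.symm_apply_apply _)
      right_inv := fun x => Subtype.ext (f.apply_symm_apply _)
      map_mul' := fun x y => Subtype.ext (map_mul f _ _) }) fun f g => rfl
  refine ⟨r, hr2, ψ.comp res, ?_⟩
  intro ⟨f, hf⟩
  obtain ⟨k, hk⟩ := hψ ⟨res f, hf⟩
  have hk' : res (f ^ p ^ k) = 1 := by
    rw [map_pow]; exact congrArg Subtype.val hk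
  obtain ⟨i, m, hm, hord⟩ := Nat.exists_eq_pow_mul_and_not_dvd (orderOf_pos (f ^ p ^ k)).ne' p hp.out.ne_one
  refine ⟨k + i, Subtype.ext ?_⟩
  have hg : orderOf ((f ^ p ^ k) ^ p ^ i) = m := by
    rw [orderOf_pow_of_dvd (pow_ne_zero _ hp.out.ne_zero) (hord ▸ dvd_mul_right _ _), hord,
      Nat.mul_div_cancel_left _ (pow_pos hp.out.pos i)]
  have h1 : (f ^ p ^ k) ^ p ^ i = 1 := by
    refine hfaith _ (by rw [hg]; exact (hp.out.coprime_iff_not_dvd.2 hm).symm) fun x hx => ?_
    have h2 : res ((f ^ p ^ k) ^ p ^ i) = 1 := by rw [map_pow, hk', one_pow]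
    exact congrArg Subtype.val (DFunLike.congr_fun h2 ⟨x, hx⟩)
  show f ^ p ^ (k + i) = 1
  rw [pow_add, pow_mul]; exact h1

/-- An odd subgroup of `GL₂` in characteristic `p` has derived subgroup of exponent dividing `p`. -/
theorem derived_pow_two {K : Type*} [Field K] [IsAlgClosed K] [CharP K p]
    (H : Subgroup (GL (Fin 2) K)) [Finite H] (hodd : Odd (Nat.card H)) :
    ∀ c ∈ ⁅H, H⁆, c ^ p = 1 := by
  classical
  let H' := H.map (Matrix.ProjGenLinGroup.mk : GL (Fin 2) K →* CfsgLib.Dickson.PGL2 K)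
  haveI : Finite H' := Finite.of_surjective
    (fun h : H => (⟨Matrix.ProjGenLinGroup.mk (h : GL (Fin 2) K), h, h.2, rfl⟩ : H'))
    (fun ⟨_, y, hy, rfl⟩ => ⟨⟨y, hy⟩, rfl⟩)
  have hodd' : Odd (Nat.card H') := Odd.of_dvd_nat hodd (H.card_map_dvd _)
  obtain ⟨x, hx⟩ : ∃ x : OnePoint K, ∀ g ∈ H', g • x = x := by
    rcases CfsgLib.Dickson.classification p H' with h | ⟨n, -, -, hn, -⟩ | ⟨-, hn, -⟩ | ⟨-, hn, -⟩ |
      ⟨-, -, hn, -⟩ | ⟨f, hf, g, hg⟩
    · exact h
    iterate 4
      · rw [hn] at hodd'; obtain ⟨k, hk⟩ := hodd'; omega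
    exfalso
    have := CfsgLib.Dickson.finite_frobFix (K := K) p hf
    let _ := Fintype.ofFinite (CfsgLib.Dickson.frobFix (K := K) p f)
    have hsub : CfsgLib.Dickson.pslImage (CfsgLib.Dickson.frobFix (K := K) p f).subtype ≤
        CfsgLib.Dickson.conjH g H' := by
      rcases hg with hg | ⟨-, hg⟩
      · rw [hg]; rintro _ ⟨y, rfl⟩; exact ⟨_, rfl⟩
      · rw [hg]
    have hd := Subgroup.card_dvd_of_le hsub
    rw [Subgroup.card_map_of_injective (MulAut.conj g).injective,
      ← Nat.card_congr (CfsgLib.Dickson.pslImageEquiv _).toEquiv] at hd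
    let S : Matrix.SpecialLinearGroup (Fin 2) (CfsgLib.Dickson.frobFix (K := K) p f) :=
      ⟨!![0, 1; -1, 0], by simp [Matrix.det_fin_two_of]⟩
    have h1 : (QuotientGroup.mk S : Matrix.ProjectiveSpecialLinearGroup (Fin 2) _) ≠ 1 := by
      rw [Ne, CfsgLib.PSL2Spec.mk_eq_one_iff]
      rintro ⟨c, hc⟩
      simpa [S] using congrFun (congrFun hc 0) 1
    have h2 : (QuotientGroup.mk S : Matrix.ProjectiveSpecialLinearGroup (Fin 2) _) ^ 2 = 1 := by
      rw [pow_two, ← QuotientGroup.mk_mul, CfsgLib.PSL2Spec.mk_eq_one_iff]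
      refine ⟨-1, ?_⟩
      ext i j
      rw [Matrix.SpecialLinearGroup.coe_mul]
      simp only [S]
      fin_cases i <;> fin_cases j <;> simp [Matrix.mul_apply, Fin.sum_univ_two]
    haveI : Fact (Nat.Prime 2) := ⟨Nat.prime_two⟩
    have h3 := orderOf_dvd_natCard
      (QuotientGroup.mk S : CfsgLib.Dickson.PSL2 (CfsgLib.Dickson.frobFix (K := K) p f))
    rw [orderOf_eq_prime h2 h1] at h3
    obtain ⟨k, hk⟩ := Odd.of_dvd_nat hodd' (h3.trans hd)
    omega
  obtain ⟨g0, hg0⟩ : ∃ g0 : GL (Fin 2) K, g0 • (OnePoint.infty : OnePoint K) = x := by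
    rcases x with _ | t
    · exact ⟨1, one_smul _ _⟩
    · refine ⟨Matrix.GeneralLinearGroup.mkOfDetNeZero !![t, 1; 1, 0] (by simp [Matrix.det_fin_two_of]), ?_⟩
      simp [OnePoint.smul_infty_eq_ite]
      rfl
  set σ : GL (Fin 2) K →* GL (Fin 2) K := (MulAut.conj g0⁻¹).toMonoidHom with hσ
  have htri : ∀ h ∈ H, (σ h : Matrix (Fin 2) (Fin 2) K) 1 0 = 0 := by
    intro h hh
    have h1 := hx _ ⟨h, hh, rfl⟩
    rw [CfsgLib.Dickson.mk_smul_eq] at h1
    rw [← OnePoint.smul_infty_eq_self_iff]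
    show (g0⁻¹ * h * g0⁻¹⁻¹) • (OnePoint.infty : OnePoint K) = _
    rw [inv_inv, mul_smul, mul_smul, hg0, h1, ← hg0, inv_smul_smul]
  let d : H →* K × K :=
    { toFun := fun h => ((σ h : Matrix (Fin 2) (Fin 2) K) 0 0, (σ h : Matrix (Fin 2) (Fin 2) K) 1 1)
      map_one' := by simp
      map_mul' := fun a b => by
        have ha := htri a a.2
        have hb := htri b b.2
        simp only [Subgroup.coe_mul, map_mul, Units.val_mul, Prod.mk_mul_mk, Matrix.mul_apply,
          Fin.sum_univ_two, ha, hb, mul_zero, zero_mul, add_zero, zero_add] }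
  intro c hc
  rw [← Subgroup.map_subtype_commutator] at hc
  obtain ⟨c, hc, rfl⟩ := hc
  have hd1 : d c = 1 := by
    have hle : commutator H ≤ d.toHomUnits.ker := by
      rw [_root_.commutator_def, commutator_le]
      intro a _ b _
      rw [MonoidHom.mem_ker, map_commutatorElement, commutatorElement_eq_one_iff_mul_comm]
      exact Units.ext (mul_comm _ _)
    have := congrArg Units.val (MonoidHom.mem_ker.1 (hle hc))
    simpa using this
  have h00 : (σ c : Matrix (Fin 2) (Fin 2) K) 0 0 = 1 := congrArg Prod.fst hd1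
  have h11 : (σ c : Matrix (Fin 2) (Fin 2) K) 1 1 = 1 := congrArg Prod.snd hd1
  have hnil : ((σ c : Matrix (Fin 2) (Fin 2) K) - 1) ^ p = 0 := by
    have h2 : ((σ c : Matrix (Fin 2) (Fin 2) K) - 1) ^ 2 = 0 := by
      ext i j
      fin_cases i <;> fin_cases j <;>
        simp [pow_two, Matrix.mul_apply, Fin.sum_univ_two, h00, h11, htri c c.2]
    obtain ⟨k, hk⟩ := Nat.exists_eq_add_of_le hp.out.two_le
    rw [hk, pow_add, h2, zero_mul]
  rw [sub_pow_char_of_commute p (Commute.one_right _), one_pow, sub_eq_zero, ← Units.val_pow_eq_pow_val,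
    ← map_pow] at hnil
  refine (MulAut.conj g0⁻¹).injective ?_
  rw [map_one]
  exact Units.ext hnil

/-- The same for subgroups of `GL_r`, `r ≤ 2`, over the prime field. -/
theorem derived_pow {r : ℕ} (hr : r ≤ 2) (H : Subgroup (GL (Fin r) (ZMod p))) (hodd : Odd (Nat.card H)) :
    ∀ c ∈ ⁅H, H⁆, c ^ p = 1 := by
  rcases (show r = 0 ∨ r = 1 ∨ r = 2 by omega) with rfl | rfl | rfl
  · intro c _; exact Units.ext (Subsingleton.elim _ _)
  · intro c hc
    have hb : ⁅H, H⁆ = ⊥ := by
      rw [← le_bot_iff, commutator_le]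
      intro a _ b _
      rw [mem_bot, commutatorElement_eq_one_iff_mul_comm]
      refine Units.ext ?_
      ext i j
      rw [Subsingleton.elim i 0, Subsingleton.elim j 0]
      simp [Matrix.mul_apply, mul_comm]
    rw [hb, mem_bot] at hc
    rw [hc, one_pow]
  · intro c hc
    set ι : GL (Fin 2) (ZMod p) →* GL (Fin 2) (AlgebraicClosure (ZMod p)) :=
      Matrix.GeneralLinearGroup.map (algebraMap (ZMod p) (AlgebraicClosure (ZMod p))) with hι
    have hinj : Function.Injective ι := by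
      intro a b h
      ext i j
      apply (algebraMap (ZMod p) (AlgebraicClosure (ZMod p))).injective
      have := congrArg (fun M : GL (Fin 2) (AlgebraicClosure (ZMod p)) =>
        (M : Matrix (Fin 2) (Fin 2) (AlgebraicClosure (ZMod p))) i j) h
      simpa [hι] using this
    haveI : CharP (AlgebraicClosure (ZMod p)) p := charP_of_injective_algebraMap
      (algebraMap (ZMod p) (AlgebraicClosure (ZMod p))).injective p
    haveI : Finite (H.map ι) := Finite.of_equiv _ (H.equivMapOfInjective ι hinj).toEquiv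
    have h := derived_pow_two (p := p) (H.map ι) (by rwa [card_map_of_injective hinj]) (ι c)
      (by rw [← map_commutator]; exact mem_map_of_mem ι hc)
    exact hinj (by rw [map_pow, h, map_one])

/-- An odd group acting faithfully on `R` has derived subgroup a `p`-group. -/
theorem derived_isPGroup (hp2 : p ≠ 2) (hR : IsPGroup p R)
    (hrk : ∀ E : Subgroup R, Cfsg.IsElementaryAbelian p E → Nat.card E ≤ p ^ 2)
    {A : Type*} [Group A] [Finite A] (hA : Odd (Nat.card A)) (φ : A →* MulAut R)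
    (hφ : Function.Injective φ) : IsPGroup p (commutator A) := by
  obtain ⟨r, hr, ψ, hψ⟩ := exists_rep hp2 hR hrk
  set H := (⊤ : Subgroup A).map (ψ.comp φ) with hH
  have hodd : Odd (Nat.card H) := Odd.of_dvd_nat hA ((card_map_dvd _ _).trans (by rw [card_top]))
  intro ⟨a, ha⟩
  have h1 : (ψ.comp φ) a ∈ ⁅H, H⁆ := by
    rw [hH, ← map_commutator, ← _root_.commutator_def]; exact mem_map_of_mem _ ha
  have h2 := derived_pow hr H hodd _ h1
  rw [← map_pow] at h2
  obtain ⟨k, hk⟩ := hψ ⟨φ (a ^ p), h2⟩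
  refine ⟨k + 1, Subtype.ext (hφ ?_)⟩
  have hk' : φ (a ^ p) ^ p ^ k = 1 := congrArg Subtype.val hk
  rw [Subgroup.coe_pow, Subgroup.coe_one, map_one, pow_succ', pow_mul, map_pow]
  exact hk'

/-- The primes dividing the order of the automorphism group. -/
theorem prime_dvd (hp2 : p ≠ 2) (hR : IsPGroup p R)
    (hrk : ∀ E : Subgroup R, Cfsg.IsElementaryAbelian p E → Nat.card E ≤ p ^ 2)
    {q : ℕ} (hq : q.Prime) (hqp : q ≠ p) (hdvd : q ∣ Nat.card (MulAut R)) :
    q ∣ p ^ 2 - 1 ∧ q < p := by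
  obtain ⟨r, hr, ψ, hψ⟩ := exists_rep hp2 hR hrk
  haveI := Fact.mk hq
  obtain ⟨f, hf⟩ := exists_prime_orderOf_dvd_card' (G := MulAut R) q hdvd
  have hψf : orderOf (ψ f) = q := by
    refine orderOf_eq_prime (by rw [← map_pow, ← hf, pow_orderOf_eq_one, map_one]) fun h => ?_
    obtain ⟨i, hi⟩ := IsPGroup.iff_orderOf.1 hψ ⟨f, h⟩
    rw [← Subgroup.orderOf_coe] at hi
    change orderOf f = p ^ i at hi
    rw [hf] at hi
    exact hqp ((Nat.prime_dvd_prime_iff_eq hq hp.out).1 (hq.dvd_of_dvd_pow (dvd_of_eq hi)))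
  have hcard := hψf ▸ orderOf_dvd_natCard (ψ f)
  rw [Matrix.card_GL_field, ZMod.card] at hcard
  obtain ⟨i, -, hi⟩ := (hq.prime.dvd_finsetProd_iff _).1 hcard
  obtain ⟨i, hilt⟩ := i
  have hcases : (q ∣ p - 1 ∨ q ∣ p + 1) := by
    have hsq : p ^ 2 - 1 = (p - 1) * (p + 1) := by
      obtain ⟨m, rfl⟩ := Nat.exists_eq_add_of_le hp.out.one_le
      rw [Nat.add_sub_cancel_left]
      exact Nat.sub_eq_of_eq_add (by ring)
    simp only at hi
    rcases (show (r = 1 ∧ i = 0) ∨ (r = 2 ∧ i = 0) ∨ (r = 2 ∧ i = 1) by omega) with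
      ⟨rfl, rfl⟩ | ⟨rfl, rfl⟩ | ⟨rfl, rfl⟩
    · left; simpa using hi
    · rw [pow_zero, hsq] at hi
      exact hq.dvd_mul.1 hi
    · rw [pow_one, sq, ← Nat.mul_sub_one] at hi
      exact Or.inl ((hq.dvd_mul.1 hi).resolve_left fun h => hqp ((Nat.prime_dvd_prime_iff_eq hq hp.out).1 h))
  have hsq : p ^ 2 - 1 = (p + 1) * (p - 1) := by
    rw [show p ^ 2 - 1 = p ^ 2 - 1 ^ 2 by rw [one_pow], Nat.sq_sub_sq]
  refine ⟨hsq ▸ hcases.elim (fun h => h.mul_left _) (fun h => h.mul_right _), ?_⟩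
  have h2p := hp.out.two_le
  rcases hcases with h | h
  · exact lt_of_le_of_lt (Nat.le_of_dvd (by omega) h) (by omega)
  · obtain ⟨c, hc⟩ := h
    have hpodd := hp.out.odd_of_ne_two hp2
    obtain ⟨l, hl⟩ := hpodd
    rcases (show c = 0 ∨ c = 1 ∨ 2 ≤ c by omega) with rfl | rfl | h2c
    · omega
    · rcases hq.eq_two_or_odd' with rfl | ⟨s, hs⟩
      · omega
      · omega
    · have : q * 2 ≤ p + 1 := hc ▸ Nat.mul_le_mul_left q h2c
      omega

end CfsgLib.FGSA.RankTwoAut
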