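import Cfsg.Agent.FGSA.RankTwoAut
import Cfsg.Agent.FGSA.Nilpotent
import Cfsg.Agent.Solvable.Fitting
import Cfsg.Prelude.Def_Local
import Cfsg.Prelude.Def_OddOrderLocal
import Cfsg.Prelude.Def_Transfer
import Mathlib.GroupTheory.Transfer

/-!
Odd solvable groups of small `p`-rank.
-/

set_option autoImplicit false
set_option linter.style.haveILetI false
set_option linter.unusedSectionVars false

namespace CfsgLib.FGSA.RankTwoSolvable

open Subgroup CfsgLib.Solvable
open scoped commutatorElement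

universe u

variable {G : Type u} [Group G] [Finite G] {p : ℕ} [hp : Fact p.Prime]

theorem ne_two_of_dvd {p n : ℕ} (h : p ∣ n) (hodd : Odd n) : p ≠ 2 := fun h2 => by
  obtain ⟨k, hk⟩ := Odd.of_dvd_nat hodd h
  omega

/-- The small-rank condition passes to the image of a coprime quotient. -/
theorem rank_quotient (O : Subgroup G) [O.Normal] (hO : (Nat.card O).Coprime p)
    (hr : ∀ A : Subgroup G, IsMulCommutative A → (∀ a ∈ A, a ^ p = 1) → Nat.card A ≤ p ^ 2)
    (E : Subgroup (G ⧸ O)) (hE : IsMulCommutative E) (hEp : ∀ a ∈ E, a ^ p = 1) : Nat.card E ≤ p ^ 2 := by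
  classical
  set f := QuotientGroup.mk' O
  have hEP : IsPGroup p E := fun a => ⟨1, Subtype.ext (by rw [pow_one]; exact hEp a a.2)⟩
  obtain ⟨T, hT⟩ := hEP.exists_le_sylow
  obtain ⟨S⟩ : Nonempty (Sylow p G) := inferInstance
  obtain ⟨g, hg⟩ := MulAction.exists_smul_eq (G ⧸ O) (S.mapSurjective (QuotientGroup.mk'_surjective O)) T
  obtain ⟨g, rfl⟩ := QuotientGroup.mk'_surjective O g
  set S' := g • S with hS'
  have hTS : (T : Subgroup (G ⧸ O)) ≤ (S' : Subgroup G).map f := by
    rw [← hg]
    intro x hx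
    rw [Sylow.coe_subgroup_smul, Sylow.coe_mapSurjective] at hx
    obtain ⟨_, ⟨s, hs, rfl⟩, rfl⟩ := hx
    refine ⟨g * s * g⁻¹, ?_, ?_⟩
    · rw [hS', Sylow.coe_subgroup_smul]
      exact ⟨s, hs, rfl⟩
    · rw [map_mul, map_mul, map_inv]; rfl
  set K := E.comap f ⊓ (S' : Subgroup G)
  have hinj : ∀ x ∈ K, f x = 1 → x = 1 := fun x hx h1 => by
    have hxO : x ∈ O := (QuotientGroup.eq_one_iff x).1 h1
    obtain ⟨k, hk⟩ := IsPGroup.iff_orderOf.1 S'.isPGroup' ⟨x, hx.2⟩
    rw [← Subgroup.orderOf_coe] at hk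
    refine orderOf_eq_one_iff.1 (Nat.eq_one_of_dvd_coprimes (hO.pow_right k) ?_ (dvd_of_eq hk))
    have := orderOf_dvd_natCard (⟨x, hxO⟩ : O)
    rwa [← Subgroup.orderOf_coe] at this
  have hKc : IsMulCommutative K := ⟨⟨fun a b => Subtype.ext (by
    rw [← mul_inv_eq_one]
    refine hinj _ (mul_mem (mul_mem a.2 b.2) (inv_mem (mul_mem b.2 a.2))) ?_
    rw [map_mul, map_inv, mul_inv_eq_one, Subgroup.coe_mul, Subgroup.coe_mul, map_mul, map_mul]
    exact congrArg Subtype.val (hE.is_comm.comm (⟨f a, a.2.1⟩ : E) ⟨f b, b.2.1⟩))⟩⟩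
  have hKp : ∀ a ∈ K, a ^ p = 1 := fun a ha => hinj _ (pow_mem ha p) (by rw [map_pow]; exact hEp _ ha.1)
  refine le_trans ?_ (hr K hKc hKp)
  refine Nat.card_le_card_of_surjective (fun k : K => (⟨f k, k.2.1⟩ : E)) fun e => ?_
  obtain ⟨s, hs, hse⟩ := hTS (hT e.2)
  exact ⟨⟨s, ⟨show f s ∈ E by rw [hse]; exact e.2, hs⟩⟩, Subtype.ext hse⟩

/-- An odd group acts on a normal `p`-subgroup of rank two with derived group a `p`-group. -/
theorem exists_pow_centralizes (hodd : Odd (Nat.card G)) (P : Subgroup G) [P.Normal] (hP : IsPGroup p P)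
    (hr : ∀ A : Subgroup P, Cfsg.IsElementaryAbelian p A → Nat.card A ≤ p ^ 2) {x : G}
    (hx : x ∈ commutator G) : ∃ k : ℕ, x ^ p ^ k ∈ centralizer (P : Set G) := by
  classical
  by_cases hP1 : P = ⊥
  · exact ⟨0, mem_centralizer_iff.2 fun v hv => by rw [mem_bot.1 (hP1 ▸ hv : v ∈ (⊥ : Subgroup G))]; simp⟩
  obtain ⟨e, he⟩ := IsPGroup.iff_card.1 hP
  have he0 : e ≠ 0 := fun h => hP1 (eq_bot_of_card_eq _ (by rw [he, h, pow_zero]))
  have hp2 : p ≠ 2 := ne_two_of_dvd ((dvd_pow_self p he0).trans (he ▸ card_subgroup_dvd_card P)) hodd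
  let φ : G →* MulAut P := MulAut.conjNormal
  have hA : Odd (Nat.card φ.range) := Odd.of_dvd_nat hodd (card_range_dvd φ)
  have hd := RankTwoAut.derived_isPGroup hp2 hP hr hA φ.range.subtype φ.range.subtype_injective
  have hmem : φ.rangeRestrict x ∈ commutator φ.range := by
    have := mem_map_of_mem φ.rangeRestrict hx
    rw [_root_.commutator_def, map_commutator, map_top_of_surjective _ φ.rangeRestrict_surjective] at this
    rwa [_root_.commutator_def]
  obtain ⟨k, hk⟩ := hd ⟨_, hmem⟩
  refine ⟨k, mem_centralizer_iff.2 fun v hv => ?_⟩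
  have h1 : φ (x ^ p ^ k) = 1 := by
    rw [map_pow]; exact congrArg (fun a => ((a : φ.range) : MulAut P)) (congrArg Subtype.val hk)
  have h2 : x ^ p ^ k * v * (x ^ p ^ k)⁻¹ = v := by
    have := congrArg Subtype.val (DFunLike.congr_fun h1 (⟨v, hv⟩ : P))
    exact (MulAut.conjNormal_apply (x ^ p ^ k) (⟨v, hv⟩ : P)).symm.trans this
  exact (mul_inv_eq_iff_eq_mul.1 h2).symm

/-- Elements of large prime power order centralize a normal `p`-subgroup of rank two. -/
theorem centralizes_of_large (hodd : Odd (Nat.card G)) (P : Subgroup G) [P.Normal] (hP : IsPGroup p P)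
    (hr : ∀ A : Subgroup P, Cfsg.IsElementaryAbelian p A → Nat.card A ≤ p ^ 2) {q : ℕ} (hq : q.Prime)
    (hqp : p < q) {x : G} {j : ℕ} (hx : orderOf x = q ^ j) : x ∈ centralizer (P : Set G) := by
  classical
  by_cases hP1 : P = ⊥
  · exact mem_centralizer_iff.2 fun v hv => by rw [mem_bot.1 (hP1 ▸ hv : v ∈ (⊥ : Subgroup G))]; simp
  obtain ⟨e, he⟩ := IsPGroup.iff_card.1 hP
  have he0 : e ≠ 0 := fun h => hP1 (eq_bot_of_card_eq _ (by rw [he, h, pow_zero]))
  have hp2 : p ≠ 2 := ne_two_of_dvd ((dvd_pow_self p he0).trans (he ▸ card_subgroup_dvd_card P)) hodd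
  let φ : G →* MulAut P := MulAut.conjNormal
  have h1 : φ x = 1 := by
    obtain ⟨i, -, hi⟩ := (Nat.dvd_prime_pow hq).1 (hx ▸ orderOf_map_dvd φ x)
    rcases Nat.eq_zero_or_pos i with rfl | hipos
    · exact orderOf_eq_one_iff.1 (by rwa [pow_zero] at hi)
    · have h := (RankTwoAut.prime_dvd hp2 hP hr hq (Nat.ne_of_gt hqp)
        ((dvd_pow_self q hipos.ne').trans (hi ▸ orderOf_dvd_natCard (φ x)))).2
      omega
  refine mem_centralizer_iff.2 fun v hv => ?_
  have h2 : x * v * x⁻¹ = v := by
    have := congrArg Subtype.val (DFunLike.congr_fun h1 (⟨v, hv⟩ : P))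
    simpa [φ] using this
  exact (mul_inv_eq_iff_eq_mul.1 h2).symm

/-- A normal subgroup of coprime order and `p`-power index is a normal `p`-complement. -/
theorem hasNormalPComplement_of_index (O : Subgroup G) [O.Normal] (hO : (Nat.card O).Coprime p) {k : ℕ}
    (hi : O.index = p ^ k) : Cfsg.HasNormalPComplement p G := by
  obtain ⟨S⟩ : Nonempty (Sylow p G) := inferInstance
  refine ⟨S, O, inferInstance, ?_⟩
  obtain ⟨m, hm⟩ := IsPGroup.iff_card.1 S.isPGroup'
  have h1 : O.index = Nat.card (S : Subgroup G) := by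
    refine Nat.dvd_antisymm ?_ ?_
    · refine (Nat.Coprime.dvd_mul_right (m := Nat.card (S : Subgroup G)) (n := (S : Subgroup G).index) ?_).1 ?_
      · rw [hi]; exact (hp.out.coprime_iff_not_dvd.2 S.not_dvd_index).pow_left k
      · rw [(S : Subgroup G).card_mul_index]; exact index_dvd_card O
    · refine (Nat.Coprime.dvd_mul_left (m := Nat.card O) (n := O.index) ?_).1 ?_
      · rw [hm]; exact (hO.pow_right m).symm
      · rw [O.card_mul_index]; exact card_subgroup_dvd_card _
  refine isComplement'_of_coprime (by rw [← h1, O.card_mul_index]) ?_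
  rw [hm]; exact hO.pow_right m

/-- The structure of `G` read off from `G ⧸ O_{p'}(G)`. -/
theorem structure_of_quotient (hodd : Odd (Nat.card G))
    (hder : commutator (G ⧸ Cfsg.pPrimeCore p G) ≤ Cfsg.pCore p (G ⧸ Cfsg.pPrimeCore p G))
    (hprimes : ∀ q : ℕ, q.Prime → q ≠ p → q ∣ Nat.card (G ⧸ Cfsg.pPrimeCore p G) → q < p) :
    (∀ q : ℕ, q.Prime → q ∣ (Cfsg.pPrimeCore p G).index → q ≤ p) ∧
      ((p = 3 ∨ ∀ q : ℕ, q.Prime → q ∣ Nat.card G → p ≤ q) → Cfsg.HasNormalPComplement p G) ∧
      Cfsg.HasNormalPComplement p ↥(commutator G) ∧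
      (∀ L : Subgroup ↥(commutator G), (Nat.card L).Coprime p → L ≤ Cfsg.pPrimeCore p ↥(commutator G)) ∧
      commutator G ≤ Cfsg.pPrimePCore p G ∧ ((Cfsg.pPrimePCore p G).index).Coprime p := by
  classical
  set O := Cfsg.pPrimeCore p G with hO
  set f := QuotientGroup.mk' O
  have hOc : (Nat.card O).Coprime p := coprime_card_pPrimeCore p
  have hmapc : (commutator G).map f = commutator (G ⧸ O) := by
    rw [_root_.commutator_def, map_commutator, map_top_of_surjective _ (QuotientGroup.mk'_surjective O),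
      _root_.commutator_def]
  have hcp : IsPGroup p (commutator (G ⧸ O)) := (isPGroup_pCore p).to_le hder
  refine ⟨fun q hq hqd => ?_, fun h => ?_, ?_, ?_, ?_, ?_⟩
  · rcases eq_or_ne q p with rfl | hqp
    · exact le_rfl
    · exact (hprimes q hq hqp (by rwa [← index_eq_card])).le
  · obtain ⟨k, hk⟩ : ∃ k, O.index = p ^ k := by
      refine ⟨O.index.primeFactorsList.length, Nat.eq_prime_pow_of_unique_prime_dvd index_ne_zero_of_finite fun {d} hd hdd => ?_⟩
      by_contra hdp
      have hlt := hprimes d hd hdp (by rwa [← index_eq_card])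
      have hdG : d ∣ Nat.card G := hdd.trans (index_dvd_card O)
      rcases h with h3 | h
      · have := hd.two_le
        have := ne_two_of_dvd hdG hodd
        omega
      · have := h d hd hdG
        omega
    exact hasNormalPComplement_of_index O hOc hk
  · set g := f.comp (commutator G).subtype with hg
    obtain ⟨k, hk⟩ := IsPGroup.iff_card.1 hcp
    haveI : (O.subgroupOf (commutator G)).Normal := normal_subgroupOf
    refine hasNormalPComplement_of_index (O.subgroupOf (commutator G)) ?_ (k := k) ?_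
    · refine hOc.coprime_dvd_left ?_
      rw [← card_map_of_injective (commutator G).subtype_injective, subgroupOf_map_subtype]
      exact card_dvd_of_le inf_le_left
    · have hker : g.ker = O.subgroupOf (commutator G) := by
        rw [hg, ← MonoidHom.comap_ker, QuotientGroup.ker_mk']; rfl
      rw [← hker, index_ker, hg, MonoidHom.range_comp, range_subtype, hmapc, hk]
  · intro L hL
    set g := f.comp (commutator G).subtype with hg
    haveI : (O.subgroupOf (commutator G)).Normal := normal_subgroupOf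
    have hle : O.subgroupOf (commutator G) ≤ Cfsg.pPrimeCore p ↥(commutator G) := by
      refine le_pPrimeCore p inferInstance (hOc.coprime_dvd_left ?_)
      rw [← card_map_of_injective (commutator G).subtype_injective, subgroupOf_map_subtype]
      exact card_dvd_of_le inf_le_left
    intro x hx
    refine hle ?_
    show (x : G) ∈ O
    rw [← QuotientGroup.eq_one_iff]
    have hgx : g x ∈ commutator (G ⧸ O) := hmapc ▸ mem_map_of_mem f x.2
    obtain ⟨k, hk⟩ := IsPGroup.iff_orderOf.1 hcp ⟨_, hgx⟩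
    rw [← Subgroup.orderOf_coe] at hk
    refine orderOf_eq_one_iff.1 (Nat.eq_one_of_dvd_coprimes (hL.pow_right k) ?_ (dvd_of_eq hk))
    refine (orderOf_map_dvd g x).trans ?_
    have := orderOf_dvd_natCard (⟨x, hx⟩ : L)
    rwa [← Subgroup.orderOf_coe] at this
  · exact fun x hx => hder (hmapc ▸ mem_map_of_mem f hx)
  · show ((Cfsg.pCore p (G ⧸ O)).comap f).index.Coprime p
    rw [index_comap_of_surjective _ (QuotientGroup.mk'_surjective O)]
    obtain ⟨T, hT⟩ := (isPGroup_pCore (G := G ⧸ O) p).exists_le_sylow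
    haveI hTn : (T : Subgroup (G ⧸ O)).Normal := ⟨fun v hv a => by
      rw [show a * v * a⁻¹ = ⁅a, v⁆ * v by simp [commutatorElement_def, mul_assoc]]
      exact mul_mem (hT (hder (commutator_mem_commutator (mem_top a) (mem_top v)))) hv⟩
    rw [le_antisymm hT (le_pCore p hTn T.isPGroup')]
    exact (hp.out.coprime_iff_not_dvd.2 T.not_dvd_index).symm

/-- The quotient by `O_{p'}` in `p`-rank two. -/
theorem quotient_of_rank_two [Group.IsSolvable G] (hodd : Odd (Nat.card G))
    (hr : ∀ A : Subgroup G, IsMulCommutative A → (∀ a ∈ A, a ^ p = 1) → Nat.card A ≤ p ^ 2) :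
    commutator (G ⧸ Cfsg.pPrimeCore p G) ≤ Cfsg.pCore p (G ⧸ Cfsg.pPrimeCore p G) ∧
    ∀ q : ℕ, q.Prime → q ≠ p → q ∣ Nat.card (G ⧸ Cfsg.pPrimeCore p G) → q < p := by
  classical
  set O := Cfsg.pPrimeCore p G
  set P := Cfsg.pCore p (G ⧸ O)
  have hoddQ : Odd (Nat.card (G ⧸ O)) := Odd.of_dvd_nat hodd (card_quotient_dvd_card O)
  have hPp : IsPGroup p P := isPGroup_pCore p
  have hcen : centralizer (P : Set (G ⧸ O)) ≤ P :=
    CfsgLib.Fitting.centralizer_pCore_le (CfsgLib.Fitting.pPrimeCore_quotient_eq_bot p)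
  have hrP : ∀ A : Subgroup P, Cfsg.IsElementaryAbelian p A → Nat.card A ≤ p ^ 2 := fun A hA => by
    rw [← card_map_of_injective (K := A) P.subtype_injective]
    refine rank_quotient O (coprime_card_pPrimeCore p) hr _ ?_ ?_
    · haveI := hA.1
      infer_instance
    · rintro _ ⟨a, ha, rfl⟩
      rw [← map_pow, hA.2 a ha, map_one]
  have hcp : IsPGroup p (commutator (G ⧸ O)) := by
    intro ⟨x, hx⟩
    obtain ⟨k, hk⟩ := exists_pow_centralizes hoddQ P hPp hrP hx
    obtain ⟨l, hl⟩ := hPp ⟨_, hcen hk⟩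
    refine ⟨k + l, Subtype.ext ?_⟩
    show x ^ p ^ (k + l) = 1
    rw [pow_add, pow_mul]
    exact congrArg Subtype.val hl
  refine ⟨le_pCore p inferInstance hcp, fun q hq hqp hdvd => ?_⟩
  by_contra hlt
  haveI := Fact.mk hq
  obtain ⟨x, hx⟩ := exists_prime_orderOf_dvd_card' (G := G ⧸ O) q hdvd
  have hxP : x ∈ P := hcen (centralizes_of_large hoddQ P hPp hrP hq (by omega) (j := 1) (by rw [hx, pow_one]))
  obtain ⟨k, hk⟩ := IsPGroup.iff_orderOf.1 hPp ⟨x, hxP⟩
  rw [← Subgroup.orderOf_coe] at hk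
  change orderOf x = p ^ k at hk
  exact hqp ((Nat.prime_dvd_prime_iff_eq hq hp.out).1 (hq.dvd_of_dvd_pow (dvd_of_eq (hx.symm.trans hk))))

omit hp

/-- An element of prime power order of the Fitting subgroup lies in the corresponding core. -/
theorem mem_pCore_of_mem_fitting {r : ℕ} (hr : r.Prime) {x : G} {j : ℕ} (hx : orderOf x = r ^ j)
    (hxF : x ∈ Cfsg.fittingSubgroup G) : x ∈ Cfsg.pCore r G := by
  haveI := Fact.mk hr
  haveI : Group.IsNilpotent (Cfsg.fittingSubgroup G) := isNilpotent_fittingSubgroup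
  have hz : IsPGroup r (zpowers (⟨x, hxF⟩ : Cfsg.fittingSubgroup G)) := IsPGroup.of_card (n := j) (by
    rw [Nat.card_zpowers, ← Subgroup.orderOf_coe]; exact hx)
  obtain ⟨T, hT⟩ := hz.exists_le_sylow
  haveI hTn : (T : Subgroup (Cfsg.fittingSubgroup G)).Normal := inferInstance
  haveI := Sylow.characteristic_of_normal T hTn
  exact le_pCore r (N := (T : Subgroup (Cfsg.fittingSubgroup G)).map (Cfsg.fittingSubgroup G).subtype)
    inferInstance (T.isPGroup'.map _) ⟨⟨x, hxF⟩, hT (mem_zpowers _), rfl⟩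

/-- The rank condition on each core. -/
def CoreRank (G : Type u) [Group G] : Prop :=
  ∀ r : ℕ, r.Prime → ∀ A : Subgroup (Cfsg.pCore r G), Cfsg.IsElementaryAbelian r A → Nat.card A ≤ r ^ 2

theorem coreRank_of (hr : Cfsg.RankLE 2 G ∨ Cfsg.RankLE 2 (Cfsg.fittingSubgroup G)) : CoreRank G := by
  intro r hr' A hA
  haveI := Fact.mk hr'
  haveI := hA.1
  have hle : Cfsg.pCore r G ≤ Cfsg.fittingSubgroup G := pCore_le_fittingSubgroup _
  rcases hr with h | h
  · rw [← card_map_of_injective (K := A) (Cfsg.pCore r G).subtype_injective]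
    exact h r hr' _ inferInstance (by rintro _ ⟨a, ha, rfl⟩; rw [← map_pow, hA.2 a ha, map_one])
  · rw [← card_map_of_injective (K := A) (inclusion_injective hle)]
    exact h r hr' _ inferInstance (by rintro _ ⟨a, ha, rfl⟩; rw [← map_pow, hA.2 a ha, map_one])

theorem centralizer_fitting_of_cores {x : G}
    (h : ∀ r : ℕ, r.Prime → x ∈ centralizer (Cfsg.pCore r G : Set G)) :
    x ∈ centralizer (Cfsg.fittingSubgroup G : Set G) := by
  have hle : Cfsg.fittingSubgroup G ≤ centralizer ({x} : Set G) := by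
    rw [fittingSubgroup_eq_iSup_pCore, iSup_le_iff]
    exact fun q v hv => mem_centralizer_singleton_iff.2 (mem_centralizer_iff.1 (h q q.2) v hv)
  exact mem_centralizer_iff.2 fun v hv => mem_centralizer_singleton_iff.1 (hle hv)

/-- `G'` acts on each core as a group of the corresponding characteristic. -/
def CoreAct (G : Type u) [Group G] : Prop :=
  ∀ r : ℕ, r.Prime → ∀ x ∈ commutator G, ∃ k : ℕ, x ^ r ^ k ∈ centralizer (Cfsg.pCore r G : Set G)

theorem coreAct_of_coreRank (hodd : Odd (Nat.card G)) (hR : CoreRank G) : CoreAct G := fun r hr x hx => by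
  haveI := Fact.mk hr
  exact exists_pow_centralizes hodd (Cfsg.pCore r G) (isPGroup_pCore r) (hR r hr) hx

/-- A `q`-element of `G'` centralizes the other cores. -/
theorem centralizes_core (hA : CoreAct G) {q r : ℕ} (hq : q.Prime) (hr : r.Prime)
    (hqr : q ≠ r) {x : G} {j : ℕ} (hx : orderOf x = q ^ j) (hxG : x ∈ commutator G) :
    x ∈ centralizer (Cfsg.pCore r G : Set G) := by
  haveI := Fact.mk hr
  obtain ⟨k, hk⟩ := hA r hr x hxG
  obtain ⟨m, hm⟩ := exists_pow_eq_self_of_coprime (n := r ^ k) (x := x) (by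
    rw [hx]; exact Nat.Coprime.pow _ _ ((Nat.coprime_primes hr hq).2 hqr.symm))
  rw [← hm]
  exact pow_mem hk m

/-- The derived subgroup is nilpotent. -/
theorem derived_nilpotent_of_act [Group.IsSolvable G] (hA : CoreAct G) :
    Group.IsNilpotent ↥(commutator G) := by
  classical
  set H := commutator G
  set F := Cfsg.fittingSubgroup G
  set Z := centralizer (F : Set G)
  have hZF : Z ≤ F := CfsgLib.Fitting.centralizer_fittingSubgroup_le_of_solvable
  have hZn : Z.Normal := inferInstance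
  -- conjugates of an element of `Z` by powers
  have key : ∀ {q : ℕ}, q.Prime → ∀ {x z : G} {j : ℕ}, x ∈ H → orderOf x = q ^ j → z ∈ Z →
      (∃ i, orderOf (z * x) = q ^ i) → ∃ i, orderOf z = q ^ i := by
    intro q hq x z j hxH hx hz ⟨i, hi⟩
    haveI := Fact.mk hq
    obtain ⟨a, m, hm, hzo⟩ := Nat.exists_eq_pow_mul_and_not_dvd (orderOf_pos z).ne' q hq.ne_one
    set u := z ^ q ^ a with hu
    have hum : orderOf u = m := by
      rw [hu, orderOf_pow_of_dvd (pow_ne_zero _ hq.ne_zero) (hzo ▸ dvd_mul_right _ _), hzo,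
        Nat.mul_div_cancel_left _ (pow_pos hq.pos a)]
    have hux : x * u = u * x := by
      have hle : zpowers u ≤ centralizer ({x} : Set G) := by
        refine CfsgLib.FGSA.le_of_prime_power_mem fun r hr v hv ⟨k, hk⟩ => ?_
        rcases Nat.eq_zero_or_pos k with rfl | hkpos
        · rw [orderOf_eq_one_iff.1 (by rwa [pow_zero] at hk : orderOf v = 1)]; exact one_mem _
        have hrm : r ∣ m := by
          have h1 := orderOf_dvd_natCard (⟨v, hv⟩ : zpowers u)
          rw [← Subgroup.orderOf_coe, Nat.card_zpowers, hum] at h1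
          exact (dvd_pow_self r hkpos.ne').trans (hk ▸ h1)
        have hqr : q ≠ r := fun h => hm (h ▸ hrm)
        have hvF : v ∈ F := hZF ((zpowers_le.2 (pow_mem hz _)) hv)
        exact mem_centralizer_singleton_iff.2
          (mem_centralizer_iff.1 (centralizes_core hA hq hr hqr hx hxH) v
            (mem_pCore_of_mem_fitting hr hk hvF))
      exact (mem_centralizer_singleton_iff.1 (hle (mem_zpowers u))).symm
    have hN : ∀ n : ℕ, ∃ w ∈ Z, (z * x) ^ n = w * x ^ n ∧ w ^ q ^ a = u ^ n := by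
      intro n
      induction n with
      | zero => exact ⟨1, one_mem _, by simp, by simp⟩
      | succ n ih =>
        obtain ⟨w, hw, h1, h2⟩ := ih
        have hc := hZn.conj_mem z hz (x ^ n)
        refine ⟨w * (x ^ n * z * (x ^ n)⁻¹), mul_mem hw hc, ?_, ?_⟩
        · rw [pow_succ, h1, pow_succ]; group
        · have hcomm : Commute w (x ^ n * z * (x ^ n)⁻¹) :=
            mem_centralizer_iff.1 hc w (hZF hw)
          rw [hcomm.mul_pow, h2, conj_pow, ← hu, (Commute.pow_left hux n).eq, mul_inv_cancel_right, ← pow_succ]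
    obtain ⟨w, hw, h1, h2⟩ := hN (q ^ (i + j))
    have e1 : (z * x) ^ q ^ (i + j) = 1 := orderOf_dvd_iff_pow_eq_one.1 (hi ▸ pow_dvd_pow q (Nat.le_add_right i j))
    have e2 : x ^ q ^ (i + j) = 1 := orderOf_dvd_iff_pow_eq_one.1 (hx ▸ pow_dvd_pow q (Nat.le_add_left j i))
    rw [e1, e2, mul_one] at h1
    rw [← h1, one_pow] at h2
    have h3 : m = 1 := by
      refine Nat.eq_one_of_dvd_coprimes ((hq.coprime_iff_not_dvd.2 hm).symm.pow_right (i + j)) dvd_rfl ?_
      rw [← hum]; exact orderOf_dvd_of_pow_eq_one h2.symm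
    exact ⟨a, by rw [hzo, h3, mul_one]⟩
  have hcomm : ∀ {q r : ℕ}, q.Prime → r.Prime → q ≠ r → ∀ {x y : G} {i j : ℕ}, x ∈ H → y ∈ H →
      orderOf x = q ^ i → orderOf y = r ^ j → x * y = y * x := by
    intro q r hq hr hqr x y i j hxH hyH hx hy
    have hcZ : ⁅x, y⁆ ∈ Z := centralizer_fitting_of_cores fun s hs => by
      set C := centralizer (Cfsg.pCore s G : Set G)
      rw [← QuotientGroup.eq_one_iff (N := C)]
      show QuotientGroup.mk' C ⁅x, y⁆ = 1
      rw [map_commutatorElement]
      rcases ne_or_eq q s with h | h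
      · rw [show QuotientGroup.mk' C x = 1 from (QuotientGroup.eq_one_iff x).2
          (centralizes_core hA hq hs h hx hxH), commutatorElement_one_left]
      · rw [show QuotientGroup.mk' C y = 1 from (QuotientGroup.eq_one_iff y).2
          (centralizes_core hA hr hs (h ▸ hqr.symm) hy hyH), commutatorElement_one_right]
    obtain ⟨a, ha⟩ := key hr hyH hy hcZ ⟨j, by
      rw [show ⁅x, y⁆ * y = MulAut.conj x y by simp [commutatorElement_def, mul_assoc], MulEquiv.orderOf_eq, hy]⟩
    obtain ⟨b, hb⟩ := key hq hxH hx (z := ⁅y, x⁆) (by rw [← commutatorElement_inv]; exact inv_mem hcZ) ⟨i, by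
      rw [show ⁅y, x⁆ * x = MulAut.conj y x by simp [commutatorElement_def, mul_assoc], MulEquiv.orderOf_eq, hx]⟩
    rw [← commutatorElement_inv, orderOf_inv, ha] at hb
    rw [← commutatorElement_eq_one_iff_mul_comm, ← orderOf_eq_one_iff, ha]
    rcases Nat.eq_zero_or_pos a with rfl | hapos
    · rw [pow_zero]
    · exact absurd ((Nat.prime_dvd_prime_iff_eq hr hq).1 (hr.dvd_of_dvd_pow (hb ▸ dvd_pow_self r hapos.ne'))) hqr.symm
  refine (Group.isNilpotent_of_finite_tfae (G := H)).out 3 0 |>.1 fun q hq P => ?_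
  classical
  haveI := hq
  haveI : ∀ s : Nat.Primes, Fact (s : ℕ).Prime := fun s => ⟨s.2⟩
  have hqp : q.Prime := hq.out
  let S : ∀ s : Nat.Primes, Sylow (s : ℕ) H := fun s =>
    if h : (s : ℕ) = q then h ▸ P else default
  rw [← normalizer_eq_top_iff, ← top_le_iff, ← iSup_sylow_eq_top S, iSup_le_iff]
  rintro ⟨s, hs⟩
  by_cases h : s = q
  · subst h
    rw [show (S ⟨s, hs⟩) = P from dif_pos rfl]
    exact le_normalizer
  · intro v hv
    haveI : Fact (Nat.Prime ((⟨s, hs⟩ : Nat.Primes) : ℕ)) := ⟨hs⟩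
    obtain ⟨j, hj⟩ := IsPGroup.iff_orderOf.1 (S ⟨s, hs⟩).isPGroup' ⟨v, hv⟩
    rw [← Subgroup.orderOf_coe, ← Subgroup.orderOf_coe] at hj
    refine centralizer_le_normalizer _ (mem_centralizer_iff.2 fun w hw => Subtype.ext ?_)
    obtain ⟨i, hi⟩ := IsPGroup.iff_orderOf.1 P.isPGroup' ⟨w, hw⟩
    rw [← Subgroup.orderOf_coe, ← Subgroup.orderOf_coe] at hi
    exact hcomm hqp hs (Ne.symm h) w.2 v.2 hi hj

/-- The derived subgroup is nilpotent when the cores have rank at most two. -/
theorem derived_nilpotent [Group.IsSolvable G] (hodd : Odd (Nat.card G)) (hR : CoreRank G) :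
    Group.IsNilpotent ↥(commutator G) :=
  derived_nilpotent_of_act (coreAct_of_coreRank hodd hR)

/-- Characteristic subgroups inside the derived group of a Sylow subgroup are normal. -/
theorem normal_of_le_derived [Group.IsSolvable G] (hodd : Odd (Nat.card G)) (hR : CoreRank G) {q : ℕ}
    [Fact q.Prime] (S : Sylow q G) (T : Subgroup ↥(S : Subgroup G)) (hTc : T.Characteristic)
    (hT : T.map (S : Subgroup G).subtype ≤ ⁅(S : Subgroup G), (S : Subgroup G)⁆) :
    (T.map (S : Subgroup G).subtype).Normal := by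
  classical
  set H := commutator G with hH
  set T' := T.map (S : Subgroup G).subtype with hT'
  haveI hHn : Group.IsNilpotent H := derived_nilpotent hodd hR
  set K := (S : Subgroup G) ⊔ H with hK
  haveI hKn : K.Normal := ⟨fun v hv g => by
    rw [show g * v * g⁻¹ = ⁅g, v⁆ * v by simp [commutatorElement_def, mul_assoc]]
    exact mul_mem (mem_sup_right (commutator_mem_commutator (mem_top g) (mem_top v))) hv⟩
  have hfr := Sylow.normalizer_sup_eq_top (N := K) (S.subtype le_sup_left)
  rw [show ((S.subtype le_sup_left : Sylow q K) : Subgroup K).map K.subtype = (S : Subgroup G) by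
    rw [Sylow.coe_subtype, subgroupOf_map_subtype, inf_of_le_left le_sup_left]] at hfr
  haveI := hTc
  have hNS : normalizer ((S : Subgroup G) : Set G) ≤ normalizer (T' : Set G) := by
    intro g hg
    rw [← CfsgLib.SZ.conj_smul_eq_iff_mem_normalizer]
    refine eq_of_le_of_card_le ?_ (CfsgLib.SZ.card_conj_smul _ _).ge
    intro v hv
    rw [CfsgLib.SZ.mem_conj_smul, hT'] at hv
    obtain ⟨w, hw, e⟩ := hv
    have hw2 := characteristic_iff_le_comap.1 hTc
      (normalizerMonoidHom (S : Subgroup G) ⟨g, hg⟩) hw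
    refine ⟨_, hw2, ?_⟩
    show g * (w : G) * g⁻¹ = v
    rw [show (w : G) = g⁻¹ * v * g from e]; group
  have hTH : T' ≤ H := hT.trans (by rw [hH, _root_.commutator_def]; exact commutator_mono le_top le_top)
  have hH' : H ≤ normalizer (T' : Set G) := by
    refine CfsgLib.FGSA.le_of_prime_power_mem fun r hr a ha ⟨k, hk⟩ => ?_
    by_cases hrq : r = q
    · subst hrq
      have hz : IsPGroup r (zpowers (⟨a, ha⟩ : H)) := IsPGroup.of_card (n := k) (by
        rw [Nat.card_zpowers, ← Subgroup.orderOf_coe]; exact hk)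
      obtain ⟨V, hV⟩ := hz.exists_le_sylow
      haveI hVn : (V : Subgroup H).Normal := inferInstance
      haveI := Sylow.characteristic_of_normal V hVn
      have h1 : (V : Subgroup H).map H.subtype ≤ Cfsg.pCore r G := le_pCore r inferInstance (V.isPGroup'.map _)
      have haS : a ∈ (S : Subgroup G) :=
        CfsgLib.Fitting.pCore_le_sylow S (h1 ⟨_, hV (mem_zpowers _), rfl⟩)
      exact hNS (le_normalizer haS)
    · refine centralizer_le_normalizer _ (mem_centralizer_iff.2 fun t ht => ?_)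
      obtain ⟨i, hi⟩ := IsPGroup.iff_orderOf.1 (S.isPGroup'.to_le (map_subtype_le T)) ⟨t, ht⟩
      rw [← Subgroup.orderOf_coe] at hi
      have h := CfsgLib.FGSA.commute_of_coprime_orderOf (⟨t, hTH ht⟩ : H) ⟨a, ha⟩ (by
        rw [← Subgroup.orderOf_coe, ← Subgroup.orderOf_coe]
        show (orderOf t).Coprime (orderOf a)
        rw [hi, hk]
        exact Nat.Coprime.pow _ _ ((Nat.coprime_primes Fact.out hr).2 (Ne.symm hrq)))
      exact congrArg Subtype.val h
  rw [← normalizer_eq_top_iff, ← top_le_iff, ← hfr]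
  exact sup_le hNS (sup_le (le_normalizer.trans hNS) hH')

/-- Elements of an abelian group of order involving only primes above `p`. -/
def largePart (A : Type*) [CommGroup A] (p : ℕ) : Subgroup A where
  carrier := {x | IsOfFinOrder x ∧ ∀ r : ℕ, r.Prime → r ∣ orderOf x → p < r}
  one_mem' := ⟨IsOfFinOrder.one, fun r hr h => by rw [orderOf_one] at h; exact absurd h hr.not_dvd_one⟩
  mul_mem' := fun {a b} ha hb => ⟨(Commute.all a b).isOfFinOrder_mul ha.1 hb.1, fun r hr h => by
    have h1 : r ∣ Nat.lcm (orderOf a) (orderOf b) := h.trans (Commute.all a b).orderOf_mul_dvd_lcm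
    rcases hr.dvd_mul.1 (h1.trans (Nat.lcm_dvd_mul _ _)) with h2 | h2
    · exact ha.2 r hr h2
    · exact hb.2 r hr h2⟩
  inv_mem' := fun {a} ha => ⟨ha.1.inv, fun r hr h => ha.2 r hr (by rwa [orderOf_inv] at h)⟩

/-- The Hall subgroup for the primes above `p`. -/
theorem exists_large_hall [Group.IsSolvable G] (hodd : Odd (Nat.card G)) (hR : CoreRank G) (p : ℕ) :
    ∃ N : Subgroup G, N.Characteristic ∧ Cfsg.IsPiHall {q | q.Prime ∧ p < q} N := by
  classical
  set π := {x : G | ∀ r : ℕ, r.Prime → r ∣ orderOf x → p < r} with hπ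
  set W := closure π with hW
  have hgen : ∀ x ∈ π, x ∈ W := fun x hx => subset_closure hx
  refine ⟨W, characteristic_iff_le_comap.2 fun φ => (closure_le _).2 fun x hx => ?_, ?_, ?_⟩
  · show φ x ∈ W
    exact hgen _ fun r hr h => hx r hr (by rwa [MulEquiv.orderOf_eq] at h)
  rotate_left
  · intro q hq hqπ hdvd
    haveI := Fact.mk hq
    have hWn : W.Normal := ⟨fun v hv g => ((closure_le _).2 (fun x hx => hgen (g * x * g⁻¹)
      fun r hr h => hx r hr (by
        rwa [show g * x * g⁻¹ = MulAut.conj g x from rfl, MulEquiv.orderOf_eq] at h)) :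
      W ≤ W.comap (MulAut.conj g).toMonoidHom) hv⟩
    rw [index_eq_card] at hdvd
    obtain ⟨y, hy⟩ := exists_prime_orderOf_dvd_card' (G := G ⧸ W) q hdvd
    obtain ⟨x, rfl⟩ := QuotientGroup.mk_surjective y
    obtain ⟨a, m, hm, hxo⟩ := Nat.exists_eq_pow_mul_and_not_dvd (orderOf_pos x).ne' q hq.ne_one
    have hxm : x ^ m ∈ W := hgen _ fun r hr h => by
      have hm0 : m ≠ 0 := fun h0 => hm (h0 ▸ dvd_zero q)
      rw [orderOf_pow_of_dvd hm0 (hxo ▸ dvd_mul_left _ _), hxo,
        Nat.mul_div_cancel _ (Nat.pos_of_ne_zero hm0)] at h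
      rw [(Nat.prime_dvd_prime_iff_eq hr hq).1 (hr.dvd_of_dvd_pow h)]
      exact hqπ.2
    refine hm (hy ▸ orderOf_dvd_of_pow_eq_one ?_)
    rw [← QuotientGroup.mk_pow]
    exact (QuotientGroup.eq_one_iff _).2 hxm
  · intro r hr hdvd
    refine ⟨hr, ?_⟩
    by_contra hle
    haveI := Fact.mk hr
    haveI : Group.IsNilpotent (commutator G) := derived_nilpotent hodd hR
    have hGF : commutator G ≤ Cfsg.fittingSubgroup G := le_fittingSubgroup inferInstance inferInstance
    have hWC : W ≤ centralizer (Cfsg.pCore r G : Set G) := by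
      rw [hW, closure_le]
      intro x hx
      have hle' : zpowers x ≤ centralizer (Cfsg.pCore r G : Set G) := by
        refine CfsgLib.FGSA.le_of_prime_power_mem fun s hs v hv ⟨k, hk⟩ => ?_
        rcases Nat.eq_zero_or_pos k with rfl | hkpos
        · rw [orderOf_eq_one_iff.1 (by rwa [pow_zero] at hk : orderOf v = 1)]; exact one_mem _
        have h1 := orderOf_dvd_natCard (⟨v, hv⟩ : zpowers x)
        rw [← Subgroup.orderOf_coe, Nat.card_zpowers] at h1
        have hps : p < s := hx s hs ((dvd_pow_self s hkpos.ne').trans (hk ▸ h1))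
        exact centralizes_of_large hodd (Cfsg.pCore r G) (isPGroup_pCore r) (hR r hr) hs (by omega) hk
      exact hle' (mem_zpowers x)
    have hrZ : ∀ w : W, ∀ k, orderOf w = r ^ k → w ∈ center W := by
      intro w k hk
      let ab : W →* Abelianization G := Abelianization.of.comp W.subtype
      have hab : W.map (Abelianization.of : G →* _) ≤ largePart (Abelianization G) p := by
        rw [hW, MonoidHom.map_closure, closure_le]
        rintro _ ⟨x, hx, rfl⟩
        exact ⟨isOfFinOrder_of_finite _, fun s hs h => hx s hs (h.trans (orderOf_map_dvd _ x))⟩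
      have h1 : ab w = 1 := by
        by_contra hne
        obtain ⟨i, -, hi⟩ := (Nat.dvd_prime_pow hr).1 (hk ▸ orderOf_map_dvd ab w)
        rcases Nat.eq_zero_or_pos i with rfl | hipos
        · exact hne (orderOf_eq_one_iff.1 (by rwa [pow_zero] at hi))
        · exact hle ((hab (mem_map_of_mem _ w.2)).2 r hr (by
            show r ∣ orderOf (ab w)
            rw [hi]; exact dvd_pow_self r hipos.ne'))
      have hwr : (w : G) ∈ Cfsg.pCore r G :=
        mem_pCore_of_mem_fitting hr (by rw [Subgroup.orderOf_coe]; exact hk)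
          (hGF ((QuotientGroup.eq_one_iff _).1 h1))
      exact mem_center_iff.2 fun v => Subtype.ext (mem_centralizer_iff.1 (hWC v.2) w hwr).symm
    have hn : ¬ r ∣ (center W).index := fun hd => by
      rw [index_eq_card] at hd
      obtain ⟨y, hy⟩ := exists_prime_orderOf_dvd_card' (G := W ⧸ center W) r hd
      obtain ⟨x, rfl⟩ := QuotientGroup.mk_surjective y
      obtain ⟨a, m, hm, hxo⟩ := Nat.exists_eq_pow_mul_and_not_dvd (orderOf_pos x).ne' r hr.ne_one
      have hm0 : m ≠ 0 := fun h0 => hm (h0 ▸ dvd_zero r)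
      have hxm : x ^ m ∈ center W := hrZ _ a (by
        rw [orderOf_pow_of_dvd hm0 (hxo ▸ dvd_mul_left _ _), hxo, Nat.mul_div_cancel _ (Nat.pos_of_ne_zero hm0)])
      refine hm (hy ▸ orderOf_dvd_of_pow_eq_one ?_)
      rw [← QuotientGroup.mk_pow]
      exact (QuotientGroup.eq_one_iff _).2 hxm
    letI : CommGroup (center W) := { (inferInstance : Group (center W)) with mul_comm := IsMulCommutative.is_comm.comm }
    let τ := MonoidHom.transferCenterPow W
    have hτ : ∀ x : W, τ x ∈ largePart (center W) p := by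
      intro x
      have hle2 : (⊤ : Subgroup W) ≤ (largePart (center W) p).comap τ := by
        rw [← closure_closure_coe_preimage (k := π), closure_le]
        intro v hv
        exact ⟨isOfFinOrder_of_finite _, fun s hs h => hv s hs (by
          have h3 := h.trans (orderOf_map_dvd τ v)
          rwa [← Subgroup.orderOf_coe] at h3)⟩
      exact hle2 (mem_top x)
    obtain ⟨w, hw⟩ := exists_prime_orderOf_dvd_card' (G := W) r hdvd
    have hwZ := hrZ w 1 (by rw [hw, pow_one])
    have h2 := (hτ w).2 r hr (by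
      rw [← Subgroup.orderOf_coe]
      show r ∣ orderOf (w ^ (center W).index)
      rw [Nat.Coprime.orderOf_pow (by rw [hw]; exact hr.coprime_iff_not_dvd.2 hn), hw])
    exact hle h2

end CfsgLib.FGSA.RankTwoSolvable
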