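import Cfsg.Agent.FGSA.Metacyclic
import Cfsg.Agent.Solvable.CoprimeAbelian

/-!
Coprime automorphisms of nonabelian metacyclic `p`-groups, `p` odd.
-/

set_option autoImplicit false
set_option linter.style.haveILetI false
set_option linter.unusedSectionVars false

namespace CfsgLib.FGSA.MetacyclicAct

open Subgroup CfsgLib.FGSA.Huppert CfsgLib.FGSA.Metacyclic
open scoped commutatorElement

universe u

variable {R : Type u} [Group R] [Finite R] {p : ℕ} [hp : Fact p.Prime]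

/-- Cosets of invariant normal subgroups fixed by `f` contain fixed points. -/
def CosetFix (f : MulAut R) : Prop :=
  ∀ N : Subgroup R, N.Normal → (∀ x ∈ N, f x ∈ N) → ∀ y : R, y⁻¹ * f y ∈ N → ∃ x, f x = x ∧ y⁻¹ * x ∈ N

/-- A generator of the derived subgroup which is the deepest possible power. -/
structure Frame (p : ℕ) (R : Type u) [Group R] (c w : R) (t : ℕ) : Prop where
  gen : zpowers c = commutator R
  root : w ^ p ^ t = c
  notMem : c ∉ zpowers (c ^ p)
  deep : ∀ u : R, u ^ p ^ (t + 1) ∈ commutator R → u ^ p ^ (t + 1) ∈ zpowers (c ^ p)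

theorem notMem_zpowers_pow (hR : IsPGroup p R) {c : R} (hc : c ≠ 1) : c ∉ zpowers (c ^ p) := by
  intro h
  obtain ⟨k, hk⟩ := mem_zpowers_iff.1 h
  rw [← zpow_natCast, ← zpow_mul] at hk
  have h1 : c ^ ((p : ℤ) * k - 1) = 1 := by rw [zpow_sub, zpow_one, hk, mul_inv_cancel]
  have h2 := orderOf_dvd_iff_zpow_eq_one.2 h1
  obtain ⟨e, he⟩ := IsPGroup.iff_orderOf.1 hR c
  have hpd : (p : ℤ) ∣ (orderOf c : ℤ) := by
    rcases Nat.eq_zero_or_pos e with rfl | hepos
    · exact absurd (orderOf_eq_one_iff.1 (by rwa [pow_zero] at he)) hc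
    · rw [he]; exact Int.natCast_dvd_natCast.2 (dvd_pow_self p hepos.ne')
  have h3 : (p : ℤ) ∣ 1 := by
    have := dvd_sub (dvd_mul_right (p : ℤ) k) (hpd.trans h2)
    simpa using this
  have := Int.le_of_dvd one_pos h3
  have := hp.out.one_lt
  omega

theorem exists_frame (hR : IsPGroup p R) [IsCyclic (commutator R)] (hnab : commutator R ≠ ⊥) :
    ∃ c w : R, ∃ t, Frame p R c w t := by
  classical
  obtain ⟨⟨c₀, hc₀m⟩, hc₀⟩ := IsCyclic.exists_generator (α := commutator R)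
  have hgen : zpowers c₀ = commutator R := by
    refine le_antisymm (zpowers_le.2 hc₀m) fun x hx => ?_
    obtain ⟨k, hk⟩ := mem_zpowers_iff.1 (hc₀ ⟨x, hx⟩)
    exact mem_zpowers_iff.2 ⟨k, congrArg Subtype.val hk⟩
  have hne : c₀ ≠ 1 := fun h => hnab (by rw [← hgen, h, zpowers_one_eq_bot])
  have hnot := notMem_zpowers_pow hR hne
  let Pr : ℕ → Prop := fun t => ∃ x : R, x ^ p ^ t ∈ commutator R ∧ x ^ p ^ t ∉ zpowers (c₀ ^ p)
  have hbound : ∀ t, Pr t → t ≤ Nat.card R := by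
    rintro t ⟨x, -, hx⟩
    by_contra hlt
    obtain ⟨e, he⟩ := IsPGroup.iff_orderOf.1 hR x
    refine hx ?_
    have h1 : p ^ e ≤ Nat.card R := he ▸ Nat.le_of_dvd Nat.card_pos (orderOf_dvd_natCard x)
    have h2 : e ≤ t := by
      have := Nat.lt_pow_self hp.out.one_lt (n := e)
      omega
    have h3 : orderOf x ∣ p ^ t := by rw [he]; exact pow_dvd_pow p h2
    rw [orderOf_dvd_iff_pow_eq_one.1 h3]
    exact one_mem _
  have h0 : Pr 0 := ⟨c₀, by rw [pow_zero, pow_one, ← hgen]; exact mem_zpowers c₀, by rwa [pow_zero, pow_one]⟩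
  obtain ⟨w, hw1, hw2⟩ := Nat.findGreatest_spec (P := Pr) (hbound 0 h0) h0
  set t := Nat.findGreatest Pr (Nat.card R) with ht
  have hmax : ∀ s, Pr s → s ≤ t := fun s hs => Nat.le_findGreatest (hbound s hs) hs
  set c := w ^ p ^ t with hc
  obtain ⟨k, hk⟩ := mem_zpowers_iff.1 (hgen.ge hw1)
  have hco : Int.gcd k (orderOf c₀) = 1 := by
    obtain ⟨e, he⟩ := IsPGroup.iff_orderOf.1 hR c₀
    rw [he, Nat.cast_pow]
    refine Int.isCoprime_iff_gcd_eq_one.1 (IsCoprime.pow_right ?_)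
    refine ((Nat.prime_iff_prime_int.1 hp.out).coprime_iff_not_dvd.2 fun hd => hw2 ?_).symm
    obtain ⟨j, rfl⟩ := hd
    rw [← hk, zpow_mul, zpow_natCast]
    exact mem_zpowers_iff.2 ⟨j, rfl⟩
  obtain ⟨j, hj⟩ : ∃ j : ℤ, c ^ j = c₀ := by
    refine ⟨Int.gcdA k (orderOf c₀), ?_⟩
    have hb := Int.gcd_eq_gcd_ab k (orderOf c₀)
    rw [hco] at hb
    rw [← hk, ← zpow_mul]
    conv_rhs => rw [← zpow_one c₀, show (1 : ℤ) = _ from hb, zpow_add, zpow_mul c₀ (orderOf c₀ : ℤ),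
      zpow_natCast, pow_orderOf_eq_one, one_zpow, mul_one]
  have hgc : zpowers c = commutator R := by
    refine le_antisymm (zpowers_le.2 hw1) ?_
    rw [← hgen, zpowers_le]; exact mem_zpowers_iff.2 ⟨j, hj⟩
  refine ⟨c, w, t, hgc, rfl, notMem_zpowers_pow hR fun h => hw2 (h ▸ one_mem _), fun u hu => ?_⟩
  by_contra hu'
  have : Pr (t + 1) := ⟨u, hu, fun h => hu' (by
    refine (zpowers_le.2 ?_) h
    refine mem_zpowers_iff.2 ⟨j, ?_⟩
    rw [← hj, ← zpow_natCast, ← zpow_natCast (c ^ j), ← zpow_mul, ← zpow_mul, mul_comm])⟩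
  exact absurd (hmax _ this) (by omega)

variable (hp2 : p ≠ 2) (hG : Good p R)
include hp2 hG

theorem mem_powers {x : R} :
    x ∈ Cfsg.powerClosure p 1 (⊤ : Subgroup R) ↔ ∃ u : R, x = u ^ p := by
  rw [Regular.mem_powerClosure_iff hG.isP (hG.law hp2 1)]
  simp

/-- Modulo the `p`-th powers, a nonabelian group is spanned by two elements. -/
theorem Frame.span {c w : R} {t : ℕ} (F : Frame p R c w t) :
    (∃ y : R, y ∉ zpowers w ⊔ Cfsg.powerClosure p 1 (⊤ : Subgroup R)) ∧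
      ∀ y : R, y ∉ zpowers w ⊔ Cfsg.powerClosure p 1 (⊤ : Subgroup R) →
        ∀ x : R, ∃ (i j : ℤ) (z : R), z ∈ Cfsg.powerClosure p 1 (⊤ : Subgroup R) ∧ x = w ^ i * y ^ j * z := by
  set P := Cfsg.powerClosure p 1 (⊤ : Subgroup R) with hP
  haveI : P.Normal := powerClosure_normal 1 ⊤
  obtain ⟨hcm, hpw⟩ := CfsgLib.PGroupBasic.commutator_pow_le_frattini (p := p) hG.isP
  have hPf : P ≤ frattini R := fun x hx => by
    obtain ⟨u, rfl⟩ := (mem_powers hp2 hG).1 hx
    exact hpw u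
  have hwP : w ∉ P := fun hw => by
    obtain ⟨u, rfl⟩ := (mem_powers hp2 hG).1 hw
    have h1 : u ^ p ^ (t + 1) = c := by rw [pow_succ', pow_mul, F.root]
    exact F.notMem (h1 ▸ F.deep u (by rw [h1, ← F.gen]; exact mem_zpowers c))
  obtain ⟨k, hk⟩ := IsPGroup.iff_card.1 (hG.isP.to_quotient P)
  have hk2 : k ≤ 2 := (Nat.pow_le_pow_iff_right hp.out.one_lt).1
    (hk ▸ (index_eq_card P).symm ▸ hG.index_powers_le hp2)
  have hcommQ : ∀ a b : R ⧸ P, a * b = b * a := commutative_le_sq hk hk2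
  constructor
  · by_contra hall
    push Not at hall
    have h1 : zpowers w ⊔ frattini R = ⊤ := top_le_iff.1 fun x _ =>
      (sup_le_sup_left hPf (zpowers w)) (hall x)
    have h2 := frattini_nongenerating h1
    have h3 : commutator R = ⊥ := by
      rw [_root_.commutator_def, ← le_bot_iff, commutator_le]
      intro a _ b _
      rw [mem_bot, commutatorElement_eq_one_iff_mul_comm]
      obtain ⟨i, rfl⟩ := mem_zpowers_iff.1 (h2.ge (mem_top a))
      obtain ⟨j, rfl⟩ := mem_zpowers_iff.1 (h2.ge (mem_top b))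
      exact zpow_mul_comm w i j
    exact F.notMem (by rw [show c = 1 from mem_bot.1 (h3 ▸ F.gen ▸ mem_zpowers c)]; exact one_mem _)
  · intro y hy x
    set q := QuotientGroup.mk' P
    have hmemN : ∀ v : R, q v ∈ zpowers (q w) → v ∈ zpowers w ⊔ P := by
      intro v hv
      obtain ⟨i, hi⟩ := mem_zpowers_iff.1 hv
      rw [← map_zpow] at hi
      rw [show v = w ^ i * ((w ^ i)⁻¹ * v) by rw [mul_inv_cancel_left]]
      exact mul_mem (mem_sup_left (mem_zpowers_iff.2 ⟨i, rfl⟩))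
        (mem_sup_right (QuotientGroup.eq.1 hi))
    have hlt1 : (⊥ : Subgroup (R ⧸ P)) < zpowers (q w) := bot_lt_iff_ne_bot.2 fun h =>
      hwP ((QuotientGroup.eq_one_iff w).1 (zpowers_eq_bot.1 h))
    have hlt2 : zpowers (q w) < zpowers (q w) ⊔ zpowers (q y) :=
      lt_of_le_of_ne le_sup_left fun h => hy (hmemN y (h.ge (mem_sup_right (mem_zpowers _))))
    have e1 := card_mul_le_of_lt (hG.isP.to_quotient P) hlt1
    have e2 := card_mul_le_of_lt (hG.isP.to_quotient P) hlt2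
    rw [card_bot, mul_one] at e1
    have htop : zpowers (q w) ⊔ zpowers (q y) = ⊤ := eq_top_of_le_card _ (by
      rw [hk]
      calc p ^ k ≤ p * p := by rw [← pow_two]; exact Nat.pow_le_pow_right hp.out.pos hk2
        _ ≤ p * Nat.card (zpowers (q w)) := Nat.mul_le_mul_left p e1
        _ ≤ _ := e2)
    letI : CommGroup (R ⧸ P) := { (inferInstance : Group (R ⧸ P)) with mul_comm := hcommQ }
    obtain ⟨a, ha, b, hb, hab⟩ := mem_sup.1 (htop.ge (mem_top (q x)))
    obtain ⟨i, rfl⟩ := mem_zpowers_iff.1 ha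
    obtain ⟨j, rfl⟩ := mem_zpowers_iff.1 hb
    refine ⟨i, j, (w ^ i * y ^ j)⁻¹ * x, ?_, by rw [mul_inv_cancel_left]⟩
    apply QuotientGroup.eq.1
    rw [QuotientGroup.mk_mul, QuotientGroup.mk_zpow, QuotientGroup.mk_zpow]
    exact hab

theorem derived_le {H : Subgroup R} (h : ∀ a b : R, ⁅a, b⁆ ∈ H) : commutator R ≤ H := by
  rw [_root_.commutator_def, commutator_le]
  exact fun a _ b _ => h a b

set_option maxHeartbeats 600000 in
/-- A coprime automorphism centralizing the derived subgroup is trivial. -/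
theorem eq_of_fix_derived (hnab : commutator R ≠ ⊥) (f : MulAut R) (hf : CosetFix f)
    (hfix : ∀ x ∈ commutator R, f x = x) : ∀ x, f x = x := by
  classical
  haveI := hG.cyc
  obtain ⟨c, w₀, t, F₀⟩ := exists_frame hG.isP hnab
  obtain ⟨hcm, hpw⟩ := CfsgLib.PGroupBasic.commutator_pow_le_frattini (p := p) hG.isP
  let Ω : Subgroup R := Regular.torsion hG.isP (hG.law hp2 t)
  have hΩn : Ω.Normal := ⟨fun x hx g => by
    show (g * x * g⁻¹) ^ p ^ t = 1
    rw [conj_pow, show x ^ p ^ t = 1 from hx, mul_one, mul_inv_cancel]⟩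
  obtain ⟨w, hwfix, hw⟩ := hf Ω hΩn (fun x (hx : x ^ p ^ t = 1) => show (f x) ^ p ^ t = 1 by
    rw [← map_pow, hx, map_one]) w₀ (by
    have h1 := (Regular.pow_eq_iff hG.isP (hG.law hp2 t) (f w₀) w₀).1 (by
      rw [← map_pow, F₀.root, hfix c (F₀.gen ▸ mem_zpowers c)])
    show (w₀⁻¹ * f w₀) ^ p ^ t = 1
    have := congrArg (fun z => w₀⁻¹ * z * w₀⁻¹⁻¹) h1
    beta_reduce at this
    rwa [← conj_pow, mul_one, mul_inv_cancel, show w₀⁻¹ * (f w₀ * w₀⁻¹) * w₀⁻¹⁻¹ = w₀⁻¹ * f w₀ by group]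
      at this)
  have F : Frame p R c w t := ⟨F₀.gen, by
    have hw' : (w₀⁻¹ * w) ^ p ^ t = 1 := hw
    rw [← F₀.root]
    refine ((Regular.pow_eq_iff hG.isP (hG.law hp2 t) _ _).2 ?_)
    rw [show w * w₀⁻¹ = w₀ * (w₀⁻¹ * w) * w₀⁻¹ by group, conj_pow, hw', mul_one, mul_inv_cancel],
    F₀.notMem, F₀.deep⟩
  have hconj : ∀ x : R, x * w * x⁻¹ ∈ zpowers w := fun x => by
    rw [show x * w * x⁻¹ = ⁅x, w⁆ * w by simp [commutatorElement_def, mul_assoc]]
    refine mul_mem ?_ (mem_zpowers w)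
    have : commutator R ≤ zpowers w := by
      rw [← F.gen, zpowers_le, ← F.root]; exact pow_mem (mem_zpowers w) _
    exact this (commutator_mem_commutator (mem_top x) (mem_top w))
  let C : Subgroup R := centralizer ({w} : Set R)
  have hC : ∀ {x : R}, x ∈ C ↔ x * w = w * x := fun {x} => mem_centralizer_singleton_iff
  have hCn : C.Normal := ⟨fun x hx g => by
    obtain ⟨k, hk⟩ := mem_zpowers_iff.1 (hconj g⁻¹)
    rw [inv_inv] at hk
    rw [hC] at hx ⊢
    have h1 : x * w ^ k = w ^ k * x := (Commute.zpow_right hx k).eq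
    rw [hk] at h1
    calc g * x * g⁻¹ * w = g * (x * (g⁻¹ * w * g)) * g⁻¹ := by group
      _ = g * (g⁻¹ * w * g * x) * g⁻¹ := by rw [h1]
      _ = _ := by group⟩
  have hCf : ∀ x ∈ C, f x ∈ C := fun x hx => by
    rw [hC] at hx ⊢
    rw [← hwfix, ← map_mul, hx, map_mul]
  set P := Cfsg.powerClosure p 1 (⊤ : Subgroup R)
  have hPf : P ≤ frattini R := fun x hx => by
    obtain ⟨u, rfl⟩ := (mem_powers hp2 hG).1 hx
    exact hpw u
  obtain ⟨-, hrep⟩ := F.span hp2 hG
  have hCle : C ≤ zpowers w ⊔ P := by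
    intro y hy
    by_contra hyN
    have h1 : closure ({w, y} : Set R) ⊔ frattini R = ⊤ := top_le_iff.1 fun x _ => by
      obtain ⟨i, j, z, hz, rfl⟩ := hrep y hyN x
      have hwm : w ∈ closure ({w, y} : Set R) := subset_closure (Set.mem_insert _ _)
      have hym : y ∈ closure ({w, y} : Set R) := subset_closure (Set.mem_insert_of_mem _ (Set.mem_singleton y))
      exact mul_mem (mem_sup_left (mul_mem (Subgroup.zpow_mem _ hwm i) (Subgroup.zpow_mem _ hym j)))
        (mem_sup_right (hPf hz))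
    have h2 := frattini_nongenerating h1
    haveI := isMulCommutative_closure (k := ({w, y} : Set R)) (by
      rintro a (rfl | rfl) b (rfl | rfl)
      · rfl
      · exact (hC.1 hy).symm
      · exact hC.1 hy
      · rfl)
    refine hnab (le_bot_iff.1 (derived_le hp2 hG fun a b => ?_))
    rw [mem_bot, commutatorElement_eq_one_iff_mul_comm]
    exact congrArg Subtype.val
      (IsMulCommutative.is_comm.comm (⟨a, h2.ge (mem_top a)⟩ : closure ({w, y} : Set R))
        ⟨b, h2.ge (mem_top b)⟩)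
  let Fx : Subgroup R :=
    { carrier := {x | f x = x}
      one_mem' := map_one f
      inv_mem' := fun {x} (hx : f x = x) => show f x⁻¹ = x⁻¹ by rw [map_inv, hx]
      mul_mem' := fun {x y} (hx : f x = x) (hy : f y = y) => show f (x * y) = x * y by rw [map_mul, hx, hy] }
  have hall : Fx ⊔ frattini R = ⊤ := top_le_iff.1 fun x _ => by
    have hxC : x⁻¹ * f x ∈ C := by
      rw [hC]
      obtain ⟨k, hk⟩ := mem_zpowers_iff.1 (hconj x)
      have h1 : f x * w * (f x)⁻¹ = x * w * x⁻¹ := by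
        conv_rhs => rw [← hk]
        conv_lhs => rw [← hwfix]
        rw [← map_inv, ← map_mul, ← map_mul, ← hk, map_zpow, hwfix]
      calc x⁻¹ * f x * w = x⁻¹ * (f x * w * (f x)⁻¹) * f x := by group
        _ = x⁻¹ * (x * w * x⁻¹) * f x := by rw [h1]
        _ = _ := by group
    obtain ⟨v, hv, hv'⟩ := hf C hCn hCf x hxC
    have h2 : x⁻¹ * v ∈ Fx ⊔ frattini R :=
      (sup_le (zpowers_le.2 (mem_sup_left (show w ∈ Fx from hwfix))) (hPf.trans le_sup_right)) (hCle hv')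
    have h3 := mul_mem (mem_sup_left (show v ∈ Fx from hv) : v ∈ Fx ⊔ frattini R) (inv_mem h2)
    rwa [show v * (x⁻¹ * v)⁻¹ = x by group] at h3
  intro x
  exact (frattini_nongenerating hall).ge (mem_top x)

set_option maxHeartbeats 1200000 in
/-- A coprime automorphism has a nontrivial fixed point. -/
theorem exists_fixed (hnab : commutator R ≠ ⊥) (f : MulAut R) (hf : CosetFix f) :
    ∃ x ≠ 1, f x = x := by
  classical
  haveI := hG.cyc
  obtain ⟨c, w, t, F⟩ := exists_frame hG.isP hnab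
  set P := Cfsg.powerClosure p 1 (⊤ : Subgroup R) with hPdef
  haveI hPn : P.Normal := powerClosure_normal 1 ⊤
  set M := zpowers (c ^ p) with hMdef
  have hMn : M.Normal := ⟨fun x hx g => by
    obtain ⟨k, rfl⟩ := mem_zpowers_iff.1 hx
    obtain ⟨j, hj⟩ := mem_zpowers_iff.1
      (F.gen.ge ((inferInstance : (commutator R).Normal).conj_mem c (F.gen ▸ mem_zpowers c) g))
    refine mem_zpowers_iff.2 ⟨j * k, ?_⟩
    rw [← conj_zpow, ← conj_pow, ← hj, ← zpow_natCast, ← zpow_natCast, ← zpow_mul, ← zpow_mul, ← zpow_mul]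
    congr 1; ring⟩
  have hMle : M ≤ commutator R := by
    rw [hMdef, zpowers_le, ← F.gen]; exact pow_mem (mem_zpowers c) _
  set q := QuotientGroup.mk' M with hq
  have hq1 : ∀ v, q v = 1 ↔ v ∈ M := fun v => QuotientGroup.eq_one_iff v
  have hqc : q c ≠ 1 := fun h => F.notMem ((hq1 c).1 h)
  have hcp : (q c) ^ p = 1 := by rw [← map_pow]; exact (hq1 _).2 (mem_zpowers _)
  have hord : orderOf (q c) = p := orderOf_eq_prime hcp hqc
  set D := (commutator R).map q with hD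
  haveI : D.Normal := Subgroup.Normal.map inferInstance q (QuotientGroup.mk'_surjective M)
  have hDc : Nat.card D ≤ p := by
    rw [hD, ← F.gen, MonoidHom.map_zpowers, Nat.card_zpowers, hord]
  have hDz : D ≤ center (R ⧸ M) := le_center_of_card_le (hG.isP.to_quotient M) D hDc
  have hcomD : ∀ a b : R ⧸ M, ⁅a, b⁆ ∈ D := by
    intro a b
    obtain ⟨a, rfl⟩ := QuotientGroup.mk'_surjective M a
    obtain ⟨b, rfl⟩ := QuotientGroup.mk'_surjective M b
    rw [← map_commutatorElement]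
    exact mem_map_of_mem _ (commutator_mem_commutator (mem_top a) (mem_top b))
  let K : R ⧸ M → (R ⧸ M →* R ⧸ M) := fun b => MonoidHom.mk' (fun a => ⁅a, b⁆) fun a₁ a₂ => by
    rw [commutatorElement_mul_left_eq_conj_mul,
      mem_center_iff.1 (hDz (hcomD a₂ b)) a₁, mul_inv_cancel_right,
      ← mem_center_iff.1 (hDz (hcomD a₁ b))]
  have hKp : ∀ a b : R ⧸ M, ⁅a, b⁆ ^ p = 1 := fun a b => by
    obtain ⟨v, hv, e⟩ := hcomD a b
    obtain ⟨k, rfl⟩ := mem_zpowers_iff.1 (F.gen.ge hv)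
    rw [← e, map_zpow, ← zpow_natCast, ← zpow_mul, mul_comm, zpow_mul, zpow_natCast, hcp, one_zpow]
  have hPcen : ∀ z ∈ P, ∀ b : R ⧸ M, ⁅q z, b⁆ = 1 := fun z hz b => by
    obtain ⟨u, rfl⟩ := (mem_powers hp2 hG).1 hz
    rw [map_pow]
    show K b (q u ^ p) = 1
    rw [map_pow]
    exact hKp _ _
  obtain ⟨g, hg⟩ : ∃ g : R →* R ⧸ M, ∀ x, g x = q (x ^ p ^ t) := by
    refine ⟨MonoidHom.mk' (fun x => q (x ^ p ^ t)) fun a b => ?_, fun x => rfl⟩
    rcases t with _ | s
    · simp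
    obtain ⟨d, hd, e⟩ := hG.law hp2 (s + 1) a b
    have hd' : d ∈ M := by
      refine ((closure_le _).2 ?_ : Cfsg.powerClosure p (s + 1) _ ≤ M) hd
      rintro _ ⟨v, hv, rfl⟩
      have hv' : v ∈ commutator R := by
        rw [_root_.commutator_def]; exact commutator_mono le_top le_top hv
      obtain ⟨k, rfl⟩ := mem_zpowers_iff.1 (F.gen.ge hv')
      refine mem_zpowers_iff.2 ⟨k * (p : ℤ) ^ s, ?_⟩
      rw [← zpow_natCast, ← zpow_natCast, ← zpow_mul, ← zpow_mul]
      congr 1; push_cast; ring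
    rw [e, map_mul, (hq1 d).2 hd', mul_one, map_mul]
  have hgP : ∀ z ∈ P, g z ∈ D → g z = 1 := fun z hz hzD => by
    obtain ⟨u, rfl⟩ := (mem_powers hp2 hG).1 hz
    rw [hg, ← pow_mul, ← pow_succ'] at hzD ⊢
    obtain ⟨v, hv, e⟩ := hzD
    refine (hq1 _).2 (F.deep u ?_)
    have h1 := mul_mem hv (hMle (QuotientGroup.eq.1 e))
    rwa [mul_inv_cancel_left] at h1
  have hgw : g w = q c := by rw [hg, F.root]
  obtain ⟨d, hd⟩ : ∃ d : ℤ, c ^ d = f c := mem_zpowers_iff.1 (F.gen.ge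
    (characteristic_iff_le_comap.1 (inferInstance : (commutator R).Characteristic) f
      (F.gen ▸ mem_zpowers c : c ∈ commutator R) : f c ∈ commutator R))
  have hfD : ∀ v ∈ commutator R, q (f v) = q v ^ d := fun v hv => by
    obtain ⟨k, rfl⟩ := mem_zpowers_iff.1 (F.gen.ge hv)
    rw [map_zpow, ← hd, ← zpow_mul, ← map_zpow, ← zpow_mul, mul_comm]
  have hMf : ∀ v ∈ M, f v ∈ M := fun v hv => by
    refine (hq1 _).1 ?_
    rw [hfD v (hMle hv), (hq1 v).2 hv, one_zpow]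
  have hdp : ¬ (p : ℤ) ∣ d := fun h => by
    obtain ⟨e, rfl⟩ := h
    have h1 : f c ∈ M := by
      rw [← hd, zpow_mul, zpow_natCast]; exact mem_zpowers_iff.2 ⟨e, rfl⟩
    have hle : (commutator R).map f.toMonoidHom ≤ M := by
      rw [← F.gen, MonoidHom.map_zpowers, zpowers_le]; exact h1
    have hcard := card_le_of_le hle
    rw [card_map_of_injective (f := f.toMonoidHom) f.injective] at hcard
    exact F.notMem ((eq_of_le_of_card_ge hMle hcard).ge (F.gen ▸ mem_zpowers c))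
  have hdvd : ∀ {a : R ⧸ M}, orderOf a = p → ∀ {i j : ℤ}, a ^ i = a ^ j → (p : ℤ) ∣ i - j :=
    fun {a} ha {i j} h => by rw [← ha]; exact orderOf_dvd_iff_zpow_eq_one.2 (by rw [zpow_sub, h, mul_inv_cancel])
  have hgf : ∀ x, g x = 1 → g (f x) = 1 := fun x hx => by
    rw [hg] at hx ⊢
    rw [← map_pow]
    exact (hq1 _).2 (hMf _ ((hq1 _).1 hx))
  have hgfw : g (f w) = q c ^ d := by rw [hg, ← map_pow, F.root, hfD c (F.gen ▸ mem_zpowers c)]
  have hqcD : ∀ k : ℤ, q c ^ k ∈ D := fun k => zpow_mem (mem_map_of_mem _ (F.gen ▸ mem_zpowers c)) k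
  obtain ⟨⟨y₁, hy₁⟩, hrep⟩ := F.span hp2 hG
  set N₁ := zpowers w ⊔ P with hN₁
  have hwN : w ∈ N₁ := mem_sup_left (mem_zpowers w)
  have hgN : ∀ x, g x = q (x ^ p ^ t) := hg
  have hpowP : ∀ (x : R) (l : ℤ), (p : ℤ) ∣ l → x ^ l ∈ P := fun x l ⟨e, he⟩ => by
    rw [he, mul_comm, zpow_mul, zpow_natCast]; exact pow_mem_top_powerClosure _
  have hzp : ∀ (a : R ⧸ M), a ^ p = 1 → ∀ l : ℤ, (p : ℤ) ∣ l → a ^ l = 1 := fun a ha l ⟨e, he⟩ => by
    rw [he, zpow_mul, zpow_natCast, ha, one_zpow]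
  -- the commutator of a basis
  have hbasis : ∀ y, y ∉ N₁ → orderOf ⁅q w, q y⁆ = p := fun y hy => by
    refine orderOf_eq_prime (hKp _ _) fun h1 => hqc ?_
    have hce : ∀ x, q x * q w = q w * q x ∧ q x * q y = q y * q x := fun x => by
      obtain ⟨i, j, z, hz, rfl⟩ := hrep y hy x
      refine ⟨commutatorElement_eq_one_iff_mul_comm.1 ?_, commutatorElement_eq_one_iff_mul_comm.1 ?_⟩
      · show K (q w) (q (w ^ i * y ^ j * z)) = 1
        simp only [map_mul, map_zpow]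
        show ⁅q w, q w⁆ ^ i * ⁅q y, q w⁆ ^ j * ⁅q z, q w⁆ = 1
        rw [commutatorElement_self, one_zpow, hPcen z hz, ← commutatorElement_inv (q w), h1, inv_one,
          one_zpow, one_mul, one_mul]
      · show K (q y) (q (w ^ i * y ^ j * z)) = 1
        simp only [map_mul, map_zpow]
        show ⁅q w, q y⁆ ^ i * ⁅q y, q y⁆ ^ j * ⁅q z, q y⁆ = 1
        rw [commutatorElement_self, h1, hPcen z hz, one_zpow, one_zpow, one_mul, one_mul]
    have : commutator R ≤ M := derived_le hp2 hG fun a b => (hq1 _).1 (by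
      rw [map_commutatorElement, commutatorElement_eq_one_iff_mul_comm]
      obtain ⟨i, j, z, hz, rfl⟩ := hrep y hy b
      have hz' := commutatorElement_eq_one_iff_mul_comm.1 (hPcen z hz (q a))
      simp only [map_mul, map_zpow]
      exact ((Commute.zpow_right (hce a).1 i).mul_right (Commute.zpow_right (hce a).2 j)).mul_right hz'.symm)
    exact (hq1 c).2 (this (F.gen ▸ mem_zpowers c))
  -- a coset fixed modulo an invariant normal subgroup
  suffices key : ∃ (N : Subgroup R) (y : R),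
      N.Normal ∧ (∀ x ∈ N, f x ∈ N) ∧ y ∉ N ∧ y⁻¹ * f y ∈ N by
    obtain ⟨N, y, hn, hi, hy, hy'⟩ := key
    obtain ⟨x, hx, hx'⟩ := hf N hn hi y hy'
    refine ⟨x, fun h => hy ?_, hx⟩
    subst h
    rwa [mul_one, inv_mem_iff] at hx'
  have hPinv : ∀ x ∈ P, f x ∈ P := fun x hx => by
    obtain ⟨u, rfl⟩ := (mem_powers hp2 hG).1 hx
    rw [map_pow]; exact pow_mem_top_powerClosure _
  by_cases hcase : ∃ y, y ∉ N₁ ∧ g y ∈ D
  · obtain ⟨y, hy, hgy⟩ := hcase
    obtain ⟨v, hv, hvy⟩ := hgy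
    obtain ⟨e, rfl⟩ := mem_zpowers_iff.1 (F.gen.ge hv)
    set y₀ := y * w ^ (-e) with hy₀
    have hy₀N : y₀ ∉ N₁ := fun h => hy (by
      have h' := mul_mem h (zpow_mem hwN e)
      rwa [hy₀, mul_assoc, ← zpow_add, neg_add_cancel, zpow_zero, mul_one] at h')
    have hgy₀ : g y₀ = 1 := by
      rw [hy₀, map_mul, map_zpow, hgw, ← hvy, map_zpow, ← zpow_add, add_neg_cancel, zpow_zero]
    obtain ⟨i, j, z, hz, hfw⟩ := hrep y₀ hy₀N (f w)
    have hgz : g z = 1 := by
      refine hgP z hz ?_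
      have := hgfw
      rw [hfw, map_mul, map_mul, map_zpow, map_zpow, hgw, hgy₀, one_zpow, mul_one] at this
      rw [eq_inv_mul_of_mul_eq this]
      exact mul_mem (inv_mem (hqcD i)) (hqcD d)
    have hid : (p : ℤ) ∣ i - d := by
      refine hdvd hord ?_
      have := hgfw
      rwa [hfw, map_mul, map_mul, map_zpow, map_zpow, hgw, hgy₀, one_zpow, mul_one, hgz, mul_one] at this
    obtain ⟨k, l, z', hz', hfy⟩ := hrep y₀ hy₀N (f y₀)
    have h0 := hgf y₀ hgy₀
    rw [hfy, map_mul, map_mul, map_zpow, map_zpow, hgw, hgy₀, one_zpow, mul_one] at h0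
    have hgz' : g z' = 1 := by
      refine hgP z' hz' ?_
      rw [eq_inv_mul_of_mul_eq h0, mul_one]
      exact inv_mem (hqcD k)
    rw [hgz', mul_one] at h0
    have hk : (p : ℤ) ∣ k := by
      have := hdvd hord (i := k) (j := 0) (by rw [h0, zpow_zero])
      simpa using this
    have hkey : (⁅q w, q y₀⁆) ^ (i * l) = ⁅q w, q y₀⁆ ^ d := by
      conv_rhs => rw [← map_commutatorElement, ← hfD _ (commutator_mem_commutator (mem_top _) (mem_top _)),
        map_commutatorElement, map_commutatorElement, hfw, hfy]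
      symm
      show K (q (w ^ k * y₀ ^ l * z')) (q (w ^ i * y₀ ^ j * z)) = _
      simp only [map_mul, map_zpow]
      show ⁅q w, q (w ^ k * y₀ ^ l * z')⁆ ^ i * ⁅q y₀, q (w ^ k * y₀ ^ l * z')⁆ ^ j *
        ⁅q z, q (w ^ k * y₀ ^ l * z')⁆ = _
      have e1 : ∀ a, ⁅a, q (w ^ k * y₀ ^ l * z')⁆ = ⁅a, q y₀⁆ ^ l := fun a => by
        rw [← commutatorElement_inv]
        have e : K a (q (w ^ k * y₀ ^ l * z')) = ⁅q y₀, a⁆ ^ l := by
          simp only [map_mul, map_zpow]
          show ⁅q w, a⁆ ^ k * ⁅q y₀, a⁆ ^ l * ⁅q z', a⁆ = _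
          rw [hzp _ (hKp _ _) k hk, hPcen z' hz', one_mul, mul_one]
        rw [show ⁅q (w ^ k * y₀ ^ l * z'), a⁆ = ⁅q y₀, a⁆ ^ l from e, ← inv_zpow, commutatorElement_inv]
      rw [e1, e1, e1, commutatorElement_self, hPcen z hz]
      simp only [one_zpow, mul_one]
      rw [← zpow_mul, mul_comm l i]
    have hl : (p : ℤ) ∣ l - 1 := by
      have h1 := hdvd (hbasis y₀ hy₀N) hkey
      have h2 : (p : ℤ) ∣ d * (l - 1) := by
        rw [show d * (l - 1) = (i * l - d) - (i - d) * l by ring]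
        exact dvd_sub h1 (dvd_mul_of_dvd_left hid l)
      exact ((Int.prime_iff_natAbs_prime.2 (by simpa using hp.out)).dvd_mul.1 h2).resolve_left hdp
    refine ⟨P, y₀, hPn, hPinv, fun h => hy₀N (mem_sup_right h), ?_⟩
    rw [hfy, show y₀⁻¹ * (w ^ k * y₀ ^ l * z') =
      (y₀⁻¹ * w ^ k * y₀⁻¹⁻¹) * y₀ ^ (l - 1) * z' by group]
    exact mul_mem (mul_mem (hPn.conj_mem _ (hpowP w k hk) _) (hpowP y₀ _ hl)) hz'
  · push Not at hcase
    obtain ⟨i, j, z, hz, hfw⟩ := hrep y₁ hy₁ (f w)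
    have hyz : y₁ ^ j * z ∈ N₁ := by
      by_contra h
      refine hcase _ h ?_
      have := hgfw
      rw [hfw, mul_assoc, map_mul, map_zpow, hgw] at this
      rw [eq_inv_mul_of_mul_eq this]
      exact mul_mem (inv_mem (hqcD i)) (hqcD d)
    have hfwN : f w ∈ N₁ := by rw [hfw, mul_assoc]; exact mul_mem (zpow_mem hwN _) hyz
    have hNmem : ∀ x ∈ N₁, ∃ (m : ℤ) (z : R), z ∈ P ∧ x = w ^ m * z := fun x hx => by
      obtain ⟨a, ha, b, hb, e⟩ := mem_sup_of_normal_right.1 hx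
      obtain ⟨m, rfl⟩ := mem_zpowers_iff.1 ha
      exact ⟨m, b, hb, e.symm⟩
    obtain ⟨i', z₀, hz₀, hfw'⟩ := hNmem _ hfwN
    have hgz : g z₀ = 1 := by
      refine hgP z₀ hz₀ ?_
      have := hgfw
      rw [hfw', map_mul, map_zpow, hgw] at this
      rw [eq_inv_mul_of_mul_eq this]
      exact mul_mem (inv_mem (hqcD i')) (hqcD d)
    have hid : (p : ℤ) ∣ i' - d := by
      refine hdvd hord ?_
      have := hgfw
      rwa [hfw', map_mul, map_zpow, hgw, hgz, mul_one] at this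
    obtain ⟨k, l, z', hz', hfy⟩ := hrep y₁ hy₁ (f y₁)
    have hkey : (⁅q w, q y₁⁆) ^ (i' * l) = ⁅q w, q y₁⁆ ^ d := by
      conv_rhs => rw [← map_commutatorElement, ← hfD _ (commutator_mem_commutator (mem_top _) (mem_top _)),
        map_commutatorElement, map_commutatorElement, hfw', hfy]
      symm
      show K (q (w ^ k * y₁ ^ l * z')) (q (w ^ i' * z₀)) = _
      simp only [map_mul, map_zpow]
      show ⁅q w, q (w ^ k * y₁ ^ l * z')⁆ ^ i' * ⁅q z₀, q (w ^ k * y₁ ^ l * z')⁆ = _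
      have e1 : ⁅q w, q (w ^ k * y₁ ^ l * z')⁆ = ⁅q w, q y₁⁆ ^ l := by
        rw [← commutatorElement_inv]
        have e : K (q w) (q (w ^ k * y₁ ^ l * z')) = ⁅q y₁, q w⁆ ^ l := by
          simp only [map_mul, map_zpow]
          show ⁅q w, q w⁆ ^ k * ⁅q y₁, q w⁆ ^ l * ⁅q z', q w⁆ = _
          rw [commutatorElement_self, one_zpow, hPcen z' hz', one_mul, mul_one]
        rw [show ⁅q (w ^ k * y₁ ^ l * z'), q w⁆ = ⁅q y₁, q w⁆ ^ l from e, ← inv_zpow, commutatorElement_inv]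
      rw [e1, hPcen z₀ hz₀, mul_one, ← zpow_mul, mul_comm l i']
    have hl : (p : ℤ) ∣ l - 1 := by
      have h1 := hdvd (hbasis y₁ hy₁) hkey
      have h2 : (p : ℤ) ∣ d * (l - 1) := by
        rw [show d * (l - 1) = (i' * l - d) - (i' - d) * l by ring]
        exact dvd_sub h1 (dvd_mul_of_dvd_left hid l)
      exact ((Int.prime_iff_natAbs_prime.2 (by simpa using hp.out)).dvd_mul.1 h2).resolve_left hdp
    have hcP : commutator R ≤ N₁ := by
      rw [← F.gen, zpowers_le, ← F.root]; exact pow_mem hwN _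
    have hN₁n : N₁.Normal := ⟨fun x hx g => by
      rw [show g * x * g⁻¹ = ⁅g, x⁆ * x by simp [commutatorElement_def, mul_assoc]]
      exact mul_mem (hcP (commutator_mem_commutator (mem_top g) (mem_top x))) hx⟩
    refine ⟨N₁, y₁, hN₁n, fun x hx => ?_, hy₁, ?_⟩
    · obtain ⟨m, z, hz, rfl⟩ := hNmem x hx
      rw [map_mul, map_zpow]
      exact mul_mem (zpow_mem hfwN m) (mem_sup_right (hPinv z hz))
    · rw [hfy, show y₁⁻¹ * (w ^ k * y₁ ^ l * z') =
        (y₁⁻¹ * w ^ k * y₁⁻¹⁻¹) * y₁ ^ (l - 1) * z' by group]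
      exact mul_mem (mul_mem (hN₁n.conj_mem _ (zpow_mem hwN k) _) (mem_sup_right (hpowP y₁ _ hl)))
        (mem_sup_right hz')

end CfsgLib.FGSA.MetacyclicAct

namespace CfsgLib.FGSA.MetacyclicAct

open Subgroup CfsgLib.FGSA.Huppert CfsgLib.FGSA.Metacyclic
open scoped commutatorElement

open Pointwise CfsgLib.Solvable CfsgLib.SZ

variable {G : Type*} [Group G] [Finite G] {p : ℕ} [hp : Fact p.Prime]

/-- Two nontrivial subgroups of a cyclic `p`-group meet. -/
theorem cyclic_inf_ne_bot {V X Y : Subgroup G} (hV : IsCyclic V) (hVp : IsPGroup p V) (hX : X ≤ V)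
    (hY : Y ≤ V) (hX1 : X ≠ ⊥) (hY1 : Y ≠ ⊥) : X ⊓ Y ≠ ⊥ := by
  have key : ∀ H : Subgroup G, H ≤ V → H ≠ ⊥ → ∃ x ∈ H, orderOf x = p := by
    intro H hH h1
    obtain ⟨e, he⟩ := IsPGroup.iff_card.1 (hVp.to_le hH)
    have he0 : e ≠ 0 := fun h => h1 (eq_bot_of_card_eq _ (by rw [he, h, pow_zero]))
    obtain ⟨x, hx⟩ := exists_prime_orderOf_dvd_card' (G := H) p (he ▸ dvd_pow_self p he0)
    exact ⟨x, x.2, by rw [orderOf_coe, hx]⟩
  obtain ⟨x, hxX, hx⟩ := key X hX hX1
  obtain ⟨y, hyY, hy⟩ := key Y hY hY1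
  haveI := hV
  letI : CommGroup V := IsCyclic.commGroup
  have hK : ∀ v : V, (v : G) ∈ zpowers x ⊔ zpowers y → (v : G) ^ p = 1 := by
    intro v hv
    have hle : zpowers x ⊔ zpowers y ≤ ((powMonoidHom p : V →* V).ker).map V.subtype := by
      refine sup_le ?_ ?_ <;> rw [zpowers_le]
      · exact ⟨⟨x, hX hxX⟩, MonoidHom.mem_ker.2 (Subtype.ext (show x ^ p = 1 from hx ▸ pow_orderOf_eq_one x)), rfl⟩
      · exact ⟨⟨y, hY hyY⟩, MonoidHom.mem_ker.2 (Subtype.ext (show y ^ p = 1 from hy ▸ pow_orderOf_eq_one y)), rfl⟩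
    obtain ⟨w, hw, e⟩ := hle hv
    rw [← e]
    exact congrArg Subtype.val (MonoidHom.mem_ker.1 hw)
  set K := zpowers x ⊔ zpowers y with hKdef
  have hKV : K ≤ V := sup_le (zpowers_le.2 (hX hxX)) (zpowers_le.2 (hY hyY))
  haveI : IsCyclic K := isCyclic_of_injective (inclusion hKV) (inclusion_injective hKV)
  obtain ⟨g, hg⟩ := IsCyclic.exists_ofOrder_eq_natCard (α := K)
  have hc : Nat.card K ≤ p := hg ▸ orderOf_le_of_pow_eq_one hp.out.pos
    (Subtype.ext (hK ⟨g, hKV g.2⟩ g.2))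
  have e1 : zpowers x = K := eq_of_le_of_card_ge le_sup_left (by rw [Nat.card_zpowers, hx]; exact hc)
  intro h
  have hyx : y ∈ zpowers x := e1 ▸ mem_sup_right (mem_zpowers y)
  have h1 : y ∈ X ⊓ Y := ⟨zpowers_le.2 hxX hyx, hyY⟩
  rw [h, mem_bot] at h1
  rw [h1, orderOf_one] at hy
  exact hp.out.ne_one hy.symm

/-- A noncyclic subgroup contains all the elements of order `p`. -/
theorem mem_of_noncyclic (hp2 : p ≠ 2) {R S : Subgroup G} (hR : IsPGroup p R) (hs : SmallOmega p R)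
    (hSR : S ≤ R) (hnc : ¬ IsCyclic S) {x : G} (hx : x ∈ R) (hxp : x ^ p = 1) : x ∈ S := by
  obtain ⟨U, -, hU, hU2⟩ := RankTwoOdd.exists_data hp2 (hR.to_le hSR) hnc
  set U' := U.map (inclusion hSR) with hU'
  have hle : U' ≤ Cfsg.omegaOne p (⊤ : Subgroup R) := by
    rintro _ ⟨u, hu, rfl⟩
    exact subset_closure ⟨mem_top _, by rw [← map_pow, hU.2 u hu, map_one]⟩
  have heq : U' = Cfsg.omegaOne p (⊤ : Subgroup R) := eq_of_le_of_card_ge hle (by
    rw [hU', card_map_of_injective (inclusion_injective hSR), hU2]; exact hs)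
  have hxm : (⟨x, hx⟩ : R) ∈ Cfsg.omegaOne p (⊤ : Subgroup R) :=
    subset_closure ⟨mem_top _, Subtype.ext hxp⟩
  obtain ⟨u, -, hu⟩ := heq.ge hxm
  have : (u : G) = x := congrArg Subtype.val hu
  exact this ▸ u.2

/-- The action of a normalizing subgroup on `R`. -/
abbrev act {R A : Subgroup G} (hA : A ≤ normalizer (R : Set G)) : A →* MulAut R :=
  (normalizerMonoidHom R).comp (inclusion hA)

theorem cosetFix {R A : Subgroup G} (hR : IsPGroup p R) (hA : A ≤ normalizer (R : Set G))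
    (hcop : (Nat.card A).Coprime p) (a : A) : CosetFix (act hA a) := by
  intro N hN hinv y hy
  set N' := N.map R.subtype with hN'
  set A₁ := zpowers (a : G) with hA₁
  have hA1A : A₁ ≤ A := zpowers_le.2 a.2
  obtain ⟨e, he⟩ := IsPGroup.iff_card.1 hR
  have hconj : ∀ x ∈ N', (a : G) * x * (a : G)⁻¹ ∈ N' := by
    rintro _ ⟨v, hv, rfl⟩
    exact ⟨act hA a v, hinv v hv, rfl⟩
  have hnorm : (a : G) ∈ normalizer (N' : Set G) := by
    rw [← conj_smul_eq_iff_mem_normalizer]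
    refine eq_of_le_of_card_ge ?_ (card_conj_smul _ _).ge
    intro x hx
    rw [mem_conj_smul] at hx
    have := hconj _ hx
    simpa [mul_assoc] using this
  have hsolv : Group.IsSolvable N' := by
    haveI := (hR.to_le (map_subtype_le N) : IsPGroup p N').isNilpotent
    exact IsNilpotent.to_isSolvable
  have hy' : (y : G)⁻¹ * ((a : G) * y * (a : G)⁻¹) ∈ N' := ⟨_, hy, rfl⟩
  have hfix : ∀ b ∈ A₁, (y : G)⁻¹ * (b * y * b⁻¹) ∈ N' := by
    intro b hb
    obtain ⟨n, rfl⟩ : ∃ n : ℕ, (a : G) ^ n = b :=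
      ((isOfFinOrder_of_finite (a : G)).mem_powers_iff_mem_zpowers.2 hb)
    induction n with
    | zero => simp
    | succ n ih =>
      have h1 := hconj _ (ih (pow_mem (mem_zpowers _) n))
      have h2 := mul_mem hy' h1
      rw [pow_succ']
      rw [show (y : G)⁻¹ * ((a : G) * (a : G) ^ n * y * ((a : G) * (a : G) ^ n)⁻¹) =
        (y : G)⁻¹ * ((a : G) * y * (a : G)⁻¹) *
          ((a : G) * ((y : G)⁻¹ * ((a : G) ^ n * y * ((a : G) ^ n)⁻¹)) * (a : G)⁻¹) by group]
      exact h2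
  obtain ⟨c, hc, hc'⟩ := CfsgLib.CoprimeAct.exists_centralizing_mem_coset (A := A₁) (hA1A.trans hA)
    (by rw [he]; exact ((Nat.Coprime.coprime_dvd_left (card_dvd_of_le hA1A) hcop).pow_right e))
    (map_subtype_le N) (zpowers_le.2 hnorm) (Or.inr hsolv) y.2 hfix
  refine ⟨⟨c, hc.1⟩, Subtype.ext ?_, ?_⟩
  · have := mem_centralizer_iff.1 hc.2 a (mem_zpowers _)
    show (a : G) * c * (a : G)⁻¹ = c
    rw [this, mul_inv_cancel_right]
  · obtain ⟨v, hv, hve⟩ := hc'
    have h5 : y⁻¹ * (⟨c, hc.1⟩ : R) = v := Subtype.ext hve.symm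
    rw [h5]; exact hv

/-- Coprime action on a metacyclic `p`-group. -/
theorem main (hp2 : p ≠ 2) {R A : Subgroup G} (hR : IsPGroup p R) (hRm : Cfsg.IsMetacyclic R)
    (hA : A ≤ normalizer (R : Set G)) (hcop : (Nat.card A).Coprime p) :
    IsMulCommutative ↥⁅R, A⁆ ∧ ⁅R, A⁆ ⊔ (R ⊓ centralizer (A : Set G)) = R ∧
      ⁅R, A⁆ ⊓ (R ⊓ centralizer (A : Set G)) = ⊥ ∧
      (¬ IsMulCommutative R → ¬ A ≤ centralizer (R : Set G) →
        ⁅R, A⁆ ≠ ⊥ ∧ IsCyclic ↥⁅R, A⁆ ∧ (R ⊓ centralizer (A : Set G)) ≠ ⊥ ∧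
          IsCyclic ↥(R ⊓ centralizer (A : Set G)) ∧ ⁅R, R⁆ ≤ ⁅R, A⁆) := by
  classical
  obtain ⟨e, he⟩ := IsPGroup.iff_card.1 hR
  have hcop' : (Nat.card A).Coprime (Nat.card R) := he ▸ hcop.pow_right e
  haveI := hR.isNilpotent
  have hRs : Group.IsSolvable R := IsNilpotent.to_isSolvable
  set D := ⁅R, A⁆ with hD
  set C := R ⊓ centralizer (A : Set G) with hC
  have hDR : D ≤ R := le_normalizer_iff_commutator_le_left.1 hA
  have hsup : D ⊔ C = R := CfsgLib.CoprimeAct.commutator_sup_centralizer hA hcop' (Or.inr hRs)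
  by_cases hRab : IsMulCommutative R
  · haveI := hRab
    refine ⟨⟨⟨fun a b => Subtype.ext (congrArg Subtype.val
      (hRab.is_comm.comm ⟨a, hDR a.2⟩ ⟨b, hDR b.2⟩) :)⟩⟩, hsup, ?_, fun h => absurd hRab h⟩
    rw [inf_comm]
    exact CfsgLib.CoprimeAct.fixed_inf_commutator_abelian hA hcop'
  by_cases hAR : A ≤ centralizer (R : Set G)
  · have hD1 : D = ⊥ := commutator_eq_bot_iff_le_centralizer.2 (le_centralizer_iff.1 hAR)
    refine ⟨by rw [hD1]; infer_instance, hsup, by rw [hD1, bot_inf_eq], fun _ h => absurd hAR h⟩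
  have hG : Good p R := good_of_metacyclic hp2 hR hRm
  haveI := hG.cyc
  have hnab : commutator R ≠ ⊥ := fun h => hRab ⟨⟨fun a b => commutatorElement_eq_one_iff_mul_comm.1
    (mem_bot.1 (h ▸ commutator_mem_commutator (mem_top a) (mem_top b)))⟩⟩
  set φ := act hA with hφ
  have htriv : ∀ (b : A), (∀ x ∈ commutator R, φ b x = x) → φ b = 1 := fun b hb =>
    MulEquiv.ext (eq_of_fix_derived hp2 hG hnab (φ b) (cosetFix hR hA hcop b) hb)
  set V := ⁅R, R⁆ with hV
  have hVR : V ≤ R := commutator_le_self R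
  have hVmap : (commutator R).map R.subtype = V := Subgroup.map_subtype_commutator R
  have hVc : IsCyclic V := by
    rw [← hVmap]
    exact ((commutator R).equivMapOfInjective _ R.subtype_injective).isCyclic.1 inferInstance
  haveI := hVc
  haveI : IsMulCommutative V := ⟨⟨(IsCyclic.commGroup (α := V)).mul_comm⟩⟩
  have hAV : A ≤ normalizer (V : Set G) := fun a ha => by
    rw [← conj_smul_eq_iff_mem_normalizer]
    refine eq_of_le_of_card_ge ?_ (card_conj_smul _ _).ge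
    intro x hx
    rw [mem_conj_smul, ← hVmap] at hx
    obtain ⟨v, hv, e⟩ := hx
    have hv2 : φ ⟨a, ha⟩ v ∈ commutator R :=
      characteristic_iff_le_comap.1 (inferInstance : (commutator R).Characteristic) (φ ⟨a, ha⟩) hv
    have h := mem_map_of_mem R.subtype hv2
    rw [hVmap] at h
    have e' : (v : G) = a⁻¹ * x * a := e
    have h' : a * (v : G) * a⁻¹ ∈ V := h
    rwa [e', show a * (a⁻¹ * x * a) * a⁻¹ = x by group] at h'
  have hVp : IsPGroup p V := hR.to_le hVR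
  have hcopV : (Nat.card A).Coprime (Nat.card V) := hcop'.coprime_dvd_right (card_dvd_of_le hVR)
  have hVA : ⁅V, A⁆ ≠ ⊥ := fun h => hAR (fun a ha => by
    refine mem_centralizer_iff.2 fun x hx => ?_
    have hb : φ ⟨a, ha⟩ = 1 := htriv _ fun v hv => by
      have h1 := commutatorElement_eq_one_iff_mul_comm.1 (mem_bot.1 (h ▸ commutator_mem_commutator
        (hVmap ▸ mem_map_of_mem _ hv : (v : G) ∈ V) ha))
      apply Subtype.ext
      show a * v * a⁻¹ = v
      rw [← h1, mul_inv_cancel_right]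
    have h3 := congrArg Subtype.val (DFunLike.congr_fun hb (⟨x, hx⟩ : R))
    have h2 : a * x * a⁻¹ = x := h3
    exact (mul_inv_eq_iff_eq_mul.1 h2).symm)
  have hVC : V ⊓ centralizer (A : Set G) = ⊥ := by
    by_contra hne
    refine cyclic_inf_ne_bot hVc hVp inf_le_left (le_normalizer_iff_commutator_le_left.1 hAV) hne hVA ?_
    exact CfsgLib.CoprimeAct.fixed_inf_commutator_abelian hAV hcopV
  have hVD : V ≤ D := by
    have h1 := CfsgLib.CoprimeAct.commutator_sup_centralizer hAV hcopV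
      (CfsgLib.CoprimeAct.solvable_or hVR (Or.inr hRs))
    rw [hVC, sup_bot_eq] at h1
    exact h1.ge.trans (commutator_mono hVR le_rfl)
  have hDC : D ⊓ C = ⊥ := by
    haveI := Fintype.ofFinite A
    let F : R →* Abelianization R := ∏ b : A, Abelianization.of.comp (φ b).toMonoidHom
    have hF : ∀ v, F v = ∏ b : A, Abelianization.of (φ b v) := fun v => MonoidHom.finsetProd_apply _ _ v
    have hinv : ∀ (b : A) (v : R), F (φ b v) = F v := fun b v => by
      rw [hF, hF]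
      refine (Finset.prod_congr rfl fun a _ => ?_).trans
        (Equiv.prod_comp (Equiv.mulRight b) fun a => Abelianization.of (φ a v))
      rw [Equiv.coe_mulRight, map_mul]; rfl
    have hker : D ≤ F.ker.map R.subtype := by
      rw [hD, commutator_le]
      intro v hv a ha
      refine ⟨⟨v, hv⟩ * (φ ⟨a, ha⟩ ⟨v, hv⟩)⁻¹, ?_, ?_⟩
      · rw [SetLike.mem_coe, MonoidHom.mem_ker, map_mul, map_inv, hinv, mul_inv_cancel]
      · show v * (a * v * a⁻¹)⁻¹ = ⁅v, a⁆
        simp [commutatorElement_def, mul_assoc]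
    rw [eq_bot_iff]
    rintro x ⟨hxD, hxR, hxA⟩
    obtain ⟨v, hv, rfl⟩ := hker hxD
    have hfix : ∀ b : A, φ b v = v := fun b => by
      apply Subtype.ext
      show (b : G) * v * (b : G)⁻¹ = v
      have h : (b : G) * v = v * b := mem_centralizer_iff.1 hxA b b.2
      rw [h, mul_inv_cancel_right]
    have h1 : Abelianization.of v ^ Nat.card A = 1 := by
      have h : F v = 1 := hv
      rwa [hF, Finset.prod_congr rfl (fun b _ => by rw [hfix b]), Finset.prod_const, Finset.card_univ,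
        ← Nat.card_eq_fintype_card] at h
    have h2 : Abelianization.of v = 1 := orderOf_eq_one_iff.1 (Nat.eq_one_of_dvd_coprimes hcop'
      (orderOf_dvd_of_pow_eq_one h1) ((orderOf_map_dvd _ v).trans (orderOf_dvd_natCard v)))
    have h3 : v ∈ commutator R := (QuotientGroup.eq_one_iff v).1 h2
    have h4 : (v : G) ∈ V ⊓ centralizer (A : Set G) := ⟨hVmap ▸ mem_map_of_mem _ h3, hxA⟩
    rwa [hVC] at h4
  have hD0 : D ≠ ⊥ := fun h => hAR (le_centralizer_iff.1 (commutator_eq_bot_iff_le_centralizer.1 h))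
  have hC0 : C ≠ ⊥ := by
    let ρ : MulAut R →* MulAut (commutator R) := MonoidHom.mk' (fun f =>
      { toFun := fun x => ⟨f x, characteristic_iff_le_comap.1 inferInstance f x.2⟩
        invFun := fun x => ⟨f.symm x, characteristic_iff_le_comap.1 inferInstance f.symm x.2⟩
        left_inv := fun x => Subtype.ext (f.symm_apply_apply _)
        right_inv := fun x => Subtype.ext (f.apply_symm_apply _)
        map_mul' := fun x y => Subtype.ext (map_mul f _ _) }) fun f g => rfl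
    obtain ⟨n, hn⟩ := IsPGroup.iff_card.1 (hR.to_subgroup (commutator R))
    haveI : IsCyclic (MulAut (commutator R)) := by
      have hu : IsCyclic (ZMod (Nat.card (commutator R)))ˣ := by
        rw [hn]; exact ZMod.isCyclic_units_of_prime_pow p hp.out hp2 n
      exact (IsCyclic.mulAutMulEquiv (commutator R)).isCyclic.2 hu
    obtain ⟨⟨_, a, rfl⟩, ha⟩ := IsCyclic.exists_generator (α := (ρ.comp φ).range)
    obtain ⟨x, hx1, hx⟩ := exists_fixed hp2 hG hnab (φ a) (cosetFix hR hA hcop a)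
    intro hbot
    refine hx1 (Subtype.ext (mem_bot.1 (hbot ▸ ⟨x.2, mem_centralizer_iff.2 fun b hb => ?_⟩)))
    obtain ⟨k, hk⟩ := mem_zpowers_iff.1 (ha ⟨_, ⟨b, hb⟩, rfl⟩)
    have hk' : ρ (φ a) ^ k = ρ (φ ⟨b, hb⟩) := congrArg Subtype.val hk
    have h1 : φ (⟨b, hb⟩ * (a ^ k)⁻¹) = 1 := htriv _ fun v hv => by
      have h2 : ρ (φ (⟨b, hb⟩ * (a ^ k)⁻¹)) = 1 := by
        rw [map_mul, map_mul, map_inv, map_inv, map_zpow, map_zpow, hk', mul_inv_cancel]
      exact congrArg Subtype.val (DFunLike.congr_fun h2 ⟨v, hv⟩)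
    have h3 : φ ⟨b, hb⟩ = φ a ^ k := by
      rw [← mul_inv_eq_one, ← map_zpow, ← map_inv, ← map_mul]; exact h1
    have hxk : ∀ k : ℤ, (φ a ^ k) x = x := by
      have hmem : φ a ∈ MulAction.stabilizer (MulAut R) x := hx
      exact fun k => zpow_mem hmem k
    have h4 : b * (x : G) * b⁻¹ = x := congrArg Subtype.val (show φ ⟨b, hb⟩ x = x by rw [h3, hxk])
    exact mul_inv_eq_iff_eq_mul.1 h4
  have hcyc : ∀ S T : Subgroup G, S ≤ R → T ≤ R → S ⊓ T = ⊥ → T ≠ ⊥ → IsCyclic S := by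
    intro S T hS hT hST hT0
    by_contra hnc
    obtain ⟨f, hf⟩ := IsPGroup.iff_card.1 (hR.to_le hT)
    have hf0 : f ≠ 0 := fun h => hT0 (eq_bot_of_card_eq _ (by rw [hf, h, pow_zero]))
    obtain ⟨x, hx⟩ := exists_prime_orderOf_dvd_card' (G := T) p (hf ▸ dvd_pow_self p hf0)
    have hxS := mem_of_noncyclic hp2 hR hG.small hS hnc (hT x.2)
      (by rw [← hx, ← orderOf_coe]; exact pow_orderOf_eq_one _)
    have h1 : (x : G) ∈ S ⊓ T := ⟨hxS, x.2⟩
    rw [hST, mem_bot] at h1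
    rw [Subtype.ext (h1.trans (Subgroup.coe_one T).symm), orderOf_one] at hx
    exact hp.out.ne_one hx.symm
  have hDcyc : IsCyclic D := hcyc D C hDR inf_le_left hDC hC0
  haveI := hDcyc
  exact ⟨⟨⟨(IsCyclic.commGroup (α := D)).mul_comm⟩⟩, hsup, hDC, fun _ _ =>
    ⟨hD0, hDcyc, hC0, hcyc C D inf_le_left hDR (by rwa [inf_comm]) hD0, hVD⟩⟩

end CfsgLib.FGSA.MetacyclicAct
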