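import Cfsg.Agent.FGSA.Blackburn
import Cfsg.Agent.FGSA.RankTwoAut
import Cfsg.Agent.FGSA.MetacyclicAct

/-!
Odd operator groups on `p`-groups of rank two, `p` odd.
-/

set_option autoImplicit false
set_option linter.style.haveILetI false
set_option linter.unusedSectionVars false

namespace CfsgLib.FGSA.RankTwoOperator

open Subgroup CfsgLib.FGSA.Huppert
open scoped commutatorElement

universe u

variable {R : Type u} [Group R] [Finite R] {p : ℕ} [hp : Fact p.Prime]

theorem orderOf_eq_of_pow {z : R} {n : ℕ} (hn : 3 ≤ n) (hz : z ^ p ^ (n - 2) = 1)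
    (hne : z ^ p ^ (n - 3) ≠ 1) : orderOf z = p ^ (n - 2) := by
  have h := orderOf_eq_prime_pow (p := p) (n := n - 3) hne (by rwa [show n - 3 + 1 = n - 2 by omega])
  rwa [show n - 3 + 1 = n - 2 by omega] at h

theorem comm_aux₂ {A : Type*} [CommGroup A] (u v w s t : A) :
    u * v * w * (s * t) = v * (w * t) * (u * s) := by
  simp [mul_comm, mul_left_comm]

/-- The central product of an extraspecial group of exponent `p` and a cyclic group. -/
theorem central_type (hp2 : p ≠ 2) (hR : IsPGroup p R)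
    (hrk : ∀ E : Subgroup R, Cfsg.IsElementaryAbelian p E → Nat.card E ≤ p ^ 2)
    (hnab : ¬ IsMulCommutative R) {n : ℕ} (hn : 3 ≤ n) {x y z : R}
    (hgen : closure ({x, y, z} : Set R) = ⊤) (hxp : x ^ p = 1) (hyp : y ^ p = 1)
    (hzp : z ^ p ^ (n - 2) = 1) (hxz : x * z = z * x) (hyz : y * z = z * y)
    (hrel : x⁻¹ * y * x = y * z ^ p ^ (n - 3)) :
    ∃ R₁ R₂ : Subgroup R, R₁ ⊔ R₂ = ⊤ ∧ (∀ a ∈ R₁, ∀ b ∈ R₂, a * b = b * a) ∧
      ¬ IsMulCommutative R₁ ∧ Nat.card R₁ = p ^ 3 ∧ Monoid.exponent R₁ = p ∧ IsCyclic R₂ ∧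
      closure {v : R | v ∈ R₂ ∧ v ^ p = 1} = ⁅R₁, R₁⁆ := by
  classical
  set c := z ^ p ^ (n - 3) with hc
  have hzc : z ∈ center R := by
    have h : closure ({x, y, z} : Set R) ≤ centralizer ({z} : Set R) := by
      rw [closure_le]
      rintro a (rfl | rfl | rfl) <;> rw [SetLike.mem_coe, mem_centralizer_singleton_iff]
      · exact hxz
      · exact hyz
    rw [hgen] at h
    exact mem_center_iff.2 fun g => mem_centralizer_singleton_iff.1 (h (mem_top g))
  have hcc : c ∈ center R := pow_mem hzc _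
  set C := zpowers c with hC
  haveI hCn : C.Normal := ⟨fun v hv g => by
    have : v ∈ center R := (zpowers_le.2 hcc) hv
    rw [mem_center_iff.1 this g, mul_inv_cancel_right]; exact hv⟩
  have hyx : y * x = x * y * c := by
    rw [mul_assoc x, ← hrel]; group
  have hpair : ∀ a ∈ ({x, y, z} : Set R), ∀ b ∈ ({x, y, z} : Set R), ⁅a, b⁆ ∈ C := by
    have hxy : ⁅y, x⁆ ∈ C := by
      rw [show ⁅y, x⁆ = x * y * c * (x * y)⁻¹ by rw [← hyx, commutatorElement_def]; group]
      exact hCn.conj_mem _ (mem_zpowers c) _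
    have h1 : ∀ a, ⁅a, z⁆ ∈ C := fun a => by
      rw [commutatorElement_eq_one_iff_mul_comm.2 (mem_center_iff.1 hzc a)]; exact one_mem C
    have h2 : ∀ a, ⁅z, a⁆ ∈ C := fun a => by rw [← commutatorElement_inv]; exact inv_mem (h1 a)
    rintro a (rfl | rfl | rfl) b (rfl | rfl | rfl)
    all_goals first
      | exact h1 _
      | exact h2 _
      | exact hxy
      | (rw [← commutatorElement_inv]; exact inv_mem hxy)
      | (rw [commutatorElement_self]; exact one_mem C)
  have hder : commutator R ≤ C := by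
    refine Normal.quotient_commutative_iff_commutator_le.1 ⟨⟨fun a b => ?_⟩⟩
    have htop : closure ((QuotientGroup.mk' C) '' ({x, y, z} : Set R)) = ⊤ := by
      rw [← MonoidHom.map_closure, hgen, map_top_of_surjective _ (QuotientGroup.mk'_surjective C)]
    haveI := isMulCommutative_closure (k := (QuotientGroup.mk' C) '' ({x, y, z} : Set R)) (by
      rintro _ ⟨u, hu, rfl⟩ _ ⟨v, hv, rfl⟩
      rw [← commutatorElement_eq_one_iff_mul_comm, ← map_commutatorElement]
      exact (QuotientGroup.eq_one_iff _).2 (hpair u hu v hv))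
    exact congrArg Subtype.val (IsMulCommutative.is_comm.comm
      (⟨a, htop.ge (mem_top a)⟩ : Subgroup.closure _) ⟨b, htop.ge (mem_top b)⟩)
  haveI : IsCyclic C := inferInstance
  have hcyc : IsCyclic (commutator R) := isCyclic_of_injective (inclusion hder) (inclusion_injective hder)
  have hlaw : Regular.PowLaw p 1 R := regular_law hR (isRegular_of_cyclic_commutator hp2 hR hcyc)
  set E := closure ({x, y} : Set R) with hE
  have hexp : ∀ e ∈ E, e ^ p = 1 := by
    have hle : E ≤ Regular.torsion hR hlaw := by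
      rw [hE, closure_le]
      rintro e (rfl | rfl)
      · show e ^ p ^ 1 = 1; rwa [pow_one]
      · show e ^ p ^ 1 = 1; rwa [pow_one]
    intro e he
    have h : e ^ p ^ 1 = 1 := hle he
    rwa [pow_one] at h
  have hxE : x ∈ E := subset_closure (Set.mem_insert _ _)
  have hyE : y ∈ E := subset_closure (Set.mem_insert_of_mem _ (Set.mem_singleton y))
  have hc1 : c ≠ 1 := fun h => hnab ⟨⟨fun a b => by
    rw [← commutatorElement_eq_one_iff_mul_comm]
    have := hder (commutator_mem_commutator (mem_top a) (mem_top b))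
    rwa [hC, h, zpowers_one_eq_bot, mem_bot] at this⟩⟩
  have hcE : c ∈ ⁅E, E⁆ := by
    rw [show c = ⁅y⁻¹, x⁻¹⁆ by rw [commutatorElement_def, inv_inv, inv_inv, mul_assoc, mul_assoc, ← mul_assoc x⁻¹, hrel, inv_mul_cancel_left]]
    exact commutator_mem_commutator (inv_mem hyE) (inv_mem hxE)
  have hEnab : ¬ IsMulCommutative E := fun h => hc1 (by
    have h0 : ⁅E, E⁆ = ⊥ := by
      rw [← le_bot_iff, commutator_le]
      intro a ha b hb
      rw [mem_bot, commutatorElement_eq_one_iff_mul_comm]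
      exact congrArg Subtype.val (h.is_comm.comm ⟨a, ha⟩ ⟨b, hb⟩)
    rwa [h0, mem_bot] at hcE)
  have hcp : c ^ p = 1 := by rw [hc, ← pow_mul, ← pow_succ, show n - 3 + 1 = n - 2 by omega, hzp]
  have hcard : Nat.card E = p ^ 3 := by
    obtain ⟨k, hk⟩ := IsPGroup.iff_card.1 (hR.to_subgroup E)
    have hle : Nat.card E ≤ p ^ 3 := by
      refine CfsgLib.RankTwo.card_le_cube_of_exponent (fun e => Subtype.ext (hexp e e.2)) fun F hF => ?_
      rw [← card_map_of_injective (K := F) E.subtype_injective]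
      refine hrk _ ⟨?_, ?_⟩
      · haveI := hF.1
        infer_instance
      · rintro _ ⟨a, ha, rfl⟩
        rw [← map_pow, hF.2 a ha, map_one]
    have h3 : 3 ≤ k := by
      by_contra hlt
      exact hEnab ⟨⟨commutative_le_sq hk (by omega)⟩⟩
    exact le_antisymm hle (hk ▸ Nat.pow_le_pow_right hp.out.pos h3)
  refine ⟨E, zpowers z, ?_, ?_, hEnab, hcard, ?_, inferInstance, ?_⟩
  · rw [← top_le_iff, ← hgen, closure_le]
    rintro a (rfl | rfl | rfl)
    · exact mem_sup_left hxE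
    · exact mem_sup_left hyE
    · exact mem_sup_right (mem_zpowers a)
  · intro a _ b hb
    exact mem_center_iff.1 (zpowers_le.2 hzc hb) a
  · refine ((Nat.dvd_prime hp.out).1 (Monoid.exponent_dvd_of_forall_pow_eq_one fun e => Subtype.ext (hexp e e.2))).resolve_left ?_
    intro h
    haveI : Subsingleton E := Monoid.exp_eq_one_iff.1 h
    exact hEnab ⟨⟨fun a b => Subsingleton.elim _ _⟩⟩
  · refine le_antisymm ?_ (le_trans ?_ (zpowers_le.2 (subset_closure ⟨pow_mem (mem_zpowers z) _, hcp⟩)))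
    · rw [closure_le]
      rintro v ⟨hv, hvp⟩
      obtain ⟨k, rfl⟩ := mem_zpowers_iff.1 hv
      rw [← zpow_natCast, ← zpow_mul, ← orderOf_dvd_iff_zpow_eq_one, orderOf_eq_of_pow hn hzp hc1,
        show n - 2 = n - 3 + 1 by omega, pow_succ, Nat.cast_mul] at hvp
      obtain ⟨j, rfl⟩ := (mul_dvd_mul_iff_right (Nat.cast_ne_zero.2 hp.out.ne_zero)).1 hvp
      rw [SetLike.mem_coe, zpow_mul, zpow_natCast]
      exact zpow_mem hcE j
    · exact (le_trans (commutator_mono le_top le_top) (_root_.commutator_def R ▸ hder))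

set_option maxHeartbeats 1200000 in
/-- No odd operator group spans the groups with an abelian maximal subgroup of class three. -/
theorem class_three_type {n : ℕ} (hn : 4 ≤ n) (hcardR : Nat.card R = p ^ n) {x y z : R} {s : ℕ}
    (hs : ¬ (p ∣ s)) (hgen : closure ({x, y, z} : Set R) = ⊤) (hxp : x ^ p = 1) (hyp : y ^ p = 1)
    (hzp : z ^ p ^ (n - 2) = 1) (hyz : y * z = z * y)
    (hrely : x⁻¹ * y * x = y * z ^ (s * p ^ (n - 3))) (hrelz : x⁻¹ * z * x = y * z) :
    ∃ M : Subgroup R, M ≠ ⊤ ∧ ∀ f : MulAut R, Odd (orderOf f) → ∀ r : R, r⁻¹ * f r ∈ M := by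
  classical
  set c := z ^ p ^ (n - 3) with hc
  have hzs : z ^ (s * p ^ (n - 3)) = c ^ s := by rw [hc, ← pow_mul, mul_comm]
  rw [hzs] at hrely
  set M := closure ({y, z} : Set R) with hM
  have hyM : y ∈ M := subset_closure (Set.mem_insert _ _)
  have hzM : z ∈ M := subset_closure (Set.mem_insert_of_mem _ (Set.mem_singleton z))
  have hcM : c ∈ M := pow_mem hzM _
  haveI hMc : IsMulCommutative M := isMulCommutative_closure (by
    rintro a (rfl | rfl) b (rfl | rfl)
    · rfl
    · exact hyz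
    · exact hyz.symm
    · rfl)
  have hMcomm : ∀ a ∈ M, ∀ b ∈ M, a * b = b * a := fun a ha b hb =>
    congrArg Subtype.val (IsMulCommutative.is_comm.comm (⟨a, ha⟩ : M) ⟨b, hb⟩)
  let σ : R →* R := (MulAut.conj x⁻¹).toMonoidHom
  have hσ : ∀ v, σ v = x⁻¹ * v * x := fun v => by simp [σ]
  have hσy : σ y = y * c ^ s := by rw [hσ, hrely]
  have hσz : σ z = y * z := by rw [hσ, hrelz]
  have hσc : σ c = c := by
    obtain ⟨r, hr⟩ : ∃ r, p ^ (n - 3) = p * r := dvd_pow_self p (by omega)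
    rw [hc, map_pow, hσz, (show Commute y z from hyz).mul_pow, hr, pow_mul, hyp, one_pow, one_mul]
  have hMmap : M.map σ ≤ M := by
    rw [hM, MonoidHom.map_closure, closure_le]
    rintro _ ⟨a, (rfl | rfl), rfl⟩
    · rw [hσy]; exact mul_mem hyM (pow_mem hcM s)
    · rw [hσz]; exact mul_mem hyM hzM
  have hMn : M.Normal := by
    rw [← normalizer_eq_top_iff, ← top_le_iff, ← hgen, closure_le]
    have hnm : ∀ a ∈ M, a ∈ normalizer (M : Set R) := fun a ha => le_normalizer ha
    rintro a (rfl | rfl | rfl)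
    · rw [SetLike.mem_coe, ← inv_mem_iff, mem_normalizer_iff_map_conj_eq]
      exact eq_of_le_of_card_ge hMmap (card_map_of_injective (MulAut.conj a⁻¹).injective).ge
    · exact hnm _ hyM
    · exact hnm _ hzM
  haveI := hMn
  -- index
  have hquo : ∀ r : R, ∃ i : ℕ, i < p ∧ ∃ m ∈ M, r = x ^ i * m := by
    intro r
    have h : zpowers x ⊔ M = ⊤ := top_le_iff.1 (hgen ▸ (closure_le _).2 (by
      rintro a (rfl | rfl | rfl)
      · exact mem_sup_left (mem_zpowers a)
      · exact mem_sup_right hyM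
      · exact mem_sup_right hzM))
    obtain ⟨a, ha, m, hm, e⟩ := mem_sup_of_normal_right.1 (h.ge (mem_top r))
    obtain ⟨k, rfl⟩ := mem_zpowers_iff.1 ha
    refine ⟨(k % (p : ℤ)).toNat, ?_, m, hm, ?_⟩
    · have := Int.emod_lt_of_pos k (Int.natCast_pos.2 hp.out.pos)
      have := Int.emod_nonneg k (Int.natCast_ne_zero.2 hp.out.ne_zero)
      omega
    · rw [← zpow_natCast, Int.toNat_of_nonneg (Int.emod_nonneg _ (Int.natCast_ne_zero.2 hp.out.ne_zero)),
        ← e]
      congr 1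
      conv_lhs => rw [← Int.emod_add_mul_ediv k p, zpow_add, zpow_mul, zpow_natCast, hxp, one_zpow, mul_one]
  have hindex : M.index ≤ p := by
    rw [index_eq_card]
    have hsurj : Function.Surjective fun i : Fin p => ((x ^ (i : ℕ) : R) : R ⧸ M) := by
      intro q
      obtain ⟨r, rfl⟩ := QuotientGroup.mk_surjective q
      obtain ⟨i, hi, m, hm, rfl⟩ := hquo r
      exact ⟨⟨i, hi⟩, QuotientGroup.eq.2 (by rwa [inv_mul_cancel_left])⟩
    exact (Nat.card_le_card_of_surjective _ hsurj).trans (by rw [Nat.card_eq_fintype_card, Fintype.card_fin])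
  have hord : orderOf z = p ^ (n - 2) ∧ M ≠ ⊤ := by
    have hy0 : orderOf y ≤ p := orderOf_le_of_pow_eq_one hp.out.pos hyp
    have hMcard : Nat.card M ≤ p * orderOf z := by
      have hle : M ≤ zpowers y ⊔ zpowers z := by
        rw [hM, closure_le]
        rintro a (rfl | rfl)
        · exact mem_sup_left (mem_zpowers a)
        · exact mem_sup_right (mem_zpowers a)
      have hnor : zpowers y ≤ normalizer ((zpowers z : Subgroup R) : Set R) := by
        rw [zpowers_le, mem_normalizer_iff]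
        intro v
        constructor
        · intro hv
          obtain ⟨k, rfl⟩ := mem_zpowers_iff.1 hv
          rw [(Commute.zpow_right hyz k).eq, mul_inv_cancel_right]; exact hv
        · intro hv
          obtain ⟨k, hk⟩ := mem_zpowers_iff.1 hv
          have h2 : v = y⁻¹ * z ^ k * y := by rw [hk]; group
          rw [h2, mul_assoc, ← (Commute.zpow_right hyz k).eq, inv_mul_cancel_left]
          exact mem_zpowers_iff.2 ⟨k, rfl⟩
      calc Nat.card M ≤ Nat.card ↥(zpowers y ⊔ zpowers z) := card_le_of_le hle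
        _ ≤ Nat.card (zpowers y) * Nat.card (zpowers z) := by
            show Nat.card ↥((zpowers y ⊔ zpowers z : Subgroup R) : Set R) ≤ _
            rw [coe_mul_of_left_le_normalizer_right _ _ hnor]
            exact Set.natCard_mul_le
        _ ≤ _ := by rw [Nat.card_zpowers, Nat.card_zpowers]; exact Nat.mul_le_mul_right _ hy0
    have hzle : orderOf z ≤ p ^ (n - 2) := orderOf_le_of_pow_eq_one (pow_pos hp.out.pos _) hzp
    have h1 : p ^ n ≤ p * orderOf z * p := by
      rw [← hcardR, ← M.card_mul_index]; exact Nat.mul_le_mul hMcard hindex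
    have hpn : p ^ n = p * p ^ (n - 2) * p := by
      rw [← pow_succ', ← pow_succ]; congr 1; omega
    refine ⟨le_antisymm hzle (Nat.le_of_mul_le_mul_left (Nat.le_of_mul_le_mul_right (hpn ▸ h1) hp.out.pos) hp.out.pos), fun h => ?_⟩
    rw [h, card_top, hcardR, hpn] at hMcard
    have h2 : p * p ^ (n - 2) * p ≤ p * p ^ (n - 2) := hMcard.trans (Nat.mul_le_mul_left p hzle)
    have h3 := Nat.le_of_mul_le_mul_left (h2.trans (mul_one _).ge) (Nat.mul_pos hp.out.pos (pow_pos hp.out.pos _))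
    exact absurd h3 (not_le.2 hp.out.one_lt)
  obtain ⟨hordz, hMtop⟩ := hord
  have hc1 : c ≠ 1 := fun h => by
    have := orderOf_dvd_of_pow_eq_one h
    rw [hordz, Nat.pow_dvd_pow_iff_le_right hp.out.one_lt] at this
    omega
  have hordc : orderOf c = p := orderOf_eq_prime (by
    rw [hc, ← pow_mul, ← pow_succ, show n - 3 + 1 = n - 2 by omega, hzp]) hc1
  have hcs : c ^ s ≠ 1 := fun h => hs (hordc ▸ orderOf_dvd_of_pow_eq_one h)
  have hxM : x ∉ M := fun h => hMtop (top_le_iff.1 (hgen ▸ (closure_le _).2 (by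
    rintro a (rfl | rfl | rfl) <;> assumption)))
  have hindp : M.index = p := by
    obtain ⟨k, hk⟩ := (IsPGroup.of_card hcardR).index M
    rcases k with _ | _ | k
    · exact absurd (index_eq_one.1 (by rw [hk, pow_zero])) hMtop
    · rwa [pow_one] at hk
    · rw [hk] at hindex
      exact absurd hindex (not_le.2 (lt_self_pow₀ hp.out.one_lt (by omega)))
  refine ⟨M, hMtop, fun f hodd => ?_⟩
  -- invariance
  have hfM : ∀ v ∈ M, f v ∈ M := by
    by_contra hcon
    set M' := M.map f.toMonoidHom with hM'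
    have hne : M' ≠ M := fun h => hcon fun v hv => h ▸ mem_map_of_mem _ hv
    have hi' : M'.index = p := by
      rw [← hindp]; exact index_map_equiv M f
    have hMmax : ∀ N : Subgroup R, N.index = p → IsCoatom N := fun N hN => by
      refine ⟨fun h => hp.out.ne_one (by rw [← hN, h, index_top]), fun K hK => ?_⟩
      have h1 : K.index ∣ p := hN ▸ index_dvd_of_le hK.le
      rcases (Nat.dvd_prime hp.out).1 h1 with h | h
      · exact index_eq_one.1 h
      · exact absurd (eq_of_le_of_card_ge hK.le (by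
          refine Nat.le_of_mul_le_mul_right ?_ hp.out.pos
          nth_rw 1 [← h]; rw [K.card_mul_index, ← hN, N.card_mul_index])) hK.ne
    have hsup : M ⊔ M' = ⊤ := (hMmax M hindp).2 _ (lt_of_le_of_ne le_sup_left fun h => hne
      (((hMmax M' hi').le_iff.1 (h ▸ le_sup_right)).resolve_left hMtop).symm)
    have hcen : M ⊓ M' ≤ center R := fun v hv => mem_center_iff.2 fun g => by
      have : M ⊔ M' ≤ centralizer ({v} : Set R) := by
        refine sup_le (fun a ha => mem_centralizer_singleton_iff.2 (hMcomm a ha v hv.1)) ?_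
        rintro _ ⟨a, ha, rfl⟩
        obtain ⟨b, hb, hbv⟩ := hv.2
        rw [mem_centralizer_singleton_iff, ← hbv, ← map_mul, ← map_mul, hMcomm a ha b hb]
      exact mem_centralizer_singleton_iff.1 (this (hsup ▸ mem_top g))
    obtain ⟨m', hm', hm'M⟩ : ∃ m' ∈ M', m' ∉ M := SetLike.not_le_iff_exists.1 fun h => hMtop (by
      rw [← hsup, sup_eq_left.2 h])
    have hM'n : M'.Normal := hMn.map _ f.surjective
    have hy' : y ∈ center R := by
      obtain ⟨i, hi, m, hm, e⟩ := hquo m'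
      have hcz : ∀ v ∈ M, ⁅m', v⁆ ∈ center R := fun v hv => hcen (mem_inf.2 ⟨by
        rw [commutatorElement_def]; exact mul_mem (hMn.conj_mem v hv m') (inv_mem hv), by
        rw [commutatorElement_def, mul_assoc, mul_assoc, ← mul_assoc v]
        exact mul_mem hm' (hM'n.conj_mem _ (inv_mem hm') v)⟩)
      have hx' : ⁅x⁻¹, z⁆ = y := by
        rw [commutatorElement_def, inv_inv, hrelz, mul_inv_cancel_right]
      have hZ : (center R).Normal := inferInstance
      set q := QuotientGroup.mk' (center R)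
      have h1 : ∀ v ∈ M, Commute (q m') (q v) := fun v hv => by
        rw [commute_iff_eq, ← commutatorElement_eq_one_iff_mul_comm, ← map_commutatorElement]
        exact (QuotientGroup.eq_one_iff _).2 (hcz v hv)
      have h2 : Commute (q (x ^ i)) (q z) := by
        have h3 : Commute (q m') (q z) := h1 z hzM
        rw [e, map_mul] at h3
        have h4 : Commute (q m)⁻¹ (q z) := Commute.inv_left (by
          show q m * q z = q z * q m
          rw [← map_mul, ← map_mul, hMcomm m hm z hzM])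
        have := h3.mul_left h4
        rwa [mul_inv_cancel_right] at this
      have hicop : Nat.Coprime i p := (hp.out.coprime_iff_not_dvd.2 fun hd => by
        rcases Nat.eq_zero_or_pos i with rfl | hipos
        · exact hm'M (by rw [e, pow_zero, one_mul]; exact hm)
        · exact absurd (Nat.le_of_dvd hipos hd) (by omega)).symm
      obtain ⟨j, hj⟩ := Nat.exists_mul_mod_eq_one_of_coprime hicop hp.out.one_lt
      have hxe : (x ^ i) ^ j = x := by
        rw [← pow_mul, ← Nat.mod_add_div (i * j) p, hj.2, pow_add, pow_one, pow_mul, hxp, one_pow, mul_one]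
      have h5 : Commute (q x) (q z) := by rw [← hxe, map_pow]; exact h2.pow_left j
      rw [← hx', ← QuotientGroup.eq_one_iff]
      show q ⁅x⁻¹, z⁆ = 1
      rw [map_commutatorElement, commutatorElement_eq_one_iff_mul_comm, map_inv]
      exact h5.inv_left.eq
    refine hcs ?_
    have := hrely
    rwa [mul_assoc, mem_center_iff.1 hy' x |>.symm, inv_mul_cancel_left, left_eq_mul] at this
  -- conjugation by powers of `x`
  have hT : ∀ i : ℕ, σ^[i] y = y * c ^ (s * i) ∧ ∃ e : ℕ, σ^[i] z = z * y ^ i * c ^ e := by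
    intro i
    induction i with
    | zero => exact ⟨by simp, 0, by simp⟩
    | succ i ih =>
      obtain ⟨h1, e, h2⟩ := ih
      refine ⟨?_, s * i + e, ?_⟩
      · rw [Function.iterate_succ_apply', h1, map_mul, map_pow, hσy, hσc, mul_assoc, ← pow_add]
        congr 2; ring
      · rw [Function.iterate_succ_apply', h2, map_mul, map_mul, map_pow, map_pow, hσy, hσz, hσc,
          (show Commute y (c ^ s) from hMcomm y hyM _ (pow_mem hcM s)).mul_pow, ← pow_mul, ← hMcomm z hzM y hyM,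
          pow_add c, pow_succ' y i]
        simp only [mul_assoc]
  have hTi : ∀ (i : ℕ) (v : R), σ^[i] v = (x ^ i)⁻¹ * v * x ^ i := by
    intro i
    induction i with
    | zero => simp
    | succ i ih => intro v; rw [Function.iterate_succ_apply', ih, hσ, pow_succ]; group
  letI : CommGroup M := { (inferInstance : Group M) with mul_comm := IsMulCommutative.is_comm.comm }
  obtain ⟨i, hip, m, hm, hfx⟩ := hquo (f x)
  obtain ⟨k₁, k₂, hfz⟩ : ∃ k₁ k₂ : ℤ, f z = z ^ k₁ * y ^ k₂ := by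
    have h := hfM z hzM
    have hle : M ≤ (zpowers (⟨z, hzM⟩ : M) ⊔ zpowers (⟨y, hyM⟩ : M)).map M.subtype := by
      refine hM.le.trans ((closure_le _).2 ?_)
      rintro a (rfl | rfl)
      · exact ⟨⟨a, hyM⟩, mem_sup_right (mem_zpowers _), rfl⟩
      · exact ⟨⟨a, hzM⟩, mem_sup_left (mem_zpowers _), rfl⟩
    obtain ⟨v, hv, e⟩ := hle h
    obtain ⟨a, ha, b, hb, e'⟩ := mem_sup.1 hv
    obtain ⟨k₁, rfl⟩ := mem_zpowers_iff.1 ha
    obtain ⟨k₂, rfl⟩ := mem_zpowers_iff.1 hb
    exact ⟨k₁, k₂, by rw [← e, ← e']; rfl⟩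
  have hfconj : ∀ v ∈ M, f (x⁻¹ * v * x * v⁻¹) = σ^[i] (f v) * (f v)⁻¹ := fun v hv => by
    have hw := hMn.conj_mem (f v) (hfM v hv) (x ^ i)⁻¹
    rw [inv_inv] at hw
    rw [map_mul, map_mul, map_mul, map_inv, map_inv, hfx, hTi, mul_inv_rev,
      show m⁻¹ * (x ^ i)⁻¹ * f v * (x ^ i * m) = m⁻¹ * (((x ^ i)⁻¹ * f v * x ^ i) * m) by group,
      hMcomm _ hw m hm, inv_mul_cancel_left]
  obtain ⟨hTy, e, hTz⟩ := hT i
  let S : M →* M := MonoidHom.mk' (fun v => ⟨σ^[i] v, by
      rw [hTi]; simpa using hMn.conj_mem v v.2 (x ^ i)⁻¹⟩)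
    fun a b => Subtype.ext (by simp only [hTi, Subgroup.coe_mul]; group)
  set Y : M := ⟨y, hyM⟩ with hY
  set Z : M := ⟨z, hzM⟩ with hZ'
  set Cc : M := ⟨c, hcM⟩ with hCc
  have hSY : S Y = Y * Cc ^ ((s * i : ℕ) : ℤ) := Subtype.ext (by rw [zpow_natCast]; exact hTy)
  have hSZ : S Z = Z * Y ^ (i : ℤ) * Cc ^ (e : ℤ) := Subtype.ext (by rw [zpow_natCast, zpow_natCast]; exact hTz)
  have hSC : S Cc = Cc := Subtype.ext (show σ^[i] c = c from Function.iterate_fixed hσc i)
  set W : M := Z ^ k₁ * Y ^ k₂ with hW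
  have hfy : f y = ((S W * W⁻¹ : M) : R) := by
    have := hfconj z hzM
    rw [show x⁻¹ * z * x * z⁻¹ = y by rw [hrelz, mul_inv_cancel_right]] at this
    rw [this, hfz]; rfl
  have hfc : f (c ^ s) = ((S (S W * W⁻¹) * (S W * W⁻¹)⁻¹ : M) : R) := by
    have := hfconj y hyM
    rw [show x⁻¹ * y * x * y⁻¹ = c ^ s by rw [hrely, hMcomm y hyM _ (pow_mem hcM s), mul_inv_cancel_right]] at this
    rw [this, hfy]; rfl
  have h1 : S W * W⁻¹ = Y ^ ((i : ℤ) * k₁) * Cc ^ ((e : ℤ) * k₁ + ((s * i : ℕ) : ℤ) * k₂) := by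
    rw [mul_inv_eq_iff_eq_mul, hW, map_mul, map_zpow, map_zpow, hSY, hSZ, mul_zpow, mul_zpow, mul_zpow,
      ← zpow_mul, ← zpow_mul, ← zpow_mul, zpow_add]
    exact comm_aux₂ _ _ _ _ _
  have h2 : S (S W * W⁻¹) * (S W * W⁻¹)⁻¹ = Cc ^ (((s * i : ℕ) : ℤ) * ((i : ℤ) * k₁)) := by
    rw [mul_inv_eq_iff_eq_mul, h1, map_mul, map_zpow, map_zpow, hSY, hSC, mul_zpow, ← zpow_mul]
    ac_rfl
  have hfc' : f c = c ^ k₁ := by
    obtain ⟨r, hr⟩ : ∃ r, p ^ (n - 3) = p * r := dvd_pow_self p (by omega)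
    have hyq : y ^ p ^ (n - 3) = 1 := by rw [hr, pow_mul, hyp, one_pow]
    rw [hc, map_pow, hfz, (Commute.zpow_zpow (show Commute z y from hyz.symm) k₁ k₂).mul_pow,
      ← zpow_natCast (z ^ k₁), ← zpow_natCast (y ^ k₂), ← zpow_mul, ← zpow_mul, mul_comm k₁, mul_comm k₂,
      zpow_mul, zpow_mul, zpow_natCast, zpow_natCast, hyq, one_zpow, mul_one]
  have hkey : (p : ℤ) ∣ ((s * i : ℕ) : ℤ) * ((i : ℤ) * k₁) - k₁ * s := by
    rw [← hordc, orderOf_dvd_iff_zpow_eq_one, zpow_sub, mul_inv_eq_one]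
    have h3 : f (c ^ s) = c ^ (((s * i : ℕ) : ℤ) * ((i : ℤ) * k₁)) := by
      rw [hfc, h2]; rfl
    rw [← h3, map_pow, hfc', ← zpow_natCast, ← zpow_mul]
  have hpz : Prime (p : ℤ) := Nat.prime_iff_prime_int.1 hp.out
  have hk₁ : ¬ (p : ℤ) ∣ k₁ := fun ⟨d, hd⟩ => hc1 (f.injective (by
    rw [map_one, hfc', hd, zpow_mul, zpow_natCast, ← hordc, pow_orderOf_eq_one, one_zpow]))
  have hi2 : (p : ℤ) ∣ ((i : ℤ) * i - 1) := by
    have h4 : (p : ℤ) ∣ ((s : ℤ) * k₁) * ((i : ℤ) * i - 1) := by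
      convert hkey using 1; push_cast; ring
    refine (hpz.dvd_mul.1 h4).resolve_left fun h => ?_
    exact (hpz.dvd_mul.1 h).elim (fun h => hs (Int.natCast_dvd_natCast.1 h)) hk₁
  -- iterates on the quotient
  have hiter : ∀ k : ℕ, ((f ^ k) x)⁻¹ * x ^ i ^ k ∈ M := by
    intro k
    induction k with
    | zero => simp
    | succ k ih =>
      have h5 := hfM _ ih
      rw [map_mul, map_inv, map_pow] at h5
      have h6 : (x ^ i ^ (k + 1))⁻¹ * (f x) ^ i ^ k ∈ M := by
        rw [← QuotientGroup.eq, pow_succ', QuotientGroup.mk_pow, QuotientGroup.mk_pow, pow_mul]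
        congr 1
        rw [← QuotientGroup.mk_pow, QuotientGroup.eq, hfx, inv_mul_cancel_left]
        exact hm
      have := mul_mem h5 (inv_mem h6)
      rw [mul_inv_rev, inv_inv, mul_assoc, mul_inv_cancel_left] at this
      rwa [pow_succ' f, MulAut.mul_apply]
  obtain ⟨o, ho⟩ := hodd
  have h7 := hiter (orderOf f)
  rw [pow_orderOf_eq_one] at h7
  have hxdvd : ∀ d : ℤ, x ^ d ∈ M → (p : ℤ) ∣ d := fun d hd => by
    by_contra hnd
    obtain ⟨a, b, hab⟩ := (hpz.coprime_iff_not_dvd.2 hnd)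
    refine hxM ?_
    rw [← zpow_one x, ← hab, zpow_add, mul_comm a, mul_comm b, zpow_mul, zpow_mul, zpow_natCast, hxp,
      one_zpow, one_mul]
    exact zpow_mem hd b
  have h8 : (p : ℤ) ∣ (i : ℤ) ^ orderOf f - 1 := hxdvd _ (by
    rw [sub_eq_neg_add, zpow_add, zpow_neg, zpow_one]
    have : ((x ^ i ^ orderOf f : R)) = x ^ ((i : ℤ) ^ orderOf f) := by
      rw [← zpow_natCast]; push_cast; rfl
    rw [← this]; exact h7)
  have h9 : (p : ℤ) ∣ (i : ℤ) - 1 := by
    have hA : ((i : ℤ) : ZMod p) ^ 2 = 1 := by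
      have := (ZMod.intCast_zmod_eq_zero_iff_dvd _ p).2 hi2
      push_cast at this
      rw [pow_two]; exact sub_eq_zero.1 (by exact_mod_cast this)
    rw [← ZMod.intCast_zmod_eq_zero_iff_dvd] at h8 ⊢
    push_cast at h8 hA ⊢
    rw [ho, pow_succ, pow_mul, hA, one_pow, one_mul] at h8
    exact h8
  intro r
  obtain ⟨k, -, m', hm', rfl⟩ := hquo r
  have hx1 : x⁻¹ * f x ∈ M := by
    obtain ⟨d, hd⟩ := h9
    rw [hfx, ← mul_assoc]
    refine mul_mem ?_ hm
    rw [← zpow_natCast, ← zpow_neg_one, ← zpow_add, show (-1 : ℤ) + i = (p : ℤ) * d by omega, zpow_mul,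
      zpow_natCast, hxp, one_zpow]
    exact one_mem M
  have hxk : (x ^ k)⁻¹ * (f x) ^ k ∈ M := by
    rw [← QuotientGroup.eq, QuotientGroup.mk_pow, QuotientGroup.mk_pow]
    congr 1
    rw [QuotientGroup.eq]; exact hx1
  rw [map_mul, map_pow, show (x ^ k * m')⁻¹ * ((f x) ^ k * f m') = m'⁻¹ * ((x ^ k)⁻¹ * (f x) ^ k) * f m' by group]
  exact mul_mem (mul_mem (inv_mem hm') hxk) (hfM m' hm')

/-- Odd operator groups spanning a `p`-group of rank two. -/
theorem main {G : Type u} [Group G] [Finite G] (hp2 : p ≠ 2) {R A : Subgroup G} (hR : IsPGroup p R)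
    (hR1 : R ≠ ⊥) (hr : ∀ E : Subgroup R, IsMulCommutative E → (∀ a ∈ E, a ^ p = 1) → Nat.card E ≤ p ^ 2)
    (hA : A ≤ normalizer (R : Set G)) (hcop : (Nat.card A).Coprime p) (hAodd : Odd (Nat.card A))
    (hRA : ⁅R, A⁆ = R) :
    3 < p ∧ (IsMulCommutative R ∨ ∃ R₁ R₂ : Subgroup G, R₁ ⊔ R₂ = R ∧ (∀ a ∈ R₁, ∀ b ∈ R₂, a * b = b * a) ∧
        ¬ IsMulCommutative R₁ ∧ Nat.card R₁ = p ^ 3 ∧ Monoid.exponent R₁ = p ∧ IsCyclic R₂ ∧
        closure {x : G | x ∈ R₂ ∧ x ^ p = 1} = ⁅R₁, R₁⁆) := by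
  classical
  have hrk : ∀ E : Subgroup R, Cfsg.IsElementaryAbelian p E → Nat.card E ≤ p ^ 2 := fun E hE => hr E hE.1 hE.2
  set φ := MetacyclicAct.act hA
  have hordA : ∀ a : A, orderOf (φ a) ∣ Nat.card A := fun a =>
    (orderOf_map_dvd φ a).trans (orderOf_dvd_natCard a)
  have hmem : ∀ M : Subgroup R, M ≠ ⊤ → ¬ ∀ (a : A) (r : R), r⁻¹ * φ a r ∈ M := fun M hM hall => by
    refine hM (top_le_iff.1 fun r _ => ?_)
    have hle : ⁅R, A⁆ ≤ M.map R.subtype := by
      rw [commutator_le]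
      intro v hv a ha
      refine ⟨(⟨v, hv⟩ : R) * φ ⟨a, ha⟩ (⟨v, hv⟩ : R)⁻¹, ?_, ?_⟩
      · have h := hall ⟨a, ha⟩ (⟨v, hv⟩ : R)⁻¹
        rwa [inv_inv] at h
      · show v * (a * v⁻¹ * a⁻¹) = ⁅v, a⁆
        simp [commutatorElement_def, mul_assoc]
    obtain ⟨v, hv, e⟩ := hle (show (r : G) ∈ ⁅R, A⁆ by rw [hRA]; exact r.2)
    have e' : v = r := Subtype.ext e
    exact e' ▸ hv
  have hp3 : 3 < p := by
    haveI : Nontrivial R := R.nontrivial_iff_ne_bot.2 hR1
    obtain ⟨a, ha⟩ : ∃ a : A, φ a ≠ 1 := by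
      by_contra hall
      push Not at hall
      exact hmem ⊥ bot_ne_top fun a r => by rw [hall a]; simp
    set q := (orderOf (φ a)).minFac
    have hne : orderOf (φ a) ≠ 1 := mt orderOf_eq_one_iff.1 ha
    have hq : q.Prime := Nat.minFac_prime hne
    have hqA : q ∣ Nat.card A := (Nat.minFac_dvd _).trans (hordA a)
    have hqp : q ≠ p := fun h => hp.out.ne_one (Nat.eq_one_of_dvd_coprimes hcop (h ▸ hqA) dvd_rfl)
    have hlt := (RankTwoAut.prime_dvd hp2 hR hrk hq hqp
      ((Nat.minFac_dvd _).trans (orderOf_dvd_natCard (φ a)))).2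
    have hq2 : q ≠ 2 := fun h => by
      obtain ⟨k, hk⟩ := Odd.of_dvd_nat hAodd hqA
      omega
    have := hq.two_le
    omega
  refine ⟨hp3, ?_⟩
  by_cases hab : IsMulCommutative R
  · exact Or.inl hab
  right
  obtain ⟨n, hn⟩ := IsPGroup.iff_card.1 hR
  rcases Blackburn.main hp2 n hn hr with hm | ⟨hn3, x, y, z, hgen, hx, hy, hz, hxz, hyz, hrel⟩ |
    ⟨hn4, s, x, y, z, hs, hgen, hx, hy, hz, hyz, hrely, hrelz⟩ | ⟨h3, -⟩
  · exfalso
    obtain ⟨-, -, hdis, hlast⟩ := MetacyclicAct.main hp2 hR hm hA hcop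
    have hAR : ¬ A ≤ centralizer (R : Set G) := fun h => hR1 (hRA ▸
      commutator_eq_bot_iff_le_centralizer.2 (le_centralizer_iff.1 h))
    obtain ⟨-, -, hC, -⟩ := hlast hab hAR
    rw [hRA, ← inf_assoc, inf_idem] at hdis
    exact hC hdis
  · obtain ⟨R₁, R₂, hsup, hcom, hnab, hcard, hexp, hcyc, hom⟩ :=
      central_type hp2 hR hrk hab hn3 hgen hx hy hz hxz hyz hrel
    have hinj := R.subtype_injective
    refine ⟨R₁.map R.subtype, R₂.map R.subtype, ?_, ?_, ?_, ?_, ?_, ?_, ?_⟩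
    · rw [← Subgroup.map_sup, hsup, ← MonoidHom.range_eq_map, range_subtype]
    · rintro _ ⟨a, ha, rfl⟩ _ ⟨b, hb, rfl⟩
      rw [← map_mul, hcom a ha b hb, map_mul]
    · intro h
      refine hnab ⟨⟨fun a b => ?_⟩⟩
      apply (R₁.equivMapOfInjective _ hinj).injective
      rw [map_mul, map_mul]
      exact h.is_comm.comm _ _
    · rw [card_map_of_injective hinj, hcard]
    · rw [← hexp, ← Monoid.exponent_eq_of_mulEquiv (R₁.equivMapOfInjective _ hinj)]
    · exact (R₂.equivMapOfInjective _ hinj).isCyclic.1 hcyc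
    · rw [← Subgroup.map_commutator, ← hom, MonoidHom.map_closure]
      congr 1
      ext v
      constructor
      · rintro ⟨⟨u, hu, rfl⟩, hv⟩
        exact ⟨u, ⟨hu, hinj (by rw [map_pow, hv, map_one])⟩, rfl⟩
      · rintro ⟨u, ⟨hu, hup⟩, rfl⟩
        exact ⟨mem_map_of_mem _ hu, by rw [← map_pow, hup, map_one]⟩
  · exfalso
    have hs' : ¬ p ∣ s := fun h => by
      rcases hs with rfl | hs
      · exact hp.out.not_dvd_one h
      · exact hs ((ZMod.natCast_eq_zero_iff s p).2 h ▸ IsSquare.zero)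
    obtain ⟨M, hM, hall⟩ := class_three_type hn4 hn hs' hgen hx hy hz hyz hrely hrelz
    exact hmem M hM fun a r => hall _ (Odd.of_dvd_nat hAodd (hordA a)) r
  · omega

end CfsgLib.FGSA.RankTwoOperator
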