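import Cfsg.Prelude.Def_OddOrderLocal
import Cfsg.Agent.Solvable.Hall
import Cfsg.Agent.Solvable.CoprimeAct

/-!
Invariant Hall subgroups of a solvable group under a coprime action, with dominance.
-/

set_option autoImplicit false
set_option linter.deprecated false
set_option linter.unusedSectionVars false
set_option linter.style.haveILetI false

namespace CfsgLib.InvariantHall

open Subgroup CfsgLib.SZ CfsgLib.Solvable CfsgLib.Hall
open scoped Pointwise

universe u

variable {X : Type u} [Group X] [Finite X] {π : Set ℕ}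

theorem relIndex_mul_card {H K : Subgroup X} (h : H ≤ K) :
    Nat.card H * H.relIndex K = Nat.card K := by
  rw [← relIndex_bot_left, ← relIndex_bot_left]
  exact relIndex_mul_relIndex ⊥ H K bot_le h

theorem coprime_of_isPiHallOf {H G : Subgroup X} (h : Cfsg.IsPiHallOf π H G) :
    (Nat.card H).Coprime (H.relIndex G) :=
  Nat.coprime_of_dvd fun q hq h1 h2 => h.2.2 q hq (h.2.1 q hq h1) h2

theorem card_eq_of_isPiHallOf {H K G : Subgroup X} (h : Cfsg.IsPiHallOf π H G)
    (k : Cfsg.IsPiHallOf π K G) : Nat.card H = Nat.card K := by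
  refine Nat.dvd_antisymm ?_ ?_
  · refine Nat.Coprime.dvd_of_dvd_mul_right
      (Nat.coprime_of_dvd fun q hq h1 h2 => k.2.2 q hq (h.2.1 q hq h1) h2)
      (relIndex_mul_card k.1 ▸ card_dvd_of_le h.1)
  · refine Nat.Coprime.dvd_of_dvd_mul_right
      (Nat.coprime_of_dvd fun q hq h1 h2 => h.2.2 q hq (k.2.1 q hq h1) h2)
      (relIndex_mul_card h.1 ▸ card_dvd_of_le k.1)

theorem isPiHallOf_conj {H G : Subgroup X} (h : Cfsg.IsPiHallOf π H G) {g : X}
    (hg : g ∈ normalizer (G : Set X)) : Cfsg.IsPiHallOf π (MulAut.conj g • H) G := by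
  have hle : MulAut.conj g • H ≤ G := by
    rw [← conj_smul_eq_iff_mem_normalizer.2 hg]
    exact pointwise_smul_le_pointwise_smul_iff.2 h.1
  refine ⟨hle, by rw [card_conj_smul]; exact h.2.1, ?_⟩
  have h1 := relIndex_mul_card hle
  rw [card_conj_smul, ← relIndex_mul_card h.1] at h1
  rw [Nat.eq_of_mul_eq_mul_left Nat.card_pos h1]
  exact h.2.2

theorem conj_of_isPiHallOf {H K G : Subgroup X} (hs : Group.IsSolvable G)
    (h : Cfsg.IsPiHallOf π H G) (k : Cfsg.IsPiHallOf π K G) :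
    ∃ g ∈ G, MulAut.conj g • H = K := by
  haveI := hs
  obtain ⟨g, hg⟩ := hall_conj (G := G) (a := Nat.card H) (b := H.relIndex G)
    (relIndex_mul_card h.1).symm (coprime_of_isPiHallOf h)
    (H := H.subgroupOf G) (K := K.subgroupOf G)
    (Nat.card_congr (subgroupOfEquivOfLe h.1).toEquiv)
    (by rw [Nat.card_congr (subgroupOfEquivOfLe k.1).toEquiv, card_eq_of_isPiHallOf h k])
  refine ⟨g, g.2, ?_⟩
  have := congrArg (Subgroup.map G.subtype) hg
  rwa [conj_smul_map, map_subgroupOf_eq_of_le h.1, map_subgroupOf_eq_of_le k.1] at this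

theorem exists_isPiHallOf {G : Subgroup X} (hs : Group.IsSolvable G) :
    ∃ H : Subgroup X, Cfsg.IsPiHallOf π H G := by
  haveI := hs
  obtain ⟨H, h1, h2, -⟩ := hall_pi (G := G) (· ∈ π)
  refine ⟨H.map G.subtype, map_subtype_le H, ?_, fun q hq hπ hd => h2 q hq ?_ hπ⟩
  · rw [card_map_of_injective G.subtype_injective]; exact h1
  · rwa [Subgroup.relIndex, subgroupOf, comap_map_eq_self_of_injective G.subtype_injective] at hd

/-- An `A`-invariant Hall subgroup exists. -/
theorem exists_invariant {A G : Subgroup X} (hAG : A ≤ normalizer (G : Set X))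
    (hcop : (Nat.card A).Coprime (Nat.card G)) (hs : Group.IsSolvable G) :
    ∃ H : Subgroup X, Cfsg.IsPiHallOf π H G ∧ A ≤ normalizer (H : Set X) := by
  letI := MulAction.compHom (Subgroup X) (MulAut.conj : X →* MulAut X)
  obtain ⟨H, hH, hfix⟩ := CfsgLib.SZ.exists_fixed hAG hcop (Or.inr hs)
    {H : Subgroup X | Cfsg.IsPiHallOf π H G} (exists_isPiHallOf hs)
    (fun a ha H hH => isPiHallOf_conj hH (hAG ha)) (fun H hH K hK => conj_of_isPiHallOf hs hH hK)
    (fun k hk H hH => isPiHallOf_conj hH (le_normalizer hk))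
  exact ⟨H, hH, fun a ha => conj_smul_eq_iff_mem_normalizer.1 (hfix a ha)⟩

/-- Two `A`-invariant Hall subgroups are conjugate under `C_G(A)`. -/
theorem invariant_conj {A G H K : Subgroup X} (hAG : A ≤ normalizer (G : Set X))
    (hcop : (Nat.card A).Coprime (Nat.card G)) (hs : Group.IsSolvable G)
    (hH : Cfsg.IsPiHallOf π H G) (hHA : A ≤ normalizer (H : Set X))
    (hK : Cfsg.IsPiHallOf π K G) (hKA : A ≤ normalizer (K : Set X)) :
    ∃ c ∈ G ⊓ centralizer (A : Set X), MulAut.conj c • H = K := by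
  letI := MulAction.compHom (Subgroup X) (MulAut.conj : X →* MulAut X)
  exact CfsgLib.SZ.exists_smul_eq_of_fixed hAG hcop (Or.inr hs)
    (fun a ha => conj_smul_eq_iff_mem_normalizer.2 (hHA ha))
    (fun a ha => conj_smul_eq_iff_mem_normalizer.2 (hKA ha)) (conj_of_isPiHallOf hs hH hK)

/-- Dominance: an `A`-invariant `π`-subgroup lies in an `A`-invariant Hall subgroup. -/
theorem exists_invariant_ge (n : ℕ) : ∀ (X : Type u) [Group X] [Finite X] (A G U : Subgroup X),
    Nat.card G = n → A ≤ normalizer (G : Set X) → (Nat.card A).Coprime (Nat.card G) →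
    Group.IsSolvable G → U ≤ G → A ≤ normalizer (U : Set X) →
    (∀ p : ℕ, p.Prime → p ∣ Nat.card U → p ∈ π) →
    ∃ H : Subgroup X, Cfsg.IsPiHallOf π H G ∧ A ≤ normalizer (H : Set X) ∧ U ≤ H := by
  induction n using Nat.strong_induction_on with
  | _ n ih =>
  intro X _ _ A G U hn hAG hcop hs hUG hAU hUπ
  by_cases hGπ : ∀ q : ℕ, q.Prime → q ∣ Nat.card G → q ∈ π
  · refine ⟨G, ⟨le_rfl, hGπ, fun q hq _ hd => ?_⟩, hAG, hUG⟩
    rw [relIndex_self, Nat.dvd_one] at hd
    exact hq.one_lt.ne' hd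
  -- a characteristic elementary abelian subgroup
  haveI := hs
  have hG1 : (⊥ : Subgroup G) ≠ ⊤ := fun h => hGπ (by
    intro q hq hd
    have h1 : Nat.card G = 1 := by rw [← card_top (G := G), ← h, card_bot]
    rw [h1, Nat.dvd_one] at hd
    exact absurd hd hq.one_lt.ne')
  obtain ⟨N₀, hchar, r, hr, hN₁, hNab, hNr⟩ : ∃ N₀ : Subgroup G, N₀.Characteristic ∧
      ∃ r : ℕ, r.Prime ∧ N₀ ≠ ⊥ ∧ IsMulCommutative N₀ ∧ ∀ x ∈ N₀, x ^ r = 1 := by
    classical
    have hex : ∃ k, derivedSeries G (k + 1) = ⊥ := by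
      obtain ⟨k, hk⟩ := (Group.isSolvable_def G).1 hs
      exact ⟨k, le_bot_iff.1 (hk ▸ derivedSeries_antitone G k.le_succ)⟩
    set D := derivedSeries G (Nat.find hex) with hD
    haveI hDc : D.Characteristic := derivedSeries_characteristic G _
    have hDne : D ≠ ⊥ := fun h => by
      rcases Nat.eq_zero_or_pos (Nat.find hex) with h0 | h0
      · rw [hD, h0, derivedSeries_zero] at h; exact hG1 h.symm
      · exact Nat.find_min hex (m := Nat.find hex - 1) (by omega)
          (by rwa [show Nat.find hex - 1 + 1 = Nat.find hex by omega])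
    have hDab : ∀ x ∈ D, ∀ y ∈ D, x * y = y * x := fun x hx y hy => by
      have h := Nat.find_spec hex
      rw [derivedSeries_succ] at h
      have hm := commutator_mem_commutator hx hy
      rw [h, mem_bot] at hm
      exact commutatorElement_eq_one_iff_mul_comm.1 hm
    obtain ⟨r, hr, hrd⟩ := Nat.exists_prime_and_dvd (fun h => hDne (card_eq_one.1 h))
    haveI := Fact.mk hr
    obtain ⟨x, hx⟩ := exists_prime_orderOf_dvd_card' (G := D) r hrd
    refine ⟨{ carrier := {x | x ∈ D ∧ x ^ r = 1}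
              one_mem' := ⟨one_mem D, one_pow r⟩
              inv_mem' := fun {a} ha => ⟨inv_mem ha.1, by rw [inv_pow, ha.2, inv_one]⟩
              mul_mem' := fun {a b} ha hb => ⟨mul_mem ha.1 hb.1, by
                rw [(show Commute a b from hDab a ha.1 b hb.1).mul_pow, ha.2, hb.2, one_mul]⟩ },
      ?_, r, hr, ?_, ⟨⟨fun a b => Subtype.ext (hDab _ a.2.1 _ b.2.1)⟩⟩, fun a ha => ha.2⟩
    · rw [characteristic_iff_le_comap]
      intro φ a ha
      exact ⟨characteristic_iff_le_comap.1 hDc φ ha.1, by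
        show (φ a) ^ r = 1
        rw [← map_pow, ha.2, map_one]⟩
    · intro h
      have hxmem : (x : G) ∈ ({a | a ∈ D ∧ a ^ r = 1} : Set G) :=
        ⟨x.2, by rw [← SubgroupClass.coe_pow, ← hx, pow_orderOf_eq_one, OneMemClass.coe_one]⟩
      have h1 : (x : G) = 1 := (eq_bot_iff_forall _).1 h _ hxmem
      rw [← orderOf_coe, h1, orderOf_one] at hx
      exact hr.one_lt.ne hx
  haveI := Fact.mk hr
  set N := N₀.map G.subtype with hN
  have hNG : N ≤ G := map_subtype_le _
  have hnorm : normalizer (G : Set X) ≤ normalizer (N : Set X) := by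
    intro g hg
    rw [← conj_smul_eq_iff_mem_normalizer]
    refine eq_of_le_of_card_le ?_ (card_conj_smul g N).ge
    rw [hN]
    intro y hy
    rw [mem_conj_smul] at hy
    obtain ⟨z, hz, hzy⟩ := hy
    refine ⟨G.normalizerMonoidHom ⟨g, hg⟩ z, characteristic_iff_le_comap.1 hchar _ hz, ?_⟩
    change g * (z : X) * g⁻¹ = y
    rw [show (z : X) = g⁻¹ * y * g from hzy]
    group
  have hGN : G ≤ normalizer (N : Set X) := le_normalizer.trans hnorm
  have hAN : A ≤ normalizer (N : Set X) := hAG.trans hnorm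
  have hNp : IsPGroup r N := (IsPGroup.map (fun x => ⟨1, Subtype.ext (by
    rw [pow_one, SubgroupClass.coe_pow, hNr x x.2, OneMemClass.coe_one])⟩) G.subtype)
  have hN1 : N ≠ ⊥ := fun h => hN₁ ((map_eq_bot_iff_of_injective _ G.subtype_injective).1 h)
  -- the quotient
  set M := normalizer (N : Set X) with hM
  have hNM : N ≤ M := le_normalizer
  haveI : (N.subgroupOf M).Normal := normal_in_normalizer
  set φ := QuotientGroup.mk' (N.subgroupOf M) with hφ
  have hker : φ.ker = N.subgroupOf M := QuotientGroup.ker_mk' _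
  set q : Subgroup X → Subgroup (M ⧸ N.subgroupOf M) := fun S => (S.subgroupOf M).map φ with hq
  have hqn : ∀ S T : Subgroup X, S ≤ M → S ≤ normalizer (T : Set X) →
      q S ≤ normalizer (q T : Set (M ⧸ N.subgroupOf M)) := by
    intro S T _ hST
    refine le_trans (map_mono ?_) (le_normalizer_map φ)
    intro s hs
    rw [mem_normalizer_iff]
    exact fun t => mem_normalizer_iff.1 (hST hs) t
  have hqd : ∀ S : Subgroup X, S ≤ M → Nat.card (q S) ∣ Nat.card S := fun S hS => by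
    refine (card_map_dvd _ φ).trans ?_
    rw [Nat.card_congr (subgroupOfEquivOfLe hS).toEquiv]
  have hqG : Nat.card (q G) * Nat.card N = Nat.card G := by
    have h := card_mul_index ((φ.subgroupMap (G.subgroupOf M)).ker)
    have h1 : (φ.subgroupMap (G.subgroupOf M)).ker.index = Nat.card (q G) := by
      rw [index_ker, MonoidHom.range_eq_top.2 (φ.subgroupMap_surjective _), card_top]
    have h2 : Nat.card (φ.subgroupMap (G.subgroupOf M)).ker = Nat.card N := by
      rw [Subgroup.ker_subgroupMap, hker,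
        Nat.card_congr (subgroupOfEquivOfLe (show N.subgroupOf M ≤ G.subgroupOf M from
          fun x hx => hNG hx)).toEquiv, Nat.card_congr (subgroupOfEquivOfLe hNM).toEquiv]
    rw [h1, h2, Nat.card_congr (subgroupOfEquivOfLe hGN).toEquiv] at h
    rw [mul_comm]; exact h
  have hlt : Nat.card (q G) < n := by
    rw [← hn, ← hqG]
    exact lt_mul_of_one_lt_right Nat.card_pos (N.one_lt_card_iff_ne_bot.2 hN1)
  have hqs : Group.IsSolvable (q G) := by
    haveI : Group.IsSolvable (G.subgroupOf M) := Group.isSolvable_of_isSolvable_injective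
      (f := (subgroupOfEquivOfLe hGN).toMonoidHom) (subgroupOfEquivOfLe hGN).injective
    exact Group.isSolvable_of_surjective (φ.subgroupMap_surjective _)
  obtain ⟨Hq, hHq, hHqA, hUq⟩ := ih _ hlt (M ⧸ N.subgroupOf M) (q A) (q G) (q U) rfl
    (hqn A G hAN hAG) (Nat.Coprime.coprime_dvd_left (hqd A hAN)
      (hcop.coprime_dvd_right (hqd G hGN))) hqs (map_mono fun x hx => hUG hx)
    (hqn A U hAN hAU) (fun p hp hd => hUπ p hp (hd.trans (hqd U (hUG.trans hGN))))
  set H₀ := (Hq.comap φ).map M.subtype with hH₀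
  have hH₀G : H₀ ≤ G := by
    rintro _ ⟨x, hx, rfl⟩
    obtain ⟨g, hg, hgx⟩ := hHq.1 hx
    have hmem : g⁻¹ * x ∈ N.subgroupOf M := by
      rw [← hker, MonoidHom.mem_ker, map_mul, map_inv, hgx, inv_mul_cancel]
    have h2 : ((g⁻¹ * x : M) : X) ∈ G := hNG hmem
    have h3 : (x : X) = (g : X) * ((g⁻¹ * x : M) : X) := by simp
    rw [M.coe_subtype, h3]
    exact mul_mem hg h2
  have hUH₀ : U ≤ H₀ := fun u hu =>
    ⟨⟨u, hGN (hUG hu)⟩, hUq ⟨⟨u, hGN (hUG hu)⟩, hu, rfl⟩, rfl⟩
  have hNH₀ : N ≤ H₀ := fun u hu => ⟨⟨u, hNM hu⟩, by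
    show φ ⟨u, hNM hu⟩ ∈ Hq
    rw [show φ ⟨u, hNM hu⟩ = 1 from (QuotientGroup.eq_one_iff _).2 hu]
    exact one_mem Hq, rfl⟩
  have hAH₀ : A ≤ normalizer (H₀ : Set X) := by
    intro a ha
    refine le_normalizer_map M.subtype ⟨⟨a, hAN ha⟩, ?_, rfl⟩
    rw [SetLike.mem_coe, mem_normalizer_iff]
    intro t
    have h1 := mem_normalizer_iff.1 (hHqA ⟨⟨a, hAN ha⟩, ha, rfl⟩) (φ t)
    rwa [← map_inv, ← map_mul, ← map_mul] at h1
  have hHqc : Nat.card Hq * Nat.card N = Nat.card H₀ := by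
    rw [hH₀, card_map_of_injective M.subtype_injective]
    apply Nat.eq_of_mul_eq_mul_right (Nat.pos_of_ne_zero Hq.index_ne_zero_of_finite)
    have h1 := card_mul_index (Hq.comap φ)
    rw [index_comap_of_surjective _ (QuotientGroup.mk'_surjective _)] at h1
    rw [h1, mul_right_comm, card_mul_index,
      ← Nat.card_congr (subgroupOfEquivOfLe hNM).toEquiv, ← index_eq_card, mul_comm,
      card_mul_index]
  have hrel : H₀.relIndex G = Hq.relIndex (q G) := by
    apply Nat.eq_of_mul_eq_mul_left (Nat.card_pos (α := H₀))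
    rw [relIndex_mul_card hH₀G, ← hHqc, mul_right_comm, relIndex_mul_card hHq.1, hqG]
  by_cases hlt₀ : Nat.card H₀ < n
  · obtain ⟨H, hH, hHA, hUH⟩ := ih _ hlt₀ X A H₀ U rfl hAH₀
      (hcop.coprime_dvd_right (card_dvd_of_le hH₀G))
      (Group.isSolvable_of_isSolvable_injective (inclusion_injective hH₀G)) hUH₀ hAU hUπ
    refine ⟨H, ⟨hH.1.trans hH₀G, hH.2.1, fun p hp hπ hd => ?_⟩, hHA, hUH⟩
    rw [← relIndex_mul_relIndex H H₀ G hH.1 hH₀G] at hd
    rcases (Nat.Prime.dvd_mul hp).1 hd with h | h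
    · exact hH.2.2 p hp hπ h
    · rw [hrel] at h; exact hHq.2.2 p hp hπ h
  -- now the quotient is a `π`-group and `N` a `π'`-group
  have hH₀eq : H₀ = G := eq_of_le_of_card_le hH₀G (hn ▸ not_lt.1 hlt₀)
  have hrπ : r ∉ π := fun hrπ => hGπ fun p hp hd => by
    rw [← hH₀eq, ← hHqc] at hd
    rcases (Nat.Prime.dvd_mul hp).1 hd with h | h
    · exact hHq.2.1 p hp h
    · obtain ⟨k, hk⟩ := IsPGroup.iff_card.1 hNp
      rw [hk] at h
      rwa [(Nat.prime_dvd_prime_iff_eq hp hr).1 (hp.dvd_of_dvd_pow h)]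
  have hdisj : ∀ H : Subgroup X, Cfsg.IsPiHallOf π H G → H ⊓ N = ⊥ := fun H hH =>
    inf_eq_bot_of_coprime (Nat.coprime_of_dvd fun p hp h1 h2 => by
      obtain ⟨k, hk⟩ := IsPGroup.iff_card.1 hNp
      rw [hk] at h2
      exact hrπ ((Nat.prime_dvd_prime_iff_eq hp hr).1 (hp.dvd_of_dvd_pow h2) ▸ hH.2.1 p hp h1))
  obtain ⟨H₁, hH₁⟩ := exists_isPiHallOf (π := π) hs
  obtain ⟨H₂, hH₂c, hH₂U⟩ := hall_dominance (G := G) (a := Nat.card H₁) (b := H₁.relIndex G)
    (relIndex_mul_card hH₁.1).symm (coprime_of_isPiHallOf hH₁) (K := U.subgroupOf G) (by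
      rw [Nat.card_congr (subgroupOfEquivOfLe hUG).toEquiv]
      exact Nat.coprime_of_dvd fun p hp h1 h2 => hH₁.2.2 p hp (hUπ p hp h1) h2)
  set H₃ := H₂.map G.subtype with hH₃
  have hH₃G : H₃ ≤ G := map_subtype_le _
  have hH₃c : Nat.card H₃ = Nat.card H₁ := by
    rw [hH₃, card_map_of_injective G.subtype_injective, hH₂c]
  have hH₃h : Cfsg.IsPiHallOf π H₃ G := by
    refine ⟨hH₃G, by rw [hH₃c]; exact hH₁.2.1, ?_⟩
    have h1 := relIndex_mul_card hH₃G
    rw [hH₃c, ← relIndex_mul_card hH₁.1] at h1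
    rw [Nat.eq_of_mul_eq_mul_left Nat.card_pos h1]
    exact hH₁.2.2
  have hUH₃ : U ≤ H₃ := fun u hu => ⟨⟨u, hUG hu⟩, hH₂U hu, rfl⟩
  have hgen : ∀ H : Subgroup X, Cfsg.IsPiHallOf π H G → ∀ g ∈ G, ∃ k ∈ N, ∃ h ∈ H, g = k * h := by
    intro H hH g hg
    have hHN : H ≤ normalizer (N : Set X) := hH.1.trans hGN
    have htop : H ⊔ N = G := by
      refine eq_of_le_of_card_le (sup_le hH.1 hNG) ?_
      rw [card_sup_of_disjoint hHN (hdisj H hH), ← hqG]
      refine Nat.mul_le_mul_right _ (Nat.le_of_dvd Nat.card_pos ?_)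
      refine Nat.Coprime.dvd_of_dvd_mul_right
        (n := H.relIndex G) (Nat.coprime_of_dvd fun p hp h1 h2 => hH.2.2 p hp ?_ h2) ?_
      · have heq : Nat.card Hq = Nat.card (q G) := by
          apply Nat.eq_of_mul_eq_mul_right (Nat.card_pos (α := N))
          rw [hHqc, hH₀eq, hqG]
        exact hHq.2.1 p hp (heq ▸ h1)
      · rw [relIndex_mul_card hH.1, ← hqG]
        exact dvd_mul_right _ _
    rw [← htop, sup_comm, ← SetLike.mem_coe,
      coe_mul_of_right_le_normalizer_left N H hHN] at hg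
    obtain ⟨k, hk, h, hh, rfl⟩ := Set.mem_mul.1 hg
    exact ⟨k, hk, h, hh, rfl⟩
  set C := N ⊓ centralizer (U : Set X) with hC
  have hAC : A ≤ normalizer (C : Set X) := by
    intro a ha
    rw [← conj_smul_eq_iff_mem_normalizer, hC, smul_inf,
      conj_smul_eq_iff_mem_normalizer.2 (hAN ha)]
    congr 1
    refine eq_of_le_of_card_le ?_ (card_conj_smul a _).ge
    intro y hy
    rw [mem_conj_smul, mem_centralizer_iff] at hy
    rw [mem_centralizer_iff]
    intro u hu
    have h := hy (a⁻¹ * u * a) ((mem_normalizer_iff''.1 (hAU ha) u).1 hu)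
    calc u * y = a * (a⁻¹ * u * a * (a⁻¹ * y * a)) * a⁻¹ := by group
      _ = y * u := by rw [h]; group
  letI := MulAction.compHom (Subgroup X) (MulAut.conj : X →* MulAut X)
  obtain ⟨H, ⟨hH, hUH⟩, hfix⟩ := CfsgLib.SZ.exists_fixed hAC
    (hcop.coprime_dvd_right (card_dvd_of_le (inf_le_left.trans hNG)))
    (Or.inr (Group.isSolvable_of_isSolvable_injective
      (inclusion_injective (inf_le_left.trans hNG : C ≤ G))))
    {H : Subgroup X | Cfsg.IsPiHallOf π H G ∧ U ≤ H} ⟨H₃, hH₃h, hUH₃⟩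
    (fun a ha H hH => ⟨isPiHallOf_conj hH.1 (hAG ha), by
      change U ≤ MulAut.conj a • H
      rw [← conj_smul_eq_iff_mem_normalizer.2 (hAU ha)]
      exact pointwise_smul_le_pointwise_smul_iff.2 hH.2⟩)
    (by
      rintro S ⟨hS, hUS⟩ T ⟨hT, hUT⟩
      obtain ⟨g, hg, hgST⟩ := conj_of_isPiHallOf hs hS hT
      obtain ⟨k, hk, h, hh, rfl⟩ := hgen S hS g hg
      rw [conj_smul_mul, conj_smul_self_of_mem hh] at hgST
      refine ⟨k, ⟨hk, mem_centralizer_iff.2 fun u hu => ?_⟩, hgST⟩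
      have h1 : k * u * k⁻¹ ∈ T := by
        rw [← hgST, mem_conj_smul]; simpa [mul_assoc] using hUS hu
      have h2 : k * u * k⁻¹ * u⁻¹ ∈ T ⊓ N := ⟨T.mul_mem h1 (T.inv_mem (hUT hu)), by
        rw [show k * u * k⁻¹ * u⁻¹ = k * (u * k⁻¹ * u⁻¹) by group]
        exact N.mul_mem hk ((mem_normalizer_iff.1 (hGN (hUG hu)) _).1 (N.inv_mem hk))⟩
      rw [hdisj T hT, mem_bot, mul_inv_eq_one, mul_inv_eq_iff_eq_mul] at h2
      exact h2.symm)
    (fun k hk H hH => ⟨isPiHallOf_conj hH.1 (le_normalizer (hNG hk.1)), by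
      intro u hu
      change u ∈ MulAut.conj k • H
      rw [mem_conj_smul]
      have := mem_centralizer_iff.1 hk.2 u hu
      rw [show k⁻¹ * u * k = k⁻¹ * (u * k) by group, this, inv_mul_cancel_left]
      exact hH.2 hu⟩)
  exact ⟨H, hH, fun a ha => conj_smul_eq_iff_mem_normalizer.1 (hfix a ha), hUH⟩

end CfsgLib.InvariantHall
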