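import Cfsg.Agent.FGSA.RegularPGroup
import Cfsg.Agent.Solvable.RankTwo
import Cfsg.Agent.Solvable.PGroupBasic
import Cfsg.Agent.PLocal.OddPGroup
import Cfsg.Prelude.Def_Transfer
import Cfsg.Prelude.Def_OddOrderLocal

/-!
Huppert: for `p > 3` a `p`-group with at most `p ^ 2` elements of order dividing `p` is metacyclic,
and the hypothesis passes to quotients.
-/

set_option autoImplicit false
set_option linter.style.haveILetI false

namespace CfsgLib.FGSA.Huppert

open Subgroup
open scoped commutatorElement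

variable {G : Type*} [Group G] [Finite G] {p : ℕ} [hp : Fact p.Prime]

/-- A normal subgroup of order at most `p` of a `p`-group is central. -/
theorem le_center_of_card_le (hG : IsPGroup p G) (Z : Subgroup G) [Z.Normal] (h : Nat.card Z ≤ p) :
    Z ≤ center G := by
  by_cases hb : Z = ⊥
  · rw [hb]; exact bot_le
  haveI := hG.isNilpotent
  have hne := CfsgLib.PGroupBasic.inf_center_ne_bot Z hb
  obtain ⟨k, hk⟩ := IsPGroup.iff_card.1 (hG.to_subgroup (Z ⊓ center G))
  have hk0 : k ≠ 0 := fun h0 => hne (eq_bot_of_card_eq _ (by rw [hk, h0, pow_zero]))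
  exact (eq_of_le_of_card_ge inf_le_left (h.trans (by rw [hk]; exact Nat.le_self_pow hk0 p))).ge.trans
    inf_le_right

theorem card_mul_le_of_lt (hG : IsPGroup p G) {H K : Subgroup G} (h : H < K) :
    p * Nat.card H ≤ Nat.card K := by
  obtain ⟨a, ha⟩ := IsPGroup.iff_card.1 (hG.to_subgroup H)
  obtain ⟨b, hb⟩ := IsPGroup.iff_card.1 (hG.to_subgroup K)
  have hlt := CfsgLib.Solvable.card_lt_of_lt h
  rw [ha, hb] at hlt ⊢
  rw [← pow_succ']
  exact Nat.pow_le_pow_right hp.out.pos ((Nat.pow_lt_pow_iff_right hp.out.one_lt).1 hlt)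

omit [Finite G] in
theorem commutative_le_sq {k : ℕ} (h : Nat.card G = p ^ k) (hk : k ≤ 2) (u v : G) : u * v = v * u := by
  interval_cases k
  · haveI := (Nat.card_eq_one_iff_unique.1 (by rw [h, pow_zero] : Nat.card G = 1)).1
    exact Subsingleton.elim _ _
  · haveI := isCyclic_of_prime_card (p := p) (by rw [h, pow_one] : Nat.card G = p)
    exact (IsCyclic.commGroup (α := G)).mul_comm u v
  · exact IsPGroup.commutative_of_card_eq_prime_sq h u v

omit [Finite G] hp in
theorem pow_mem_top_powerClosure (x : G) : x ^ p ∈ Cfsg.powerClosure p 1 (⊤ : Subgroup G) := by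
  simpa using Regular.pow_mem_powerClosure (p := p) (n := 1) (mem_top x)

omit [Finite G] hp in
theorem powerClosure_normal (n : ℕ) (H : Subgroup G) [hH : H.Normal] :
    (Cfsg.powerClosure p n H).Normal := by
  refine ⟨fun x hx g => ?_⟩
  suffices Cfsg.powerClosure p n H ≤ (Cfsg.powerClosure p n H).comap (MulAut.conj g).toMonoidHom from
    this hx
  rw [Cfsg.powerClosure, closure_le]
  rintro _ ⟨y, hy, rfl⟩
  show g * y ^ p ^ n * g⁻¹ ∈ Cfsg.powerClosure p n H
  rw [← conj_pow]
  exact Regular.pow_mem_powerClosure (hH.conj_mem y hy g)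

/-- At most `p ^ 2` elements of order dividing `p`, in subgroup form. -/
def SmallOmega (p : ℕ) (G : Type*) [Group G] : Prop :=
  Nat.card ↥(Cfsg.omegaOne p (⊤ : Subgroup G)) ≤ p ^ 2

omit hp in
theorem SmallOmega.of_injective {H : Type*} [Group H] (f : H →* G) (hf : Function.Injective f)
    (h : SmallOmega p G) : SmallOmega p H := by
  refine le_trans ?_ h
  refine le_trans (card_map_of_injective hf).ge (card_le_of_le ?_)
  rw [Cfsg.omegaOne, MonoidHom.map_closure, closure_le]
  rintro _ ⟨x, hx, rfl⟩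
  exact subset_closure ⟨mem_top _, by rw [← map_pow, hx.2, map_one]⟩

omit hp in
theorem SmallOmega.subgroup (h : SmallOmega p G) (H : Subgroup G) : SmallOmega p H :=
  h.of_injective H.subtype H.subtype_injective

theorem SmallOmega.card_le_of_exponent (h : SmallOmega p G) {H : Subgroup G}
    (he : ∀ x ∈ H, x ^ p = 1) : Nat.card H ≤ p ^ 2 :=
  (card_le_of_le (fun x hx => subset_closure ⟨mem_top _, he x hx⟩ :
    H ≤ Cfsg.omegaOne p (⊤ : Subgroup G))).trans h

/-- It is enough that there is no subgroup of exponent `p` and order `p ^ 3`. -/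
theorem smallOmega_of_no_cube (hp3 : 3 < p) (hG : IsPGroup p G)
    (h : ∀ K : Subgroup G, (∀ x ∈ K, x ^ p = 1) → Nat.card K ≠ p ^ 3) : SmallOmega p G := by
  have key : ∀ E : Subgroup G, (∀ x ∈ E, x ^ p = 1) → Nat.card E ≤ p ^ 2 := by
    intro E hE
    by_contra hlt
    obtain ⟨k, hk⟩ := IsPGroup.iff_card.1 (hG.to_subgroup E)
    have hk3 : 3 ≤ k := by
      by_contra h2
      exact hlt (hk ▸ Nat.pow_le_pow_right hp.out.pos (by omega))
    obtain ⟨K, hK⟩ := Sylow.exists_subgroup_card_pow_prime p (G := E) (n := 3) (hk ▸ pow_dvd_pow p hk3)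
    refine h (K.map E.subtype) ?_ (by rw [card_map_of_injective E.subtype_injective, hK])
    rintro _ ⟨y, -, rfl⟩
    exact hE y y.2
  refine key _ fun g hg => ?_
  refine CfsgLib.RankTwo.omega_one_exponent hp3 _ le_rfl hG (fun E hE => key E hE.2) g ?_
  simpa [Cfsg.omegaOne] using hg

theorem regular_law (hG : IsPGroup p G) (h : Cfsg.IsRegularPGroup p G) : Regular.PowLaw p 1 G :=
  fun a b => h.2 a b 1

/-- The hypothesis passes to the quotient by a central subgroup of order `p`. -/
theorem SmallOmega.quotient_central (hp3 : 3 < p) (hG : IsPGroup p G) (h : SmallOmega p G)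
    (Z : Subgroup G) [Z.Normal] (hZ : Nat.card Z = p) : SmallOmega p (G ⧸ Z) := by
  classical
  refine smallOmega_of_no_cube hp3 (hG.to_quotient Z) fun K hK hK3 => ?_
  set L := K.comap (QuotientGroup.mk' Z) with hL
  have hZL : Z ≤ L := fun z hz => by
    show QuotientGroup.mk' Z z ∈ K
    rw [(QuotientGroup.eq_one_iff z).2 hz |> fun e => (e : QuotientGroup.mk' Z z = 1)]
    exact one_mem K
  have hL4 : Nat.card L = p ^ 4 := by
    have e1 := K.card_mul_index
    have e2 := L.card_mul_index
    have e3 := Z.card_mul_index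
    have hi : L.index = K.index := index_comap_of_surjective K (QuotientGroup.mk'_surjective Z)
    rw [index_eq_card (H := Z), ← e1, hK3, ← e2, hi, hZ] at e3
    exact Nat.eq_of_mul_eq_mul_right (Nat.pos_of_ne_zero K.index_ne_zero_of_finite) (by rw [← e3]; ring)
  have hLp : IsPGroup p L := hG.to_subgroup L
  have hcl : (⊤ : Subgroup L).lowerCentralSeries (p - 1) = ⊥ := by
    refine le_bot_iff.1 (((⊤ : Subgroup L).lowerCentralSeries_antitone (show 3 ≤ p - 1 by omega)).trans ?_)
    rw [← CfsgLib.RankTwo.class_le_three hLp hL4.le]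
    simp only [Subgroup.lowerCentralSeries_succ, Subgroup.lowerCentralSeries_zero, _root_.commutator_def, le_refl]
  have law := regular_law hLp (Regular.isRegular_of_class_lt hLp hcl)
  haveI := Fintype.ofFinite L
  have hmem : ∀ x : L, (x : G) ^ p ∈ Z := fun x => by
    rw [← QuotientGroup.eq_one_iff, QuotientGroup.mk_pow]
    exact hK _ x.2
  have hfib : ∀ z ∈ (Finset.univ : Finset L).image (fun x : L => (x : G) ^ p),
      (Finset.univ.filter fun x : L => (x : G) ^ p = z).card ≤ p ^ 2 := by
    intro z hz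
    obtain ⟨x0, -, hx0⟩ := Finset.mem_image.1 hz
    haveI := Fintype.ofFinite (Cfsg.omegaOne p (⊤ : Subgroup G))
    refine le_trans ?_ ((Nat.card_eq_fintype_card (α := ↥(Cfsg.omegaOne p (⊤ : Subgroup G)))).ge.trans h)
    have hmaps : ∀ x ∈ Finset.univ.filter (fun x : L => (x : G) ^ p = z),
        (x : G) * (x0 : G)⁻¹ ∈ Cfsg.omegaOne p (⊤ : Subgroup G) := by
      intro x hx
      have e : x ^ p ^ 1 = x0 ^ p ^ 1 := Subtype.ext (by
        rw [pow_one, Subgroup.coe_pow, Subgroup.coe_pow, (Finset.mem_filter.1 hx).2, hx0])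
      have e2 := congrArg Subtype.val ((Regular.pow_eq_iff hLp law x x0).1 e)
      rw [pow_one] at e2
      exact subset_closure ⟨mem_top _, by simpa using e2⟩
    conv_rhs => rw [← Finset.card_univ, ← Finset.card_map (Function.Embedding.subtype _)]
    refine Finset.card_le_card_of_injOn (fun x : L => (x : G) * (x0 : G)⁻¹) (fun x hx => ?_) ?_
    · exact Finset.mem_map.2 ⟨⟨_, hmaps x hx⟩, Finset.mem_univ _, rfl⟩
    · intro x _ y _ e
      exact Subtype.ext (mul_right_cancel e)
  have hcard := Finset.card_le_mul_card_image (Finset.univ : Finset L) (p ^ 2) hfib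
  have himg : ((Finset.univ : Finset L).image (fun x : L => (x : G) ^ p)).card ≤ p := by
    haveI := Fintype.ofFinite Z
    refine le_trans ?_ ((Nat.card_eq_fintype_card (α := Z)).ge.trans hZ.le)
    rw [← Finset.card_univ, ← Finset.card_map (Function.Embedding.subtype _)]
    refine Finset.card_le_card fun z hz => ?_
    obtain ⟨x, -, rfl⟩ := Finset.mem_image.1 hz
    simpa using hmem x
  rw [Finset.card_univ, ← Nat.card_eq_fintype_card, hL4] at hcard
  have : p ^ 4 ≤ p ^ 2 * p := hcard.trans (Nat.mul_le_mul_left _ himg)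
  have hlt : p ^ 3 < p ^ 4 := Nat.pow_lt_pow_right hp.out.one_lt (by norm_num)
  rw [← pow_succ] at this
  exact absurd this (not_le.2 hlt)

/-- The hypothesis passes to all quotients. -/
theorem SmallOmega.quotient.{u} {p : ℕ} [Fact p.Prime] (hp3 : 3 < p) :
    ∀ (n : ℕ) {G : Type u} [Group G] [Finite G], Nat.card G ≤ n → IsPGroup p G → SmallOmega p G →
      ∀ (T : Subgroup G) [T.Normal], SmallOmega p (G ⧸ T) := by
  intro n
  induction n with
  | zero => intro G _ _ h; exact absurd h (Nat.not_le.2 Nat.card_pos)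
  | succ n ih =>
    intro G _ _ hn hG h T _
    have hpp := (Fact.out : p.Prime)
    by_cases hb : T = ⊥
    · subst hb
      exact h.of_injective (QuotientGroup.quotientBot (G := G)).toMonoidHom
        (QuotientGroup.quotientBot (G := G)).injective
    haveI := hG.isNilpotent
    have hne := CfsgLib.PGroupBasic.inf_center_ne_bot T hb
    obtain ⟨k, hk⟩ := IsPGroup.iff_card.1 (hG.to_subgroup (T ⊓ center G))
    have hk0 : k ≠ 0 := fun h0 => hne (eq_bot_of_card_eq _ (by rw [hk, h0, pow_zero]))
    obtain ⟨⟨z, hz⟩, hzo⟩ :=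
      exists_prime_orderOf_dvd_card' (G := ↥(T ⊓ center G)) p (hk ▸ dvd_pow_self p hk0)
    rw [Subgroup.orderOf_mk] at hzo
    set Z := zpowers z with hZdef
    haveI hZn : Z.Normal := ⟨fun x hx g => by
      have hxc : x ∈ center G := (zpowers_le.2 hz.2) hx
      rwa [mem_center_iff.1 hxc g, mul_inv_cancel_right]⟩
    have hZ : Nat.card Z = p := by rw [hZdef, Nat.card_zpowers, hzo]
    have hlt : Nat.card (G ⧸ Z) < Nat.card G := by
      have e := Z.card_mul_index
      rw [hZ, index_eq_card] at e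
      rw [← e]
      exact lt_mul_of_one_lt_left Nat.card_pos hpp.one_lt
    haveI : (T.map (QuotientGroup.mk' Z)).Normal :=
      Normal.map inferInstance _ (QuotientGroup.mk'_surjective _)
    have e := QuotientGroup.quotientQuotientEquivQuotient Z T (zpowers_le.2 hz.1)
    exact (ih (G := G ⧸ Z) (by omega) (hG.to_quotient Z) (h.quotient_central hp3 hG Z hZ)
      (T.map (QuotientGroup.mk' Z))).of_injective e.symm.toMonoidHom e.symm.injective

/-- A group of exponent `p` modulo its `p`-th powers has small order. -/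
theorem SmallOmega.index_powerClosure_le (hp3 : 3 < p) (hG : IsPGroup p G) (h : SmallOmega p G) :
    (Cfsg.powerClosure p 1 (⊤ : Subgroup G)).index ≤ p ^ 2 := by
  haveI := powerClosure_normal (p := p) 1 (⊤ : Subgroup G)
  rw [index_eq_card, ← card_top]
  refine (SmallOmega.quotient hp3 _ le_rfl hG h _).card_le_of_exponent fun x _ => ?_
  obtain ⟨y, rfl⟩ := QuotientGroup.mk_surjective x
  rw [← QuotientGroup.mk_pow, QuotientGroup.eq_one_iff]
  exact pow_mem_top_powerClosure y

/-- A `p`-group whose derived subgroup is cyclic is regular for odd `p`. -/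
theorem isRegular_of_cyclic_commutator (hp2 : p ≠ 2) (hG : IsPGroup p G)
    (hc : IsCyclic (commutator G)) : Cfsg.IsRegularPGroup p G := by
  rw [Regular.isRegular_iff hG]
  intro a b
  set K := closure ({a, b} : Set G) with hK
  let x : K := ⟨a, subset_closure (Set.mem_insert _ _)⟩
  let y : K := ⟨b, subset_closure (Set.mem_insert_of_mem _ rfl)⟩
  set D := commutator K with hD
  have hDle : D.map K.subtype ≤ commutator G := by
    rw [hD, Subgroup.map_subtype_commutator, _root_.commutator_def]
    exact commutator_mono le_top le_top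
  haveI hDc : IsCyclic D := isCyclic_of_injective
    ((Subgroup.inclusion hDle).comp (D.equivMapOfInjective _ K.subtype_injective).toMonoidHom)
    ((Subgroup.inclusion_injective hDle).comp (MulEquiv.injective _))
  letI : CommGroup D := IsCyclic.commGroup
  set N := ((powMonoidHom p : D →* D).range).map D.subtype with hN
  haveI hNn : N.Normal := ⟨by
    rintro _ ⟨_, ⟨d, rfl⟩, rfl⟩ g
    exact ⟨_, ⟨⟨g * d * g⁻¹, (inferInstance : D.Normal).conj_mem _ d.2 g⟩, rfl⟩,
      conj_pow.trans rfl⟩⟩
  set π := QuotientGroup.mk' N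
  haveI hDn : (D.map π).Normal := Normal.map inferInstance _ (QuotientGroup.mk'_surjective _)
  have hDexp : ∀ q ∈ D.map π, q ^ p = 1 := by
    rintro _ ⟨d, hd, rfl⟩
    rw [← map_pow]
    exact (QuotientGroup.eq_one_iff _).2 ⟨_, ⟨⟨d, hd⟩, rfl⟩, rfl⟩
  have hcard : Nat.card (D.map π) ≤ p := by
    haveI : IsCyclic (D.map π) :=
      isCyclic_of_surjective (π.subgroupMap D) (π.subgroupMap_surjective D)
    obtain ⟨d, hd⟩ := IsCyclic.exists_ofOrder_eq_natCard (α := D.map π)
    rw [← hd]
    exact orderOf_le_of_pow_eq_one hp.out.pos (Subtype.ext (hDexp d d.2))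
  have hcen := le_center_of_card_le ((hG.to_subgroup K).to_quotient N) (D.map π) hcard
  set c := π ⁅y, x⁆ with hcdef
  have hcD : c ∈ D.map π := mem_map_of_mem _ (commutator_mem_commutator (mem_top _) (mem_top _))
  have e := CfsgLib.OddPGroup.pow_p_of_central hp.out hp2 (x := π x) (y := π y) (c := c)
    (by rw [hcdef, map_commutatorElement, commutatorElement_def]; group)
    (fun g => (mem_center_iff.1 (hcen hcD) g).symm) (hDexp c hcD)
  rw [← map_mul, ← map_pow, ← map_pow, ← map_pow, ← map_mul] at e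
  obtain ⟨_, ⟨d, rfl⟩, hd⟩ := QuotientGroup.eq.1 e.symm
  refine ⟨((d : K) : G), ?_, ?_⟩
  · rw [← Subgroup.map_subtype_commutator K]
    exact mem_map_of_mem _ d.2
  · have h1 := congrArg Subtype.val hd
    simp only [powMonoidHom_apply, Subgroup.coe_subtype, Subgroup.coe_mul, Subgroup.coe_pow,
      InvMemClass.coe_inv, x, y] at h1
    rw [h1, mul_inv_cancel_left]

/-- The derived subgroup is cyclic. -/
theorem SmallOmega.cyclic_commutator (hp3 : 3 < p) (hG : IsPGroup p G) (h : SmallOmega p G) :
    IsCyclic (commutator G) := by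
  classical
  set D := commutator G with hD
  by_contra hnc
  set M := Cfsg.powerClosure p 1 D with hM
  haveI : M.Normal := powerClosure_normal 1 D
  set π := QuotientGroup.mk' M with hπ
  have hQ := hG.to_quotient M
  have hsm : SmallOmega p (G ⧸ M) := SmallOmega.quotient hp3 _ le_rfl hG h M
  set E := D.map π with hE
  haveI : E.Normal := Normal.map inferInstance _ (QuotientGroup.mk'_surjective _)
  have hEexp : ∀ e ∈ E, e ^ p = 1 := by
    rintro _ ⟨d, hd, rfl⟩
    rw [← map_pow]
    exact (QuotientGroup.eq_one_iff _).2 (by simpa using Regular.pow_mem_powerClosure (p := p) (n := 1) hd)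
  have hE2 : Nat.card E ≤ p ^ 2 := hsm.card_le_of_exponent hEexp
  -- the image of the derived subgroup is not cyclic
  have hEp : ¬ Nat.card E ≤ p := by
    intro hle
    apply hnc
    have hDp : IsPGroup p D := hG.to_subgroup D
    obtain ⟨-, hpw⟩ := CfsgLib.PGroupBasic.commutator_pow_le_frattini hDp
    have hMF : M ≤ (frattini D).map D.subtype := by
      rw [hM, Cfsg.powerClosure, closure_le]
      rintro _ ⟨x, hx, rfl⟩
      exact ⟨⟨x, hx⟩ ^ p, hpw _, by simp⟩
    obtain ⟨d, hd⟩ : ∃ d ∈ D, zpowers (π d) = E := by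
      by_cases hb : E = ⊥
      · exact ⟨1, one_mem _, by rw [hb, map_one, zpowers_one_eq_bot]⟩
      · obtain ⟨q, hq, hq1⟩ := (bot_or_exists_ne_one E).resolve_left hb
        obtain ⟨d, hd, rfl⟩ := hq
        refine ⟨d, hd, eq_of_le_of_card_ge (zpowers_le.2 (mem_map_of_mem π hd)) ?_⟩
        rw [Nat.card_zpowers, orderOf_eq_prime (hEexp _ (mem_map_of_mem π hd)) hq1]
        exact hle
    have htop : zpowers (⟨d, hd.1⟩ : D) ⊔ frattini D = ⊤ := by
      refine eq_top_iff.2 fun x _ => ?_
      have hx : π x ∈ zpowers (π d) := hd.2.symm ▸ mem_map_of_mem π x.2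
      obtain ⟨i, hi⟩ := mem_zpowers_iff.1 hx
      rw [← map_zpow] at hi
      obtain ⟨f, hf, hfe⟩ := hMF (QuotientGroup.eq.1 hi)
      have : x = (⟨d, hd.1⟩ : D) ^ i * f := Subtype.ext (by
        simp only [Subgroup.coe_mul, SubgroupClass.coe_zpow]
        rw [show (f : G) = (d ^ i)⁻¹ * x from hfe, mul_inv_cancel_left])
      rw [this]
      exact mul_mem (mem_sup_left (zpow_mem (mem_zpowers _) i)) (mem_sup_right hf)
    exact isCyclic_iff_exists_zpowers_eq_top.2 ⟨_, frattini_nongenerating htop⟩
  -- it is central modulo a subgroup of order at most `p`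
  set L := ⁅E, (⊤ : Subgroup (G ⧸ M))⁆ with hL
  have hLE : L ≤ E := commutator_le_left E ⊤
  have hLp : Nat.card L ≤ p := by
    have hne : L ≠ E := by
      intro e
      have hEb : E = ⊥ := by
        obtain ⟨n, hn⟩ := (Subgroup.isNilpotent_iff_lowerCentralSeries (⊤ : Subgroup (G ⧸ M))).1
          (Group.isNilpotent_top.2 hQ.isNilpotent)
        have hall : ∀ i, E ≤ (⊤ : Subgroup (G ⧸ M)).lowerCentralSeries i := by
          intro i
          induction i with
          | zero => exact le_top
          | succ i ih => rw [Subgroup.lowerCentralSeries_succ, ← e, hL]; exact commutator_mono ih le_rfl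
        exact le_bot_iff.1 (hn ▸ hall n)
      exact hEp (by rw [hEb, card_bot]; exact hp.out.pos)
    have := card_mul_le_of_lt hQ (lt_of_le_of_ne hLE hne)
    rw [pow_two] at hE2
    exact Nat.le_of_mul_le_mul_left (this.trans hE2) hp.out.pos
  haveI : L.Normal := inferInstance
  have hLc := le_center_of_card_le hQ L hLp
  have hEdef : E = commutator (G ⧸ M) := by
    rw [hE, hD, _root_.commutator_def, map_commutator, map_top_of_surjective _ (QuotientGroup.mk'_surjective _),
      ← _root_.commutator_def]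
  have hcl : (⊤ : Subgroup (G ⧸ M)).lowerCentralSeries (p - 1) = ⊥ := by
    refine le_bot_iff.1 (((⊤ : Subgroup (G ⧸ M)).lowerCentralSeries_antitone (show 3 ≤ p - 1 by omega)).trans ?_)
    rw [Subgroup.lowerCentralSeries_succ, Subgroup.lowerCentralSeries_succ, Subgroup.top_lowerCentralSeries_one,
      ← hEdef, ← hL]
    exact commutator_le.2 fun l hl g _ =>
      mem_bot.2 (commutatorElement_eq_one_iff_mul_comm.2 (mem_center_iff.1 (hLc hl) g).symm)
  have law := regular_law hQ (Regular.isRegular_of_class_lt hQ hcl)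
  have hpc : ∀ x : G ⧸ M, x ^ p ∈ center (G ⧸ M) := fun x => mem_center_iff.2 fun g => by
    have h1 := (Regular.commute_pow_iff hQ law x g).2
    simp only [pow_one] at h1
    refine (h1 (hEexp _ ?_)).symm
    rw [hEdef, show x⁻¹ * g⁻¹ * x * g = ⁅x⁻¹, g⁻¹⁆ by simp [commutatorElement_def, mul_assoc]]
    exact commutator_mem_commutator (mem_top _) (mem_top _)
  have hEc : E ≤ center (G ⧸ M) := by
    haveI := powerClosure_normal (p := p) 1 (⊤ : Subgroup (G ⧸ M))
    have hle : Cfsg.powerClosure p 1 (⊤ : Subgroup (G ⧸ M)) ≤ center (G ⧸ M) := by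
      rw [Cfsg.powerClosure, closure_le]
      rintro _ ⟨x, -, rfl⟩
      simpa using hpc x
    refine le_trans ?_ hle
    rw [hEdef]
    refine Normal.quotient_commutative_iff_commutator_le.1 ?_
    have hi := hsm.index_powerClosure_le hp3 hQ
    obtain ⟨k, hk⟩ := hQ.index (Cfsg.powerClosure p 1 (⊤ : Subgroup (G ⧸ M)))
    rw [hk] at hi
    have hk2 := (Nat.pow_le_pow_iff_right hp.out.one_lt).1 hi
    refine ⟨⟨fun u v => ?_⟩⟩
    have hcu := commutative_le_sq (p := p)
      (G := (G ⧸ M) ⧸ Cfsg.powerClosure p 1 (⊤ : Subgroup (G ⧸ M))) (k := k) (by rw [← index_eq_card, hk]) hk2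
    exact hcu u v
  -- the centre has index at most `p ^ 2`
  haveI hZn : (center (G ⧸ M)).Normal := inferInstance
  have hidx : (center (G ⧸ M)).index ≤ p ^ 2 := by
    rw [index_eq_card, ← card_top]
    refine (SmallOmega.quotient hp3 _ le_rfl hQ hsm _).card_le_of_exponent fun x _ => ?_
    obtain ⟨y, rfl⟩ := QuotientGroup.mk_surjective x
    rw [← QuotientGroup.mk_pow, QuotientGroup.eq_one_iff]
    exact hpc y
  set Z := center (G ⧸ M) with hZ
  obtain ⟨a, b, hab⟩ : ∃ a b : G ⧸ M, closure ({a, b} ∪ (Z : Set (G ⧸ M))) = ⊤ := by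
    by_cases h1 : Z = ⊤
    · exact ⟨1, 1, top_unique (h1 ▸ fun x hx => subset_closure (Or.inr hx))⟩
    obtain ⟨a, -, ha⟩ := SetLike.exists_of_lt (lt_top_iff_ne_top.2 h1)
    set S := zpowers a ⊔ Z
    have hZS : Z < S := lt_of_le_of_ne le_sup_right fun e => ha (e ▸ mem_sup_left (mem_zpowers a))
    have hSle : S ≤ closure ({a, a} ∪ (Z : Set (G ⧸ M))) :=
      sup_le (zpowers_le.2 (subset_closure (Or.inl (Or.inl rfl)))) fun x hx => subset_closure (Or.inr hx)
    by_cases h2 : S = ⊤
    · exact ⟨a, a, top_unique (h2 ▸ hSle)⟩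
    obtain ⟨b, -, hb⟩ := SetLike.exists_of_lt (lt_top_iff_ne_top.2 h2)
    refine ⟨a, b, ?_⟩
    have hT : S ⊔ zpowers b = ⊤ := by
      refine eq_top_of_card_eq _ (le_antisymm (card_le_card_group _) ?_)
      have hST : S < S ⊔ zpowers b :=
        lt_of_le_of_ne le_sup_left fun e => hb (e ▸ mem_sup_right (mem_zpowers b))
      have i1 := card_mul_le_of_lt hQ hZS
      have i2 := card_mul_le_of_lt hQ hST
      calc Nat.card (G ⧸ M) = Nat.card Z * Z.index := Z.card_mul_index.symm
        _ ≤ Nat.card Z * p ^ 2 := Nat.mul_le_mul_left _ hidx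
        _ = p * (p * Nat.card Z) := by ring
        _ ≤ p * Nat.card S := Nat.mul_le_mul_left _ i1
        _ ≤ _ := i2
    refine top_unique (hT ▸ sup_le (sup_le ?_ ?_) ?_)
    · exact zpowers_le.2 (subset_closure (Or.inl (Or.inl rfl)))
    · exact fun x hx => subset_closure (Or.inr hx)
    · exact zpowers_le.2 (subset_closure (Or.inl (Or.inr rfl)))
  set c := ⁅a, b⁆ with hc
  have hcE : c ∈ E := hEdef ▸ commutator_mem_commutator (mem_top a) (mem_top b)
  haveI hCn : (zpowers c).Normal := ⟨fun x hx g => by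
    rwa [mem_center_iff.1 (hEc ((zpowers_le.2 hcE) hx)) g, mul_inv_cancel_right]⟩
  have hEC : E ≤ zpowers c := by
    rw [hEdef]
    refine Normal.quotient_commutative_iff_commutator_le.1 ⟨⟨fun u v => ?_⟩⟩
    obtain ⟨u, rfl⟩ := QuotientGroup.mk'_surjective (zpowers c) u
    obtain ⟨v, rfl⟩ := QuotientGroup.mk'_surjective (zpowers c) v
    have hgen : closure (QuotientGroup.mk' (zpowers c) '' ({a, b} ∪ (Z : Set (G ⧸ M)))) = ⊤ := by
      rw [← MonoidHom.map_closure, hab, map_top_of_surjective _ (QuotientGroup.mk'_surjective _)]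
    have hab' : Commute (QuotientGroup.mk' (zpowers c) a) (QuotientGroup.mk' (zpowers c) b) :=
      commutatorElement_eq_one_iff_mul_comm.1 (by
        rw [← map_commutatorElement]
        exact (QuotientGroup.eq_one_iff _).2 (mem_zpowers c))
    haveI := Subgroup.isMulCommutative_closure
      (k := QuotientGroup.mk' (zpowers c) '' ({a, b} ∪ (Z : Set (G ⧸ M)))) (by
      rintro _ ⟨s, hs, rfl⟩ _ ⟨t, ht, rfl⟩
      rcases ht with ht | ht
      swap
      · rw [← map_mul, ← map_mul, mem_center_iff.1 ht s]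
      rcases hs with hs | hs
      swap
      · rw [← map_mul, ← map_mul, mem_center_iff.1 hs t]
      rcases hs with rfl | rfl <;> rcases ht with rfl | rfl
      exacts [rfl, hab', hab'.symm, rfl])
    exact congrArg Subtype.val (mul_comm' (⟨_, hgen ▸ mem_top (QuotientGroup.mk' (zpowers c) u)⟩ :
      closure (QuotientGroup.mk' (zpowers c) '' ({a, b} ∪ (Z : Set (G ⧸ M)))))
      ⟨_, hgen ▸ mem_top (QuotientGroup.mk' (zpowers c) v)⟩)
  refine hEp ((card_le_of_le hEC).trans ?_)
  rw [Nat.card_zpowers]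
  exact orderOf_le_of_pow_eq_one hp.out.pos (hEexp c hcE)

/-- An injection bounding a subgroup by the `p`-th powers and the fibres of the power map. -/
theorem card_le_of_fibre {G : Type*} [Group G] [Finite G] {p : ℕ} (H S T : Subgroup G)
    (hpow : ∀ h ∈ H, h ^ p ∈ S) (hfib : ∀ a ∈ H, ∀ b ∈ H, a ^ p = b ^ p → a * b⁻¹ ∈ T) :
    Nat.card H ≤ Nat.card S * Nat.card T := by
  classical
  set f : H → G := fun h => (h : G) ^ p with hf
  have hinv : ∀ h : H, f (Function.invFun f (f h)) = f h := fun h => Function.invFun_eq ⟨h, rfl⟩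
  rw [← Nat.card_prod]
  refine Nat.card_le_card_of_injective
    (fun h : H => ((⟨f h, hpow h h.2⟩ : S),
      (⟨(h : G) * (Function.invFun f (f h) : H).1⁻¹, hfib _ h.2 _ (Subtype.prop _) (hinv h).symm⟩ : T))) ?_
  intro a b e
  simp only [Prod.mk.injEq, Subtype.mk.injEq] at e
  rw [e.1] at e
  exact Subtype.ext (mul_right_cancel e.2)

/-- A group with cyclic derived subgroup and at most `p ^ 2` elements of order `p` is metacyclic. -/
theorem isMetacyclic_of_cyclic_commutator (hp2 : p ≠ 2) (hG : IsPGroup p G) (h : SmallOmega p G)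
    (hc : IsCyclic (commutator G)) : Cfsg.IsMetacyclic G := by
  have law := regular_law hG (isRegular_of_cyclic_commutator hp2 hG hc)
  set P := Cfsg.powerClosure p 1 (⊤ : Subgroup G) with hP
  haveI hPn : P.Normal := powerClosure_normal 1 ⊤
  have hidx : P.index ≤ p ^ 2 := by
    refine Nat.le_of_mul_le_mul_left ?_ (Nat.card_pos (α := P))
    rw [P.card_mul_index]
    have hle := card_le_of_fibre (⊤ : Subgroup G) P (Cfsg.omegaOne p (⊤ : Subgroup G))
      (fun x _ => pow_mem_top_powerClosure x) fun a _ b _ e => subset_closure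
        ⟨mem_top _, by simpa using (Regular.pow_eq_iff hG law a b).1 (by simpa using e)⟩
    rw [card_top] at hle
    exact hle.trans (Nat.mul_le_mul_left _ h)
  have hPF : P ≤ frattini G := by
    rw [hP, Cfsg.powerClosure, closure_le]
    rintro _ ⟨x, -, rfl⟩
    simpa using (CfsgLib.PGroupBasic.commutator_pow_le_frattini hG).2 x
  obtain ⟨k, hk⟩ := hG.index P
  rw [hk] at hidx
  have hk2 := (Nat.pow_le_pow_iff_right hp.out.one_lt).1 hidx
  have hcomm : ∀ u v : G ⧸ P, u * v = v * u :=
    commutative_le_sq (p := p) (k := k) (by rw [← index_eq_card, hk]) hk2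
  have hDP : commutator G ≤ P := Normal.quotient_commutative_iff_commutator_le.1 ⟨⟨hcomm⟩⟩
  obtain ⟨c, hcc⟩ := hc.exists_zpow_surjective
  -- an element outside the Frattini subgroup
  obtain ⟨g, hgD, hgP⟩ : ∃ g : G, (c : G) ∈ zpowers g ∧ (g ∉ P ∨ P = ⊤) := by
    by_cases hc1 : (c : G) = 1
    · by_cases hPt : P = ⊤
      · exact ⟨1, (by rw [hc1]; exact one_mem _), Or.inr hPt⟩
      · obtain ⟨g, -, hg⟩ := SetLike.exists_of_lt (lt_top_iff_ne_top.2 hPt)
        exact ⟨g, (by rw [hc1]; exact one_mem _), Or.inl hg⟩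
    by_contra hcon
    have hall : ∀ k : ℕ, ∃ g : G, g ^ p ^ k = c := by
      intro k
      induction k with
      | zero => exact ⟨c, by simp⟩
      | succ k ih =>
        obtain ⟨g, hg⟩ := ih
        have hgP : g ∈ P := by
          by_contra hgP
          exact hcon ⟨g, hg ▸ pow_mem (mem_zpowers g) _, Or.inl hgP⟩
        obtain ⟨w, -, rfl⟩ := (Regular.mem_powerClosure_iff hG law).1 hgP
        exact ⟨w, by rw [← hg, pow_one, ← pow_mul, ← pow_succ']⟩
    obtain ⟨m, hm⟩ := IsPGroup.iff_card.1 hG
    obtain ⟨g, hg⟩ := hall m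
    rw [← hm, pow_card_eq_one'] at hg
    exact hc1 hg.symm
  have hDg : commutator G ≤ zpowers g := by
    intro x hx
    obtain ⟨i, hi⟩ := hcc ⟨x, hx⟩
    have := congrArg Subtype.val hi
    simp only [SubgroupClass.coe_zpow] at this
    rw [← this]
    exact zpow_mem hgD i
  haveI hN : (zpowers g).Normal := ⟨fun x hx y => by
    have hy : ⁅y, x⁆ ∈ zpowers g := hDg (commutator_mem_commutator (mem_top y) (mem_top x))
    have := mul_mem hy hx
    rwa [commutatorElement_def, inv_mul_cancel_right] at this⟩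
  refine ⟨zpowers g, hN, isCyclic_zpowers g, ?_⟩
  -- the quotient is cyclic
  set S := zpowers g ⊔ P with hS
  haveI hSn : S.Normal := ⟨fun x hx y => by
    have hy : ⁅y, x⁆ ∈ S := mem_sup_left (hDg (commutator_mem_commutator (mem_top y) (mem_top x)))
    have := mul_mem hy hx
    rwa [commutatorElement_def, inv_mul_cancel_right] at this⟩
  obtain ⟨h', hh'⟩ : ∃ h' : G, zpowers h' ⊔ S = ⊤ := by
    by_cases hSt : S = ⊤
    · exact ⟨1, by rw [hSt, sup_top_eq]⟩
    obtain ⟨h', -, hh'⟩ := SetLike.exists_of_lt (lt_top_iff_ne_top.2 hSt)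
    refine ⟨h', ?_⟩
    rcases hgP with hgP | hPt
    swap
    · exact absurd (top_unique (hPt ▸ le_sup_right)) hSt
    refine eq_top_of_card_eq _ (le_antisymm (card_le_card_group _) ?_)
    have hPS : P < S := lt_of_le_of_ne le_sup_right fun e => hgP (e ▸ mem_sup_left (mem_zpowers g))
    have hST : S < zpowers h' ⊔ S :=
      lt_of_le_of_ne le_sup_right fun e => hh' (e ▸ mem_sup_left (mem_zpowers h'))
    have i1 := card_mul_le_of_lt hG hPS
    have i2 := card_mul_le_of_lt hG hST
    calc Nat.card G = Nat.card P * P.index := P.card_mul_index.symm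
      _ ≤ Nat.card P * p ^ 2 := Nat.mul_le_mul_left _ (by rw [hk]; exact Nat.pow_le_pow_right hp.out.pos hk2)
      _ = p * (p * Nat.card P) := by ring
      _ ≤ p * Nat.card S := Nat.mul_le_mul_left _ i1
      _ ≤ _ := i2
  have hfr : (zpowers h' ⊔ zpowers g) ⊔ frattini G = ⊤ := by
    refine top_unique (hh' ▸ sup_le (le_sup_left.trans le_sup_left) (sup_le ?_ ?_))
    · exact le_sup_right.trans le_sup_left
    · exact hPF.trans le_sup_right
  have htop := frattini_nongenerating hfr
  refine isCyclic_iff_exists_zpowers_eq_top.2 ⟨QuotientGroup.mk' (zpowers g) h', ?_⟩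
  have := congrArg (Subgroup.map (QuotientGroup.mk' (zpowers g))) htop
  rw [Subgroup.map_sup, MonoidHom.map_zpowers, map_top_of_surjective _ (QuotientGroup.mk'_surjective _),
    QuotientGroup.map_mk'_self, sup_bot_eq] at this
  exact this

/-- Huppert's criterion. -/
theorem SmallOmega.isMetacyclic (hp3 : 3 < p) (hG : IsPGroup p G) (h : SmallOmega p G) :
    Cfsg.IsMetacyclic G :=
  isMetacyclic_of_cyclic_commutator (by omega) hG h (h.cyclic_commutator hp3 hG)

end CfsgLib.FGSA.Huppert
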