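import Cfsg.Agent.FGSA.RankTwoAut
import Cfsg.Agent.FGSA.Huppert
import Cfsg.Agent.PLocal.OddPGroup
import Cfsg.Prelude.Def_OddOrderLocal

/-!
`p`-groups with a maximal elementary abelian subgroup of order `p ^ 2`, `p` odd, and their automorphisms.
-/

set_option autoImplicit false
set_option linter.style.haveILetI false
set_option linter.unusedSectionVars false

namespace CfsgLib.FGSA.Narrow

open Subgroup CfsgLib.FGSA.Huppert
open scoped commutatorElement

universe u

variable {R : Type u} [Group R] [Finite R] {p : ℕ} [hp : Fact p.Prime]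

/-- The central elements killed by `p`. -/
abbrev Z₁ (p : ℕ) (R : Type u) [Group R] : Subgroup R := closure {x : R | x ∈ center R ∧ x ^ p = 1}

/-- The elements of the second centre killed by `p`. -/
abbrev W₂ (p : ℕ) (R : Type u) [Group R] : Subgroup R :=
  closure {x : R | x ∈ Subgroup.upperCentralSeries R 2 ∧ x ^ p = 1}

theorem commutatorElement_mem_center {x : R} (hx : x ∈ Subgroup.upperCentralSeries R 2) (y : R) : ⁅x, y⁆ ∈ center R := by
  rw [← Subgroup.upperCentralSeries_one (G := R)]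
  exact Subgroup.mem_upperCentralSeries_succ_iff.1 hx y

theorem commutator_pow_eq {x : R} (hx : x ∈ Subgroup.upperCentralSeries R 2) (y : R) (n : ℕ) :
    ⁅x ^ n, y⁆ = ⁅x, y⁆ ^ n := by
  induction n with
  | zero => simp
  | succ n ih =>
    rw [pow_succ, commutatorElement_mul_left_eq_conj_mul, mem_center_iff.1 (commutatorElement_mem_center hx y),
      mul_inv_cancel_right, ih, pow_succ, (Commute.pow_self ⁅x, y⁆ n).eq]

theorem mem_W₂_iff (hp2 : p ≠ 2) {x : R} :
    x ∈ W₂ p R ↔ x ∈ Subgroup.upperCentralSeries R 2 ∧ x ^ p = 1 := by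
  refine ⟨fun h => ?_, fun h => subset_closure h⟩
  induction h using closure_induction with
  | mem y hy => exact hy
  | one => exact ⟨one_mem _, one_pow p⟩
  | mul a b _ _ ha hb =>
    refine ⟨mul_mem ha.1 hb.1, ?_⟩
    have hc : ⁅b, a⁆ ∈ center R := commutatorElement_mem_center hb.1 a
    rw [CfsgLib.OddPGroup.pow_p_of_central hp.out hp2 (c := ⁅b, a⁆)
      (by simp [commutatorElement_def, mul_assoc]) (fun g => (mem_center_iff.1 hc g).symm)
      (by rw [← commutator_pow_eq hb.1, hb.2, commutatorElement_one_left]), ha.2, hb.2, one_mul]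
  | inv a _ ha => exact ⟨inv_mem ha.1, by rw [inv_pow, ha.2, inv_one]⟩

/-- The configuration around a maximal elementary abelian subgroup of order `p ^ 2`. -/
theorem maxE_structure (hp2 : p ≠ 2) (hR : IsPGroup p R) (hr : ¬ Cfsg.PRankLE p 2 R)
    (E : Subgroup R) (hE : Cfsg.IsElementaryAbelian p E) (hE2 : Nat.card E = p ^ 2)
    (hEmax : ∀ B : Subgroup R, Cfsg.IsElementaryAbelian p B → E ≤ B → B = E) :
    ¬ E ≤ centralizer ((W₂ p R : Subgroup R) : Set R) ∧ Nat.card (Z₁ p R) = p ∧
      (Cfsg.IsElementaryAbelian p (W₂ p R) ∧ Nat.card (W₂ p R) = p ^ 2) ∧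
      (centralizer ((W₂ p R : Subgroup R) : Set R)).Characteristic ∧
      (centralizer ((W₂ p R : Subgroup R) : Set R)).index = p ∧
      ∃ e : R, ∀ x : R, x ^ p = 1 → x ∈ centralizer ((W₂ p R : Subgroup R) : Set R) → x * e = e * x →
        x ∈ Z₁ p R := by
  classical
  haveI := hE.1
  haveI := hR.isNilpotent
  have hmem : ∀ x : R, x ^ p = 1 → (∀ a ∈ E, a * x = x * a) → x ∈ E := by
    intro x hx hcomm
    have hc : ∀ a ∈ (E : Set R) ∪ {x}, ∀ b ∈ (E : Set R) ∪ {x}, a * b = b * a := by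
      intro a ha b hb
      rcases ha with ha | rfl <;> rcases hb with hb | rfl
      · exact congrArg Subtype.val (hE.1.is_comm.comm ⟨a, ha⟩ ⟨b, hb⟩)
      · exact hcomm a ha
      · exact (hcomm b hb).symm
      · rfl
    haveI := isMulCommutative_closure hc
    have hexp : ∀ a ∈ closure ((E : Set R) ∪ {x}), a ^ p = 1 := by
      intro a ha
      induction ha using closure_induction with
      | mem y hy =>
        rcases hy with hy | rfl
        · exact hE.2 y hy
        · exact hx
      | one => exact one_pow p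
      | mul a b ha' hb' ha hb =>
        have h : a * b = b * a := congrArg Subtype.val
          (IsMulCommutative.is_comm.comm (⟨a, ha'⟩ : closure ((E : Set R) ∪ {x})) ⟨b, hb'⟩)
        rw [(show Commute a b from h).mul_pow, ha, hb, one_mul]
      | inv a _ ha => rw [inv_pow, ha, inv_one]
    rw [← hEmax _ ⟨inferInstance, hexp⟩ fun a ha => subset_closure (Or.inl ha)]
    exact subset_closure (Or.inr rfl)
  have hZE : Z₁ p R ≤ E := (closure_le _).2 fun x hx => hmem x hx.2 fun a _ => mem_center_iff.1 hx.1 a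
  have hZc : Z₁ p R ≤ center R := (closure_le _).2 fun x hx => hx.1
  obtain ⟨B, hBn, hBc, hBe, hB3⟩ : ∃ B : Subgroup R, B.Normal ∧ IsMulCommutative B ∧ (∀ a ∈ B, a ^ p = 1) ∧
      Nat.card B = p ^ 3 := by
    by_contra hcon
    exact hr fun F hFc hFe => CfsgLib.RankTwo.rank_le_two hp2 hR
      (fun A hA hAc hAe hA3 => hcon ⟨A, hA, hAc, hAe, hA3⟩) F ⟨hFc, hFe⟩
  haveI := hBn
  have hBE : ¬ B ≤ E := fun h => by
    have := card_le_of_le h
    rw [hB3, hE2] at this
    exact absurd this (not_le.2 (Nat.pow_lt_pow_right hp.out.one_lt (by norm_num)))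
  have hBcomm : ¬ ∀ a ∈ E, ∀ x ∈ B, a * x = x * a := fun h => hBE fun x hx => hmem x (hBe x hx) fun a ha => h a ha x hx
  have hZlt : Z₁ p R < E := lt_of_le_of_ne hZE fun h => hBcomm fun a ha x _ =>
    (mem_center_iff.1 (hZc (h.ge ha)) x).symm
  have hnt : Nontrivial R := Finite.one_lt_card_iff_nontrivial.1 (lt_of_lt_of_le
    (hB3 ▸ Nat.one_lt_pow (by norm_num) hp.out.one_lt : 1 < Nat.card B) (card_le_card_group B))
  have hZ1 : Nat.card (Z₁ p R) = p := by
    obtain ⟨k, hk⟩ := IsPGroup.iff_card.1 (hR.to_subgroup (Z₁ p R))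
    have hlt := CfsgLib.Solvable.card_lt_of_lt hZlt
    rw [hk, hE2, Nat.pow_lt_pow_iff_right hp.out.one_lt] at hlt
    have hk0 : k ≠ 0 := fun h => by
      have hcb : Z₁ p R = ⊥ := eq_bot_of_card_eq _ (by rw [hk, h, pow_zero])
      haveI := hR.center_nontrivial
      obtain ⟨j, hj⟩ := IsPGroup.iff_card.1 (hR.to_subgroup (center R))
      have hj0 : j ≠ 0 := fun h0 => by
        have := Finite.one_lt_card (α := center R)
        rw [hj, h0, pow_zero] at this
        omega
      obtain ⟨z, hz⟩ := exists_prime_orderOf_dvd_card' (G := center R) p (hj ▸ dvd_pow_self p hj0)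
      have h1 : (z : R) ∈ Z₁ p R := subset_closure ⟨z.2, by rw [← hz, ← orderOf_coe, pow_orderOf_eq_one]⟩
      rw [hcb, mem_bot] at h1
      rw [← orderOf_coe, h1, orderOf_one] at hz
      exact hp.out.ne_one hz.symm
    rw [hk, show k = 1 by omega, pow_one]
  obtain ⟨e, heE, heZ⟩ := SetLike.exists_of_lt hZlt
  have hEsup : Z₁ p R ⊔ zpowers e = E := eq_of_le_of_card_ge (sup_le hZE (zpowers_le.2 heE)) (by
    have hlt : Z₁ p R < Z₁ p R ⊔ zpowers e := lt_of_le_of_ne le_sup_left fun h =>
      heZ (h.ge (mem_sup_right (mem_zpowers e)))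
    have := card_mul_le_of_lt hR hlt
    rwa [hZ1, ← pow_two, ← hE2] at this)
  have hcommE : ∀ x : R, x * e = e * x → ∀ a ∈ E, a * x = x * a := by
    intro x hx a ha
    have hle : E ≤ centralizer ({x} : Set R) := by
      rw [← hEsup]
      exact sup_le (fun z hz => mem_centralizer_singleton_iff.2 (mem_center_iff.1 (hZc hz) x).symm)
        (zpowers_le.2 (mem_centralizer_singleton_iff.2 hx.symm))
    exact mem_centralizer_singleton_iff.1 (hle ha)
  set W := W₂ p R with hW
  have hWm : ∀ x, x ∈ W ↔ x ∈ Subgroup.upperCentralSeries R 2 ∧ x ^ p = 1 := fun x => mem_W₂_iff hp2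
  have hWc : W.Characteristic := characteristic_iff_le_comap.2 fun φ x hx => by
    rw [hWm] at hx
    show φ x ∈ W
    rw [hWm, ← map_pow, hx.2, map_one]
    exact ⟨characteristic_iff_le_comap.1 inferInstance φ hx.1, rfl⟩
  have hEW : ¬ E ≤ W := fun h => by
    haveI hEn : E.Normal := ⟨fun a ha g => by
      have h1 : ⁅a, g⁆ ∈ Z₁ p R := subset_closure ⟨commutatorElement_mem_center ((hWm a).1 (h ha)).1 g, by
        rw [← commutator_pow_eq ((hWm a).1 (h ha)).1, hE.2 a ha, commutatorElement_one_left]⟩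
      rw [show g * a * g⁻¹ = ⁅a, g⁆⁻¹ * a by simp [commutatorElement_def, mul_assoc]]
      exact mul_mem (inv_mem (hZE h1)) ha⟩
    have hidx : (centralizer (E : Set R)).index ≤ p :=
      (CfsgLib.PGroupRank.index_centralizer_le hR E hE2).trans (by norm_num)
    have hle : B ⊓ centralizer (E : Set R) ≤ E := fun x hx =>
      hmem x (hBe x hx.1) fun a ha => mem_centralizer_iff.1 hx.2 a ha
    have hcard : p ^ 3 ≤ Nat.card (B ⊓ centralizer (E : Set R) : Subgroup R) * p := by
      rw [← hB3, ← ((centralizer (E : Set R)).subgroupOf B).card_mul_index]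
      refine Nat.mul_le_mul (le_of_eq ?_) ((relIndex_le_of_le_right (K := B) (L := ⊤) le_top
        (by rw [relIndex_top_right]; exact index_ne_zero_of_finite)).trans
        (by rw [relIndex_top_right]; exact hidx))
      rw [← card_map_of_injective (K := (centralizer (E : Set R)).subgroupOf B) B.subtype_injective,
        subgroupOf_map_subtype, inf_comm]
    have heq : B ⊓ centralizer (E : Set R) = E := eq_of_le_of_card_ge hle (by
      rw [hE2]; exact Nat.le_of_mul_le_mul_right (by rwa [← pow_succ]) hp.out.pos)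
    exact hBcomm fun a ha x hx =>
      congrArg Subtype.val (hBc.is_comm.comm (⟨a, (heq.ge ha).1⟩ : B) ⟨x, hx⟩)
  have hZW : Z₁ p R ≤ W := (closure_le _).2 fun x hx => (hWm x).2
    ⟨Subgroup.upperCentralSeries_mono _ one_le_two (by rw [Subgroup.upperCentralSeries_one]; exact hx.1), hx.2⟩
  have hWE : ∀ x ∈ W, x * e = e * x → x ∈ Z₁ p R := by
    intro x hx hxe
    have hxE : x ∈ E := hmem x ((hWm x).1 hx).2 (hcommE x hxe)
    by_contra hxZ
    refine hEW ?_
    have hlt : Z₁ p R < Z₁ p R ⊔ zpowers x := lt_of_le_of_ne le_sup_left fun h =>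
      hxZ (h.ge (mem_sup_right (mem_zpowers x)))
    have hc := card_mul_le_of_lt hR hlt
    rw [hZ1, ← pow_two, ← hE2] at hc
    rw [← eq_of_le_of_card_ge (sup_le hZE (zpowers_le.2 hxE)) hc]
    exact sup_le hZW (zpowers_le.2 hx)
  have hWle : Nat.card W ≤ p ^ 2 := by
    let κ : W →* R := MonoidHom.mk' (fun x => ⁅(x : R), e⁆) fun a b => by
      rw [Subgroup.coe_mul, commutatorElement_mul_left_eq_conj_mul,
        mem_center_iff.1 (commutatorElement_mem_center ((hWm b).1 b.2).1 e), mul_inv_cancel_right,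
        ← mem_center_iff.1 (commutatorElement_mem_center ((hWm a).1 a.2).1 e)]
    have h1 : κ.range ≤ Z₁ p R := by
      rintro _ ⟨x, rfl⟩
      refine subset_closure ⟨commutatorElement_mem_center ((hWm x).1 x.2).1 e, ?_⟩
      show ⁅(x : R), e⁆ ^ p = 1
      rw [← commutator_pow_eq ((hWm x).1 x.2).1, ((hWm x).1 x.2).2, commutatorElement_one_left]
    have h2 : κ.ker.map W.subtype ≤ Z₁ p R := by
      rintro _ ⟨x, hx, rfl⟩
      exact hWE x x.2 (commutatorElement_eq_one_iff_mul_comm.1 hx)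
    rw [← κ.ker.card_mul_index, index_ker, pow_two, ← card_map_of_injective (K := κ.ker) W.subtype_injective]
    exact Nat.mul_le_mul ((card_le_of_le h2).trans hZ1.le) ((card_le_of_le h1).trans hZ1.le)
  obtain ⟨U, hUn, hUB, hU1, hU2, -⟩ := CfsgLib.PGroupRank.exists_normal_le hR B hB3 2 (by norm_num)
  haveI := hUn
  have hUcard : Nat.card U = p ^ 2 := le_antisymm hU2 hU1
  have hUW : U ≤ W := by
    intro x hx
    refine (hWm x).2 ⟨Subgroup.mem_upperCentralSeries_succ_iff.2 fun y => ?_, hBe x (hUB hx)⟩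
    rw [Subgroup.upperCentralSeries_one]
    obtain ⟨V, hVn, hVU, hVcard⟩ := CfsgLib.OddPGroup.exists_normal_maximal hR hUn (fun h => by
      rw [h, card_bot] at hUcard
      exact absurd hUcard.symm (Nat.one_lt_pow two_ne_zero hp.out.one_lt).ne')
    have hVc : Nat.card V = p := Nat.eq_of_mul_eq_mul_left hp.out.pos (by rw [← hVcard, hUcard, pow_two])
    have hVz := le_center_of_card_le hR V hVc.le
    refine hVz ?_
    haveI := hVn
    rw [← QuotientGroup.eq_one_iff (N := V)]
    set q := QuotientGroup.mk' V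
    show q ⁅x, y⁆ = 1
    haveI : (U.map q).Normal := hUn.map q (QuotientGroup.mk'_surjective V)
    have hcardU : Nat.card (U.map q) ≤ p := by
      have h1 : Nat.card (U.map q) = (q.comp U.subtype).ker.index := by
        rw [index_ker, MonoidHom.range_comp, range_subtype]
      have h2 : (q.comp U.subtype).ker = V.subgroupOf U := by
        rw [← MonoidHom.comap_ker, QuotientGroup.ker_mk']; rfl
      rw [h1, h2]
      refine Nat.le_of_mul_le_mul_left ?_ hp.out.pos
      have h3 := (V.subgroupOf U).card_mul_index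
      rw [Nat.card_congr (subgroupOfEquivOfLe hVU.le).toEquiv, hVc, hUcard] at h3
      rw [h3, pow_two]
    have hz := le_center_of_card_le (hR.to_quotient V) _ hcardU (mem_map_of_mem q hx)
    rw [map_commutatorElement, commutatorElement_eq_one_iff_mul_comm]
    exact (mem_center_iff.1 hz (q y)).symm
  have hWU : U = W := eq_of_le_of_card_ge hUW (hUcard.symm ▸ hWle)
  have hWel : Cfsg.IsElementaryAbelian p W := by
    rw [← hWU]
    exact ⟨⟨⟨fun a b => Subtype.ext (congrArg Subtype.val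
      (hBc.is_comm.comm (⟨a, hUB a.2⟩ : B) ⟨b, hUB b.2⟩) :)⟩⟩, fun a ha => hBe a (hUB ha)⟩
  have hET : ¬ E ≤ centralizer ((W : Subgroup R) : Set R) := fun h => by
    refine hEW ((eq_of_le_of_card_ge (fun w hw => hmem w ((hWm w).1 hw).2 fun a ha => ?_) ?_).ge)
    · exact (mem_centralizer_iff.1 (h ha) w hw).symm
    · rw [hE2, ← hWU, hUcard]
  haveI := hWc
  have hTi : (centralizer ((W : Subgroup R) : Set R)).index = p := by
    obtain ⟨k, hk⟩ := hR.index (centralizer ((W : Subgroup R) : Set R))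
    have hle := CfsgLib.PGroupRank.index_centralizer_le hR W (a := 2) (by rw [← hWU, hUcard])
    rcases k with _ | _ | k
    · rw [pow_zero, index_eq_one] at hk
      exact absurd (hk ▸ le_top) hET
    · rw [hk, pow_one]
    · rw [hk] at hle
      exact absurd ((Nat.pow_le_pow_iff_right hp.out.one_lt).1 hle) (by norm_num)
  refine ⟨hET, hZ1, ⟨hWel, by rw [← hWU, hUcard]⟩, inferInstance, hTi, e, fun x hx hxT hxe => ?_⟩
  have hxE : x ∈ E := hmem x hx (hcommE x hxe)
  by_contra hxZ
  refine hET ?_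
  have hZT : Z₁ p R ≤ centralizer ((W : Subgroup R) : Set R) := hZc.trans (center_le_centralizer _)
  have hlt : Z₁ p R < Z₁ p R ⊔ zpowers x := lt_of_le_of_ne le_sup_left fun h =>
    hxZ (h.ge (mem_sup_right (mem_zpowers x)))
  have hc := card_mul_le_of_lt hR hlt
  rw [hZ1, ← pow_two, ← hE2] at hc
  rw [← eq_of_le_of_card_ge (sup_le hZE (zpowers_le.2 hxE)) hc]
  exact sup_le hZT (zpowers_le.2 hxT)

/-- A narrow group of rank above two has a maximal elementary abelian subgroup of order `p ^ 2`. -/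
theorem exists_maxE (hR : IsPGroup p R) (hn : Cfsg.IsNarrow p R) (hr : ¬ Cfsg.PRankLE p 2 R) :
    ∃ E : Subgroup R, Cfsg.IsElementaryAbelian p E ∧ Nat.card E = p ^ 2 ∧
      ∀ B : Subgroup R, Cfsg.IsElementaryAbelian p B → E ≤ B → B = E := by
  classical
  obtain ⟨R₀, R₁, hR₀, hR₁, hdis, hcomm, hcen⟩ := hn.resolve_left hr
  haveI := hR₁
  haveI : IsCyclic R₀ := isCyclic_of_prime_card (p := p) hR₀
  have h0p : ∀ a ∈ R₀, a ^ p = 1 := fun a ha => by
    have := pow_card_eq_one' (x := (⟨a, ha⟩ : R₀))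
    rw [hR₀] at this
    exact congrArg Subtype.val this
  have hR1 : R₁ ≠ ⊥ := fun h => by
    rw [h, sup_bot_eq] at hcen
    have hz : center R ≤ R₀ := hcen ▸ center_le_centralizer _
    have hnt : Nontrivial R := by
      obtain ⟨x, hx⟩ : ∃ x, x ∈ R₀ ∧ x ≠ 1 := (bot_or_exists_ne_one R₀).resolve_left fun hb => by
        rw [hb, card_bot] at hR₀; exact hp.out.ne_one hR₀.symm
      exact ⟨⟨x, 1, hx.2⟩⟩
    haveI := hR.center_nontrivial
    obtain ⟨j, hj⟩ := IsPGroup.iff_card.1 (hR.to_subgroup (center R))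
    have hle : p ≤ Nat.card (center R) := by
      have := Finite.one_lt_card (α := center R)
      rcases Nat.eq_zero_or_pos j with rfl | hj0
      · rw [hj, pow_zero] at this; omega
      · rw [hj]; exact Nat.le_self_pow hj0.ne' p
    have heq : center R = R₀ := eq_of_le_of_card_ge hz (hR₀.trans_le hle)
    have hall : ∀ x : R, x ∈ R₀ := fun x => hcen.ge (mem_centralizer_iff.2 fun a ha =>
      (mem_center_iff.1 (heq.ge ha) x).symm)
    exact hr fun A _ _ => (card_le_of_le (fun x _ => hall x : A ≤ R₀)).trans (hR₀ ▸ Nat.le_self_pow two_ne_zero p)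
  obtain ⟨k, hk⟩ := IsPGroup.iff_card.1 (hR.to_subgroup R₁)
  have hk0 : k ≠ 0 := fun h => hR1 (eq_bot_of_card_eq _ (by rw [hk, h, pow_zero]))
  obtain ⟨s, hs⟩ := exists_prime_orderOf_dvd_card' (G := R₁) p (hk ▸ dvd_pow_self p hk0)
  have hsuniq : ∀ r : R₁, r ^ p = 1 → r ∈ zpowers s := by
    letI : CommGroup R₁ := IsCyclic.commGroup
    intro r hr'
    set K : Subgroup R₁ := (powMonoidHom p : R₁ →* R₁).ker
    obtain ⟨g, hg⟩ := IsCyclic.exists_ofOrder_eq_natCard (α := K)
    have hKc : Nat.card K ≤ p := hg ▸ orderOf_le_of_pow_eq_one hp.out.pos (Subtype.ext g.2)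
    have hsK : zpowers s ≤ K := zpowers_le.2 (show s ^ p = 1 by rw [← hs, pow_orderOf_eq_one])
    rw [eq_of_le_of_card_ge hsK (by rw [Nat.card_zpowers, hs]; exact hKc)]
    exact hr'
  have hsp : (s : R) ^ p = 1 := by rw [← SubmonoidClass.coe_pow, ← hs, pow_orderOf_eq_one, OneMemClass.coe_one]
  have hscomm : ∀ a ∈ R₀, ∀ b ∈ zpowers (s : R), Commute a b := fun a ha b hb =>
    hcomm a ha b (zpowers_le.2 s.2 hb)
  have hnor : R₀ ≤ normalizer ((zpowers (s : R) : Subgroup R) : Set R) := fun a ha =>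
    centralizer_le_normalizer _ (mem_centralizer_iff.2 fun b hb => (hscomm a ha b hb).eq.symm)
  have hmemE : ∀ x ∈ R₀ ⊔ zpowers (s : R), ∃ a ∈ R₀, ∃ b ∈ zpowers (s : R), x = a * b := by
    intro x hx
    rw [← SetLike.mem_coe, coe_mul_of_left_le_normalizer_right _ _ hnor, Set.mem_mul] at hx
    obtain ⟨a, ha, b, hb, rfl⟩ := hx
    exact ⟨a, ha, b, hb, rfl⟩
  have hbp : ∀ b ∈ zpowers (s : R), b ^ p = 1 := fun b hb => by
    obtain ⟨j, rfl⟩ := mem_zpowers_iff.1 hb
    rw [← zpow_natCast, ← zpow_mul, mul_comm, zpow_mul, zpow_natCast, hsp, one_zpow]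
  have hEel : Cfsg.IsElementaryAbelian p (R₀ ⊔ zpowers (s : R) : Subgroup R) := by
    refine ⟨⟨⟨fun x y => Subtype.ext ?_⟩⟩, fun x hx => ?_⟩
    · obtain ⟨a, ha, b, hb, hx⟩ := hmemE x x.2
      obtain ⟨a', ha', b', hb', hy⟩ := hmemE y y.2
      have h00 : Commute a a' :=
        congrArg Subtype.val ((IsCyclic.commGroup (α := R₀)).mul_comm ⟨a, ha⟩ ⟨a', ha'⟩)
      obtain ⟨i, rfl⟩ := mem_zpowers_iff.1 hb
      obtain ⟨i', rfl⟩ := mem_zpowers_iff.1 hb'
      show (x : R) * y = y * x
      rw [hx, hy]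
      exact ((h00.mul_right (hscomm a ha _ ⟨i', rfl⟩)).mul_left
        (((hscomm a' ha' _ ⟨i, rfl⟩).symm).mul_right (Commute.zpow_zpow_self _ i i'))).eq
    · obtain ⟨a, ha, b, hb, rfl⟩ := hmemE x hx
      rw [(hscomm a ha b hb).mul_pow, h0p a ha, hbp b hb, one_mul]
  refine ⟨R₀ ⊔ zpowers (s : R), hEel, ?_, fun B hB hle => le_antisymm (fun b hb => ?_) hle⟩
  · have hd : R₀ ⊓ zpowers (s : R) = ⊥ := le_bot_iff.1 (hdis ▸ inf_le_inf_left _ (zpowers_le.2 s.2))
    rw [CfsgLib.Solvable.card_sup_of_disjoint hnor hd, hR₀, Nat.card_zpowers, orderOf_coe, hs, pow_two]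
  · have hbC : b ∈ R₀ ⊔ R₁ := by
      rw [hcen]
      exact mem_centralizer_iff.2 fun a ha =>
        congrArg Subtype.val (hB.1.is_comm.comm (⟨a, hle (mem_sup_left ha)⟩ : B) ⟨b, hb⟩)
    have hnor' : R₀ ≤ normalizer (R₁ : Set R) := fun a ha =>
      centralizer_le_normalizer _ (mem_centralizer_iff.2 fun b hb => (hcomm a ha b hb).symm)
    rw [← SetLike.mem_coe, coe_mul_of_left_le_normalizer_right _ _ hnor', Set.mem_mul] at hbC
    obtain ⟨a, ha, r, hr', rfl⟩ := hbC
    have hrp : (⟨r, hr'⟩ : R₁) ^ p = 1 := Subtype.ext (by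
      show r ^ p = 1
      have h := hB.2 _ hb
      rwa [(show Commute a r from hcomm a ha r hr').mul_pow, h0p a ha, one_mul] at h)
    obtain ⟨j, hj⟩ := mem_zpowers_iff.1 (hsuniq _ hrp)
    exact mul_mem (mem_sup_left ha) (mem_sup_right (mem_zpowers_iff.2 ⟨j, by
      rw [← SubgroupClass.coe_zpow, hj]⟩))

/-- The elements that act trivially on the factor `N ⧸ M`. -/
def trivialOn (M N : Subgroup R) (f : MulAut R) : Prop := ∀ x ∈ N, x⁻¹ * f x ∈ M

/-- The automorphisms trivial on all factors of a chain. -/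
def layerKernel (C : ℕ → Subgroup R) (hc : ∀ i, (C i).Characteristic) : Subgroup (MulAut R) where
  carrier := {f | ∀ i, trivialOn (C i) (C (i + 1)) f}
  one_mem' := fun i x _ => by rw [MulAut.one_apply, inv_mul_cancel]; exact one_mem _
  mul_mem' := fun {f g} hf hg i x hx => by
    rw [MulAut.mul_apply, show x⁻¹ * f (g x) = x⁻¹ * f x * f (x⁻¹ * g x) by
      rw [map_mul, map_inv]; group]
    exact mul_mem (hf i x hx) (characteristic_iff_le_comap.1 (hc i) f (hg i x hx))
  inv_mem' := fun {f} hf i x hx => by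
    have hy : f⁻¹ x ∈ C (i + 1) := characteristic_iff_le_comap.1 (hc (i + 1)) f⁻¹ hx
    have h := hf i _ hy
    rw [MulAut.apply_inv_self] at h
    have h2 := inv_mem h
    rwa [mul_inv_rev, inv_inv] at h2

/-- A `p'`-automorphism trivial on the factors of a chain is trivial on its top. -/
theorem fix_of_layers (hR : IsPGroup p R) (C : ℕ → Subgroup R) (h0 : C 0 = ⊥) (f : MulAut R)
    (hf : (orderOf f).Coprime p) (ht : ∀ i, trivialOn (C i) (C (i + 1)) f) :
    ∀ i, ∀ x ∈ C i, f x = x := by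
  intro i
  induction i with
  | zero => intro x hx; rw [h0, mem_bot] at hx; rw [hx, map_one]
  | succ i ih =>
    intro x hx
    set n := x⁻¹ * f x with hn
    have hfn : f n = n := ih _ (ht i x hx)
    have hpow : ∀ j : ℕ, (f ^ j) x = x * n ^ j := by
      intro j
      induction j with
      | zero => simp
      | succ j ihj =>
        rw [pow_succ', MulAut.mul_apply, ihj, map_mul, map_pow, hfn, pow_succ', hn, ← mul_assoc,
          mul_inv_cancel_left]
    have h1 := hpow (orderOf f)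
    rw [pow_orderOf_eq_one, MulAut.one_apply, left_eq_mul] at h1
    obtain ⟨k, hk⟩ := IsPGroup.iff_orderOf.1 hR n
    have h2 : n = 1 := orderOf_eq_one_iff.1 (Nat.eq_one_of_dvd_coprimes (hf.pow_right k)
      (orderOf_dvd_of_pow_eq_one h1) (dvd_of_eq hk))
    exact (inv_mul_eq_one.1 h2).symm

/-- A factor of order at most `p` is spanned by any element outside. -/
theorem layer (hR : IsPGroup p R) {M N : Subgroup R} [M.Normal] (hMN : M ≤ N)
    (hcard : Nat.card N ≤ p * Nat.card M) {x : R} (hx : x ∈ N) (hxM : x ∉ M) :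
    x ^ p ∈ M ∧ ∀ y ∈ N, ∃ k : ℕ, y⁻¹ * x ^ k ∈ M := by
  classical
  set q := QuotientGroup.mk' M
  have hX : Nat.card (N.map q) ≤ p := by
    have h2 : (q.comp N.subtype).ker = M.subgroupOf N := by
      rw [← MonoidHom.comap_ker, QuotientGroup.ker_mk']; rfl
    have h1 : Nat.card (N.map q) = (M.subgroupOf N).index := by
      rw [← h2, index_ker, MonoidHom.range_comp, range_subtype]
    rw [h1]
    refine Nat.le_of_mul_le_mul_left ?_ (Nat.card_pos (α := M))
    rw [← Nat.card_congr (subgroupOfEquivOfLe hMN).toEquiv, (M.subgroupOf N).card_mul_index,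
      Nat.card_congr (subgroupOfEquivOfLe hMN).toEquiv, mul_comm]
    exact hcard
  have hne : q x ≠ 1 := fun h => hxM ((QuotientGroup.eq_one_iff x).1 h)
  obtain ⟨j, hj⟩ := IsPGroup.iff_orderOf.1 (hR.to_quotient M) (q x)
  have hj0 : j ≠ 0 := fun h => hne (orderOf_eq_one_iff.1 (by rw [h, pow_zero] at hj; exact hj))
  have hle : zpowers (q x) ≤ N.map q := zpowers_le.2 (mem_map_of_mem q hx)
  have hord : p ≤ orderOf (q x) := hj ▸ Nat.le_self_pow hj0 p
  have hle' := card_le_of_le hle
  rw [Nat.card_zpowers] at hle'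
  have heq : zpowers (q x) = N.map q := eq_of_le_of_card_ge hle (by
    rw [Nat.card_zpowers]; exact hX.trans hord)
  refine ⟨(QuotientGroup.eq_one_iff _).1 ?_, fun y hy => ?_⟩
  · show q (x ^ p) = 1
    rw [map_pow, le_antisymm hord (hle'.trans hX), pow_orderOf_eq_one]
  · obtain ⟨k, hk⟩ := (isOfFinOrder_of_finite (q x)).mem_powers_iff_mem_zpowers.2
      (heq.ge (mem_map_of_mem q hy))
    refine ⟨k, QuotientGroup.eq.1 ?_⟩
    rw [QuotientGroup.mk_pow]
    exact hk.symm

/-- Automorphisms of a chain with factors of order at most `p`. -/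
theorem layerKernel_props (hR : IsPGroup p R) (C : ℕ → Subgroup R) (hc : ∀ i, (C i).Characteristic)
    (hmono : ∀ i, C i ≤ C (i + 1)) (hcard : ∀ i, Nat.card (C (i + 1)) ≤ p * Nat.card (C i)) :
    commutator (MulAut R) ≤ layerKernel C hc ∧ ∀ f : MulAut R, f ^ (p - 1) ∈ layerKernel C hc := by
  have key : ∀ (f : MulAut R) (i : ℕ) (x : R), x ∈ C (i + 1) → x ∉ C i →
      ∀ y ∈ C (i + 1), ∀ k : ℕ, (f x)⁻¹ * x ^ k ∈ C i → (f y)⁻¹ * y ^ k ∈ C i := by
    intro f i x hx hxM y hy k hk
    haveI := hc i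
    obtain ⟨-, hgen⟩ := layer hR (hmono i) (hcard i) hx hxM
    obtain ⟨l, hl⟩ := hgen y hy
    have hfl := characteristic_iff_le_comap.1 (hc i) f hl
    rw [mem_comap] at hfl
    rw [← QuotientGroup.eq] at hl hk ⊢
    have hfl' : ((f y : R) : R ⧸ C i) = ((f x ^ l : R) : R ⧸ C i) := by
      rw [QuotientGroup.eq]
      simpa using hfl
    rw [hfl', QuotientGroup.mk_pow, hk, QuotientGroup.mk_pow, QuotientGroup.mk_pow, hl, QuotientGroup.mk_pow,
      ← pow_mul, ← pow_mul, mul_comm]
  have hmult : ∀ (f : MulAut R) (i : ℕ), ∃ k : ℕ, ∀ y ∈ C (i + 1), (f y)⁻¹ * y ^ k ∈ C i := by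
    intro f i
    by_cases h : ∃ x ∈ C (i + 1), x ∉ C i
    · obtain ⟨x, hx, hxM⟩ := h
      haveI := hc i
      obtain ⟨-, hgen⟩ := layer hR (hmono i) (hcard i) hx hxM
      obtain ⟨k, hk⟩ := hgen (f x) (characteristic_iff_le_comap.1 (hc (i + 1)) f hx)
      exact ⟨k, fun y hy => key f i x hx hxM y hy k hk⟩
    · push Not at h
      exact ⟨1, fun y hy => mul_mem (inv_mem (characteristic_iff_le_comap.1 (hc i) f (h y hy)))
        (pow_mem (h y hy) 1)⟩
  constructor
  · rw [_root_.commutator_def, commutator_le]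
    intro f _ g _ i y hy
    haveI := hc i
    obtain ⟨k, hk⟩ := hmult f i
    obtain ⟨l, hl⟩ := hmult g i
    set z := (g * f)⁻¹ y with hz
    have hzm : z ∈ C (i + 1) := characteristic_iff_le_comap.1 (hc (i + 1)) (g * f)⁻¹ hy
    have e1 : y = g (f z) := by
      rw [hz]; exact (MulEquiv.apply_symm_apply (g * f) y).symm
    have e2 : ⁅f, g⁆ y = f (g z) := by
      rw [hz, commutatorElement_def, mul_inv_rev]; simp [MulAut.mul_apply]
    have hgz : g z ∈ C (i + 1) := characteristic_iff_le_comap.1 (hc (i + 1)) g hzm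
    have hfz : f z ∈ C (i + 1) := characteristic_iff_le_comap.1 (hc (i + 1)) f hzm
    have a1 := QuotientGroup.eq.2 (hl _ hfz)
    have a2 := QuotientGroup.eq.2 (hk _ hzm)
    have a3 := QuotientGroup.eq.2 (hk _ hgz)
    have a4 := QuotientGroup.eq.2 (hl _ hzm)
    rw [← QuotientGroup.eq, e2, e1, a1, a3, QuotientGroup.mk_pow, QuotientGroup.mk_pow, a2, a4,
      QuotientGroup.mk_pow, QuotientGroup.mk_pow, ← pow_mul, ← pow_mul, mul_comm]
  · intro f i y hy
    haveI := hc i
    obtain ⟨k, hk⟩ := hmult f i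
    have hiter : ∀ j : ℕ, ((f ^ j) y : R ⧸ C i) = (y : R ⧸ C i) ^ k ^ j := by
      intro j
      induction j with
      | zero => simp
      | succ j ih =>
        have hj : (f ^ j) y ∈ C (i + 1) := characteristic_iff_le_comap.1 (hc (i + 1)) (f ^ j) hy
        rw [pow_succ' f, MulAut.mul_apply, QuotientGroup.eq.2 (hk _ hj), QuotientGroup.mk_pow, ih,
          ← pow_mul, ← pow_succ]
    by_cases hyM : y ∈ C i
    · exact mul_mem (inv_mem hyM) (characteristic_iff_le_comap.1 (hc i) (f ^ (p - 1)) hyM)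
    obtain ⟨hyp, -⟩ := layer hR (hmono i) (hcard i) hy hyM
    have hord : (y : R ⧸ C i) ^ p = 1 := by
      rw [← QuotientGroup.mk_pow]; exact (QuotientGroup.eq_one_iff _).2 hyp
    have hkp : ¬ p ∣ k := fun ⟨m, hm⟩ => hyM (by
      have h1 := QuotientGroup.eq.2 (hk y hy)
      rw [QuotientGroup.mk_pow, hm, pow_mul, hord, one_pow, QuotientGroup.eq_one_iff] at h1
      have h2 := characteristic_iff_le_comap.1 (hc i) f⁻¹ h1
      rwa [mem_comap, MulEquiv.coe_toMonoidHom, MulAut.inv_apply_self] at h2)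
    have hmod : k ^ (p - 1) % p = 1 := by
      have h := ZMod.pow_card_sub_one_eq_one (p := p) (a := (k : ZMod p))
        (fun h => hkp ((ZMod.natCast_eq_zero_iff k p).1 h))
      have h' := (ZMod.natCast_eq_natCast_iff' (k ^ (p - 1)) 1 p).1 (by push_cast; exact h)
      rwa [Nat.one_mod_eq_one.2 hp.out.ne_one] at h'
    rw [← QuotientGroup.eq, hiter, ← Nat.mod_add_div (k ^ (p - 1)) p, hmod, pow_add, pow_one, pow_mul,
      hord, one_pow, mul_one]

/-- The automorphism group in the presence of a maximal elementary abelian subgroup of order `p ^ 2`. -/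
theorem aut_structure (hp2 : p ≠ 2) (hR : IsPGroup p R) (hr : ¬ Cfsg.PRankLE p 2 R)
    (E : Subgroup R) (hE : Cfsg.IsElementaryAbelian p E) (hE2 : Nat.card E = p ^ 2)
    (hEmax : ∀ B : Subgroup R, Cfsg.IsElementaryAbelian p B → E ≤ B → B = E) :
    IsPGroup p (commutator (MulAut R)) ∧
      ∀ f : MulAut R, (orderOf f).Coprime p → orderOf f ∣ p - 1 := by
  classical
  haveI := hR.isNilpotent
  obtain ⟨-, hZ1, -, hTc, hTi, e, he⟩ := maxE_structure hp2 hR hr E hE hE2 hEmax
  set T := centralizer ((W₂ p R : Subgroup R) : Set R)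
  obtain ⟨D, hDc, hDe, hfaith⟩ := RankTwoAut.exists_faithful hp2 hR
  set n := Group.nilpotencyClass R
  let C : ℕ → Subgroup R := fun i => if i ≤ n then D ⊓ T ⊓ Subgroup.upperCentralSeries R i else D
  haveI := hTc
  haveI := hDc
  have hchar : ∀ (A B : Subgroup R), A.Characteristic → B.Characteristic → (A ⊓ B).Characteristic :=
    fun A B hA hB => characteristic_iff_le_comap.2 fun φ x hx =>
      ⟨characteristic_iff_le_comap.1 hA φ hx.1, characteristic_iff_le_comap.1 hB φ hx.2⟩
  have hCc : ∀ i, (C i).Characteristic := fun i => by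
    dsimp only [C]
    split_ifs
    · exact hchar _ _ (hchar _ _ hDc hTc) inferInstance
    · exact hDc
  have hC0 : C 0 = ⊥ := by simp [C]
  have hCtop : C (n + 1) = D := by simp [C]
  have hCn : C n = D ⊓ T := by
    simp [C, n, Subgroup.upperCentralSeries_nilpotencyClass]
  have hmono : ∀ i, C i ≤ C (i + 1) := fun i => by
    dsimp only [C]
    split_ifs with h1 h2
    · exact inf_le_inf_left _ (Subgroup.upperCentralSeries_mono _ (Nat.le_succ i))
    · exact inf_le_left.trans inf_le_left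
    · omega
    · exact le_rfl
  have hcard : ∀ i, Nat.card (C (i + 1)) ≤ p * Nat.card (C i) := by
    intro i
    rcases lt_trichotomy i n with h | h | h
    · have e1 : C i = D ⊓ T ⊓ Subgroup.upperCentralSeries R i := if_pos h.le
      have e2 : C (i + 1) = D ⊓ T ⊓ Subgroup.upperCentralSeries R (i + 1) := if_pos h
      rw [e1, e2]
      set N := D ⊓ T ⊓ Subgroup.upperCentralSeries R i
      set N' := D ⊓ T ⊓ Subgroup.upperCentralSeries R (i + 1)
      have hker : ∀ x ∈ N', x * e = e * x → x ∈ Z₁ p R := fun x hx hxe =>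
        he x (hDe x hx.1.1) hx.1.2 hxe
      have hmem : ∀ x ∈ N', ⁅x, e⁆ ∈ N := fun x hx => by
        refine ⟨?_, Subgroup.mem_upperCentralSeries_succ_iff.1 hx.2 e⟩
        rw [commutatorElement_def, mul_assoc, mul_assoc]
        refine mul_mem hx.1 ?_
        rw [← mul_assoc]
        haveI := hchar _ _ hDc hTc
        exact (inferInstance : (D ⊓ T).Normal).conj_mem _ (inv_mem hx.1) e
      set κ : N' → N := fun x => ⟨⁅(x : R), e⁆, hmem x x.2⟩ with hκ
      have hinv : ∀ x : N', κ (Function.invFun κ (κ x)) = κ x := fun x => Function.invFun_eq ⟨x, rfl⟩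
      have hfib : ∀ a b : N', κ a = κ b → ((b : R)⁻¹ * a) ∈ Z₁ p R := by
        intro a b hab
        refine hker _ (mul_mem (inv_mem b.2) a.2) ?_
        have h1 : ⁅(a : R), e⁆ = ⁅(b : R), e⁆ := congrArg Subtype.val hab
        rw [commutatorElement_def, commutatorElement_def, mul_left_inj] at h1
        have h2 : (a : R) * e * (a : R)⁻¹ = (b : R) * e * (b : R)⁻¹ := h1
        calc (b : R)⁻¹ * a * e = (b : R)⁻¹ * ((a : R) * e * (a : R)⁻¹) * a := by group
          _ = (b : R)⁻¹ * ((b : R) * e * (b : R)⁻¹) * a := by rw [h2]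
          _ = _ := by group
      rw [← hZ1, ← Nat.card_prod]
      refine Nat.card_le_card_of_injective (fun a : N' =>
        ((⟨((Function.invFun κ (κ a) : N') : R)⁻¹ * a, hfib _ _ (hinv a).symm⟩ : Z₁ p R), κ a)) ?_
      intro a b hab
      simp only [Prod.mk.injEq, Subtype.mk.injEq] at hab
      have h3 := hab.1
      rw [hab.2] at h3
      exact Subtype.ext (mul_left_cancel h3)
    · subst h
      rw [hCn, hCtop, ← (T.subgroupOf D).card_mul_index, mul_comm]
      refine Nat.mul_le_mul ?_ (le_of_eq ?_)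
      · refine (relIndex_le_of_le_right (K := D) (L := ⊤) le_top
          (by rw [relIndex_top_right]; exact index_ne_zero_of_finite)).trans ?_
        rw [relIndex_top_right, hTi]
      · rw [← card_map_of_injective (K := T.subgroupOf D) D.subtype_injective, subgroupOf_map_subtype,
          inf_comm]
    · have e1 : C i = D := if_neg (by omega)
      have e2 : C (i + 1) = D := if_neg (by omega)
      rw [e1, e2]
      exact Nat.le_mul_of_pos_left _ hp.out.pos
  obtain ⟨hder, hpow⟩ := layerKernel_props hR C hCc hmono hcard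
  have hK : ∀ f ∈ layerKernel C hCc, (orderOf f).Coprime p → f = 1 := fun f hf hco =>
    hfaith f hco (hCtop ▸ fix_of_layers hR C hC0 f hco hf (n + 1))
  constructor
  · intro ⟨f, hf⟩
    obtain ⟨a, m, hm, ho⟩ := Nat.exists_eq_pow_mul_and_not_dvd (orderOf_pos f).ne' p hp.out.ne_one
    refine ⟨a, Subtype.ext (hK _ (pow_mem (hder hf) _) ?_)⟩
    rw [Subgroup.coe_pow, orderOf_pow_of_dvd (pow_ne_zero _ hp.out.ne_zero) (ho ▸ dvd_mul_right _ _), ho,
      Nat.mul_div_cancel_left _ (pow_pos hp.out.pos a)]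
    exact (hp.out.coprime_iff_not_dvd.2 hm).symm
  · intro f hf
    refine orderOf_dvd_of_pow_eq_one (hK _ (hpow f) (hf.coprime_dvd_left (orderOf_pow_dvd _)))

/-- The narrow case of rank above two. -/
theorem aut_of_narrow (hp2 : p ≠ 2) (hR : IsPGroup p R) (hn : Cfsg.IsNarrow p R) (hr : ¬ Cfsg.PRankLE p 2 R) :
    IsPGroup p (commutator (MulAut R)) ∧ ∀ f : MulAut R, (orderOf f).Coprime p → orderOf f ∣ p - 1 := by
  obtain ⟨E, hE, hE2, hmax⟩ := exists_maxE hR hn hr
  exact aut_structure hp2 hR hr E hE hE2 hmax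

end CfsgLib.FGSA.Narrow
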