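import Cfsg.Agent.FGSA.Huppert
import Cfsg.Agent.PLocal.Uniserial

/-!
Blackburn: `p`-groups of odd order with at most `p ^ 2` elements of order `p` are metacyclic or of
maximal class.
-/

set_option autoImplicit false
set_option linter.style.haveILetI false
set_option linter.unusedSectionVars false

namespace CfsgLib.FGSA.RankTwoOdd

open Subgroup CfsgLib.FGSA.Huppert
open scoped commutatorElement

universe u

variable {G : Type u} [Group G] [Finite G] {p : ℕ} [hp : Fact p.Prime]

/-- If the quotient by a central subgroup is metacyclic, the derived subgroup is cyclic. -/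
theorem cyclic_commutator_of_central_quotient (N : Subgroup G) [N.Normal] (hN : N ≤ center G)
    (hm : Cfsg.IsMetacyclic (G ⧸ N)) : IsCyclic (commutator G) := by
  obtain ⟨A, hAn, hA, hQ⟩ := hm
  set π := QuotientGroup.mk' N with hπ
  have hπs : Function.Surjective π := QuotientGroup.mk'_surjective N
  obtain ⟨⟨ā, hā⟩, hgen⟩ := hA.exists_zpow_surjective
  obtain ⟨b', hb'⟩ := hQ.exists_zpow_surjective
  obtain ⟨b₀, rfl⟩ := QuotientGroup.mk'_surjective A b'
  obtain ⟨a, rfl⟩ := hπs ā
  obtain ⟨b, rfl⟩ := hπs b₀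
  have hdec : ∀ x : G, π x ∈ A → ∃ i : ℤ, ∃ w ∈ N, x = a ^ i * w := by
    intro x hx
    obtain ⟨i, hi⟩ := hgen ⟨π x, hx⟩
    have hi' : π (a ^ i) = π x := by rw [map_zpow]; exact congrArg Subtype.val hi
    exact ⟨i, (a ^ i)⁻¹ * x, QuotientGroup.eq.1 hi', by group⟩
  have hcA : π ⁅a, b⁆ ∈ A := by
    rw [map_commutatorElement, commutatorElement_def, mul_assoc, mul_assoc, ← mul_assoc (π b)]
    exact mul_mem hā (hAn.conj_mem _ (inv_mem hā) _)
  obtain ⟨t, w, hw, hc⟩ := hdec _ hcA
  set c := ⁅a, b⁆ with hcdef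
  have hwc : ∀ g, g * w = w * g := mem_center_iff.1 (hN hw)
  have hca : a * c = c * a := by
    rw [hc, ← mul_assoc, ← zpow_one_add, add_comm, zpow_add_one, mul_assoc, hwc, mul_assoc]
  have hcb : b * c * b⁻¹ ∈ zpowers c := by
    have e1 : b * a * b⁻¹ = c⁻¹ * a := by rw [hcdef, commutatorElement_def]; group
    have e2 : b * c * b⁻¹ = c ^ (1 - t) := by
      calc b * c * b⁻¹ = (b * a * b⁻¹) ^ t * (b * w * b⁻¹) := by rw [conj_zpow]; conv_lhs => rw [hc]
                                                                 group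
        _ = (c⁻¹ * a) ^ t * w := by rw [e1, hwc b, mul_inv_cancel_right]
        _ = (c⁻¹) ^ t * a ^ t * w := by rw [((show Commute a c from hca).inv_right.symm).mul_zpow]
        _ = (c⁻¹) ^ t * c := by rw [mul_assoc, ← hc]
        _ = c ^ (1 - t) := by rw [inv_zpow', ← zpow_add_one]; congr 1; ring
    rw [e2]; exact zpow_mem (mem_zpowers c) _
  have hnorm : ∀ g : G, g * c * g⁻¹ ∈ zpowers c → g ∈ normalizer (zpowers c : Set G) := by
    intro g hg
    have hle : (zpowers c).map (MulAut.conj g).toMonoidHom ≤ zpowers c := by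
      rw [MonoidHom.map_zpowers, zpowers_le]; exact hg
    have heq := eq_of_le_of_card_ge hle (card_map_of_injective (MulAut.conj g).injective).ge
    rw [mem_normalizer_iff]
    intro x
    refine ⟨fun hx => hle ⟨x, hx, rfl⟩, fun hx => ?_⟩
    rw [← heq] at hx
    obtain ⟨y, hy, hye⟩ := hx
    rwa [← (MulAut.conj g).injective hye]
  have htop : closure ({a, b} ∪ (N : Set G)) = ⊤ := by
    refine eq_top_iff.2 fun x _ => ?_
    obtain ⟨j, hj⟩ := hb' (QuotientGroup.mk' A (π x))
    have hj' : (QuotientGroup.mk' A) ((π b) ^ j) = QuotientGroup.mk' A (π x) := by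
      rw [map_zpow]; exact hj
    have hmem : π ((b ^ j)⁻¹ * x) ∈ A := by
      rw [map_mul, map_inv, map_zpow]; exact QuotientGroup.eq.1 hj'
    obtain ⟨i, v, hv, hx⟩ := hdec _ hmem
    rw [show x = b ^ j * (a ^ i * v) by rw [← hx, mul_inv_cancel_left]]
    have ha' : a ∈ closure ({a, b} ∪ (N : Set G)) := Subgroup.subset_closure (Or.inl (Or.inl rfl))
    have hb'' : b ∈ closure ({a, b} ∪ (N : Set G)) := Subgroup.subset_closure (Or.inl (Or.inr rfl))
    refine mul_mem (zpow_mem hb'' _) (mul_mem ?_ ?_)
    · exact zpow_mem ha' _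
    · exact Subgroup.subset_closure (Or.inr hv)
  haveI hCn : (zpowers c).Normal := normalizer_eq_top_iff.1 <| top_unique <| htop.ge.trans <| by
    refine (closure_le _).2 ?_
    rintro g ((rfl | rfl) | hg)
    · exact hnorm _ (by rw [hca, mul_inv_cancel_right]; exact mem_zpowers c)
    · exact hnorm _ hcb
    · exact hnorm _ (by rw [← mem_center_iff.1 (hN hg) c, mul_inv_cancel_right]; exact mem_zpowers c)
  have hle : commutator G ≤ zpowers c := by
    refine Normal.quotient_commutative_iff_commutator_le.1 ⟨⟨fun u v => ?_⟩⟩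
    obtain ⟨u, rfl⟩ := QuotientGroup.mk'_surjective (zpowers c) u
    obtain ⟨v, rfl⟩ := QuotientGroup.mk'_surjective (zpowers c) v
    set σ := QuotientGroup.mk' (zpowers c)
    have hgen' : closure (σ '' ({a, b} ∪ (N : Set G))) = ⊤ := by
      rw [← MonoidHom.map_closure, htop, map_top_of_surjective _ (QuotientGroup.mk'_surjective _)]
    have hab : Commute (σ a) (σ b) := commutatorElement_eq_one_iff_mul_comm.1 (by
      rw [← map_commutatorElement]; exact (QuotientGroup.eq_one_iff _).2 (mem_zpowers c))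
    haveI := Subgroup.isMulCommutative_closure (k := σ '' ({a, b} ∪ (N : Set G))) (by
      rintro _ ⟨s, hs, rfl⟩ _ ⟨r, hr, rfl⟩
      rcases hr with hr | hr
      swap
      · rw [← map_mul, ← map_mul, mem_center_iff.1 (hN hr) s]
      rcases hs with hs | hs
      swap
      · rw [← map_mul, ← map_mul, mem_center_iff.1 (hN hs) r]
      rcases hs with rfl | rfl <;> rcases hr with rfl | rfl
      exacts [rfl, hab, hab.symm, rfl])
    exact congrArg Subtype.val (mul_comm' (⟨_, hgen' ▸ mem_top (σ u)⟩ :
      closure (σ '' ({a, b} ∪ (N : Set G)))) ⟨_, hgen' ▸ mem_top (σ v)⟩)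
  exact isCyclic_of_injective (Subgroup.inclusion hle) (Subgroup.inclusion_injective hle)

theorem omega_eq (hexp : ∀ x : G, x ^ p = 1 → x ∈ center G) {x : G}
    (hx : x ∈ Cfsg.omegaOne p (⊤ : Subgroup G)) : x ^ p = 1 ∧ x ∈ center G := by
  unfold Cfsg.omegaOne at hx
  induction hx using closure_induction with
  | mem y hy => exact ⟨hy.2, hexp y hy.2⟩
  | one => exact ⟨one_pow p, one_mem _⟩
  | mul a b _ _ ha hb =>
    exact ⟨by rw [(show Commute a b from mem_center_iff.1 hb.2 a).mul_pow, ha.1, hb.1, one_mul],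
      mul_mem ha.2 hb.2⟩
  | inv a _ ha => exact ⟨by rw [inv_pow, ha.1, inv_one], inv_mem ha.2⟩

/-- At most `p ^ 2` elements of order `p`, all central: the derived subgroup is cyclic. -/
theorem cyclic_commutator_of_omega_central (hp2 : p ≠ 2) : ∀ (N : ℕ) {G : Type u} [Group G] [Finite G],
    Nat.card G ≤ N → IsPGroup p G → (∀ x : G, x ^ p = 1 → x ∈ center G) → SmallOmega p G →
      IsCyclic (commutator G) := by
  intro N
  induction N with
  | zero => intro G _ _ h; exact absurd h (Nat.not_le.2 Nat.card_pos)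
  | succ N ih =>
    intro G _ _ hN hG hexp hsm
    classical
    set U := Cfsg.omegaOne p (⊤ : Subgroup G) with hU
    have hUe : ∀ x ∈ U, x ^ p = 1 ∧ x ∈ center G := fun x hx => omega_eq hexp hx
    have hUmem : ∀ x : G, x ^ p = 1 → x ∈ U := fun x hx => Subgroup.subset_closure ⟨mem_top x, hx⟩
    haveI hUn : U.Normal := ⟨fun x hx g => by
      rwa [mem_center_iff.1 (hUe x hx).2 g, mul_inv_cancel_right]⟩
    by_cases hcyc : IsCyclic G
    · letI : CommGroup G := IsCyclic.commGroup
      infer_instance
    -- commutators with elements whose `p`-th power is in `U`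
    have hcomm : ∀ x g : G, x ^ p ∈ U → g * x * g⁻¹ * x⁻¹ ∈ U := by
      intro x g hx
      have hne : zpowers x ≠ ⊤ := fun e => hcyc (isCyclic_iff_exists_zpowers_eq_top.2 ⟨x, e⟩)
      obtain ⟨M, hM, hxM⟩ := (eq_top_or_exists_le_coatom (zpowers x)).resolve_left hne
      obtain ⟨hMn, -⟩ := CfsgLib.PGroupBasic.coatom_normal_index hG hM
      have hlt : Nat.card M ≤ N := by
        have := CfsgLib.Solvable.card_lt_of_lt (lt_top_iff_ne_top.2 hM.1 : M < ⊤)
        rw [card_top] at this
        omega
      have hMc := ih hlt (hG.to_subgroup M) (fun y hy => mem_center_iff.2 fun z => Subtype.ext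
        (mem_center_iff.1 (hexp y (by simpa using congrArg Subtype.val hy)) z)) (hsm.subgroup M)
      have law := regular_law (hG.to_subgroup M) (isRegular_of_cyclic_commutator hp2 (hG.to_subgroup M) hMc)
      have hxM' : x ∈ M := hxM (mem_zpowers x)
      have h := (Regular.pow_eq_iff (hG.to_subgroup M) law ⟨g * x * g⁻¹, hMn.conj_mem x hxM' g⟩ ⟨x, hxM'⟩).1
        (Subtype.ext (by
          simp only [pow_one, Subgroup.coe_pow]
          rw [conj_pow, mem_center_iff.1 (hUe _ hx).2 g, mul_inv_cancel_right]))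
      exact hUmem _ (by simpa using congrArg Subtype.val h)
    let X : Subgroup G :=
      { carrier := {x | x ^ p ∈ U}
        one_mem' := by show (1 : G) ^ p ∈ U; rw [one_pow]; exact one_mem U
        inv_mem' := fun {x} hx => by show x⁻¹ ^ p ∈ U; rw [inv_pow]; exact inv_mem hx
        mul_mem' := fun {x y} hx hy => by
          show (x * y) ^ p ∈ U
          have hcU : y * x * y⁻¹ * x⁻¹ ∈ U := hcomm x y hx
          rw [CfsgLib.OddPGroup.pow_p_of_central hp.out hp2 (c := y * x * y⁻¹ * x⁻¹) (by group)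
            (fun g => (mem_center_iff.1 (hUe _ hcU).2 g).symm) (hUe _ hcU).1]
          exact mul_mem hx hy }
    have hXc : Nat.card X ≤ Nat.card U * Nat.card U := by
      refine card_le_of_fibre X U U (fun h hh => hh) fun a ha b hb e => hUmem _ ?_
      have hbi : b⁻¹ ^ p ∈ U := by rw [inv_pow]; exact inv_mem hb
      have hcU := hcomm a b⁻¹ ha
      rw [CfsgLib.OddPGroup.pow_p_of_central hp.out hp2 (c := b⁻¹ * a * b⁻¹⁻¹ * a⁻¹) (by group)
        (fun g => (mem_center_iff.1 (hUe _ hcU).2 g).symm) (hUe _ hcU).1, e, inv_pow, mul_inv_cancel]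
    by_cases hUb : U = ⊥
    · have : Nat.card G = 1 := by
        obtain ⟨k, hk⟩ := IsPGroup.iff_card.1 hG
        rcases k with _ | k
        · simpa using hk
        obtain ⟨x, hx⟩ := exists_prime_orderOf_dvd_card' (G := G) p (hk ▸ dvd_pow_self p k.succ_ne_zero)
        have := hUmem x (hx ▸ pow_orderOf_eq_one x)
        rw [hUb, mem_bot] at this
        rw [this, orderOf_one] at hx
        exact absurd hx.symm hp.out.ne_one
      haveI := (Nat.card_eq_one_iff_unique.1 this).1
      infer_instance
    set π := QuotientGroup.mk' U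
    have hπX : ∀ q : G ⧸ U, q ^ p = 1 → q ∈ X.map π := by
      intro q hq
      obtain ⟨x, rfl⟩ := QuotientGroup.mk'_surjective U q
      exact mem_map_of_mem π ((QuotientGroup.eq_one_iff _).1 (by rw [← hq]; rfl) : x ^ p ∈ U)
    have hQc : ∀ q : G ⧸ U, q ^ p = 1 → q ∈ center (G ⧸ U) := by
      intro q hq
      obtain ⟨x, hx, rfl⟩ := hπX q hq
      refine mem_center_iff.2 fun g => ?_
      obtain ⟨g, rfl⟩ := QuotientGroup.mk'_surjective U g
      have h1 : π (g * x * g⁻¹ * x⁻¹) = 1 := (QuotientGroup.eq_one_iff _).2 (hcomm x g hx)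
      rw [map_mul, map_mul, map_mul, map_inv, map_inv] at h1
      exact mul_inv_eq_iff_eq_mul.1 (mul_inv_eq_one.1 h1)
    have hQs : SmallOmega p (G ⧸ U) := by
      refine le_trans (card_le_of_le ((closure_le _).2 fun q hq => hπX q hq.2 :
        Cfsg.omegaOne p (⊤ : Subgroup (G ⧸ U)) ≤ X.map π)) ?_
      refine le_trans (Nat.le_of_mul_le_mul_left ?_ (Nat.card_pos (α := U))) hsm
      have hUX : U ≤ X := fun u hu => by
        show u ^ p ∈ U
        rw [(hUe u hu).1]; exact one_mem U
      have e := relIndex_mul_relIndex ⊥ U X bot_le hUX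
      rw [relIndex_bot_left, relIndex_bot_left] at e
      rw [← relIndex_ker, QuotientGroup.ker_mk', e]
      exact hXc
    have hQN : Nat.card (G ⧸ U) ≤ N := by
      have e := U.card_mul_index
      rw [index_eq_card] at e
      have h1 : 1 < Nat.card U := (one_lt_card_iff_ne_bot U).2 hUb
      have : Nat.card (G ⧸ U) < Nat.card G := by
        rw [← e]; exact lt_mul_of_one_lt_left Nat.card_pos h1
      omega
    have hQm := isMetacyclic_of_cyclic_commutator hp2 (hG.to_quotient U) hQs
      (ih hQN (hG.to_quotient U) hQc hQs)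
    exact cyclic_commutator_of_central_quotient U (fun x hx => (hUe x hx).2) hQm

theorem isMetacyclic_of_omega_central (hp2 : p ≠ 2) (hG : IsPGroup p G)
    (hexp : ∀ x : G, x ^ p = 1 → x ∈ center G) (hsm : SmallOmega p G) : Cfsg.IsMetacyclic G :=
  isMetacyclic_of_cyclic_commutator hp2 hG hsm
    (cyclic_commutator_of_omega_central hp2 _ le_rfl hG hexp hsm)

/-- A group of order `p ^ k` has class at most `k - 1` for `k ≥ 2`. -/
theorem lcs_eq_bot (hG : IsPGroup p G) {k j : ℕ} (hk : Nat.card G = p ^ k) (hj : 1 ≤ j) (hkj : k ≤ j + 1) :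
    (⊤ : Subgroup G).lowerCentralSeries j = ⊥ := by
  by_contra hne
  set L := fun i => (⊤ : Subgroup G).lowerCentralSeries i with hL
  have hdown : ∀ d i, i + d = j → p ^ (d + 1) ≤ Nat.card (L i) := by
    intro d
    induction d with
    | zero =>
      intro i hi
      obtain rfl : i = j := by omega
      obtain ⟨a, ha⟩ := IsPGroup.iff_card.1 (hG.to_subgroup (L i))
      rw [ha]
      exact Nat.pow_le_pow_right hp.out.pos (Nat.one_le_iff_ne_zero.2 fun h0 => hne
        (eq_bot_of_card_eq _ (by rw [ha, h0, pow_zero])))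
    | succ d ihd =>
      intro i hi
      have h1 := ihd (i + 1) (by omega)
      have hne' : L i ≠ ⊥ := fun e => hne (le_bot_iff.1
        (((⊤ : Subgroup G).lowerCentralSeries_antitone (by omega : i ≤ j)).trans e.le))
      have h2 := CfsgLib.Uniserial.descend (hG.to_subgroup ⊤) le_top le_top
        ((⊤ : Subgroup G).self_le_normalizer_lowerCentralSeries i) hne'
      rw [← Subgroup.lowerCentralSeries_succ] at h2
      calc p ^ (d + 1 + 1) = p * p ^ (d + 1) := by ring
        _ ≤ p * Nat.card (L (i + 1)) := Nat.mul_le_mul_left _ h1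
        _ ≤ _ := h2
  have h1 := hdown (j - 1) 1 (by omega)
  have hne1 : L 1 ≠ ⊥ := fun e => hne (le_bot_iff.1
    (((⊤ : Subgroup G).lowerCentralSeries_antitone hj).trans e.le))
  have h2 := CfsgLib.Uniserial.sq_le_index_commutator hG hne1
  have h3 := Nat.mul_le_mul h1 h2
  rw [← pow_add, (L 1).card_mul_index, hk] at h3
  have := (Nat.pow_le_pow_iff_right hp.out.one_lt).1 h3
  omega

/-- Groups with centre of order at least `p ^ 2` are not of maximal class. -/
theorem lcs_eq_bot_of_center (hG : IsPGroup p G) {n : ℕ} (hn : Nat.card G = p ^ n) (h3 : 3 ≤ n)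
    (hz : p ^ 2 ≤ Nat.card (center G)) : (⊤ : Subgroup G).lowerCentralSeries (n - 2) = ⊥ := by
  set Z := center G with hZ
  obtain ⟨k, hk⟩ := hG.index Z
  have hkn : k + 2 ≤ n := by
    have := Nat.mul_le_mul_right (p ^ k) hz
    rw [← pow_add, ← hk, Z.card_mul_index, hn] at this
    have := (Nat.pow_le_pow_iff_right hp.out.one_lt).1 this
    omega
  have hQ : Nat.card (G ⧸ Z) = p ^ k := by rw [← index_eq_card, hk]
  rcases (show n = 3 ∨ 4 ≤ n by omega) with rfl | h4
  · have hcyc : IsCyclic (G ⧸ Z) := isCyclic_of_card_dvd_prime (p := p)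
      (by rw [hQ]; exact (pow_dvd_pow p (show k ≤ 1 by omega)).trans (pow_one p).dvd)
    have hab : ∀ a b : G, a * b = b * a :=
      (commGroupOfCyclicCenterQuotient (QuotientGroup.mk' Z) (QuotientGroup.ker_mk' Z).le).mul_comm
    show (⊤ : Subgroup G).lowerCentralSeries 1 = ⊥
    rw [Subgroup.top_lowerCentralSeries_one, _root_.commutator_def, ← le_bot_iff, commutator_le]
    exact fun a _ b _ => mem_bot.2 (commutatorElement_eq_one_iff_mul_comm.2 (hab a b))
  · have hb := lcs_eq_bot (hG.to_quotient Z) hQ (j := n - 3) (by omega) (by omega)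
    have hle : (⊤ : Subgroup G).lowerCentralSeries (n - 3) ≤ Z := by
      intro x hx
      rw [← QuotientGroup.eq_one_iff, ← mem_bot, ← hb,
        ← Subgroup.map_top_of_surjective (QuotientGroup.mk' Z) (QuotientGroup.mk'_surjective Z),
        ← Subgroup.map_lowerCentralSeries]
      exact ⟨x, hx, rfl⟩
    rw [show n - 2 = n - 3 + 1 by omega, Subgroup.lowerCentralSeries_succ, ← le_bot_iff, commutator_le]
    exact fun a ha b _ => mem_bot.2
      (commutatorElement_eq_one_iff_mul_comm.2 (mem_center_iff.1 (hle ha) b).symm)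

/-- A group with an element having centralizer of order at most `p ^ 2` has maximal class. -/
theorem maximal_class_of_centralizer : ∀ (n : ℕ) {G : Type u} [Group G] [Finite G], 2 ≤ n →
    Nat.card G = p ^ n → ∀ x : G, Nat.card (centralizer ({x} : Set G)) ≤ p ^ 2 →
      (⊤ : Subgroup G).lowerCentralSeries (n - 2) ≠ ⊥ := by
  intro n
  induction n with
  | zero => intro G _ _ h; omega
  | succ n ih =>
    intro G _ _ h2 hn x hx
    rcases (show n = 1 ∨ 2 ≤ n by omega) with rfl | h2n
    · intro e
      rw [Subgroup.lowerCentralSeries_zero] at e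
      have := congrArg (fun H : Subgroup G => Nat.card H) e
      simp only [card_top, card_bot, hn] at this
      exact absurd this (ne_of_gt (Nat.one_lt_pow (by omega) hp.out.one_lt))
    have hG : IsPGroup p G := IsPGroup.of_card hn
    set Z := center G with hZ
    have hxZ : x ∉ Z := by
      intro hxZ
      have htop : centralizer ({x} : Set G) = ⊤ := eq_top_iff.2 fun g _ =>
        mem_centralizer_singleton_iff.2 (mem_center_iff.1 hxZ g)
      rw [htop, card_top, hn] at hx
      have := (Nat.pow_le_pow_iff_right hp.out.one_lt).1 hx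
      omega
    haveI : Nontrivial G := Finite.one_lt_card_iff_nontrivial.1 (by
      rw [hn]; exact Nat.one_lt_pow (by omega) hp.out.one_lt)
    have hZp : Nat.card Z = p := by
      have hlt : Z < centralizer ({x} : Set G) := by
        refine lt_of_le_of_ne (fun z hz => mem_centralizer_singleton_iff.2 ?_) fun e => hxZ ?_
        · exact (mem_center_iff.1 hz x).symm
        · exact e.ge (mem_centralizer_singleton_iff.2 rfl)
      have hle := (card_mul_le_of_lt hG hlt).trans hx
      rw [pow_two] at hle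
      refine le_antisymm (Nat.le_of_mul_le_mul_left hle hp.out.pos) ?_
      obtain ⟨a, ha⟩ := IsPGroup.iff_card.1 (hG.to_subgroup Z)
      haveI := hG.center_nontrivial
      have h1 : 1 < Nat.card Z := Finite.one_lt_card_iff_nontrivial.2 inferInstance
      rw [ha] at h1 ⊢
      exact Nat.le_self_pow (fun h0 => by rw [h0, pow_zero] at h1; omega) p
    have hQ : Nat.card (G ⧸ Z) = p ^ n := by
      have := Z.card_mul_index
      rw [hZp, index_eq_card, hn, pow_succ'] at this
      exact Nat.eq_of_mul_eq_mul_left hp.out.pos this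
    have hC : Nat.card (centralizer ({(x : G ⧸ Z)} : Set (G ⧸ Z))) ≤ p ^ 2 := by
      set L := (centralizer ({(x : G ⧸ Z)} : Set (G ⧸ Z))).comap (QuotientGroup.mk' Z) with hL
      have hZL : Z ≤ L := (QuotientGroup.ker_mk' Z).ge.trans (MonoidHom.ker_le_comap _ _)
      have hLle : Nat.card L ≤ p * p ^ 2 := by
        let δ : L →* Z := MonoidHom.mk' (fun g => ⟨g * x * (g : G)⁻¹ * x⁻¹, by
          rw [← QuotientGroup.eq_one_iff]
          have hg := mem_centralizer_singleton_iff.1 g.2
          simp only [QuotientGroup.mk'_apply] at hg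
          simp only [QuotientGroup.mk_mul, QuotientGroup.mk_inv, hg, mul_inv_cancel_right, mul_inv_cancel]⟩)
          fun g h => Subtype.ext (by
            have hh : (h : G) * x * (h : G)⁻¹ * x⁻¹ ∈ center G := by
              rw [← hZ, ← QuotientGroup.eq_one_iff]
              have hg := mem_centralizer_singleton_iff.1 h.2
              simp only [QuotientGroup.mk'_apply] at hg
              simp only [QuotientGroup.mk_mul, QuotientGroup.mk_inv, hg, mul_inv_cancel_right, mul_inv_cancel]
            simp only [Subgroup.coe_mul]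
            calc (g : G) * h * x * ((g : G) * h)⁻¹ * x⁻¹
                = (g : G) * ((h : G) * x * (h : G)⁻¹ * x⁻¹) * (g : G)⁻¹ * ((g : G) * x * (g : G)⁻¹ * x⁻¹) := by group
              _ = _ := by rw [mem_center_iff.1 hh g, mul_inv_cancel_right, ← mem_center_iff.1 hh])
        have e1 := δ.ker.card_mul_index
        rw [index_ker] at e1
        rw [← e1, mul_comm p]
        refine Nat.mul_le_mul (le_trans ?_ hx) ((card_le_card_group _).trans hZp.le)
        refine Nat.card_le_card_of_injective
          (fun g : δ.ker => (⟨(g : L).1, ?_⟩ : centralizer ({x} : Set G))) ?_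
        · have := congrArg Subtype.val (MonoidHom.mem_ker.1 g.2)
          simp only [δ, MonoidHom.mk'_apply, Subgroup.coe_one] at this
          exact mem_centralizer_singleton_iff.2 (mul_inv_eq_iff_eq_mul.1 (mul_inv_eq_one.1 this))
        · intro a b e
          exact Subtype.ext (Subtype.ext (congrArg Subtype.val e :))
      have e := relIndex_mul_relIndex ⊥ Z L bot_le hZL
      rw [relIndex_bot_left, relIndex_bot_left, hZp] at e
      rw [← map_comap_eq_self_of_surjective (QuotientGroup.mk'_surjective Z)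
        (centralizer ({(x : G ⧸ Z)} : Set (G ⧸ Z))), ← hL, ← relIndex_ker, QuotientGroup.ker_mk']
      exact Nat.le_of_mul_le_mul_left (e.le.trans hLle) hp.out.pos
    have hne := ih h2n hQ (x : G ⧸ Z) hC
    intro e
    refine hne ?_
    rw [show n + 1 - 2 = n - 2 + 1 by omega, Subgroup.lowerCentralSeries_succ] at e
    rw [← Subgroup.map_top_of_surjective (QuotientGroup.mk' Z) (QuotientGroup.mk'_surjective Z),
      ← Subgroup.map_lowerCentralSeries, Subgroup.map_eq_bot_iff, QuotientGroup.ker_mk']
    intro g hg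
    exact mem_center_iff.2 fun h => (commutatorElement_eq_one_iff_mul_comm.1
      (by rw [← mem_bot, ← e]; exact commutator_mem_commutator hg (mem_top h))).symm

/-- The standard data of a noncyclic group of odd prime power order and rank at most two. -/
theorem exists_data (hp2 : p ≠ 2) (hG : IsPGroup p G) (hnc : ¬ IsCyclic G) :
    ∃ U : Subgroup G, U.Normal ∧ Cfsg.IsElementaryAbelian p U ∧ Nat.card U = p ^ 2 := by
  obtain ⟨U, -, h1, h2, h3⟩ := CfsgLib.OddPGroup.exists_normal_elementary hp2 hG ⊤ inferInstance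
    (fun h => hnc ((Subgroup.topEquiv (G := G)).isCyclic.1 h))
  exact ⟨U, h1, h2, h3⟩

/-- The centre and a generator of a normal elementary abelian group of order `p ^ 2` not centralized. -/
theorem split_data (hG : IsPGroup p G) (U : Subgroup G) [hUn : U.Normal]
    (hU : Cfsg.IsElementaryAbelian p U) (hU2 : Nat.card U = p ^ 2)
    (hne : centralizer (U : Set G) ≠ ⊤) :
    Nat.card ↥(U ⊓ center G) = p ∧ (centralizer (U : Set G)).index = p ∧
      (∀ (g : G), ∀ u ∈ U, g * u * g⁻¹ * u⁻¹ ∈ U ⊓ center G) ∧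
      ∀ g : G, g ∉ centralizer (U : Set G) → ∀ u ∈ U, g * u = u * g → u ∈ U ⊓ center G := by
  haveI := hG.isNilpotent
  haveI := hU.1
  set Z := U ⊓ center G with hZ
  have hUne : U ≠ ⊥ := fun h => by
    rw [h, card_bot] at hU2
    exact absurd hU2 (ne_of_lt (Nat.one_lt_pow two_ne_zero hp.out.one_lt))
  have hZU : Z < U := lt_of_le_of_ne inf_le_left fun e => hne (top_unique fun g _ =>
    mem_centralizer_iff.2 fun u hu => (mem_center_iff.1 (e.ge hu).2 g).symm)
  have hZle : Nat.card Z ≤ p := by
    have := card_mul_le_of_lt hG hZU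
    rw [hU2, pow_two] at this
    exact Nat.le_of_mul_le_mul_left this hp.out.pos
  have hZp : Nat.card Z = p := by
    obtain ⟨k, hk⟩ := IsPGroup.iff_card.1 (hG.to_subgroup Z)
    refine le_antisymm hZle ?_
    rw [hk]
    exact Nat.le_self_pow (fun h0 => CfsgLib.PGroupBasic.inf_center_ne_bot U hUne
      (eq_bot_of_card_eq _ (by rw [← hZ, hk, h0, pow_zero]))) p
  set L := ⁅(⊤ : Subgroup G), U⁆ with hL
  have hLU : L ≤ U := commutator_le_right _ _
  have hLne : L ≠ U := by
    intro e
    obtain ⟨k, hk⟩ := (Subgroup.isNilpotent_iff_lowerCentralSeries (⊤ : Subgroup G)).1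
      (Group.isNilpotent_top.2 hG.isNilpotent)
    have hall : ∀ i, U ≤ (⊤ : Subgroup G).lowerCentralSeries i := by
      intro i
      induction i with
      | zero => exact le_top
      | succ i ih =>
        rw [Subgroup.lowerCentralSeries_succ, ← e, hL, commutator_comm]
        exact commutator_mono ih le_rfl
    exact hUne (le_bot_iff.1 (hk ▸ hall k))
  have hLZ : L ≤ Z := by
    refine le_inf hLU (le_center_of_card_le hG L ?_)
    have := card_mul_le_of_lt hG (lt_of_le_of_ne hLU hLne)
    rw [hU2, pow_two] at this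
    exact Nat.le_of_mul_le_mul_left this hp.out.pos
  have hcl : ∀ (g : G), ∀ u ∈ U, g * u * g⁻¹ * u⁻¹ ∈ Z := fun g u hu =>
    hLZ (by rw [← commutatorElement_def]; exact commutator_mem_commutator (mem_top g) hu)
  obtain ⟨y, hyU, hyZ⟩ := SetLike.exists_of_lt hZU
  have hgenU : Z ⊔ zpowers y = U := by
    refine eq_of_le_of_card_ge (sup_le hZU.le (zpowers_le.2 hyU)) ?_
    have hlt : Z < Z ⊔ zpowers y :=
      lt_of_le_of_ne le_sup_left fun e => hyZ (e ▸ mem_sup_right (mem_zpowers y))
    rw [hU2, pow_two]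
    exact hZp ▸ card_mul_le_of_lt hG hlt
  have hcy : ∀ g : G, g * y = y * g → g ∈ centralizer (U : Set G) := by
    intro g hg
    refine le_centralizer_iff.1 ?_ (mem_zpowers g)
    rw [← hgenU]
    refine sup_le (fun z hz => ?_) (zpowers_le.2 ?_)
    · exact mem_centralizer_iff.2 fun w _ => mem_center_iff.1 hz.2 w
    · refine mem_centralizer_iff.2 fun w hw => ?_
      obtain ⟨i, rfl⟩ := mem_zpowers_iff.1 hw
      exact ((show Commute g y from hg).zpow_left i).eq
  let δ : G →* Z := MonoidHom.mk' (fun g => ⟨g * y * g⁻¹ * y⁻¹, hcl g y hyU⟩) fun g h => Subtype.ext (by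
    simp only [Subgroup.coe_mul]
    calc g * h * y * (g * h)⁻¹ * y⁻¹ = g * (h * y * h⁻¹ * y⁻¹) * g⁻¹ * (g * y * g⁻¹ * y⁻¹) := by group
      _ = _ := by rw [mem_center_iff.1 (hcl h y hyU).2 g, mul_inv_cancel_right, ← mem_center_iff.1 (hcl h y hyU).2])
  have hker : δ.ker = centralizer (U : Set G) := by
    ext g
    refine ⟨fun hg => hcy g ?_, fun hg => ?_⟩
    · exact mul_inv_eq_iff_eq_mul.1 (mul_inv_eq_one.1 (congrArg Subtype.val (MonoidHom.mem_ker.1 hg)))
    · refine MonoidHom.mem_ker.2 (Subtype.ext ?_)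
      show g * y * g⁻¹ * y⁻¹ = 1
      rw [← mem_centralizer_iff.1 hg y hyU, mul_inv_cancel_right, mul_inv_cancel]
  refine ⟨hZp, ?_, hcl, fun g hg u hu huc => ?_⟩
  · have hle : (centralizer (U : Set G)).index ≤ p := by
      rw [← hker, index_ker]; exact (card_le_card_group _).trans hZp.le
    obtain ⟨k, hk⟩ := hG.index (centralizer (U : Set G))
    rw [hk] at hle ⊢
    have hk0 : k ≠ 0 := fun h0 => hne (index_eq_one.1 (by rw [hk, h0, pow_zero]))
    exact le_antisymm hle (Nat.le_self_pow hk0 p)
  · by_contra huZ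
    have hlt : Z < U ⊓ centralizer ({g} : Set G) := by
      refine lt_of_le_of_ne (fun z hz => ⟨hz.1, mem_centralizer_singleton_iff.2
        (mem_center_iff.1 hz.2 g).symm⟩) fun e => huZ (e.ge ⟨hu, mem_centralizer_singleton_iff.2 huc.symm⟩)
    have hall : U ⊓ centralizer ({g} : Set G) = U := eq_of_le_of_card_ge inf_le_left (by
      rw [hU2, pow_two]; exact hZp ▸ card_mul_le_of_lt hG hlt)
    exact hg (hcy g (mem_centralizer_singleton_iff.1 (hall.ge hyU).2).symm)

/-- A subgroup whose elements of order `p` lie in a group of order `p` is cyclic. -/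
theorem isCyclic_of_omega_le (hp2 : p ≠ 2) (hG : IsPGroup p G) (C Z : Subgroup G) (hZ : Nat.card Z = p)
    (h : ∀ c ∈ C, c ^ p = 1 → c ∈ Z) : IsCyclic C := by
  by_contra hnc
  obtain ⟨A, -, hA, hA2⟩ := exists_data hp2 (hG.to_subgroup C) hnc
  have hle : A.map C.subtype ≤ Z := by
    rintro _ ⟨a, ha, rfl⟩
    exact h _ a.2 (by rw [← map_pow, hA.2 a ha, map_one])
  have := card_le_of_le hle
  rw [card_map_of_injective C.subtype_injective, hA2, hZ] at this
  exact absurd this (not_le.2 (lt_self_pow₀ hp.out.one_lt one_lt_two))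

/-- Blackburn: at most `p ^ 2` elements of order `p`. -/
theorem metacyclic_or_maximal_class (hp2 : p ≠ 2) : ∀ (N : ℕ) {G : Type u} [Group G] [Finite G],
    Nat.card G ≤ N → IsPGroup p G → SmallOmega p G →
      Cfsg.IsMetacyclic G ∨ ∀ n, Nat.card G = p ^ n →
        2 ≤ n ∧ (⊤ : Subgroup G).lowerCentralSeries (n - 2) ≠ ⊥ := by
  intro N
  induction N with
  | zero => intro G _ _ h; exact absurd h (Nat.not_le.2 Nat.card_pos)
  | succ N ih =>
    intro G _ _ hN hG hsm
    classical
    by_cases hcyc : IsCyclic G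
    · refine Or.inl (isMetacyclic_of_cyclic_commutator hp2 hG hsm ?_)
      letI : CommGroup G := IsCyclic.commGroup
      infer_instance
    obtain ⟨U, hUn, hU, hU2⟩ := exists_data hp2 hG hcyc
    have hΩ : ∀ x : G, x ^ p = 1 → x ∈ U := fun x hx => by
      have hle : U ≤ Cfsg.omegaOne p (⊤ : Subgroup G) := fun u hu => Subgroup.subset_closure ⟨mem_top u, hU.2 u hu⟩
      rw [eq_of_le_of_card_ge hle (hsm.trans hU2.ge)]
      exact Subgroup.subset_closure ⟨mem_top x, hx⟩
    by_cases hMt : centralizer (U : Set G) = ⊤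
    · refine Or.inl (isMetacyclic_of_omega_central hp2 hG (fun x hx => mem_center_iff.2 fun g => ?_) hsm)
      exact (mem_centralizer_iff.1 (hMt ▸ mem_top g : g ∈ centralizer (U : Set G)) x (hΩ x hx)).symm
    obtain ⟨hZp, hMi, hcl, hfixU⟩ := split_data hG U hU hU2 hMt
    set M := centralizer (U : Set G) with hM
    set Z := U ⊓ center G with hZ
    haveI hZn : Z.Normal := ⟨fun z hz g => by rwa [mem_center_iff.1 hz.2 g, mul_inv_cancel_right]⟩
    by_cases hsmall : ∃ x : G, x ∉ M ∧ Nat.card ↥(M ⊓ centralizer ({x} : Set G)) ≤ p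
    · obtain ⟨x, hxM, hxc⟩ := hsmall
      refine Or.inr fun n hn => ?_
      have hn2 : 2 ≤ n := by
        have := (card_le_card_group U).trans_eq hn
        rw [hU2] at this
        exact (Nat.pow_le_pow_iff_right hp.out.one_lt).1 this
      refine ⟨hn2, maximal_class_of_centralizer n hn2 hn x ?_⟩
      have e := relIndex_mul_relIndex ⊥ (M ⊓ centralizer ({x} : Set G)) (centralizer ({x} : Set G))
        bot_le inf_le_right
      rw [relIndex_bot_left, relIndex_bot_left, inf_relIndex_right] at e
      rw [← e, pow_two]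
      exact Nat.mul_le_mul hxc (hMi ▸ Nat.le_of_dvd (Nat.pos_of_ne_zero index_ne_zero_of_finite)
        (relIndex_dvd_index_of_normal M _))
    push Not at hsmall
    -- outside `M` no `p`-th power lies in `Z`
    have hpow : ∀ g : G, g ^ p ∈ Z → g ∈ M := by
      intro g hg
      by_contra hgM
      have hlt := hsmall g hgM
      set C := M ⊓ centralizer ({g} : Set G) with hC
      have hCc : IsCyclic C := isCyclic_of_omega_le hp2 hG C Z hZp fun c hc hcp =>
        hfixU g hgM c (hΩ c hcp) (mem_centralizer_singleton_iff.1 hc.2).symm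
      obtain ⟨c, hc⟩ := IsCyclic.exists_ofOrder_eq_natCard (α := C)
      obtain ⟨a, ha⟩ := IsPGroup.iff_card.1 (hG.to_subgroup C)
      have ha2 : 2 ≤ a := by
        by_contra h
        rw [ha] at hlt
        exact absurd hlt (not_lt.2 ((Nat.pow_le_pow_right hp.out.pos (by omega : a ≤ 1)).trans (pow_one p).le))
      set d : G := (c : G) ^ p ^ (a - 2) with hd
      have hdo : orderOf d = p ^ 2 := by
        rw [hd, orderOf_pow_of_dvd (pow_ne_zero _ hp.out.ne_zero), Subgroup.orderOf_coe, hc, ha]
        · rw [show a = a - 2 + 2 by omega, pow_add, Nat.add_sub_cancel,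
            Nat.mul_div_cancel_left _ (pow_pos hp.out.pos _)]
        · rw [Subgroup.orderOf_coe, hc, ha]; exact pow_dvd_pow p (by omega)
      have hdC : d ∈ C := pow_mem c.2 _
      have hdp : (d ^ p) ^ p = 1 := by rw [← pow_mul, ← pow_two, ← hdo, pow_orderOf_eq_one]
      have hdp1 : d ^ p ≠ 1 := fun e => by
        have := orderOf_dvd_of_pow_eq_one e
        rw [hdo] at this
        exact absurd (Nat.le_of_dvd hp.out.pos this) (not_le.2 (lt_self_pow₀ hp.out.one_lt one_lt_two))
      have hdZ : d ^ p ∈ Z := hfixU g hgM _ (hΩ _ hdp)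
        ((show Commute g d from (mem_centralizer_singleton_iff.1 hdC.2).symm).pow_right p).eq
      have hgen : zpowers (d ^ p) = Z := eq_of_le_of_card_ge (zpowers_le.2 hdZ) (by
        rw [Nat.card_zpowers, orderOf_eq_prime hdp hdp1, hZp])
      obtain ⟨i, hi⟩ := mem_zpowers_iff.1 (hgen.ge hg)
      have hcomm : Commute g (d ^ (-i)) :=
        (show Commute g d from (mem_centralizer_singleton_iff.1 hdC.2).symm).zpow_right _
      have hone : (g * d ^ (-i)) ^ p = 1 := by
        rw [hcomm.mul_pow, ← hi, ← zpow_natCast (d ^ (-i)) p, ← zpow_natCast d p, ← zpow_mul, ← zpow_mul,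
          ← zpow_add, show (p : ℤ) * i + -i * p = 0 by ring, zpow_zero]
      have hmem : g * d ^ (-i) ∈ M := by
        haveI := hU.1
        exact (mem_centralizer_iff.2 fun u hu => congrArg Subtype.val
          (mul_comm' (⟨u, hu⟩ : U) ⟨_, hΩ _ hone⟩))
      exact hgM (by simpa using mul_mem hmem (inv_mem (zpow_mem (Subgroup.mem_inf.1 hdC).1 (-i))))
    -- regularity of `M`
    have hMp : IsPGroup p M := hG.to_subgroup M
    have hMexp : ∀ m : M, m ^ p = 1 → m ∈ center M := fun m hm => mem_center_iff.2 fun w => Subtype.ext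
      ((mem_centralizer_iff.1 w.2 m (hΩ m (by simpa using congrArg Subtype.val hm))).symm)
    have hMc := cyclic_commutator_of_omega_central hp2 _ le_rfl hMp hMexp (hsm.subgroup M)
    have law := regular_law hMp (isRegular_of_cyclic_commutator hp2 hMp hMc)
    let T : Subgroup G :=
      { carrier := {m | m ∈ M ∧ m ^ p ∈ Z}
        one_mem' := ⟨one_mem M, by rw [one_pow]; exact one_mem Z⟩
        inv_mem' := fun {m} hm => ⟨inv_mem hm.1, by rw [inv_pow]; exact inv_mem hm.2⟩
        mul_mem' := fun {a b} ha hb => ⟨mul_mem ha.1 hb.1, by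
          set A : M := ⟨a, ha.1⟩
          set B : M := ⟨b, hb.1⟩
          have h1 : A⁻¹ ^ p ^ 1 * B⁻¹ = B⁻¹ * A⁻¹ ^ p ^ 1 := Subtype.ext (by
            simp only [pow_one, Subgroup.coe_mul, Subgroup.coe_pow, InvMemClass.coe_inv, inv_pow]
            exact (mem_center_iff.1 (inv_mem ha.2.2) _).symm)
          have h2 := (Regular.commute_pow_iff hMp law A⁻¹ B⁻¹).1 h1
          rw [inv_inv, inv_inv, show A * B * A⁻¹ * B⁻¹ = ⁅A, B⁆ from (commutatorElement_def A B).symm] at h2
          have h3 := congrArg Subtype.val (Regular.pow_mul_of_commutator hMp law h2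
            (Subgroup.subset_closure (Set.mem_insert _ _)) (Subgroup.subset_closure (Set.mem_insert_of_mem _ rfl)))
          simp only [pow_one, Subgroup.coe_mul, Subgroup.coe_pow] at h3
          rw [h3]
          exact mul_mem ha.2 hb.2⟩ }
    have hTc : Nat.card T ≤ Nat.card Z * Nat.card U := card_le_of_fibre T Z U (fun h hh => hh.2)
      fun a ha b hb e => hΩ _ (by
        have := (Regular.pow_eq_iff hMp law ⟨a, ha.1⟩ ⟨b, hb.1⟩).1 (Subtype.ext (by simpa using e))
        simpa using congrArg Subtype.val this)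
    set π := QuotientGroup.mk' Z
    have hQs : SmallOmega p (G ⧸ Z) := by
      have hle : Cfsg.omegaOne p (⊤ : Subgroup (G ⧸ Z)) ≤ T.map π := (closure_le _).2 fun q hq => by
        obtain ⟨g, rfl⟩ := QuotientGroup.mk'_surjective Z q
        have hg : g ^ p ∈ Z := (QuotientGroup.eq_one_iff _).1 (by rw [← hq.2]; rfl)
        exact mem_map_of_mem π ⟨hpow g hg, hg⟩
      refine le_trans (card_le_of_le hle) ?_
      refine Nat.le_of_mul_le_mul_left ?_ (Nat.card_pos (α := Z))
      have hZT : Z ≤ T := fun z hz => ⟨mem_centralizer_iff.2 fun u _ => mem_center_iff.1 hz.2 u,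
        pow_mem hz p⟩
      have e := relIndex_mul_relIndex ⊥ Z T bot_le hZT
      rw [relIndex_bot_left, relIndex_bot_left] at e
      rw [← relIndex_ker, QuotientGroup.ker_mk', e]
      exact hU2 ▸ hTc
    have hQN : Nat.card (G ⧸ Z) ≤ N := by
      have e := Z.card_mul_index
      rw [index_eq_card] at e
      have : Nat.card (G ⧸ Z) < Nat.card G := by
        rw [← e]; exact lt_mul_of_one_lt_left Nat.card_pos (hZp ▸ hp.out.one_lt)
      omega
    rcases ih hQN (hG.to_quotient Z) hQs with hm | hmax
    · exact Or.inl (isMetacyclic_of_cyclic_commutator hp2 hG hsm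
        (cyclic_commutator_of_central_quotient Z inf_le_right hm))
    refine Or.inr fun n hn => ?_
    obtain ⟨x, -, hxM⟩ := SetLike.exists_of_lt (lt_top_iff_ne_top.2 hMt)
    have hU3 : 3 ≤ n := by
      have hlt : U < ⊤ := lt_top_iff_ne_top.2 fun e => hxM (mem_centralizer_iff.2 fun u hu => by
        haveI := hU.1
        exact congrArg Subtype.val (mul_comm' (⟨u, hu⟩ : U) ⟨x, e.ge (mem_top x)⟩))
      have := card_mul_le_of_lt hG hlt
      rw [card_top, hn, hU2, ← pow_succ'] at this
      exact (Nat.pow_le_pow_iff_right hp.out.one_lt).1 this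
    have hQcard : Nat.card (G ⧸ Z) = p ^ (n - 1) := by
      have := Z.card_mul_index
      rw [hZp, index_eq_card, hn, show n = n - 1 + 1 by omega, pow_succ'] at this
      exact Nat.eq_of_mul_eq_mul_left hp.out.pos this
    refine ⟨by omega, fun hbot => (hmax _ hQcard).2 ?_⟩
    have hQ2 := (hmax _ hQcard).1
    rw [← Subgroup.map_top_of_surjective π (QuotientGroup.mk'_surjective Z),
      ← Subgroup.map_lowerCentralSeries, show n - 1 - 2 = n - 3 by omega, Subgroup.map_eq_bot_iff,
      QuotientGroup.ker_mk']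
    have hcenC : ∀ c ∈ (⊤ : Subgroup G).lowerCentralSeries (n - 3), c ∈ center G := fun c hc =>
      mem_center_iff.2 fun g => (commutatorElement_eq_one_iff_mul_comm.1 (by
        rw [← mem_bot, ← hbot, show n - 2 = n - 3 + 1 by omega, Subgroup.lowerCentralSeries_succ]
        exact commutator_mem_commutator hc (mem_top g))).symm
    intro c hc
    by_contra hcZ
    have hcU : c ∉ U := fun h => hcZ ⟨h, hcenC c hc⟩
    rcases (show n = 3 ∨ 4 ≤ n by omega) with rfl | h4
    · -- the centre would be everything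
      have hall : ∀ g : G, g ∈ center G := fun g => hcenC g (by
        rw [show (3 : ℕ) - 3 = 0 from rfl, Subgroup.lowerCentralSeries_zero]; exact mem_top g)
      exact hxM (mem_centralizer_iff.2 fun u _ => mem_center_iff.1 (hall x) u)
    have hQz : p ^ 2 ≤ Nat.card (center (G ⧸ Z)) := by
      have hcl2 : (U ⊔ zpowers c).map π ≤ center (G ⧸ Z) := by
        rintro _ ⟨w, hw, rfl⟩
        refine mem_center_iff.2 fun q => ?_
        obtain ⟨g, rfl⟩ := QuotientGroup.mk'_surjective Z q
        have hwg : g * w * g⁻¹ * w⁻¹ ∈ Z := by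
          obtain ⟨u, hu, v, hv, rfl⟩ := mem_sup_of_normal_left.1 hw
          have hv' : v ∈ center G := zpowers_le.2 (hcenC c hc) hv
          have e : g * (u * v) * g⁻¹ * (u * v)⁻¹ = g * u * g⁻¹ * u⁻¹ := by
            calc g * (u * v) * g⁻¹ * (u * v)⁻¹ = g * u * (v * g⁻¹) * v⁻¹ * u⁻¹ := by group
              _ = g * u * (g⁻¹ * v) * v⁻¹ * u⁻¹ := by rw [mem_center_iff.1 hv' g⁻¹]
              _ = _ := by group
          rw [e]; exact hcl g u hu
        have h1 : π (g * w * g⁻¹ * w⁻¹) = 1 := (QuotientGroup.eq_one_iff _).2 hwg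
        rw [map_mul, map_mul, map_mul, map_inv, map_inv] at h1
        exact mul_inv_eq_iff_eq_mul.1 (mul_inv_eq_one.1 h1)
      refine le_trans ?_ (card_le_of_le hcl2)
      refine Nat.le_of_mul_le_mul_left ?_ (Nat.card_pos (α := Z))
      have hZS : Z ≤ U ⊔ zpowers c := inf_le_left.trans le_sup_left
      have e := relIndex_mul_relIndex ⊥ Z (U ⊔ zpowers c) bot_le hZS
      rw [relIndex_bot_left, relIndex_bot_left] at e
      rw [← relIndex_ker, QuotientGroup.ker_mk', e, hZp, ← hU2]
      exact card_mul_le_of_lt hG (lt_of_le_of_ne le_sup_left fun e => hcU (e.ge (mem_sup_right (mem_zpowers c))))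
    exact (hmax _ hQcard).2 (lcs_eq_bot_of_center (hG.to_quotient Z) hQcard (by omega) hQz)

end CfsgLib.FGSA.RankTwoOdd
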