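import Cfsg.Prelude.Def_Local
import Cfsg.Agent.Solvable.Basics

/-!
The upper p-series under homomorphisms, normal subgroups and extensions.
-/

set_option autoImplicit false
set_option linter.style.haveILetI false

namespace CfsgLib.FGSA.PLen

open Subgroup

variable {G H : Type*} [Group G] [Group H] {p : ℕ}

/-- A term of the upper p-series. -/
abbrev U (p : ℕ) (G : Type*) [Group G] (j : ℕ) : Subgroup G := (Cfsg.upperPSeries p G j).1

/-- The type of a factor at position `j`. -/
def Good (p : ℕ) (j n : ℕ) : Prop := if Even j then n.Coprime p else ∃ k, n = p ^ k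

theorem Good.of_dvd [hp : Fact p.Prime] {j m n : ℕ} (h : Good p j n) (hd : m ∣ n) : Good p j m := by
  unfold Good at *
  split at h <;> simp_all only [if_true, if_false]
  · exact Nat.Coprime.coprime_dvd_left hd h
  · obtain ⟨k, rfl⟩ := h
    obtain ⟨i, -, rfl⟩ := (Nat.dvd_prime_pow hp.out).1 hd
    exact ⟨i, rfl⟩

theorem Good.congr {i j n : ℕ} (h : Good p i n) (hij : Even i ↔ Even j) : Good p j n := by
  unfold Good at *
  simpa only [hij] using h

theorem Good.mul {j m n : ℕ} (h : Good p j m) (h' : Good p j n) : Good p j (m * n) := by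
  unfold Good at *
  split at h <;> simp_all only [if_true, if_false]
  · exact Nat.Coprime.mul_left h h'
  · obtain ⟨a, rfl⟩ := h; obtain ⟨b, rfl⟩ := h'
    exact ⟨a + b, (pow_add p a b).symm⟩

theorem U_zero : U p G 0 = ⊥ := rfl

theorem U_le_succ (j : ℕ) : U p G j ≤ U p G (j + 1) := by
  intro x hx
  simp only [U, Cfsg.upperPSeries]
  have h3 : QuotientGroup.mk' (Cfsg.upperPSeries p G j).1 x = 1 := (QuotientGroup.eq_one_iff x).2 hx
  split <;>
    · simp only [Subgroup.mem_comap]
      rw [h3]; exact one_mem _

theorem U_mono {i j : ℕ} (h : i ≤ j) : U p G i ≤ U p G j :=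
  monotone_nat_of_le_succ U_le_succ h

theorem relIndex_dvd_of_le_right (N : Subgroup G) [N.Normal] {K K' : Subgroup G} (h : K ≤ K') :
    N.relIndex K ∣ N.relIndex K' := by
  have e := fun K : Subgroup G => Subgroup.relIndex_ker K (f := QuotientGroup.mk' N)
  simp only [QuotientGroup.ker_mk'] at e
  rw [e, e]
  exact Subgroup.card_dvd_of_le (Subgroup.map_mono h)

variable [hp : Fact p.Prime]

theorem good_factor [Finite G] (j : ℕ) : Good p j ((U p G j).relIndex (U p G (j + 1))) := by
  have e := Subgroup.relIndex_ker (U p G (j + 1)) (f := QuotientGroup.mk' (U p G j))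
  rw [QuotientGroup.ker_mk'] at e
  rw [e]
  unfold Good U
  split_ifs with h
  · refine Nat.Coprime.coprime_dvd_left ?_ (CfsgLib.Solvable.coprime_card_pPrimeCore p
      (G := G ⧸ (Cfsg.upperPSeries p G j).1))
    refine Subgroup.card_dvd_of_le ?_
    simp only [Cfsg.upperPSeries, if_pos h]
    exact Subgroup.map_comap_le _ _
  · refine IsPGroup.iff_card.1 ((CfsgLib.Solvable.isPGroup_pCore p).to_le ?_)
    simp only [Cfsg.upperPSeries, if_neg h]
    exact Subgroup.map_comap_le _ _

/-- A normal subgroup with a good image lies in the next term. -/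
theorem le_succ [Finite G] {j : ℕ} {W : Subgroup G} (hW : W.Normal)
    (h : Good p j ((U p G j).relIndex W)) : W ≤ U p G (j + 1) := by
  have e := Subgroup.relIndex_ker W (f := QuotientGroup.mk' (U p G j))
  rw [QuotientGroup.ker_mk'] at e
  rw [e] at h
  have hn : (W.map (QuotientGroup.mk' (U p G j))).Normal :=
    hW.map _ (QuotientGroup.mk'_surjective _)
  unfold Good at h
  show W ≤ (Cfsg.upperPSeries p G (j + 1)).1
  by_cases hj : Even j
  · rw [if_pos hj] at h
    simp only [Cfsg.upperPSeries, if_pos hj]
    exact Subgroup.map_le_iff_le_comap.1 (CfsgLib.Solvable.le_pPrimeCore p hn h)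
  · rw [if_neg hj] at h
    simp only [Cfsg.upperPSeries, if_neg hj]
    exact Subgroup.map_le_iff_le_comap.1 (CfsgLib.Solvable.le_pCore p hn (IsPGroup.iff_card.2 h))

theorem map_step [Finite G] [Finite H] (f : G →* H) {i j : ℕ} (hij : Even i ↔ Even j)
    (h : (U p G i).map f ≤ U p H j) (hn : ((U p G (i + 1)).map f).Normal) :
    (U p G (i + 1)).map f ≤ U p H (j + 1) := by
  refine le_succ hn ((Good.congr (good_factor (G := G) i) hij).of_dvd ?_)
  rw [← Subgroup.relIndex_comap]
  exact Subgroup.relIndex_dvd_of_le_left _ (Subgroup.map_le_iff_le_comap.1 h)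

theorem map_le_of_surjective [Finite G] [Finite H] (f : G →* H) (hf : Function.Surjective f)
    (j : ℕ) : (U p G j).map f ≤ U p H j := by
  induction j with
  | zero => rw [U_zero, U_zero, Subgroup.map_bot]
  | succ j ih => exact map_step f Iff.rfl ih (Subgroup.Normal.map inferInstance _ hf)

theorem characteristic [Finite G] (j : ℕ) : (U p G j).Characteristic :=
  Subgroup.characteristic_iff_map_le.2 fun φ => map_le_of_surjective φ.toMonoidHom φ.surjective j

theorem map_subtype_le [Finite G] (N : Subgroup G) [N.Normal] (j : ℕ) :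
    (U p N j).map N.subtype ≤ U p G j := by
  induction j with
  | zero => rw [U_zero, U_zero, Subgroup.map_bot]
  | succ j ih =>
    haveI := characteristic (G := N) (p := p) (j + 1)
    exact map_step N.subtype Iff.rfl ih ConjAct.normal_of_characteristic_of_normal

theorem comap_subtype_le [Finite G] (N : Subgroup G) [N.Normal] (j : ℕ) :
    (U p G j).comap N.subtype ≤ U p N j := by
  induction j with
  | zero => rw [U_zero, U_zero, ← MonoidHom.ker_eq_bot_iff N.subtype |>.2 N.subtype_injective]; rfl
  | succ j ih =>
    refine le_succ (Subgroup.Normal.comap inferInstance _) ((good_factor (G := G) j).of_dvd ?_)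
    refine (Subgroup.relIndex_dvd_of_le_left _ ih).trans ?_
    rw [Subgroup.relIndex_comap]
    exact relIndex_dvd_of_le_right _ (Subgroup.map_comap_le _ _)

theorem pLengthLE_of_surjective [Finite G] [Finite H] {k : ℕ} (f : G →* H)
    (hf : Function.Surjective f) (h : Cfsg.PLengthLE p k G) : Cfsg.PLengthLE p k H := by
  have := map_le_of_surjective (p := p) f hf (2 * k + 1)
  rw [show U p G (2 * k + 1) = ⊤ from h, Subgroup.map_top_of_surjective f hf] at this
  exact top_le_iff.1 this

theorem pLengthLE_of_normal [Finite G] {k : ℕ} (N : Subgroup G) [N.Normal]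
    (h : Cfsg.PLengthLE p k G) : Cfsg.PLengthLE p k N := by
  have := comap_subtype_le (p := p) N (2 * k + 1)
  rw [show U p G (2 * k + 1) = ⊤ from h, Subgroup.comap_top] at this
  exact top_le_iff.1 this

omit hp in
theorem pLengthLE_mono {k l : ℕ} (hkl : k ≤ l) (h : Cfsg.PLengthLE p k G) :
    Cfsg.PLengthLE p l G :=
  top_le_iff.1 ((show U p G (2 * k + 1) = ⊤ from h).symm.le.trans (U_mono (by omega)))

theorem pLengthLE_zero_of_coprime [Finite G] (h : (Nat.card G).Coprime p) :
    Cfsg.PLengthLE p 0 G := by
  refine top_le_iff.1 (le_succ (j := 0) (inferInstance : (⊤ : Subgroup G).Normal) ?_)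
  rw [U_zero, Subgroup.relIndex_bot_left, Subgroup.card_top]
  exact h

/-- Subadditivity of the p-length in extensions. -/
theorem pLengthLE_add [Finite G] (N : Subgroup G) [N.Normal] {a b : ℕ}
    (hN : Cfsg.PLengthLE p a N) (hQ : Cfsg.PLengthLE p b (G ⧸ N)) :
    Cfsg.PLengthLE p (a + b) G := by
  have hle : N ≤ U p G (2 * a + 1) := by
    have := map_subtype_le (p := p) N (2 * a + 1)
    rwa [show U p N (2 * a + 1) = ⊤ from hN, ← MonoidHom.range_eq_map, Subgroup.range_subtype] at this
  have key : ∀ j, (U p (G ⧸ N) (j + 1)).comap (QuotientGroup.mk' N) ≤ U p G (2 * a + (j + 1)) := by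
    intro j
    induction j with
    | zero =>
      refine le_succ (Subgroup.Normal.comap inferInstance _) ?_
      set W := (U p (G ⧸ N) 1).comap (QuotientGroup.mk' N) with hW
      have hNW : N ≤ W := by
        conv_lhs => rw [← QuotientGroup.ker_mk' N]
        exact Subgroup.ker_le_comap _ _
      refine Good.of_dvd (n := (U p G (2 * a) ⊓ N).relIndex W) ?_
        (Subgroup.relIndex_dvd_of_le_left _ inf_le_left)
      rw [← Subgroup.relIndex_mul_relIndex _ _ _ inf_le_right hNW, Subgroup.inf_relIndex_right]
      refine Good.mul ((good_factor (2 * a)).of_dvd (relIndex_dvd_of_le_right _ hle)) ?_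
      refine ((good_factor (G := G ⧸ N) 0).of_dvd ?_).congr (by simp)
      conv_lhs => rw [← QuotientGroup.ker_mk' N]
      rw [← MonoidHom.comap_bot, Subgroup.relIndex_comap, hW,
        Subgroup.map_comap_eq_self_of_surjective (QuotientGroup.mk'_surjective N), U_zero]
    | succ j ih =>
      refine le_succ (Subgroup.Normal.comap inferInstance _) ?_
      refine ((good_factor (G := G ⧸ N) (j + 1)).of_dvd ?_).congr (by simp [parity_simps])
      refine (Subgroup.relIndex_dvd_of_le_left _ ih).trans ?_
      rw [Subgroup.relIndex_comap,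
        Subgroup.map_comap_eq_self_of_surjective (QuotientGroup.mk'_surjective N)]
  have := key (2 * b)
  rw [show U p (G ⧸ N) (2 * b + 1) = ⊤ from hQ, Subgroup.comap_top] at this
  show U p G (2 * (a + b) + 1) = ⊤
  rw [show 2 * (a + b) + 1 = 2 * a + (2 * b + 1) by ring]
  exact top_le_iff.1 this

/-- Dropping the first two layers when the first is trivial. -/
theorem pLengthLE_quotient_two [Finite G] {k : ℕ} (h : Cfsg.PLengthLE p (k + 1) G) :
    Cfsg.PLengthLE p k (G ⧸ U p G 2) := by
  have key : ∀ j, (U p G (j + 2)).map (QuotientGroup.mk' (U p G 2)) ≤ U p (G ⧸ U p G 2) j := by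
    intro j
    induction j with
    | zero => rw [U_zero, QuotientGroup.map_mk'_self]
    | succ j ih =>
      exact map_step _ (by simp [parity_simps]) ih
        (Subgroup.Normal.map inferInstance _ (QuotientGroup.mk'_surjective _))
  have := key (2 * k + 1)
  rw [show U p G (2 * k + 1 + 2) = ⊤ from h,
    Subgroup.map_top_of_surjective _ (QuotientGroup.mk'_surjective _)] at this
  exact top_le_iff.1 this

theorem card_U_one_coprime [Finite G] : (Nat.card (U p G 1)).Coprime p := by
  have := good_factor (G := G) (p := p) 0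
  rw [U_zero, Subgroup.relIndex_bot_left] at this
  exact this

theorem isPGroup_U_two [Finite G] (h : U p G 1 = ⊥) : IsPGroup p (U p G 2) := by
  have := good_factor (G := G) (p := p) 1
  rw [h, Subgroup.relIndex_bot_left] at this
  exact IsPGroup.iff_card.2 this

end CfsgLib.FGSA.PLen
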