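import Cfsg.Agent.FGSA.Narrow
import Cfsg.Agent.FGSA.RankTwoSolvable
import Cfsg.Agent.FGSA.RankTwoOperator
import Cfsg.Agent.FGSA.AbelianIndexP
import Cfsg.Agent.FGSA.PLengthSeries

/-!
Groups acting on narrow `p`-groups; odd solvable groups with narrow Sylow `p`-subgroup.
-/

set_option autoImplicit false
set_option linter.style.haveILetI false
set_option linter.unusedSectionVars false

namespace CfsgLib.FGSA.NarrowSolvable

open Subgroup CfsgLib.Solvable
open scoped commutatorElement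

universe u

variable {G : Type u} [Group G] [Finite G] {p : ℕ} [hp : Fact p.Prime]

theorem pCore_of_derived (h : IsPGroup p (commutator G)) :
    commutator G ≤ Cfsg.pCore p G ∧ ((Cfsg.pCore p G).index).Coprime p := by
  have hder : commutator G ≤ Cfsg.pCore p G := le_pCore p inferInstance h
  refine ⟨hder, ?_⟩
  obtain ⟨T, hT⟩ := (isPGroup_pCore (G := G) p).exists_le_sylow
  haveI hTn : (T : Subgroup G).Normal := ⟨fun v hv a => by
    rw [show a * v * a⁻¹ = ⁅a, v⁆ * v by simp [commutatorElement_def, mul_assoc]]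
    exact mul_mem (hT (hder (commutator_mem_commutator (mem_top a) (mem_top v)))) hv⟩
  rw [le_antisymm hT (le_pCore p hTn T.isPGroup')]
  exact (hp.out.coprime_iff_not_dvd.2 T.not_dvd_index).symm

/-- An odd group acting faithfully on a narrow `p`-group has derived group a `p`-group. -/
theorem derived_isPGroup (hp2 : p ≠ 2) {R : Type u} [Group R] [Finite R] (hR : IsPGroup p R)
    (hn : Cfsg.IsNarrow p R) {A : Type u} [Group A] [Finite A] (hA : Odd (Nat.card A))
    (φ : A →* MulAut R) (hφ : Function.Injective φ) : IsPGroup p (commutator A) := by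
  classical
  by_cases hr : Cfsg.PRankLE p 2 R
  · exact RankTwoAut.derived_isPGroup hp2 hR (fun E hE => hr E hE.1 hE.2) hA φ hφ
  obtain ⟨hd, -⟩ := Narrow.aut_of_narrow hp2 hR hn hr
  intro ⟨a, ha⟩
  have hmem : φ a ∈ commutator (MulAut R) := by
    have h := mem_map_of_mem φ ha
    rw [_root_.commutator_def, map_commutator] at h
    rw [_root_.commutator_def]
    exact commutator_mono le_top le_top h
  obtain ⟨k, hk⟩ := hd ⟨_, hmem⟩
  exact ⟨k, Subtype.ext (hφ (by
    rw [Subgroup.coe_pow, map_pow, Subgroup.coe_one, map_one]; exact congrArg Subtype.val hk))⟩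

/-- A fixed element of `[R, A]` lies in the derived subgroup of `R`. -/
theorem fixed_mem_derived {R A : Subgroup G} (hA : A ≤ normalizer (R : Set G))
    (hcop : (Nat.card A).Coprime (Nat.card R)) {x : G} (hxD : x ∈ ⁅R, A⁆) (hxA : x ∈ centralizer (A : Set G)) :
    x ∈ ⁅R, R⁆ := by
  classical
  haveI := Fintype.ofFinite A
  set φ := MetacyclicAct.act hA
  let F : R →* Abelianization R := ∏ b : A, Abelianization.of.comp (φ b).toMonoidHom
  have hF : ∀ v, F v = ∏ b : A, Abelianization.of (φ b v) := fun v => MonoidHom.finsetProd_apply _ _ v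
  have hinv : ∀ (b : A) (v : R), F (φ b v) = F v := fun b v => by
    rw [hF, hF]
    refine (Finset.prod_congr rfl fun a _ => ?_).trans
      (Equiv.prod_comp (Equiv.mulRight b) fun a => Abelianization.of (φ a v))
    rw [Equiv.coe_mulRight, map_mul]; rfl
  have hker : ⁅R, A⁆ ≤ F.ker.map R.subtype := by
    rw [commutator_le]
    intro v hv a ha
    refine ⟨⟨v, hv⟩ * (φ ⟨a, ha⟩ ⟨v, hv⟩)⁻¹, ?_, ?_⟩
    · rw [SetLike.mem_coe, MonoidHom.mem_ker, map_mul, map_inv, hinv, mul_inv_cancel]
    · show v * (a * v * a⁻¹)⁻¹ = ⁅v, a⁆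
      simp [commutatorElement_def, mul_assoc]
  obtain ⟨v, hv, rfl⟩ := hker hxD
  have hfix : ∀ b : A, φ b v = v := fun b => by
    apply Subtype.ext
    show (b : G) * v * (b : G)⁻¹ = v
    have h : (b : G) * v = v * b := mem_centralizer_iff.1 hxA b b.2
    rw [h, mul_inv_cancel_right]
  have h1 : Abelianization.of v ^ Nat.card A = 1 := by
    have h : F v = 1 := hv
    rwa [hF, Finset.prod_congr rfl (fun b _ => by rw [hfix b]), Finset.prod_const, Finset.card_univ,
      ← Nat.card_eq_fintype_card] at h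
  have h2 : Abelianization.of v = 1 := orderOf_eq_one_iff.1 (Nat.eq_one_of_dvd_coprimes hcop
    (orderOf_dvd_of_pow_eq_one h1) ((orderOf_map_dvd _ v).trans (orderOf_dvd_natCard v)))
  rw [← Subgroup.map_subtype_commutator]
  exact mem_map_of_mem _ ((QuotientGroup.eq_one_iff v).1 h2)

/-- The case of prime order. -/
theorem prime_case (hp2 : p ≠ 2) {R A : Subgroup G} (hR : IsPGroup p R) (hn : Cfsg.IsNarrow p R)
    (hA : A ≤ normalizer (R : Set G)) (hAodd : Odd (Nat.card A))
    (hfaith : A ⊓ centralizer (R : Set G) = ⊥) (hq : (Nat.card A).Prime) (hqn : ¬ Nat.card A ∣ p * (p - 1)) :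
    2 * Nat.card A ∣ p + 1 ∧ (⁅R, A⁆ = R → ¬ IsMulCommutative R → Nat.card R = p ^ 3) := by
  classical
  set φ := MetacyclicAct.act hA
  have hφ : ∀ a : A, φ a = 1 → a = 1 := fun a ha => by
    have h1 : (a : G) ∈ A ⊓ centralizer (R : Set G) := ⟨a.2, mem_centralizer_iff.2 fun x hx => by
      have h := congrArg Subtype.val (DFunLike.congr_fun ha (⟨x, hx⟩ : R))
      have h' : (a : G) * x * (a : G)⁻¹ = x := h
      exact (mul_inv_eq_iff_eq_mul.1 h').symm⟩
    rw [hfaith] at h1
    exact Subtype.ext (mem_bot.1 h1)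
  set q := Nat.card A with hqdef
  haveI := Fact.mk hq
  haveI : IsCyclic A := isCyclic_of_prime_card (p := q) rfl
  obtain ⟨a, ha⟩ := IsCyclic.exists_ofOrder_eq_natCard (α := A)
  have hordφ : orderOf (φ a) = q := by
    rw [orderOf_injective φ ((injective_iff_map_eq_one φ).2 hφ), ha]
  have hqp : q ≠ p := fun h => hqn (h ▸ dvd_mul_right q (q - 1))
  have hcop : q.Coprime p := (Nat.coprime_primes hq hp.out).2 hqp
  have hr : Cfsg.PRankLE p 2 R := by
    by_contra hr
    obtain ⟨-, h⟩ := Narrow.aut_of_narrow hp2 hR hn hr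
    exact hqn (dvd_mul_of_dvd_right (hordφ ▸ h (φ a) (hordφ.symm ▸ hcop)) p)
  have hdvd := (RankTwoAut.prime_dvd hp2 hR (fun E hE => hr E hE.1 hE.2) hq hqp
    (hordφ ▸ orderOf_dvd_natCard (φ a))).1
  have hq1 : q ∣ p + 1 := by
    have hsq : p ^ 2 - 1 = (p + 1) * (p - 1) := by
      rw [show p ^ 2 - 1 = p ^ 2 - 1 ^ 2 by rw [one_pow], Nat.sq_sub_sq]
    exact (hq.dvd_mul.1 (hsq ▸ hdvd)).resolve_right fun h => hqn (dvd_mul_of_dvd_right h p)
  refine ⟨Nat.Coprime.mul_dvd_of_dvd_of_dvd ?_ ?_ hq1, fun hRA hnab => ?_⟩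
  · exact (Nat.coprime_primes Nat.prime_two hq).2 fun h => by
      obtain ⟨k, hk⟩ := hAodd; omega
  · obtain ⟨k, hk⟩ := hp.out.odd_of_ne_two hp2
    exact ⟨k + 1, by omega⟩
  have hR1 : R ≠ ⊥ := fun h => hnab (by rw [h]; infer_instance)
  obtain ⟨-, h⟩ := RankTwoOperator.main hp2 hR hR1 hr hA hcop hAodd hRA
  obtain ⟨R₁, R₂, hsup, hcomm, hnab1, hcard, -, hcyc, hom⟩ := h.resolve_left hnab
  have hle1 : R₁ ≤ R := hsup ▸ le_sup_left
  have hle2 : R₂ ≤ R := hsup ▸ le_sup_right
  haveI := hcyc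
  set D := ⁅R₁, R₁⁆ with hD
  have hD1 : D ≤ R₁ := commutator_le_self R₁
  have hD2 : D ≤ R₂ := hom ▸ (closure_le _).2 fun x hx => hx.1
  have hnor : R₁ ≤ normalizer (R₂ : Set G) := fun v hv =>
    centralizer_le_normalizer _ (mem_centralizer_iff.2 fun b hb => (hcomm v hv b hb).symm)
  have hdec : ∀ r ∈ R, ∃ v ∈ R₁, ∃ b ∈ R₂, r = v * b := by
    intro r hr
    rw [← hsup, ← SetLike.mem_coe, coe_mul_of_left_le_normalizer_right _ _ hnor, Set.mem_mul] at hr
    obtain ⟨v, hv, b, hb, rfl⟩ := hr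
    exact ⟨v, hv, b, hb, rfl⟩
  have hR2c : ∀ b ∈ R₂, ∀ r ∈ R, r * b = b * r := by
    intro b hb r hr
    obtain ⟨v, hv, b', hb', rfl⟩ := hdec r hr
    have h' : Commute b' b := congrArg Subtype.val
      ((IsCyclic.commGroup (α := R₂)).mul_comm ⟨b', hb'⟩ ⟨b, hb⟩)
    exact ((show Commute v b from hcomm v hv b hb).mul_left h').eq
  have hder : ⁅R, R⁆ ≤ D := by
    rw [commutator_le]
    intro r hr r' hr'
    obtain ⟨v, hv, b, hb, rfl⟩ := hdec r hr
    obtain ⟨v', hv', b', hb', rfl⟩ := hdec r' hr'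
    have hbv : ⁅b, v' * b'⁆ = 1 := commutatorElement_eq_one_iff_mul_comm.2
      (hR2c b hb _ (mul_mem (hle1 hv') (hle2 hb'))).symm
    have hvb : ⁅v, b'⁆ = 1 := commutatorElement_eq_one_iff_mul_comm.2 (hR2c b' hb' v (hle1 hv))
    rw [commutatorElement_mul_left_eq_conj_mul, hbv, mul_one, mul_inv_cancel, one_mul,
      commutatorElement_mul_right_eq_mul_conj, hvb, mul_one, mul_inv_cancel_right]
    exact commutator_mem_commutator hv hv'
  have hD0 : D ≠ ⊥ := fun h => hnab1 ⟨⟨fun a b => Subtype.ext (commutatorElement_eq_one_iff_mul_comm.1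
    (mem_bot.1 (h ▸ commutator_mem_commutator a.2 b.2)))⟩⟩
  have hZ : ∀ x ∈ R, (∀ r ∈ R, r * x = x * r) → x ∈ R₂ := by
    intro x hx hxc
    obtain ⟨v, hv, b, hb, rfl⟩ := hdec x hx
    refine mul_mem ?_ hb
    have hvc : (⟨v, hv⟩ : R₁) ∈ center R₁ := mem_center_iff.2 fun w => Subtype.ext (by
      have e := hxc w (hle1 w.2)
      rw [← mul_assoc, mul_assoc v b, ← hR2c b hb w (hle1 w.2), ← mul_assoc v] at e
      exact mul_right_cancel e)
    have hDc : D.subgroupOf R₁ ≤ center R₁ := fun d hd => mem_center_iff.2 fun w =>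
      Subtype.ext (hcomm w w.2 d (hD2 hd))
    have hcardc : Nat.card (center R₁) ≤ Nat.card D := by
      obtain ⟨i, hi⟩ := IsPGroup.iff_card.1 (hR.to_le (hD1.trans hle1))
      have hi0 : i ≠ 0 := fun h => hD0 (eq_bot_of_card_eq _ (by rw [hi, h, pow_zero]))
      refine le_trans ?_ (hi ▸ Nat.le_self_pow hi0 p)
      refine Nat.le_of_mul_le_mul_right ?_ (pow_pos hp.out.pos 2)
      calc Nat.card (center R₁) * p ^ 2 ≤ Nat.card (center R₁) * (center R₁).index :=
            Nat.mul_le_mul_left _ (AbelianIndexP.le_index_center (hR.to_le hle1) hnab1)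
        _ = p * p ^ 2 := by rw [(center R₁).card_mul_index, hcard, ← pow_succ']
    have heq : D.subgroupOf R₁ = center R₁ := eq_of_le_of_card_ge hDc
      (hcardc.trans (Nat.card_congr (subgroupOfEquivOfLe hD1).toEquiv).ge)
    exact hD2 (show v ∈ D from mem_subgroupOf.1 (heq.ge hvc))
  have hcycZ : IsCyclic (center R) := by
    have hle : (center R).map R.subtype ≤ R₂ := by
      rintro _ ⟨z, hz, rfl⟩
      exact hZ z z.2 fun r hr => congrArg Subtype.val (mem_center_iff.1 hz ⟨r, hr⟩)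
    exact isCyclic_of_injective ((inclusion hle).comp ((center R).equivMapOfInjective _ R.subtype_injective).toMonoidHom)
      ((inclusion_injective hle).comp (MulEquiv.injective _))
  haveI := hcycZ
  let ρ : MulAut R →* MulAut (center R) := MonoidHom.mk' (fun f =>
    { toFun := fun x => ⟨f x, characteristic_iff_le_comap.1 inferInstance f x.2⟩
      invFun := fun x => ⟨f.symm x, characteristic_iff_le_comap.1 inferInstance f.symm x.2⟩
      left_inv := fun x => Subtype.ext (f.symm_apply_apply _)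
      right_inv := fun x => Subtype.ext (f.apply_symm_apply _)
      map_mul' := fun x y => Subtype.ext (map_mul f _ _) }) fun f g => rfl
  have htriv : ∀ b : A, ρ (φ b) = 1 := by
    intro b
    obtain ⟨j, hj⟩ := IsPGroup.iff_card.1 (hR.to_subgroup (center R))
    refine orderOf_eq_one_iff.1 (((Nat.dvd_prime hq).1
      ((orderOf_map_dvd ρ _).trans ((orderOf_map_dvd φ b).trans (orderOf_dvd_natCard b)))).resolve_right fun h => hqn ?_)
    have h2 := h ▸ orderOf_dvd_natCard (ρ (φ b))
    rw [IsCyclic.card_mulAut, hj] at h2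
    rcases Nat.eq_zero_or_pos j with rfl | hj0
    · rw [pow_zero, Nat.totient_one] at h2
      exact absurd (Nat.eq_one_of_dvd_one h2) hq.ne_one
    · rw [Nat.totient_prime_pow hp.out hj0] at h2
      rcases hq.dvd_mul.1 h2 with h3 | h3
      · exact dvd_mul_of_dvd_left (hq.dvd_of_dvd_pow h3) _
      · exact dvd_mul_of_dvd_right h3 _
  obtain ⟨e, he⟩ := IsPGroup.iff_card.1 hR
  have hR2le : R₂ ≤ R₁ := by
    intro z hz
    refine hD1 (hder (fixed_mem_derived hA (he ▸ hcop.pow_right e) (hRA.symm ▸ hle2 hz) ?_))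
    refine mem_centralizer_iff.2 fun b hb => ?_
    have hzc : (⟨z, hle2 hz⟩ : R) ∈ center R := mem_center_iff.2 fun r => Subtype.ext (hR2c z hz r r.2)
    have h := congrArg (fun w : center R => ((w : R) : G)) (DFunLike.congr_fun (htriv ⟨b, hb⟩) ⟨_, hzc⟩)
    exact mul_inv_eq_iff_eq_mul.1 h
  rw [← hsup, sup_eq_left.2 hR2le, hcard]

/-- Odd solvable groups with narrow Sylow `p`-subgroup of rank above two and `p`-length one. -/
theorem quotient_of_narrow [Group.IsSolvable G] (hp2 : p ≠ 2) (S : Sylow p G)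
    (hS : Cfsg.IsNarrow p ↥(S : Subgroup G)) (hr : ¬ Cfsg.PRankLE p 2 ↥(S : Subgroup G))
    (hpl : Cfsg.PLengthLE p 1 G) :
    commutator (G ⧸ Cfsg.pPrimeCore p G) ≤ Cfsg.pCore p (G ⧸ Cfsg.pPrimeCore p G) ∧
    ∀ q : ℕ, q.Prime → q ≠ p → q ∣ Nat.card (G ⧸ Cfsg.pPrimeCore p G) → q < p := by
  classical
  set O := Cfsg.pPrimeCore p G
  set f := QuotientGroup.mk' O
  set P := Cfsg.pCore p (G ⧸ O)
  have hOc : (Nat.card O).Coprime p := coprime_card_pPrimeCore p
  -- the image of the second term of the series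
  set U₂ := PLen.U p G 2
  have hU1 : PLen.U p G 1 ≤ O :=
    le_pPrimeCore p (Cfsg.upperPSeries_normal p G 1) (PLen.card_U_one_coprime (p := p) (G := G))
  have hU2p : IsPGroup p (U₂.map f) := by
    have hg : PLen.Good p 1 ((PLen.U p G 1).relIndex U₂) := PLen.good_factor (p := p) (G := G) 1
    rw [PLen.Good, if_neg Nat.not_even_one] at hg
    obtain ⟨k, hk⟩ := hg
    have h1 : Nat.card (U₂.map f) ∣ p ^ k := by
      have h2 : (f.comp U₂.subtype).ker = O.subgroupOf U₂ := by
        rw [← MonoidHom.comap_ker, QuotientGroup.ker_mk']; rfl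
      have h3 : Nat.card (U₂.map f) = (O.subgroupOf U₂).index := by
        rw [← h2, index_ker, MonoidHom.range_comp, range_subtype]
      rw [h3, ← hk]
      exact index_dvd_of_le (comap_mono hU1)
    obtain ⟨i, -, hi⟩ := (Nat.dvd_prime_pow hp.out).1 h1
    exact IsPGroup.of_card hi
  haveI hUn : (U₂.map f).Normal := (Cfsg.upperPSeries_normal p G 2).map f (QuotientGroup.mk'_surjective O)
  have hUP : U₂.map f ≤ P := le_pCore p hUn hU2p
  have hUi : U₂.index.Coprime p := by
    have hg : PLen.Good p 2 (U₂.relIndex (PLen.U p G 3)) := PLen.good_factor (p := p) (G := G) 2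
    rw [show PLen.U p G 3 = ⊤ from hpl, relIndex_top_right, PLen.Good, if_pos even_two] at hg
    exact hg
  set T := S.mapSurjective (QuotientGroup.mk'_surjective O)
  have hPT : P = (T : Subgroup (G ⧸ O)) := by
    have hle : P ≤ T := CfsgLib.Fitting.pCore_le_sylow T
    refine le_antisymm hle ?_
    have hPi : P.index.Coprime p := hUi.coprime_dvd_left
      ((index_dvd_of_le hUP).trans (index_map_dvd _ (QuotientGroup.mk'_surjective O)))
    intro t ht
    obtain ⟨j, hj⟩ := IsPGroup.iff_orderOf.1 T.isPGroup' ⟨t, ht⟩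
    rw [← Subgroup.orderOf_coe] at hj
    rw [← QuotientGroup.eq_one_iff]
    refine orderOf_eq_one_iff.1 (Nat.eq_one_of_dvd_coprimes (hPi.pow_right j) ?_
      ((orderOf_map_dvd (QuotientGroup.mk' P) t).trans (dvd_of_eq hj)))
    rw [index_eq_card]
    exact orderOf_dvd_natCard _
  let g : (S : Subgroup G) →* G ⧸ O := f.comp (S : Subgroup G).subtype
  have hg : Function.Injective g := (injective_iff_map_eq_one g).2 fun s hs => by
    have hsO : (s : G) ∈ O := (QuotientGroup.eq_one_iff (s : G)).1 hs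
    obtain ⟨k, hk⟩ := IsPGroup.iff_orderOf.1 S.isPGroup' s
    refine orderOf_eq_one_iff.1 (Nat.eq_one_of_dvd_coprimes (hOc.pow_right k) ?_ (dvd_of_eq hk))
    have e1 : orderOf s = orderOf (⟨(s : G), hsO⟩ : O) :=
      (Subgroup.orderOf_coe s).symm.trans (Subgroup.orderOf_coe (⟨(s : G), hsO⟩ : O))
    exact e1 ▸ orderOf_dvd_natCard _
  have hrange : g.range = P := by
    rw [hPT, MonoidHom.range_comp, range_subtype, Sylow.coe_mapSurjective]
  let ι : (S : Subgroup G) ≃* P := (MonoidHom.ofInjective hg).trans (MulEquiv.subgroupCongr hrange)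
  let φ : (G ⧸ O) →* MulAut (S : Subgroup G) := (MulAut.congr ι.symm).toMonoidHom.comp MulAut.conjNormal
  have hker : ∀ x, φ x = 1 → x ∈ P := fun x hx => by
    have h1 : MulAut.conjNormal (H := P) x = 1 := (MulAut.congr ι.symm).injective (hx.trans (map_one _).symm)
    refine CfsgLib.Fitting.centralizer_pCore_le (CfsgLib.Fitting.pPrimeCore_quotient_eq_bot p)
      (mem_centralizer_iff.2 fun v hv => ?_)
    have := congrArg Subtype.val (DFunLike.congr_fun h1 (⟨v, hv⟩ : P))
    have h2 := (MulAut.conjNormal_apply x (⟨v, hv⟩ : P)).symm.trans this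
    exact (mul_inv_eq_iff_eq_mul.1 h2).symm
  obtain ⟨hd, hord⟩ := Narrow.aut_of_narrow hp2 S.isPGroup' hS hr
  constructor
  · refine le_pCore p inferInstance ?_
    intro ⟨x, hx⟩
    have hmem : φ x ∈ commutator (MulAut (S : Subgroup G)) := by
      have h := mem_map_of_mem φ hx
      rw [_root_.commutator_def, map_commutator] at h
      rw [_root_.commutator_def]
      exact commutator_mono le_top le_top h
    obtain ⟨k, hk⟩ := hd ⟨_, hmem⟩
    have hxP : x ^ p ^ k ∈ P := hker _ (by rw [map_pow]; exact congrArg Subtype.val hk)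
    obtain ⟨l, hl⟩ := isPGroup_pCore (G := G ⧸ O) p ⟨_, hxP⟩
    refine ⟨k + l, Subtype.ext ?_⟩
    show x ^ p ^ (k + l) = 1
    rw [pow_add, pow_mul]
    exact congrArg Subtype.val hl
  · intro q hq hqp hdvd
    haveI := Fact.mk hq
    obtain ⟨x, hx⟩ := exists_prime_orderOf_dvd_card' (G := G ⧸ O) q hdvd
    rcases (Nat.dvd_prime hq).1 (hx ▸ orderOf_map_dvd φ x) with h1 | h1
    · exfalso
      obtain ⟨k, hk⟩ := IsPGroup.iff_orderOf.1 (isPGroup_pCore (G := G ⧸ O) p)
        ⟨x, hker x (orderOf_eq_one_iff.1 h1)⟩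
      rw [← Subgroup.orderOf_coe] at hk
      change orderOf x = p ^ k at hk
      exact hqp ((Nat.prime_dvd_prime_iff_eq hq hp.out).1 (hq.dvd_of_dvd_pow (dvd_of_eq (hx.symm.trans hk))))
    · have h2 := hord (φ x) (h1.symm ▸ (Nat.coprime_primes hq hp.out).2 hqp)
      rw [h1] at h2
      have := Nat.le_of_dvd (by have := hp.out.two_le; omega) h2
      have := hp.out.two_le
      omega

end CfsgLib.FGSA.NarrowSolvable
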