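import Cfsg.Agent.ZJ.ControlMain
import Cfsg.Agent.ZJ.SL2Facts
import Cfsg.Agent.Transfer.Frobenius
import Cfsg.Agent.Transfer.Basic
import Cfsg.Agent.Solvable.Fitting
import Cfsg.Agent.FGSA.Nilpotent

/-!
The Glauberman–Thompson criterion: for odd `p`, a finite group has a normal `p`-complement as soon
as the normalizer of the centre of the Thompson subgroup of a Sylow `p`-subgroup has one.
-/

set_option autoImplicit false
set_option linter.style.haveILetI false

namespace CfsgLib.FGSA.GT

open Subgroup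

universe u

variable {p : ℕ} [Fact p.Prime] {G : Type u} [Group G] [Finite G]

theorem npc_of_zj_map {H : Type u} [Group H] [Finite H] (f : H →* G) (hf : Function.Injective f)
    (U : Subgroup H)
    (h : Cfsg.HasNormalPComplement p
      ↥(normalizer ((Cfsg.centerThompsonAOf (U.map f) : Subgroup G) : Set G))) :
    Cfsg.HasNormalPComplement p
      ↥(normalizer ((Cfsg.centerThompsonAOf U : Subgroup H) : Set H)) := by
  have hle : (normalizer ((Cfsg.centerThompsonAOf U : Subgroup H) : Set H)).map f ≤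
      normalizer ((Cfsg.centerThompsonAOf (U.map f) : Subgroup G) : Set G) := by
    rw [ZJ.centerThompsonAOf_map f U (fun x _ h => hf (by rw [h, map_one]))]
    exact le_normalizer_map f
  exact PResidual.hasNormalPComplement_of_injective
    ((inclusion hle).comp
      ((normalizer ((Cfsg.centerThompsonAOf U : Subgroup H) : Set H)).equivMapOfInjective f
        hf).toMonoidHom)
    ((inclusion_injective hle).comp (MulEquiv.injective _)) h

/-- A quotient of a group with a normal `p`-complement has one. -/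
theorem npc_of_surjective {H : Type*} [Group H] [Finite H] (f : G →* H)
    (hf : Function.Surjective f) (h : Cfsg.HasNormalPComplement p G) :
    Cfsg.HasNormalPComplement p H := by
  obtain ⟨k, hk⟩ := PResidual.exists_index_pResidual (p := p) (G := G)
  obtain ⟨j, -, hj⟩ := (Nat.dvd_prime_pow (Fact.out : p.Prime)).1
    (hk ▸ index_map_dvd (Cfsg.pResidual p G) hf)
  haveI : ((Cfsg.pResidual p G).map f).Normal := Normal.map inferInstance f hf
  exact PResidual.hasNormalPComplement_of_normal (N := (Cfsg.pResidual p G).map f)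
    ((PResidual.hasNormalPComplement_iff.1 h).coprime_dvd_left (card_map_dvd _ f)) hj

/-- A nilpotent group has a normal `p`-complement. -/
theorem npc_of_isNilpotent [Group.IsNilpotent G] : Cfsg.HasNormalPComplement p G := by
  refine Fusion.hasNormalPComplement_of_localCondition fun Q hQ g _ hg => ?_
  refine mem_centralizer_iff.2 fun q hq => ?_
  obtain ⟨k, hk⟩ := hQ ⟨q, hq⟩
  have hq' : orderOf q ∣ p ^ k :=
    orderOf_dvd_of_pow_eq_one (by simpa using congrArg Subtype.val hk)
  exact (CfsgLib.FGSA.commute_of_coprime_orderOf q g (Nat.Coprime.coprime_dvd_left hq'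
    (Nat.Coprime.pow_left k hg.symm))).eq

/-- Normalizers of `p`-subgroups map onto those in the quotient by a normal `p'`-subgroup. -/
theorem normalizer_map_mk {Z N : Subgroup G} [N.Normal] (hZ : IsPGroup p Z)
    (hN : (Nat.card N).Coprime p) :
    normalizer ((Z.map (QuotientGroup.mk' N) : Subgroup (G ⧸ N)) : Set (G ⧸ N)) =
      (normalizer (Z : Set G)).map (QuotientGroup.mk' N) := by
  refine le_antisymm (fun x hx => ?_) (le_normalizer_map _)
  obtain ⟨g, rfl⟩ := QuotientGroup.mk'_surjective N x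
  have hg : g ∈ normalizer ((Z ⊔ N : Subgroup G) : Set G) := by
    refine mem_normalizer_iff.2 fun y => ?_
    have hcm : (Z.map (QuotientGroup.mk' N)).comap (QuotientGroup.mk' N) = Z ⊔ N := by
      rw [comap_map_eq, QuotientGroup.ker_mk']
    rw [← hcm, mem_comap, mem_comap, map_mul, map_mul, map_inv]
    exact mem_normalizer_iff.1 hx _
  obtain ⟨n, hn, hng⟩ := ZJ.exists_mul_mem_normalizer hZ hN hg
  refine ⟨n * g, hng, ?_⟩
  rw [map_mul, show QuotientGroup.mk' N n = 1 from (QuotientGroup.eq_one_iff n).2 hn, one_mul]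

omit [Fact p.Prime] [Finite G] in
theorem eq_one_of_ppow {x : G} {k : ℕ} (h : x ^ p ^ k = 1) (hc : (orderOf x).Coprime p) : x = 1 :=
  orderOf_eq_one_iff.1 (Nat.eq_one_of_dvd_coprimes (hc.pow_right k) dvd_rfl
    (orderOf_dvd_of_pow_eq_one h))

theorem aux (hp : p ≠ 2) : ∀ (n : ℕ) (G : Type u) [Group G] [Finite G], Nat.card G = n →
    ∀ P : Sylow p G,
      Cfsg.HasNormalPComplement p
        ↥(normalizer ((Cfsg.centerThompsonAOf (P : Subgroup G) : Subgroup G) : Set G)) →
      Cfsg.HasNormalPComplement p G := by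
  intro n
  induction n using Nat.strong_induction_on with
  | _ n ih =>
  intro G _ _ hn P hP
  subst hn
  classical
  have hp' : p.Prime := Fact.out
  have K := ZJ.zkind_centerThompsonA.{u} (p := p) hp
  by_contra hG
  have hall : ∀ R : Sylow p G, Cfsg.HasNormalPComplement p
      ↥(normalizer ((Cfsg.centerThompsonAOf (R : Subgroup G) : Subgroup G) : Set G)) := by
    intro R
    obtain ⟨g, hg⟩ := MulAction.exists_smul_eq G R P
    refine npc_of_zj_map (MulAut.conj g).toMonoidHom (MulAut.conj g).injective R ?_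
    rw [show (R : Subgroup G).map (MulAut.conj g).toMonoidHom = (P : Subgroup G) by
      rw [← hg, Sylow.coe_subgroup_smul]; rfl]
    exact hP
  have sub : ∀ H : Subgroup G, H ≠ ⊤ → ∀ T : Sylow p H, Cfsg.HasNormalPComplement p
      ↥(normalizer ((Cfsg.centerThompsonAOf ((T : Subgroup H).map H.subtype) : Subgroup G)
        : Set G)) → Cfsg.HasNormalPComplement p H := fun H hH T hT =>
    ih _ (Solvable.card_lt_of_ne_top hH) H rfl T (npc_of_zj_map H.subtype H.subtype_injective _ hT)
  have subP : ∀ H : Subgroup G, H ≠ ⊤ → (P : Subgroup G) ≤ H →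
      Cfsg.HasNormalPComplement p H := by
    intro H hH hPH
    refine sub H hH (P.subtype hPH) ?_
    rw [Sylow.coe_subtype, map_subgroupOf_eq_of_le hPH]
    exact hP
  -- the p'-core is trivial
  by_cases hO : Cfsg.pPrimeCore p G = ⊥
  swap
  · haveI hNn : (Cfsg.pPrimeCore p G).Normal := (Solvable.pPrimeCore_spec (G := G) p).1
    set N := Cfsg.pPrimeCore p G with hNdef
    have hcop : (Nat.card N).Coprime p := Solvable.coprime_card_pPrimeCore p
    set π := QuotientGroup.mk' N with hπ
    have hinj : ∀ x ∈ (P : Subgroup G), π x = 1 → x = 1 := fun x hx h =>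
      mem_bot.mp (ZJ.isPGroup_inf_coprime P.2 hcop ▸
        (⟨hx, (QuotientGroup.eq_one_iff x).mp h⟩ : x ∈ (P : Subgroup G) ⊓ N))
    have hQ : Cfsg.HasNormalPComplement p (G ⧸ N) := by
      refine ih _ (Solvable.card_quotient_lt hO) (G ⧸ N) rfl
        (P.mapSurjective (f := π) (QuotientGroup.mk'_surjective N)) ?_
      rw [Sylow.coe_mapSurjective, ZJ.centerThompsonAOf_map π _ hinj,
        normalizer_map_mk (P.2.to_le (K.le G _)) hcop]
      exact npc_of_surjective _ (MonoidHom.subgroupMap_surjective π _) hP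
    obtain ⟨k, hk⟩ := PResidual.exists_index_pResidual (p := p) (G := G ⧸ N)
    refine hG (PResidual.hasNormalPComplement_of_normal
      (N := (Cfsg.pResidual p (G ⧸ N)).comap π) ?_
      (by rw [index_comap_of_surjective _ (QuotientGroup.mk'_surjective N)]; exact hk))
    have hker : π.ker = N := QuotientGroup.ker_mk' N
    have hc : Nat.card N * Nat.card (Cfsg.pResidual p (G ⧸ N)) =
        Nat.card ↥((Cfsg.pResidual p (G ⧸ N)).comap π) := by
      conv_lhs => rw [← map_comap_eq_self_of_surjective (QuotientGroup.mk'_surjective N)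
        (Cfsg.pResidual p (G ⧸ N)), ← relIndex_ker, hker]
      rw [← relIndex_bot_left, ← relIndex_bot_left]
      exact relIndex_mul_relIndex ⊥ N _ bot_le (hker.ge.trans (ker_le_comap π _))
    rw [← hc]
    exact Nat.Coprime.mul_left hcop (PResidual.hasNormalPComplement_iff.1 hQ)
  -- a bad local subgroup of largest p-part is the whole group
  obtain ⟨Q0, hQ0⟩ : ∃ Q : Subgroup G, IsPGroup p Q ∧ Q ≠ ⊥ ∧
      ¬ Cfsg.HasNormalPComplement p ↥(normalizer (Q : Set G)) := by
    by_contra hcon
    push Not at hcon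
    exact hG (Fusion.hasNormalPComplement_iff_locals.2 hcon)
  obtain ⟨Q, ⟨hQp, hQ1, hQbad⟩, hQmax⟩ := Set.exists_max_image
    {Q : Subgroup G | IsPGroup p Q ∧ Q ≠ ⊥ ∧
      ¬ Cfsg.HasNormalPComplement p ↥(normalizer (Q : Set G))}
    (fun Q => (Nat.card ↥(normalizer (Q : Set G))).factorization p) (Set.toFinite _) ⟨Q0, hQ0⟩
  have hQn : normalizer (Q : Set G) = ⊤ := by
    by_contra hH
    set H := normalizer (Q : Set G) with hHdef
    obtain ⟨T⟩ := (inferInstance : Nonempty (Sylow p H))
    refine hQbad (sub H hH T ?_)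
    set U := (T : Subgroup H).map H.subtype with hUdef
    have hU : Nat.card U = p ^ (Nat.card H).factorization p := by
      rw [hUdef, card_map_of_injective H.subtype_injective, T.card_eq_multiplicity]
    have hUp : IsPGroup p U := IsPGroup.of_card hU
    have hU1 : U ≠ ⊥ := by
      intro hU1
      have h0 : (Nat.card H).factorization p = 0 := by
        rw [hU1, card_bot] at hU
        exact (Nat.pow_eq_one.1 hU.symm).resolve_left hp'.ne_one
      obtain ⟨k, hk⟩ := IsPGroup.iff_card.1 hQp
      rcases Nat.eq_zero_or_pos k with rfl | hk0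
      · exact hQ1 (eq_bot_of_card_eq _ (by simpa using hk))
      · have hdvd : p ∣ Nat.card H :=
          ((dvd_pow_self p hk0.ne').trans hk.symm.dvd).trans (card_dvd_of_le le_normalizer)
        exact absurd h0 (hp'.factorization_pos_of_dvd Nat.card_pos.ne' hdvd).ne'
    by_cases hdiv : p ^ ((Nat.card H).factorization p + 1) ∣ Nat.card G
    · by_contra hbad
      have h1 := (Sylow.prime_pow_dvd_card_normalizer hdiv hU).trans
        (card_dvd_of_le (K.normalizer_le (G := G) U))
      rw [hp'.pow_dvd_iff_le_factorization Nat.card_pos.ne'] at h1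
      have h2 := hQmax (Cfsg.centerThompsonAOf U)
        ⟨hUp.to_le (K.le G U), K.ne_bot G U hUp hU1, hbad⟩
      change _ ≤ (Nat.card H).factorization p at h2
      omega
    · have hm : (Nat.card G).factorization p = (Nat.card H).factorization p := by
        rw [hp'.pow_dvd_iff_le_factorization Nat.card_pos.ne'] at hdiv
        have := (Nat.factorization_le_iff_dvd Nat.card_pos.ne' Nat.card_pos.ne').2
          (card_subgroup_dvd_card H) p
        omega
      exact hall (Sylow.ofCard U (by rw [hU, hm]))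
  haveI hQnormal : Q.Normal := normalizer_eq_top_iff.mp hQn
  set U0 := Cfsg.pCore p G with hU0def
  haveI hU0n : U0.Normal := Solvable.pCore_normal p
  have hU0p : IsPGroup p U0 := Solvable.isPGroup_pCore p
  have hU01 : U0 ≠ ⊥ := fun h => hQ1 (le_bot_iff.1 (h ▸ Solvable.le_pCore p hQnormal hQp))
  have hU0P : U0 ≤ (P : Subgroup G) := Fitting.pCore_le_sylow P
  -- `P` is not normal
  have hNZ : normalizer ((Cfsg.centerThompsonAOf (P : Subgroup G) : Subgroup G) : Set G) ≠ ⊤ := by
    intro htop
    rw [htop] at hP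
    exact hG (PResidual.hasNormalPComplement_of_injective
      (topEquiv (G := G)).symm.toMonoidHom (MulEquiv.injective _) hP)
  have hPU : ¬ (P : Subgroup G) ≤ U0 := fun h => hNZ <| by
    have hPn : normalizer ((P : Subgroup G) : Set G) = ⊤ :=
      normalizer_eq_top_iff.mpr (le_antisymm h hU0P ▸ hU0n)
    exact top_le_iff.1 (hPn.ge.trans (K.normalizer_le _))
  -- the quotient by the p-core
  set π := QuotientGroup.mk' U0 with hπdef
  have hπs : Function.Surjective π := QuotientGroup.mk'_surjective U0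
  have hker : π.ker = U0 := QuotientGroup.ker_mk' U0
  set Pb := P.mapSurjective (f := π) hπs with hPbdef
  have hPb : (Pb : Subgroup (G ⧸ U0)) = (P : Subgroup G).map π := rfl
  have hPb1 : (Pb : Subgroup (G ⧸ U0)) ≠ ⊥ := fun h => hPU (by
    rwa [hPb, Subgroup.map_eq_bot_iff, hker] at h)
  set Zb := Cfsg.centerThompsonAOf (Pb : Subgroup (G ⧸ U0)) with hZbdef
  have hH1 : (normalizer (Zb : Set (G ⧸ U0))).comap π ≠ ⊤ := by
    intro htop
    have h1 : normalizer (Zb : Set (G ⧸ U0)) = ⊤ := by
      rw [← map_comap_eq_self_of_surjective hπs (normalizer (Zb : Set (G ⧸ U0))), htop,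
        map_top_of_surjective _ hπs]
    haveI : Zb.Normal := normalizer_eq_top_iff.mp h1
    refine K.ne_bot (G ⧸ U0) _ Pb.2 hPb1 ?_
    have hcomap : IsPGroup p (Zb.comap π) :=
      (Pb.2.to_le (K.le _ _)).comap_of_ker_isPGroup π (hker.symm ▸ hU0p)
    have h2 : Zb.comap π ≤ U0 := Solvable.le_pCore p inferInstance hcomap
    rw [← hZbdef, ← map_comap_eq_self_of_surjective hπs Zb, Subgroup.map_eq_bot_iff, hker]
    exact h2
  have hQ : Cfsg.HasNormalPComplement p (G ⧸ U0) := by
    refine ih _ (Solvable.card_quotient_lt hU01) (G ⧸ U0) rfl Pb ?_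
    refine npc_of_surjective (π.subgroupComap _)
      (π.subgroupComap_surjective_of_surjective _ hπs) (subP _ hH1 ?_)
    rw [← map_le_iff_le_comap, ← hPb]
    exact le_normalizer.trans (K.normalizer_le _)
  set Kb := Cfsg.pResidual p (G ⧸ U0) with hKbdef
  have hKb : (Nat.card Kb).Coprime p := PResidual.hasNormalPComplement_iff.1 hQ
  have pel : ∀ x : G, π x ∈ Kb → ∀ k : ℕ, x ^ p ^ k = 1 → x ∈ U0 := by
    intro x hx k hk
    rw [← hker, MonoidHom.mem_ker]
    exact eq_one_of_ppow (k := k) (by rw [← map_pow, hk, map_one])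
      (hKb.coprime_dvd_left (Subgroup.orderOf_dvd_natCard _ hx))
  have qel : ∀ x : G, (orderOf x).Coprime p → π x ∈ Kb := fun x hx =>
    PResidual.mem_pResidual p (hx.coprime_dvd_left (orderOf_map_dvd π x))
  -- the p-core contains its centralizer
  set C := centralizer (U0 : Set G) with hCdef
  haveI hCn : C.Normal := inferInstance
  have hC : C ≤ U0 := by
    let D : Subgroup G := C ⊓ Kb.comap π
    haveI : D.Normal := normal_inf_normal _ _
    have hD : Cfsg.HasNormalPComplement p D := by
      obtain ⟨T⟩ := (inferInstance : Nonempty (Sylow p D))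
      refine TransferBasic.hasNormalPComplement_of_le_centralizer T fun d _ => ?_
      refine mem_centralizer_iff.2 fun t ht => ?_
      obtain ⟨k, hk⟩ := T.2 ⟨t, ht⟩
      have hk' : (t : G) ^ p ^ k = 1 := by
        simpa using congrArg (fun z : ↥(T : Subgroup D) => ((z : D) : G)) hk
      exact Subtype.ext (mem_centralizer_iff.1 d.2.1 (t : G) (pel _ t.2.2 k hk'))
    haveI hRn : ((Cfsg.pResidual p D).map D.subtype).Normal := inferInstance
    have hR : Cfsg.pResidual p D = ⊥ := by
      rw [← Subgroup.map_eq_bot_iff_of_injective _ D.subtype_injective, ← le_bot_iff, ← hO]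
      refine Solvable.le_pPrimeCore p hRn ?_
      rw [card_map_of_injective D.subtype_injective]
      exact PResidual.hasNormalPComplement_iff.1 hD
    refine Solvable.le_pCore p hCn fun x => ?_
    set m := (orderOf (x : G)).factorization p
    have hm : (orderOf ((x : G) ^ p ^ m)).Coprime p := by
      rw [orderOf_pow_of_dvd (pow_ne_zero _ hp'.ne_zero) (Nat.ordProj_dvd _ _)]
      exact (Nat.coprime_ordCompl hp' (orderOf_pos (x : G)).ne').symm
    have hxD : (x : G) ^ p ^ m ∈ D := ⟨pow_mem x.2 _, qel _ hm⟩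
    have h1 : (⟨_, hxD⟩ : D) = 1 := mem_bot.1 (hR ▸ PResidual.mem_pResidual p
      (show (orderOf (⟨_, hxD⟩ : D)).Coprime p by rwa [orderOf_mk]))
    exact ⟨m, Subtype.ext (by simpa using congrArg Subtype.val h1)⟩
  -- proper overgroups of `P` in the quotient have trivial p'-parts
  have small : ∀ W : Subgroup (G ⧸ U0), (Nat.card W).Coprime p →
      W ⊔ (Pb : Subgroup (G ⧸ U0)) ≠ ⊤ → W = ⊥ := by
    intro W hWc hW
    set L := (W ⊔ (Pb : Subgroup (G ⧸ U0))).comap π with hLdef
    have hL1 : L ≠ ⊤ := fun h => hW (by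
      rw [← map_comap_eq_self_of_surjective hπs (W ⊔ (Pb : Subgroup (G ⧸ U0))), ← hLdef, h,
        map_top_of_surjective _ hπs])
    have hUL : U0 ≤ L := hker.ge.trans (ker_le_comap π _)
    have hPL : (P : Subgroup G) ≤ L := by
      rw [hLdef, ← map_le_iff_le_comap, ← hPb]; exact le_sup_right
    have hloc := Fusion.localCondition_of_hasNormalPComplement (subP L hL1 hPL)
    have hLp : ∀ x : G, x ∈ L → (orderOf x).Coprime p → x = 1 := by
      intro x hxL hx
      have hxc : x ∈ U0 := hC (mem_centralizer_iff.2 fun y hy => by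
        have := hloc (U0.subgroupOf L) hU0p.comap_subtype ⟨x, hxL⟩
          (by rw [normalizer_eq_top (H := U0.subgroupOf L)]; exact mem_top _)
          (by rwa [orderOf_mk])
        exact congrArg Subtype.val
          (mem_centralizer_iff.1 this ⟨y, hUL hy⟩ (mem_subgroupOf.2 hy)))
      obtain ⟨k, hk⟩ := hU0p ⟨x, hxc⟩
      exact eq_one_of_ppow (k := k) (by simpa using congrArg Subtype.val hk) hx
    refine eq_bot_iff.2 fun w hw => mem_bot.2 ?_
    obtain ⟨x, rfl⟩ := hπs w
    have hxL : x ∈ L := mem_sup_left hw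
    set m := (orderOf x).factorization p
    have h1 : x ^ p ^ m = 1 := hLp _ (pow_mem hxL _) (by
      rw [orderOf_pow_of_dvd (pow_ne_zero _ hp'.ne_zero) (Nat.ordProj_dvd _ _)]
      exact (Nat.coprime_ordCompl hp' (orderOf_pos x).ne').symm)
    exact eq_one_of_ppow (k := m) (by rw [← map_pow, h1, map_one])
      (hWc.coprime_dvd_left (Subgroup.orderOf_dvd_natCard _ hw))
  -- Sylow 2-subgroups are abelian
  have h2p : Nat.Coprime 2 p := ((Nat.coprime_primes hp' Nat.prime_two).2 hp).symm
  haveI : Fact (Nat.Prime 2) := ⟨Nat.prime_two⟩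
  obtain ⟨W0⟩ := (inferInstance : Nonempty (Sylow 2 (G ⧸ U0)))
  have hW0 : (W0 : Subgroup (G ⧸ U0)) ≤ Kb := by
    intro x hx
    obtain ⟨k, hk⟩ := W0.2 ⟨x, hx⟩
    refine PResidual.mem_pResidual p ((h2p.pow_left k).coprime_dvd_left
      (orderOf_dvd_of_pow_eq_one ?_))
    simpa using congrArg Subtype.val hk
  set N0 := normalizer ((W0 : Subgroup (G ⧸ U0)) : Set (G ⧸ U0)) with hN0def
  have hN0 : p ^ (Nat.card (G ⧸ U0)).factorization p ∣ Nat.card N0 := by
    have h1 := Solvable.card_sup_mul_card_inf (A := N0) (K := Kb) le_normalizer_of_normal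
    rw [show N0 ⊔ Kb = ⊤ from Sylow.normalizer_sup_eq_top' W0 hW0, card_top] at h1
    refine (Nat.Coprime.pow_left _ hKb.symm).dvd_of_dvd_mul_right ?_
    rw [← h1]
    exact (Nat.ordProj_dvd _ _).mul_right _
  obtain ⟨R, hR⟩ := Sylow.exists_subgroup_card_pow_prime p hN0
  obtain ⟨g, hg⟩ := MulAction.exists_smul_eq (G ⧸ U0)
    (Sylow.ofCard (R.map N0.subtype)
      (by rw [card_map_of_injective N0.subtype_injective, hR])) Pb
  set W : Sylow 2 (G ⧸ U0) := g • W0 with hWdef
  have hPbW : (Pb : Subgroup (G ⧸ U0)) ≤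
      normalizer ((W : Subgroup (G ⧸ U0)) : Set (G ⧸ U0)) := by
    rw [← hg, hWdef, Sylow.coe_subgroup_smul, Sylow.coe_subgroup_smul, Sylow.coe_ofCard]
    refine le_trans (map_mono (map_subtype_le R)) ?_
    exact le_normalizer_map _
  have hWc : (Nat.card (W : Subgroup (G ⧸ U0))).Coprime p := by
    obtain ⟨k, hk⟩ := IsPGroup.iff_card.1 W.2
    exact hk ▸ h2p.pow_left k
  have hWab : IsMulCommutative (W : Subgroup (G ⧸ U0)) := by
    by_cases hsup : (W : Subgroup (G ⧸ U0)) ⊔ (Pb : Subgroup (G ⧸ U0)) = ⊤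
    swap
    · have hb := small _ hWc hsup
      exact ⟨⟨fun a b => Subtype.ext (by
        simp [show (a : G ⧸ U0) = 1 from mem_bot.1 (hb ▸ a.2),
          show (b : G ⧸ U0) = 1 from mem_bot.1 (hb ▸ b.2)])⟩⟩
    by_contra hnab
    set W1 := ⁅(W : Subgroup (G ⧸ U0)), (W : Subgroup (G ⧸ U0))⁆ with hW1def
    have hW1W : W1 ≤ (W : Subgroup (G ⧸ U0)) := commutator_le.2 fun a ha b hb => by
      rw [commutatorElement_def]
      exact mul_mem (mul_mem (mul_mem ha hb) (inv_mem ha)) (inv_mem hb)
    have hW1c : (Nat.card W1).Coprime p := hWc.coprime_dvd_left (card_dvd_of_le hW1W)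
    have hW1b : W1 = ⊥ := by
      refine small W1 hW1c fun htop => ?_
      have hN1 : (Pb : Subgroup (G ⧸ U0)) ≤ normalizer (W1 : Set (G ⧸ U0)) := by
        intro x hx
        rw [mem_normalizer_iff_map_conj_eq, hW1def, map_commutator,
          mem_normalizer_iff_map_conj_eq.1 (hPbW hx)]
      have hdis : ∀ V : Subgroup (G ⧸ U0), (Nat.card V).Coprime p →
          (Pb : Subgroup (G ⧸ U0)) ⊓ V = ⊥ := fun V hV => ZJ.isPGroup_inf_coprime Pb.2 hV
      have e1 := Solvable.card_sup_of_disjoint hN1 (hdis _ hW1c)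
      have e2 := Solvable.card_sup_of_disjoint hPbW (hdis _ hWc)
      rw [sup_comm, htop] at e1
      rw [sup_comm, hsup, e1] at e2
      have e3 : W1 = (W : Subgroup (G ⧸ U0)) :=
        Solvable.eq_of_le_of_card_le hW1W (Nat.eq_of_mul_eq_mul_left Nat.card_pos e2).ge
      rw [hW1def, ← map_subtype_commutator] at e3
      have e4 : commutator ↥(W : Subgroup (G ⧸ U0)) = ⊤ :=
        map_injective (W : Subgroup (G ⧸ U0)).subtype_injective
          (e3.trans (by rw [← MonoidHom.range_eq_map, range_subtype]))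
      haveI := W.2.isNilpotent
      rcases subsingleton_or_nontrivial ↥(W : Subgroup (G ⧸ U0)) with hs | hs
      · exact hnab ⟨⟨fun a b => Subsingleton.elim _ _⟩⟩
      · exact (Group.IsSolvable.commutator_lt_top_of_nontrivial
          ↥(W : Subgroup (G ⧸ U0))).ne e4
    rw [hW1def, commutator_eq_bot_iff_le_centralizer] at hW1b
    exact hnab (le_centralizer_iff_isMulCommutative.1 hW1b)
  have hfree : ¬ Cfsg.Involves ↥(Cfsg.qd p) G := by
    intro hinv
    obtain ⟨L, f, hf⟩ := ZJ.exists_surjective_of_involves (ZJ.involves_sl2_of_qd hinv)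
    obtain ⟨T⟩ := (inferInstance : Nonempty (Sylow 2 G))
    refine ZJ.sylow_two_noncomm hp L f hf T ⟨⟨fun a b => ?_⟩⟩
    obtain ⟨h, hh⟩ := MulAction.exists_smul_eq (G ⧸ U0) W (T.mapSurjective (f := π) hπs)
    have hmem : ∀ c : ↥(T : Subgroup G), ∃ w ∈ (W : Subgroup (G ⧸ U0)),
        h * w * h⁻¹ = π (c : G) := by
      intro c
      have hc : π (c : G) ∈ ((T.mapSurjective (f := π) hπs : Sylow 2 (G ⧸ U0)) :
          Subgroup (G ⧸ U0)) := mem_map_of_mem π c.2
      rw [← hh, Sylow.coe_subgroup_smul] at hc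
      obtain ⟨w, hw, hwc⟩ := hc
      exact ⟨w, hw, hwc⟩
    obtain ⟨u, hu, hua⟩ := hmem a
    obtain ⟨v, hv, hvb⟩ := hmem b
    have huv : u * v = v * u := congrArg Subtype.val (hWab.is_comm.comm ⟨u, hu⟩ ⟨v, hv⟩)
    have hab : π ((a : G) * b * (a : G)⁻¹ * (b : G)⁻¹) = 1 := by
      rw [map_mul, map_mul, map_mul, map_inv, map_inv, ← hua, ← hvb]
      calc h * u * h⁻¹ * (h * v * h⁻¹) * (h * u * h⁻¹)⁻¹ * (h * v * h⁻¹)⁻¹
          = h * (u * v) * (v * u)⁻¹ * h⁻¹ := by group
        _ = 1 := by rw [huv]; group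
    have hx : (a : G) * b * (a : G)⁻¹ * (b : G)⁻¹ ∈ (T : Subgroup G) :=
      mul_mem (mul_mem (mul_mem a.2 b.2) (inv_mem a.2)) (inv_mem b.2)
    obtain ⟨k, hk⟩ := T.2 ⟨_, hx⟩
    obtain ⟨j, hj⟩ := hU0p ⟨_, by rwa [← hker, MonoidHom.mem_ker]⟩
    have hx1 : (a : G) * b * (a : G)⁻¹ * (b : G)⁻¹ = 1 := eq_one_of_ppow (k := j)
      (by simpa using congrArg Subtype.val hj)
      ((h2p.pow_left k).coprime_dvd_left
        (orderOf_dvd_of_pow_eq_one (by simpa using congrArg Subtype.val hk)))
    apply Subtype.ext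
    show (a : G) * b = b * a
    rwa [mul_inv_eq_one, mul_inv_eq_iff_eq_mul] at hx1
  refine hNZ (normalizer_eq_top_iff.mpr ?_)
  rw [← ZJ.famCenter_abelian_eq]
  exact ZJ.famCenter_normal hp ZJ.admissible_abelian P _ (ZJ.stronglyClosed_self P)
    (ZJ.stableNormal_of_free hp hfree) hC

/-- **Glauberman–Thompson**: for odd `p`, a normal `p`-complement in `N(Z(J(P)))` gives one in `G`. -/
theorem hasNormalPComplement (hp : p ≠ 2) (P : Sylow p G)
    (h : Cfsg.HasNormalPComplement p
      ↥(normalizer ((Cfsg.centerThompsonAOf (P : Subgroup G) : Subgroup G) : Set G))) :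
    Cfsg.HasNormalPComplement p G :=
  aux hp (Nat.card G) G rfl P h

end CfsgLib.FGSA.GT
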