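import Mathlib.GroupTheory.Nilpotent
import Mathlib.Algebra.DirectSum.Basic
import Mathlib.Algebra.Lie.Basic
import Cfsg.Agent.SeriesComm.Basic

/-!
# The graded Lie ring of the lower central series
-/

set_option autoImplicit false

namespace CfsgLib.GrLie

open scoped commutatorElement DirectSum

variable (G : Type*) [Group G]

/-- Terms of the lower central series. -/
abbrev gam (n : ℕ) : Subgroup G := (⊤ : Subgroup G).lowerCentralSeries n

theorem gam_succ_le (n : ℕ) : gam G (n + 1) ≤ gam G n :=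
  Subgroup.lowerCentralSeries_antitone _ n.le_succ

theorem gam_anti {m n : ℕ} (h : m ≤ n) : gam G n ≤ gam G m :=
  Subgroup.lowerCentralSeries_antitone _ h

theorem commutator_gam (i j : ℕ) : ⁅gam G i, gam G j⁆ ≤ gam G (i + j + 1) := by
  induction j generalizing i with
  | zero => exact le_of_eq rfl
  | succ j ih =>
    rw [Subgroup.commutator_comm]
    refine CfsgLib.SeriesComm.rotate_le (A := gam G j) (B := ⊤) (C := gam G i) ?_ ?_
    · have h1 : ⁅(⊤ : Subgroup G), gam G i⁆ = gam G (i + 1) := Subgroup.commutator_comm _ _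
      rw [h1, show i + (j + 1) + 1 = i + 1 + j + 1 by omega]
      exact ih (i + 1)
    · exact (Subgroup.commutator_mono (ih i) le_rfl).trans (le_of_eq rfl)

theorem comm_mem {i j : ℕ} {x y : G} (hx : x ∈ gam G i) (hy : y ∈ gam G j) :
    ⁅x, y⁆ ∈ gam G (i + j + 1) :=
  commutator_gam G i j (Subgroup.commutator_mem_commutator hx hy)

/-- Multiplicative version of the `n`-th factor. -/
abbrev Fac (n : ℕ) := gam G n ⧸ (gam G (n + 1)).subgroupOf (gam G n)

instance (n : ℕ) : ((gam G (n + 1)).subgroupOf (gam G n)).Normal :=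
  Subgroup.Normal.comap inferInstance _

theorem fac_comm {n : ℕ} (a b : Fac G n) : a * b = b * a := by
  induction a using QuotientGroup.induction_on with
  | _ x =>
    induction b using QuotientGroup.induction_on with
    | _ y =>
      rw [← QuotientGroup.mk_mul, ← QuotientGroup.mk_mul, QuotientGroup.eq, Subgroup.mem_subgroupOf]
      have h : ⁅(y : G)⁻¹, (x : G)⁻¹⁆ ∈ gam G (n + 1) :=
        gam_anti G (by omega) (comm_mem G (inv_mem y.2) (inv_mem x.2))
      simpa [commutatorElement_def, mul_assoc] using h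

instance facCommGroup (n : ℕ) : CommGroup (Fac G n) :=
  { (inferInstance : Group (Fac G n)) with mul_comm := fac_comm G }

/-- The underlying additive group. -/
abbrev Gr := ⨁ n, Additive (Fac G n)

variable {G}

/-- The class of an element in the `n`-th factor. -/
def ι (n : ℕ) (g : G) (h : g ∈ gam G n) : Gr G :=
  DirectSum.of (fun n => Additive (Fac G n)) n (Additive.ofMul ((⟨g, h⟩ : gam G n) : Fac G n))

theorem ι_congr {n m : ℕ} (hnm : n = m) {g g' : G} (hgg : g = g') (h : g ∈ gam G n)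
    (h' : g' ∈ gam G m) : ι n g h = ι m g' h' := by
  subst hnm hgg; rfl

theorem ι_mul {n : ℕ} {g g' : G} (h : g ∈ gam G n) (h' : g' ∈ gam G n) :
    ι n (g * g') (mul_mem h h') = ι n g h + ι n g' h' := by
  rw [ι, ι, ι, ← map_add]
  rfl

theorem ι_eq_iff {n : ℕ} {g g' : G} (h : g ∈ gam G n) (h' : g' ∈ gam G n) :
    ι n g h = ι n g' h' ↔ g⁻¹ * g' ∈ gam G (n + 1) := by
  rw [ι, ι, (DirectSum.of_injective n).eq_iff, Additive.ofMul.injective.eq_iff, QuotientGroup.eq,
    Subgroup.mem_subgroupOf]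
  rfl

theorem ι_eq_zero {n : ℕ} {g : G} (h : g ∈ gam G n) : ι n g h = 0 ↔ g ∈ gam G (n + 1) := by
  rw [ι, ← map_zero (DirectSum.of (fun n => Additive (Fac G n)) n),
    (DirectSum.of_injective n).eq_iff, ← ofMul_one, Additive.ofMul.injective.eq_iff,
    QuotientGroup.eq_one_iff, Subgroup.mem_subgroupOf]

theorem ι_one {n : ℕ} : ι n (1 : G) (one_mem _) = 0 := (ι_eq_zero _).2 (one_mem _)

theorem ι_inv {n : ℕ} {g : G} (h : g ∈ gam G n) : ι n g⁻¹ (inv_mem h) = -ι n g h := by
  rw [eq_neg_iff_add_eq_zero, ← ι_mul, ι_eq_zero, inv_mul_cancel]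
  exact one_mem _

theorem ι_pow {n : ℕ} {g : G} (h : g ∈ gam G n) (k : ℕ) :
    ι n (g ^ k) (pow_mem h k) = k • ι n g h := by
  induction k with
  | zero => rw [zero_smul]; exact (ι_congr rfl (pow_zero g) _ (one_mem _)).trans ι_one
  | succ k ih =>
    rw [succ_nsmul, ← ih, ← ι_mul (pow_mem h k) h]
    exact ι_congr rfl (pow_succ g k) _ _

theorem induction {P : Gr G → Prop} (h0 : P 0) (hι : ∀ n g (h : g ∈ gam G n), P (ι n g h))
    (hadd : ∀ x y, P x → P y → P (x + y)) (x : Gr G) : P x := by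
  induction x using DirectSum.induction_on with
  | zero => exact h0
  | of n a =>
    obtain ⟨b, rfl⟩ := Additive.ofMul.surjective a
    induction b using QuotientGroup.induction_on with
    | _ g => exact hι n g g.2
  | add x y hx hy => exact hadd x y hx hy

theorem hom_ext {M : Type*} [AddCommMonoid M] {f f' : Gr G →+ M}
    (h : ∀ n g (hg : g ∈ gam G n), f (ι n g hg) = f' (ι n g hg)) : f = f' :=
  AddMonoidHom.ext fun x => induction (P := fun x => f x = f' x) (by simp) h
    (fun x y hx hy => by simp only [map_add, hx, hy]) x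

theorem conj_ι {n : ℕ} {a b : G} (ha : a ∈ gam G n) :
    ι n (b * a * b⁻¹) ((Subgroup.Normal.conj_mem inferInstance a ha b)) = ι n a ha := by
  rw [ι_eq_iff]
  have h : ⁅b, a⁻¹⁆ ∈ gam G (0 + n + 1) := comm_mem G (by trivial) (inv_mem ha)
  rw [zero_add] at h
  simpa [commutatorElement_def, mul_assoc] using h

theorem ι_comm_mul_right {i j : ℕ} {x y y' : G} (hx : x ∈ gam G i) (hy : y ∈ gam G j)
    (hy' : y' ∈ gam G j) :
    ι (i + j + 1) ⁅x, y * y'⁆ (comm_mem G hx (mul_mem hy hy')) =
      ι (i + j + 1) ⁅x, y⁆ (comm_mem G hx hy) + ι (i + j + 1) ⁅x, y'⁆ (comm_mem G hx hy') := by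
  rw [← conj_ι (b := y) (comm_mem G hx hy'), ← ι_mul]
  exact ι_congr rfl (by simp only [commutatorElement_def]; group) _ _

theorem ι_comm_mul_left {i j : ℕ} {x x' y : G} (hx : x ∈ gam G i) (hx' : x' ∈ gam G i)
    (hy : y ∈ gam G j) :
    ι (i + j + 1) ⁅x * x', y⁆ (comm_mem G (mul_mem hx hx') hy) =
      ι (i + j + 1) ⁅x, y⁆ (comm_mem G hx hy) + ι (i + j + 1) ⁅x', y⁆ (comm_mem G hx' hy) := by
  rw [← conj_ι (b := x) (comm_mem G hx' hy)]
  refine Eq.trans ?_ (add_comm _ _)
  rw [← ι_mul]
  exact ι_congr rfl (by simp only [commutatorElement_def]; group) _ _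

/-- Bracketing with a fixed element of a factor. -/
def brRight (i : ℕ) (x : gam G i) : Gr G →+ Gr G :=
  DirectSum.toAddMonoid fun j => MonoidHom.toAdditiveLeft
    (QuotientGroup.lift ((gam G (j + 1)).subgroupOf (gam G j))
      { toFun := fun y : gam G j => Multiplicative.ofAdd
          (ι (i + j + 1) ⁅(x : G), (y : G)⁆ (comm_mem G x.2 y.2))
        map_one' := by
          rw [← ofAdd_zero]
          congr 1
          rw [ι_eq_zero]
          simp
        map_mul' := fun y y' => by
          rw [← ofAdd_add]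
          congr 1
          exact ι_comm_mul_right x.2 y.2 y'.2 }
      (fun y hy => by
        rw [MonoidHom.mem_ker]
        show Multiplicative.ofAdd (ι (i + j + 1) _ _) = 1
        rw [← ofAdd_zero]
        congr 1
        rw [ι_eq_zero]
        exact gam_anti G (by omega) (comm_mem G x.2 (Subgroup.mem_subgroupOf.1 hy))))

theorem brRight_ι {i j : ℕ} (x : gam G i) {y : G} (hy : y ∈ gam G j) :
    brRight i x (ι j y hy) = ι (i + j + 1) ⁅(x : G), y⁆ (comm_mem G x.2 hy) := by
  unfold brRight ι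
  rw [DirectSum.toAddMonoid_of]
  rfl

/-- The bracket. -/
def brHom : Gr G →+ Gr G →+ Gr G :=
  DirectSum.toAddMonoid fun i => MonoidHom.toAdditiveLeft
    (QuotientGroup.lift ((gam G (i + 1)).subgroupOf (gam G i))
      { toFun := fun x : gam G i => Multiplicative.ofAdd (brRight i x)
        map_one' := by
          rw [← ofAdd_zero]
          congr 1
          refine hom_ext fun j y hy => ?_
          rw [brRight_ι, AddMonoidHom.zero_apply, ι_eq_zero]
          simp
        map_mul' := fun x x' => by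
          rw [← ofAdd_add]
          congr 1
          refine hom_ext fun j y hy => ?_
          rw [AddMonoidHom.add_apply, brRight_ι, brRight_ι, brRight_ι]
          exact ι_comm_mul_left x.2 x'.2 hy }
      (fun x hx => by
        rw [MonoidHom.mem_ker]
        show Multiplicative.ofAdd (brRight i x) = 1
        rw [← ofAdd_zero]
        congr 1
        refine hom_ext fun j y hy => ?_
        rw [brRight_ι, AddMonoidHom.zero_apply, ι_eq_zero]
        exact gam_anti G (by omega) (comm_mem G (Subgroup.mem_subgroupOf.1 hx) hy)))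

theorem brHom_ι {i j : ℕ} {x y : G} (hx : x ∈ gam G i) (hy : y ∈ gam G j) :
    brHom (ι i x hx) (ι j y hy) = ι (i + j + 1) ⁅x, y⁆ (comm_mem G hx hy) := by
  rw [← brRight_ι ⟨x, hx⟩ hy]
  unfold brHom ι
  rw [DirectSum.toAddMonoid_of]
  rfl

theorem brHom_antisymm (x y : Gr G) : brHom x y = -brHom y x := by
  refine induction (P := fun x => brHom x y = -brHom y x) (by simp) (fun i a ha => ?_)
    (fun u v hu hv => by simp only [map_add, AddMonoidHom.add_apply, hu, hv, neg_add]) x
  refine induction (P := fun y => brHom (ι i a ha) y = -brHom y (ι i a ha)) (by simp)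
    (fun j b hb => ?_)
    (fun u v hu hv => by simp only [map_add, AddMonoidHom.add_apply, hu, hv, neg_add]) y
  rw [brHom_ι, brHom_ι, ← ι_inv (comm_mem G hb ha)]
  exact ι_congr (by omega) (commutatorElement_inv b a).symm _ _

theorem brHom_self (x : Gr G) : brHom x x = 0 := by
  refine induction (P := fun x => brHom x x = 0) (by simp) (fun i a ha => ?_)
    (fun u v hu hv => ?_) x
  · rw [brHom_ι, ι_eq_zero, commutatorElement_self]
    exact one_mem _
  · simp only [map_add, AddMonoidHom.add_apply, hu, hv, brHom_antisymm u v]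
    abel

theorem brHom_leibniz (x y z : Gr G) :
    brHom x (brHom y z) = brHom (brHom x y) z + brHom y (brHom x z) := by
  refine induction (P := fun x => brHom x (brHom y z) = brHom (brHom x y) z + brHom y (brHom x z))
    (by simp) (fun i a ha => ?_)
    (fun u v hu hv => by simp only [map_add, AddMonoidHom.add_apply, hu, hv]; abel) x
  refine induction (P := fun y => brHom (ι i a ha) (brHom y z) =
      brHom (brHom (ι i a ha) y) z + brHom y (brHom (ι i a ha) z)) (by simp) (fun j b hb => ?_)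
    (fun u v hu hv => by simp only [map_add, AddMonoidHom.add_apply, hu, hv]; abel) y
  refine induction (P := fun z => brHom (ι i a ha) (brHom (ι j b hb) z) =
      brHom (brHom (ι i a ha) (ι j b hb)) z + brHom (ι j b hb) (brHom (ι i a ha) z)) (by simp)
    (fun k c hc => ?_)
    (fun u v hu hv => by simp only [map_add, hu, hv]; abel) z
  simp only [brHom_ι]
  set n := i + (j + k + 1) + 1 with hn
  have hxy : i + j + 1 + k + 1 = n := by omega
  have hxz : j + (i + k + 1) + 1 = n := by omega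
  set s := ⁅a, b⁆ with hs
  set w := ⁅a, c⁆ with hw
  set d := ⁅b, c⁆ with hd
  have hsm : s ∈ gam G (i + j + 1) := comm_mem G ha hb
  have hwm : w ∈ gam G (i + k + 1) := comm_mem G ha hc
  have hdm : d ∈ gam G (j + k + 1) := comm_mem G hb hc
  rw [ι_congr hxy rfl (comm_mem G hsm hc) (hxy ▸ comm_mem G hsm hc),
    ι_congr hxz rfl (comm_mem G hb hwm) (hxz ▸ comm_mem G hb hwm), ← ι_mul, ι_eq_iff]
  -- work modulo the next term
  set X := gam G (n + 1) with hX
  have hmk : ∀ u : G, u ∈ X ↔ (u : G ⧸ X) = 1 := fun u => (QuotientGroup.eq_one_iff u).symm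
  let q : G →* G ⧸ X := QuotientGroup.mk' X
  have hcomm : ∀ {u v : G} {m l : ℕ}, u ∈ gam G m → v ∈ gam G l → n + 1 ≤ m + l + 1 →
      q u * q v = q v * q u := by
    intro u v m l hu hv hle
    rw [← commutatorElement_eq_one_iff_mul_comm, ← map_commutatorElement]
    exact (QuotientGroup.eq_one_iff _).2 (gam_anti G hle (comm_mem G hu hv))
  have id1 : ⁅a, d⁆ * d = ⁅s * b, w * c⁆ := by
    rw [hs, hw, hd]; simp only [commutatorElement_def]; group
  have h1 := congrArg q id1
  have e2 : ⁅s * b, w * c⁆ = s * (⁅b, w⁆ * w * d * w⁻¹) * s⁻¹ * (⁅s, w⁆ * w * ⁅s, c⁆ * w⁻¹) := by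
    rw [hd]; simp only [commutatorElement_def]; group
  rw [e2] at h1
  have z1 : q ⁅s, w⁆ = 1 :=
    (QuotientGroup.eq_one_iff _).2 (gam_anti G (by omega) (comm_mem G hsm hwm))
  have z2 : q w * q d = q d * q w := hcomm hwm hdm (by omega)
  have z3 : q s * q ⁅b, w⁆ = q ⁅b, w⁆ * q s := hcomm hsm (comm_mem G hb hwm) (by omega)
  have z4 : q s * q d = q d * q s := hcomm hsm hdm (by omega)
  have z5 : q w * q ⁅s, c⁆ = q ⁅s, c⁆ * q w := hcomm hwm (comm_mem G hsm hc) (by omega)
  have z6 : q d * q ⁅s, c⁆ = q ⁅s, c⁆ * q d := hcomm hdm (comm_mem G hsm hc) (by omega)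
  have z7 : q ⁅s, c⁆ * q ⁅b, w⁆ = q ⁅b, w⁆ * q ⁅s, c⁆ :=
    hcomm (comm_mem G hsm hc) (comm_mem G hb hwm) (by omega)
  rw [hmk]
  change q (⁅a, d⁆⁻¹ * (⁅s, c⁆ * ⁅b, w⁆)) = 1
  simp only [map_mul, map_inv, z1, one_mul] at h1
  rw [map_mul, map_mul, map_inv, inv_mul_eq_one]
  have h2 : q ⁅a, d⁆ * q d = q ⁅s, c⁆ * q ⁅b, w⁆ * q d := by
    rw [h1]
    calc q s * (q ⁅b, w⁆ * q w * q d * (q w)⁻¹) * (q s)⁻¹ * (q w * q ⁅s, c⁆ * (q w)⁻¹)
        = q s * q ⁅b, w⁆ * (q w * q d) * (q w)⁻¹ * (q s)⁻¹ * (q w * q ⁅s, c⁆ * (q w)⁻¹) := by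
          group
      _ = q ⁅b, w⁆ * (q s * q d) * (q s)⁻¹ * (q w * q ⁅s, c⁆ * (q w)⁻¹) := by
          rw [z2, z3]; group
      _ = q ⁅b, w⁆ * q d * (q ⁅s, c⁆ * q w * (q w)⁻¹) := by rw [z4, z5]; group
      _ = q ⁅b, w⁆ * (q d * q ⁅s, c⁆) := by group
      _ = q ⁅b, w⁆ * q ⁅s, c⁆ * q d := by rw [z6]; group
      _ = q ⁅s, c⁆ * q ⁅b, w⁆ * q d := by rw [z7]
  exact mul_right_cancel h2

instance : LieRing (Gr G) where
  bracket x y := brHom x y
  add_lie x y z := by simp only [map_add, AddMonoidHom.add_apply]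
  lie_add x y z := map_add _ _ _
  lie_self := brHom_self
  leibniz_lie := brHom_leibniz

theorem lie_ι {i j : ℕ} {x y : G} (hx : x ∈ gam G i) (hy : y ∈ gam G j) :
    ⁅ι i x hx, ι j y hy⁆ = ι (i + j + 1) ⁅x, y⁆ (comm_mem G hx hy) := brHom_ι hx hy

theorem aut_mem (α : MulAut G) {n : ℕ} {x : G} (hx : x ∈ gam G n) : α x ∈ gam G n := by
  have h : gam G n = (gam G n).map α.toMonoidHom := by
    rw [Subgroup.map_lowerCentralSeries,
      Subgroup.map_top_of_surjective α.toMonoidHom α.surjective]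
  rw [h]; exact ⟨x, hx, rfl⟩

/-- The endomorphism induced by an automorphism. -/
def mapAut (α : MulAut G) : Gr G →+ Gr G :=
  DirectSum.toAddMonoid fun n => MonoidHom.toAdditiveLeft
    (QuotientGroup.lift ((gam G (n + 1)).subgroupOf (gam G n))
      { toFun := fun x : gam G n => Multiplicative.ofAdd (ι n (α x) (aut_mem α x.2))
        map_one' := by
          rw [← ofAdd_zero]
          congr 1
          rw [ι_eq_zero]
          simp
        map_mul' := fun x y => by
          rw [← ofAdd_add]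
          congr 1
          rw [← ι_mul]
          exact ι_congr rfl (map_mul α _ _) _ _ }
      (fun x hx => by
        rw [MonoidHom.mem_ker]
        show Multiplicative.ofAdd _ = (1 : Multiplicative (Gr G))
        rw [← ofAdd_zero]
        congr 1
        rw [ι_eq_zero]
        exact aut_mem α (Subgroup.mem_subgroupOf.1 hx)))

theorem mapAut_ι (α : MulAut G) {n : ℕ} {x : G} (hx : x ∈ gam G n) :
    mapAut α (ι n x hx) = ι n (α x) (aut_mem α hx) := by
  unfold mapAut ι
  rw [DirectSum.toAddMonoid_of]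
  rfl

theorem mapAut_lie (α : MulAut G) (x y : Gr G) :
    mapAut α ⁅x, y⁆ = ⁅mapAut α x, mapAut α y⁆ := by
  refine induction (P := fun x => mapAut α ⁅x, y⁆ = ⁅mapAut α x, mapAut α y⁆) (by simp)
    (fun i a ha => ?_) (fun u v hu hv => by simp only [map_add, add_lie, hu, hv]) x
  refine induction (P := fun y => mapAut α ⁅ι i a ha, y⁆ =
      ⁅mapAut α (ι i a ha), mapAut α y⁆) (by simp) (fun j b hb => ?_)
    (fun u v hu hv => by simp only [map_add, lie_add, hu, hv]) y
  rw [lie_ι, mapAut_ι, mapAut_ι, mapAut_ι, lie_ι]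
  exact ι_congr rfl (map_commutatorElement _ _ _) _ _

end CfsgLib.GrLie
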