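import Mathlib.Algebra.Lie.Basic
import Mathlib.Algebra.Field.ZMod
import Mathlib.Algebra.BigOperators.Ring.Finset
import Mathlib.Data.ZMod.Basic
import Mathlib.Algebra.BigOperators.Group.Finset.Basic

/-!
# Graded families in Lie rings: Kreknin and Higman–Kostrikin

A family is an assignment of an additive subgroup to each degree in `ZMod n`.
-/

set_option autoImplicit false

namespace CfsgLib.LieFamily

open AddSubgroup

variable {L : Type*} [LieRing L] {n : ℕ}

/-- A family closed under the bracket, with trivial degree `0` part. -/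
structure Closed (P : ZMod n → AddSubgroup L) : Prop where
  zero_eq : P 0 = ⊥
  lie_mem : ∀ i j, ∀ x ∈ P i, ∀ y ∈ P j, ⁅x, y⁆ ∈ P (i + j)

/-- The bracket of two families. -/
def br (P Q : ZMod n → AddSubgroup L) (k : ZMod n) : AddSubgroup L :=
  closure {v | ∃ i j x y, x ∈ P i ∧ y ∈ Q j ∧ i + j = k ∧ v = ⁅x, y⁆}

theorem mem_br {P Q : ZMod n → AddSubgroup L} {i j : ZMod n} {x y : L} (hx : x ∈ P i)
    (hy : y ∈ Q j) : ⁅x, y⁆ ∈ br P Q (i + j) :=
  subset_closure ⟨i, j, x, y, hx, hy, rfl, rfl⟩

theorem br_le {P Q : ZMod n → AddSubgroup L} {k : ZMod n} {S : AddSubgroup L}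
    (h : ∀ i j, i + j = k → ∀ x ∈ P i, ∀ y ∈ Q j, ⁅x, y⁆ ∈ S) : br P Q k ≤ S := by
  rw [br, closure_le]
  rintro v ⟨i, j, x, y, hx, hy, hij, rfl⟩
  exact h i j hij x hx y hy

theorem lie_mem_closure_left {X : Set L} {S : AddSubgroup L} {v y : L} (hv : v ∈ closure X)
    (h : ∀ x ∈ X, ⁅x, y⁆ ∈ S) : ⁅v, y⁆ ∈ S := by
  refine closure_induction (p := fun v _ => ⁅v, y⁆ ∈ S) h ?_ ?_ ?_ hv
  · rw [zero_lie]; exact S.zero_mem
  · intro a b _ _ ha hb; rw [add_lie]; exact S.add_mem ha hb
  · intro a _ ha; rw [neg_lie]; exact S.neg_mem ha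

theorem lie_mem_closure_right {X : Set L} {S : AddSubgroup L} {v y : L} (hv : v ∈ closure X)
    (h : ∀ x ∈ X, ⁅y, x⁆ ∈ S) : ⁅y, v⁆ ∈ S := by
  refine closure_induction (p := fun v _ => ⁅y, v⁆ ∈ S) h ?_ ?_ ?_ hv
  · rw [lie_zero]; exact S.zero_mem
  · intro a b _ _ ha hb; rw [lie_add]; exact S.add_mem ha hb
  · intro a _ ha; rw [lie_neg]; exact S.neg_mem ha

/-- The derived family. -/
def der (P : ZMod n → AddSubgroup L) : ℕ → ZMod n → AddSubgroup L
  | 0 => P
  | m + 1 => br (der P m) (der P m)

/-- The lower central family. -/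
def lcf (P : ZMod n → AddSubgroup L) : ℕ → ZMod n → AddSubgroup L
  | 0 => P
  | m + 1 => br (lcf P m) P

theorem Closed.br_le_self {P : ZMod n → AddSubgroup L} (hP : Closed P)
    {Q R : ZMod n → AddSubgroup L} (hQ : ∀ i, Q i ≤ P i) (hR : ∀ i, R i ≤ P i) (k : ZMod n) :
    br Q R k ≤ P k :=
  br_le fun i j hij x hx y hy => hij ▸ hP.lie_mem i j x (hQ i hx) y (hR j hy)

theorem Closed.br_self {P : ZMod n → AddSubgroup L} (hP : Closed P) : Closed (br P P) := by
  refine ⟨eq_bot_iff.2 ((hP.br_le_self (fun i => le_rfl) (fun i => le_rfl) 0).trans hP.zero_eq.le),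
    fun i j x hx y hy => ?_⟩
  exact mem_br (hP.br_le_self (fun i => le_rfl) (fun i => le_rfl) i hx)
    (hP.br_le_self (fun i => le_rfl) (fun i => le_rfl) j hy)

theorem Closed.der {P : ZMod n → AddSubgroup L} (hP : Closed P) (m : ℕ) :
    Closed (LieFamily.der P m) := by
  induction m with
  | zero => exact hP
  | succ m ih => exact ih.br_self

theorem Closed.der_le {P : ZMod n → AddSubgroup L} (hP : Closed P) (m : ℕ) (i : ZMod n) :
    LieFamily.der P m i ≤ P i := by
  induction m generalizing i with
  | zero => exact le_rfl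
  | succ m ih => exact hP.br_le_self ih ih i

theorem Closed.lcf_le {P : ZMod n → AddSubgroup L} (hP : Closed P) (m : ℕ) (i : ZMod n) :
    LieFamily.lcf P m i ≤ P i := by
  induction m generalizing i with
  | zero => exact le_rfl
  | succ m ih => exact hP.br_le_self ih (fun i => le_rfl) i

theorem der_add (P : ZMod n → AddSubgroup L) (a b : ℕ) :
    der P (a + b) = der (der P a) b := by
  induction b with
  | zero => rfl
  | succ b ih => rw [← add_assoc]; simp only [der, ih]

/-- Left normed monomials in the components of degree at least `s`. -/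
inductive Gen (P : ZMod n → AddSubgroup L) (s : ℕ) : ZMod n → L → Prop
  | base {t : ZMod n} {x : L} : x ∈ P t → s ≤ t.val → Gen P s t x
  | step {d t : ZMod n} {c g : L} : Gen P s d c → g ∈ P t → s ≤ t.val → Gen P s (d + t) ⁅c, g⁆

/-- The family generated by the components of degree at least `s`. -/
def hi (P : ZMod n → AddSubgroup L) (s : ℕ) (i : ZMod n) : AddSubgroup L :=
  closure {x | Gen P s i x}

theorem Gen.mem {P : ZMod n → AddSubgroup L} (hP : Closed P) {s : ℕ} {i : ZMod n} {x : L}
    (hx : Gen P s i x) : x ∈ P i := by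
  induction hx with
  | base h _ => exact h
  | step _ hg _ ih => exact hP.lie_mem _ _ _ ih _ hg

theorem hi_le {P : ZMod n → AddSubgroup L} (hP : Closed P) (s : ℕ) (i : ZMod n) :
    hi P s i ≤ P i := by
  rw [hi, closure_le]
  exact fun x hx => hx.mem hP

theorem hi_mul_base {P : ZMod n → AddSubgroup L} {s : ℕ} {i t : ZMod n} {x g : L}
    (hx : x ∈ hi P s i) (hg : g ∈ P t) (ht : s ≤ t.val) : ⁅x, g⁆ ∈ hi P s (i + t) :=
  lie_mem_closure_left hx fun c hc => subset_closure (Gen.step hc hg ht)

theorem gen_mul {P : ZMod n → AddSubgroup L} {s : ℕ} {i j : ZMod n} {x y : L}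
    (hx : x ∈ hi P s i) (hy : Gen P s j y) : ⁅x, y⁆ ∈ hi P s (i + j) := by
  induction hy generalizing i x with
  | base hg ht => exact hi_mul_base hx hg ht
  | @step d t c g _ hg ht ih =>
    rw [leibniz_lie x c g]
    refine add_mem ?_ ?_
    · rw [← add_assoc]
      exact hi_mul_base (ih hx) hg ht
    · rw [← lie_skew, show i + (d + t) = i + t + d by abel]
      exact neg_mem (ih (hi_mul_base hx hg ht))

theorem hi_mul {P : ZMod n → AddSubgroup L} {s : ℕ} {i j : ZMod n} {x y : L}
    (hx : x ∈ hi P s i) (hy : y ∈ hi P s j) : ⁅x, y⁆ ∈ hi P s (i + j) :=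
  lie_mem_closure_right hy fun _ hc => gen_mul hx hc

variable [NeZero n]

theorem hi_eq_bot (P : ZMod n → AddSubgroup L) (i : ZMod n) : hi P n i = ⊥ := by
  rw [eq_bot_iff, hi, closure_le]
  intro x hx
  exfalso
  induction hx with
  | base _ h => exact (ZMod.val_lt _).not_ge h
  | step _ _ h _ => exact (ZMod.val_lt _).not_ge h

theorem val_sub_of_lt {s : ℕ} {t : ZMod n} (hs : s < t.val) :
    ((s : ZMod n) - t).val = n + s - t.val := by
  have hlt := ZMod.val_lt t
  have h : ((s : ZMod n) - t) = ((n + s - t.val : ℕ) : ZMod n) := by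
    rw [Nat.cast_sub (by omega), Nat.cast_add, ZMod.natCast_self, zero_add, ZMod.natCast_val,
      ZMod.cast_id]
  rw [h, ZMod.val_natCast, Nat.mod_eq_of_lt (by omega)]

/-- The key computation in Kreknin's theorem. -/
theorem lie_mem_hi_succ {P : ZMod n → AddSubgroup L} (hP : Closed P) {s : ℕ} (hs : s < n)
    {a : ZMod n} {x : L} (hx : Gen P s a x) :
    ∀ b, a + b = (s : ZMod n) → ∀ y ∈ P b, ⁅x, y⁆ ∈ hi P (s + 1) (s : ZMod n) := by
  induction hx with
  | @base t g hg ht =>
    intro b hb y hy
    rcases eq_or_lt_of_le ht with heq | hlt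
    · have hts : t = (s : ZMod n) := by rw [heq, ZMod.natCast_val, ZMod.cast_id]
      have hb0 : b = 0 := by rwa [hts, add_eq_left] at hb
      rw [hb0, hP.zero_eq, AddSubgroup.mem_bot] at hy
      rw [hy, lie_zero]
      exact zero_mem _
    · have hbv : s + 1 ≤ b.val := by
        have : b = (s : ZMod n) - t := by rw [← hb, add_sub_cancel_left]
        rw [this, val_sub_of_lt hlt]
        have := ZMod.val_lt t
        omega
      rw [← hb]
      exact hi_mul_base (subset_closure (Gen.base hg hlt)) hy hbv
  | @step d t c g hc hg ht ih =>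
    intro b hb y hy
    rw [lie_lie]
    refine sub_mem (ih (t + b) (by rw [← hb]; abel) _ (hP.lie_mem _ _ _ hg _ hy)) ?_
    have hcy : ⁅c, y⁆ ∈ P (d + b) := hP.lie_mem _ _ _ (hc.mem hP) _ hy
    have hdb : d + b = (s : ZMod n) - t := by rw [← hb]; abel
    rcases eq_or_lt_of_le ht with heq | hlt
    · have hts : t = (s : ZMod n) := by rw [heq, ZMod.natCast_val, ZMod.cast_id]
      rw [hdb, hts, sub_self, hP.zero_eq, AddSubgroup.mem_bot] at hcy
      rw [hcy, lie_zero]
      exact zero_mem _
    · have hv : s + 1 ≤ (d + b).val := by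
        rw [hdb, val_sub_of_lt hlt]
        have := ZMod.val_lt t
        omega
      rw [show (s : ZMod n) = t + (d + b) by rw [← hb]; abel]
      exact hi_mul_base (subset_closure (Gen.base hg hlt)) hcy hv

/-- Kreknin's theorem, inductive form. -/
theorem kreknin_aux (s : ℕ) (hs : s < n) : ∀ P : ZMod n → AddSubgroup L, Closed P →
    ∀ i, der P (2 ^ s - 1) i ≤ hi P (s + 1) i := by
  induction s with
  | zero =>
    intro P hP i x hx
    rcases eq_or_ne i 0 with rfl | hi0
    · have : x ∈ (⊥ : AddSubgroup L) := hP.zero_eq ▸ hx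
      rw [AddSubgroup.mem_bot] at this
      rw [this]
      exact zero_mem _
    · refine subset_closure (Gen.base hx ?_)
      exact Nat.one_le_iff_ne_zero.2 fun h => hi0 ((ZMod.val_eq_zero i).1 h)
  | succ s ih =>
    intro P hP i
    set m := 2 ^ s - 1 with hm
    have hle : ∀ j, der P m j ≤ hi P (s + 1) j := ih (by omega) P hP
    set Q := der P (m + 1) with hQ
    have hQc : Closed Q := hP.der _
    have hQs : Q ((s + 1 : ℕ) : ZMod n) ≤ hi P (s + 2) ((s + 1 : ℕ) : ZMod n) :=
      br_le fun a b hab x hx y hy =>
        lie_mem_closure_left (hle a hx) fun c hc =>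
          lie_mem_hi_succ hP (by omega) hc b hab y (hP.der_le m b hy)
    have hbase : ∀ t : ZMod n, s + 1 ≤ t.val → Q t ≤ hi P (s + 2) t := by
      intro t ht z hz
      rcases eq_or_lt_of_le ht with heq | hlt
      · have hts : t = ((s + 1 : ℕ) : ZMod n) := by rw [heq, ZMod.natCast_val, ZMod.cast_id]
        rw [hts] at hz ⊢
        exact hQs hz
      · exact subset_closure (Gen.base (hP.der_le (m + 1) t hz) hlt)
    have hgen : ∀ j z, Gen Q (s + 1) j z → z ∈ hi P (s + 2) j := by
      intro j z hz
      induction hz with
      | base hx ht => exact hbase _ ht hx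
      | step _ hg ht ihz => exact hi_mul ihz (hbase _ ht hg)
    have hpow : 2 ^ (s + 1) - 1 = (m + 1) + m := by
      rw [hm, pow_succ]
      have := Nat.one_le_two_pow (n := s)
      omega
    rw [hpow, der_add]
    refine (ih (by omega) Q hQc i).trans ?_
    rw [hi, closure_le]
    exact fun z hz => hgen i z hz

/-- Kreknin: the derived length is bounded. -/
theorem kreknin {P : ZMod n → AddSubgroup L} (hP : Closed P) (i : ZMod n) :
    der P (2 ^ (n - 1) - 1) i = ⊥ := by
  have hn : n - 1 + 1 = n := Nat.succ_pred_eq_of_pos (Nat.pos_of_ne_zero (NeZero.ne n))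
  have h := kreknin_aux (n - 1) (by omega) P hP i
  rw [hn, hi_eq_bot] at h
  exact eq_bot_iff.2 h

/-- Subset sums of a list. -/
def sums : List (ZMod n) → Finset (ZMod n)
  | [] => {0}
  | b :: l => sums l ∪ (sums l).image (b + ·)

theorem sums_card {p : ℕ} [Fact p.Prime] : ∀ l : List (ZMod p), (∀ b ∈ l, b ≠ 0) →
    min p (l.length + 1) ≤ (sums l).card := by
  intro l
  induction l with
  | nil => intro _; simp [sums]
  | cons b l ih =>
    intro hl
    have hb := hl b List.mem_cons_self
    have hl' := ih fun c hc => hl c (List.mem_cons_of_mem _ hc)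
    by_cases hinv : (sums l).image (b + ·) ⊆ sums l
    · have h0 : (0 : ZMod p) ∈ sums l := by
        clear ih hl hl' hinv
        induction l with
        | nil => simp [sums]
        | cons c l ih => simp [sums, ih]
      have hall : ∀ k : ℕ, ((k : ZMod p) * b) ∈ sums l := by
        intro k
        induction k with
        | zero => simpa using h0
        | succ k ihk =>
          have := hinv (Finset.mem_image_of_mem (b + ·) ihk)
          rwa [Nat.cast_succ, add_one_mul, add_comm]
      have huniv : sums l = Finset.univ := by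
        rw [Finset.eq_univ_iff_forall]
        intro x
        have := hall (x / b).val
        rwa [ZMod.natCast_val, ZMod.cast_id, div_mul_cancel₀ _ hb] at this
      have : (sums (b :: l)) = Finset.univ := by
        rw [sums, huniv]
        exact Finset.eq_univ_of_forall fun x => Finset.mem_union_left _ (Finset.mem_univ x)
      rw [this, Finset.card_univ, ZMod.card]
      exact min_le_left _ _
    · have hlt : (sums l).card < (sums (b :: l)).card := by
        refine Finset.card_lt_card ⟨Finset.subset_union_left, fun h => hinv ?_⟩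
        exact Finset.subset_union_right.trans h
      simp only [List.length_cons]
      omega

/-- Iterated bracket. -/
def lmul (m : L) (l : List L) : L := l.foldl (fun v x => ⁅v, x⁆) m

variable {P Q M N : ZMod n → AddSubgroup L}

/-- Higman's lemma: `p - 1` further factors push `M` into `[M, Q]`. -/
theorem higman (hP : Closed P) (hM : ∀ i j, ∀ x ∈ M i, ∀ y ∈ P j, ⁅x, y⁆ ∈ M (i + j))
    (hMP : ∀ i, M i ≤ P i)
    (hQ : ∀ i j, ∀ x ∈ P i, ∀ y ∈ P j, ⁅x, y⁆ ∈ Q (i + j))
    (hMQ : ∀ i j, ∀ x ∈ M i, ∀ y ∈ Q j, ⁅x, y⁆ ∈ N (i + j))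
    (hN : ∀ i j, ∀ x ∈ N i, ∀ y ∈ P j, ⁅x, y⁆ ∈ N (i + j)) :
    ∀ (l : List (ZMod n × L)), (∀ e ∈ l, e.2 ∈ P e.1) → ∀ (a : ZMod n), ∀ m ∈ M a,
      -a ∈ sums (l.map Prod.fst).reverse →
        lmul m (l.map Prod.snd) ∈ N (a + (l.map Prod.fst).sum) := by
  intro l
  induction l using List.reverseRecOn with
  | nil =>
    intro _ a m hm ha
    simp only [List.map_nil, List.reverse_nil, sums, Finset.mem_singleton, neg_eq_zero] at ha
    have : m ∈ P 0 := ha ▸ hMP a hm
    rw [hP.zero_eq, AddSubgroup.mem_bot] at this
    simp [lmul, this]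
  | append_singleton l e ih =>
    intro hl a m hm ha
    obtain ⟨b, x⟩ := e
    have hx : x ∈ P b := hl (b, x) (by simp)
    have hl' : ∀ e ∈ l, e.2 ∈ P e.1 := fun e he => hl e (by simp [he])
    simp only [List.map_append, List.map_cons, List.map_nil, List.reverse_append,
      List.reverse_cons, List.reverse_nil, List.nil_append, List.singleton_append, sums,
      Finset.mem_union, Finset.mem_image] at ha
    simp only [List.map_append, List.map_cons, List.map_nil, lmul, List.foldl_append,
      List.foldl_cons, List.foldl_nil, List.sum_append, List.sum_cons, List.sum_nil, add_zero]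
    change ⁅lmul m (l.map Prod.snd), x⁆ ∈ N (a + ((l.map Prod.fst).sum + b))
    rcases ha with ha | ⟨σ, hσ, hσa⟩
    · rw [← add_assoc]
      exact hN _ _ _ (ih hl' a m hm ha) _ hx
    · -- modulo `N` the last factor may be moved to the front
      have hswap : ∀ l : List (ZMod n × L), (∀ e ∈ l, e.2 ∈ P e.1) → ∀ (a : ZMod n), ∀ m ∈ M a,
          ⁅lmul m (l.map Prod.snd), x⁆ - lmul ⁅m, x⁆ (l.map Prod.snd) ∈
            N (a + ((l.map Prod.fst).sum + b)) := by
        intro l
        induction l using List.reverseRecOn with
        | nil => intro _ a m _; simp [lmul]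
        | append_singleton l e ih2 =>
          intro hl a m hm
          obtain ⟨c, z⟩ := e
          have hz : z ∈ P c := hl (c, z) (by simp)
          have hl' : ∀ e ∈ l, e.2 ∈ P e.1 := fun e he => hl e (by simp [he])
          have hu : ∀ l : List (ZMod n × L), (∀ e ∈ l, e.2 ∈ P e.1) →
              lmul m (l.map Prod.snd) ∈ M (a + (l.map Prod.fst).sum) := by
            intro l
            induction l using List.reverseRecOn with
            | nil => intro _; simpa [lmul] using hm
            | append_singleton l e ih3 =>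
              intro hl
              simp only [List.map_append, List.map_cons, List.map_nil, lmul, List.foldl_append,
                List.foldl_cons, List.foldl_nil, List.sum_append, List.sum_cons, List.sum_nil,
                add_zero, ← add_assoc]
              exact hM _ _ _ (ih3 fun e he => hl e (by simp [he])) _ (hl e (by simp))
          simp only [List.map_append, List.map_cons, List.map_nil, lmul, List.foldl_append,
            List.foldl_cons, List.foldl_nil, List.sum_append, List.sum_cons, List.sum_nil, add_zero]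
          set u := lmul m (l.map Prod.snd) with hu'
          change ⁅⁅u, z⁆, x⁆ - ⁅lmul ⁅m, x⁆ (l.map Prod.snd), z⁆ ∈ _
          have h1 := hN _ _ _ (ih2 hl' a m hm) _ hz
          have h2 := hMQ _ _ _ (hu l hl') _ (hQ _ _ _ hz _ hx)
          rw [sub_lie, show a + ((l.map Prod.fst).sum + b) + c =
            a + ((l.map Prod.fst).sum + c + b) by abel] at h1
          rw [show a + (l.map Prod.fst).sum + (c + b) =
            a + ((l.map Prod.fst).sum + c + b) by abel, leibniz_lie, ← lie_skew z] at h2
          have := add_mem h1 h2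
          convert this using 1
          abel
      have h1 := hswap l hl' a m hm
      have h2 := ih hl' (a + b) _ (hM _ _ _ hm _ hx) (by
        rw [neg_add, ← hσa]; simpa using hσ)
      rw [show a + b + (l.map Prod.fst).sum = a + ((l.map Prod.fst).sum + b) by abel] at h2
      simpa using add_mem h1 h2

/-- Higman–Kostrikin bound on the lower central length. -/
def bound (p : ℕ) : ℕ → ℕ
  | 0 => 0
  | l + 1 => 1 + (p - 1) * bound p l

theorem bound_eq_sum (p l : ℕ) : bound p l = ∑ i ∈ Finset.range l, (p - 1) ^ i := by
  induction l with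
  | zero => simp [bound]
  | succ l ih =>
    rw [bound, ih, Finset.sum_range_succ', Finset.mul_sum, add_comm]
    simp [pow_succ']

theorem Closed.lie_lcf {P : ZMod n → AddSubgroup L} (hP : Closed P) :
    ∀ m i j, ∀ x ∈ LieFamily.lcf P m i, ∀ y ∈ P j, ⁅x, y⁆ ∈ LieFamily.lcf P m (i + j) := by
  intro m
  induction m with
  | zero => exact hP.lie_mem
  | succ m ih =>
    intro i j x hx y hy
    refine lie_mem_closure_left hx ?_
    rintro v ⟨a, b, u, w, hu, hw, rfl, rfl⟩
    rw [lie_lie, ← lie_skew w ⁅u, y⁆, sub_neg_eq_add]
    refine add_mem ?_ ?_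
    · rw [add_assoc]; exact mem_br hu (hP.lie_mem _ _ _ hw _ hy)
    · rw [add_right_comm]; exact mem_br (ih _ _ _ hu _ hy) hw

/-- The lower central family of the derived family is invariant under `P`. -/
theorem Closed.lie_lcf_der {P : ZMod n → AddSubgroup L} (hP : Closed P) :
    ∀ k i j, ∀ x ∈ LieFamily.lcf (br P P) k i, ∀ y ∈ P j,
      ⁅x, y⁆ ∈ LieFamily.lcf (br P P) k (i + j) := by
  intro k
  induction k with
  | zero =>
    intro i j x hx y hy
    exact mem_br (hP.br_le_self (fun i => le_rfl) (fun i => le_rfl) i hx) hy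
  | succ k ih =>
    intro i j x hx y hy
    refine lie_mem_closure_left hx ?_
    rintro v ⟨a, b, u, w, hu, hw, rfl, rfl⟩
    rw [lie_lie, ← lie_skew w ⁅u, y⁆, sub_neg_eq_add]
    refine add_mem ?_ ?_
    · rw [add_assoc]
      exact mem_br hu (mem_br (hP.br_le_self (fun i => le_rfl) (fun i => le_rfl) b hw) hy)
    · rw [add_right_comm]; exact mem_br (ih _ _ _ hu _ hy) hw

theorem kostrikin {p : ℕ} [Fact p.Prime] : ∀ (l : ℕ) (P : ZMod p → AddSubgroup L), Closed P →
    (∀ i, der P l i = ⊥) → ∀ i, lcf P (bound p l) i = ⊥ := by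
  intro l
  induction l with
  | zero => intro P _ h i; exact h i
  | succ l ih =>
    intro P hP hder i
    have hQ := hP.br_self
    have hQP : ∀ i, br P P i ≤ P i := hP.br_le_self (fun i => le_rfl) (fun i => le_rfl)
    have hl := ih (br P P) hQ (fun j => by
      have := hder j
      rwa [add_comm l 1, der_add] at this)
    -- each block of `p - 1` steps advances one term
    have key : ∀ k i, lcf P (1 + (p - 1) * k) i ≤ lcf (br P P) k i := by
      intro k
      induction k with
      | zero => intro i; exact le_rfl
      | succ k ihk =>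
        intro i
        have hlists : ∀ (j : ℕ) (a : ZMod p), ∀ v ∈ lcf P (1 + (p - 1) * k + j) a,
            ∀ l : List (ZMod p × L), (∀ e ∈ l, e.2 ∈ P e.1) → l.length + j = p - 1 →
              lmul v (l.map Prod.snd) ∈ lcf (br P P) (k + 1) (a + (l.map Prod.fst).sum) := by
          intro j
          induction j with
          | zero =>
            intro a v hv l hl hlen
            by_cases hz : ∀ e ∈ l, e.1 ≠ 0
            · refine higman (M := lcf (br P P) k) hP (hP.lie_lcf_der k)
                (fun i => (hQ.lcf_le k i).trans (hQP i))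
                (fun i j x hx y hy => mem_br hx hy) (fun i j x hx y hy => mem_br hx hy)
                (hP.lie_lcf_der (k + 1)) l hl a v (ihk a hv) ?_
              have hc := sums_card (p := p) (l.map Prod.fst).reverse (fun b hb => by
                rw [List.mem_reverse, List.mem_map] at hb
                obtain ⟨e, he, rfl⟩ := hb
                exact hz e he)
              have hp2 := (Fact.out : p.Prime).two_le
              have : sums (l.map Prod.fst).reverse = Finset.univ := by
                apply Finset.eq_univ_of_card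
                refine le_antisymm (Finset.card_le_univ _) ?_
                rw [ZMod.card]
                simp only [List.length_reverse, List.length_map] at hc
                omega
              rw [this]
              exact Finset.mem_univ _
            · push Not at hz
              obtain ⟨e, he, he0⟩ := hz
              obtain ⟨l₁, l₂, rfl⟩ := List.append_of_mem he
              have he2 : e.2 = 0 := by
                have := hl e (by simp)
                rwa [he0, hP.zero_eq, AddSubgroup.mem_bot] at this
              have hzero : ∀ l : List L, l.foldl (fun v x => ⁅v, x⁆) (0 : L) = 0 := by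
                intro l
                induction l with
                | nil => rfl
                | cons x l ih0 => simpa using ih0
              simp [lmul, he2, hzero]
          | succ j ihj =>
            intro a v hv l hl hlen
            refine closure_induction (p := fun v _ => lmul v (l.map Prod.snd) ∈
              lcf (br P P) (k + 1) (a + (l.map Prod.fst).sum)) ?_ ?_ ?_ ?_ hv
            · rintro w ⟨c, d, u, x, hu, hx, rfl, rfl⟩
              have := ihj c u hu ((d, x) :: l)
                (by rintro e (_ | ⟨_, he⟩); exacts [hx, hl e he]) (by simp; omega)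
              simpa [lmul, add_assoc] using this
            · have hzero : ∀ l : List L, l.foldl (fun v x => ⁅v, x⁆) (0 : L) = 0 := by
                intro l
                induction l with
                | nil => rfl
                | cons x l ih0 => simpa using ih0
              rw [lmul, hzero]; exact zero_mem _
            · intro x y _ _ hx hy
              have hadd : ∀ (l : List L) (x y : L), lmul (x + y) l = lmul x l + lmul y l := by
                intro l
                induction l with
                | nil => intro x y; rfl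
                | cons z l iha => intro x y; simp only [lmul, List.foldl_cons, add_lie]; exact iha _ _
              rw [hadd]; exact add_mem hx hy
            · intro x _ hx
              have hneg : ∀ (l : List L) (x : L), lmul (-x) l = -lmul x l := by
                intro l
                induction l with
                | nil => intro x; rfl
                | cons z l iha => intro x; simp only [lmul, List.foldl_cons, neg_lie]; exact iha _
              rw [hneg]; exact neg_mem hx
        intro x hx
        have := hlists (p - 1) i x (by rwa [Nat.mul_succ, ← add_assoc] at hx) []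
          (by simp) (by simp)
        simpa [lmul] using this
    exact eq_bot_iff.2 ((key (bound p l) i).trans (hl i).le)

/-- Degree three: class at most two. -/
theorem three {P : ZMod 3 → AddSubgroup L} (hP : Closed P) (i : ZMod 3) : lcf P 2 i = ⊥ := by
  have hz : ∀ j, j = (0 : ZMod 3) → ∀ x ∈ P j, x = 0 := fun j hj x hx => by
    rw [hj, hP.zero_eq, AddSubgroup.mem_bot] at hx; exact hx
  rw [eq_bot_iff]
  refine br_le fun a b _ u hu z hz' => ?_
  rw [AddSubgroup.mem_bot]
  refine (AddSubgroup.mem_bot).1 (lie_mem_closure_left (S := ⊥) hu ?_)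
  rintro v ⟨c, d, x, y, hx, hy, rfl, rfl⟩
  rw [AddSubgroup.mem_bot]
  have hcases : ∀ c d b : ZMod 3, c = 0 ∨ d = 0 ∨ b = 0 ∨ c + d = 0 ∨ c + d + b = 0 ∨
      (c + b = 0 ∧ d + b = 0) := by decide
  rcases hcases c d b with h | h | h | h | h | ⟨h1, h2⟩
  · rw [hz c h x hx]; simp
  · rw [hz d h y hy]; simp
  · rw [hz b h z hz']; simp
  · rw [hz _ h _ (hP.lie_mem _ _ _ hx _ hy)]; simp
  · exact hz _ h _ (hP.lie_mem _ _ _ (hP.lie_mem _ _ _ hx _ hy) _ hz')
  · rw [lie_lie, hz _ h2 _ (hP.lie_mem _ _ _ hy _ hz'), hz _ h1 _ (hP.lie_mem _ _ _ hx _ hz')]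
    simp

end CfsgLib.LieFamily
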