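import Mathlib.Algebra.Lie.BaseChange
import Mathlib.RingTheory.AdjoinRoot
import Mathlib.RingTheory.Polynomial.Cyclotomic.Basic
import Cfsg.Agent.FGSA.FPFFour
import Cfsg.Agent.FGSA.LieFamily
import Cfsg.Agent.FGSA.GrLie
import Cfsg.Agent.Coprime.Sylow

/-!
# Higman's bound on the class of a nilpotent group with a fixed point free automorphism of prime
order
-/

set_option autoImplicit false

namespace CfsgLib.Higman

open CfsgLib.GrLie CfsgLib.LieFamily
open scoped TensorProduct Polynomial commutatorElement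

variable (p : ℕ) [Fact p.Prime]

/-- The cyclotomic integers. -/
abbrev R := AdjoinRoot (Polynomial.cyclotomic p ℤ)

/-- The primitive root. -/
noncomputable def ζ : R p := AdjoinRoot.root _

theorem sum_ζ : ∑ i ∈ Finset.range p, (ζ p) ^ i = 0 := by
  have h : AdjoinRoot.mk (Polynomial.cyclotomic p ℤ) (Polynomial.cyclotomic p ℤ) = 0 :=
    AdjoinRoot.mk_self
  conv_lhs at h => arg 2; rw [Polynomial.cyclotomic_prime]
  simpa [map_sum, map_pow, AdjoinRoot.mk_X, ζ] using h

theorem ζ_pow : (ζ p) ^ p = 1 := by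
  have h := geom_sum_mul (ζ p) p
  rw [sum_ζ, zero_mul] at h
  exact (sub_eq_zero.1 h.symm)

theorem ζ_pow_mod (k : ℕ) : (ζ p) ^ (k % p) = (ζ p) ^ k := by
  conv_rhs => rw [← Nat.mod_add_div k p, pow_add, pow_mul, ζ_pow, one_pow, mul_one]

theorem ζ_val_add (i j : ZMod p) : (ζ p) ^ (i + j).val = (ζ p) ^ i.val * (ζ p) ^ j.val := by
  rw [ZMod.val_add, ζ_pow_mod, pow_add]

theorem sum_ζ_pow (a : ZMod p) :
    ∑ j : ZMod p, (ζ p) ^ (j * a).val = if a = 0 then (p : R p) else 0 := by
  split_ifs with h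
  · simp [h, ZMod.card]
  · have h1 : ∑ j : ZMod p, (ζ p) ^ (j * a).val = ∑ j : ZMod p, (ζ p) ^ j.val :=
      Fintype.sum_equiv (Equiv.mulRight₀ a h) _ _ fun j => rfl
    rw [h1, ← sum_ζ p, ← Fin.sum_univ_eq_sum_range (fun i => (ζ p) ^ i)]
    obtain ⟨q, hq⟩ : ∃ q, p = q + 1 := ⟨p - 1, by have := (Fact.out : p.Prime).pos; omega⟩
    subst hq
    rfl

/-- The coefficient of `1`. -/
theorem exists_retraction : ∃ f : R p →ₗ[ℤ] ℤ, f 1 = 1 := by
  have hm : (Polynomial.cyclotomic p ℤ).Monic := Polynomial.cyclotomic.monic p ℤ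
  refine ⟨(Polynomial.lcoeff ℤ 0).comp (AdjoinRoot.modByMonicHom hm), ?_⟩
  rw [LinearMap.comp_apply, ← map_one (AdjoinRoot.mk (Polynomial.cyclotomic p ℤ)),
    AdjoinRoot.modByMonicHom_mk]
  have hdeg : (1 : ℤ[X]).degree < (Polynomial.cyclotomic p ℤ).degree := by
    rw [Polynomial.degree_one, Polynomial.degree_cyclotomic]
    have := Nat.totient_pos.2 (Fact.out : p.Prime).pos
    exact_mod_cast this
  rw [(Polynomial.modByMonic_eq_self_iff hm).2 hdeg]
  simp

variable {p}
variable {G : Type*} [Group G] [Finite G] (α : MulAut G)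

/-- Scalar extension of the graded ring. -/
abbrev LL (p : ℕ) (G : Type*) [Group G] := R p ⊗[ℤ] Gr G

noncomputable local instance (priority := high) instBracketLL :
    Bracket (R p ⊗[ℤ] Gr G) (R p ⊗[ℤ] Gr G) :=
  ⟨(LieAlgebra.ExtendScalars.instLieRing ℤ (R p) (Gr G)).bracket⟩

omit [Finite G] in
theorem br_tmul (s t : R p) (x y : Gr G) :
    ⁅s ⊗ₜ[ℤ] x, t ⊗ₜ[ℤ] y⁆ = (s * t) ⊗ₜ[ℤ] ⁅x, y⁆ := rfl

omit [Finite G] in
theorem ll_lie_add (u v w : LL p G) : ⁅u, v + w⁆ = ⁅u, v⁆ + ⁅u, w⁆ := lie_add u v w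

omit [Finite G] in
theorem ll_lie_zero (u : LL p G) : ⁅u, (0 : LL p G)⁆ = 0 := lie_zero u

omit [Finite G] in
theorem ll_add_lie (u v w : LL p G) : ⁅u + v, w⁆ = ⁅u, w⁆ + ⁅v, w⁆ := add_lie u v w

omit [Finite G] in
theorem ll_zero_lie (u : LL p G) : ⁅(0 : LL p G), u⁆ = 0 := zero_lie u

omit [Finite G] in
theorem ll_smul (c d : R p) (u v : LL p G) : ⁅c • u, d • v⁆ = (c * d) • ⁅u, v⁆ :=
  (smul_lie c u (d • v)).trans ((congrArg (c • ·) (lie_smul d u v)).trans (smul_smul c d _))

/-- The extended automorphism. -/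
noncomputable def A : LL p G →ₗ[R p] LL p G := (mapAut α).toIntLinearMap.baseChange (R p)

theorem A_tmul (r : R p) (x : Gr G) : A α (r ⊗ₜ[ℤ] x) = r ⊗ₜ[ℤ] mapAut α x := rfl

theorem A_lie (u v : LL p G) : A α ⁅u, v⁆ = ⁅A α u, A α v⁆ := by
  induction u using TensorProduct.induction_on with
  | zero => simp only [ll_zero_lie, map_zero]
  | add a b ha hb => simp only [ll_add_lie, map_add, ha, hb]
  | tmul r x =>
    induction v using TensorProduct.induction_on with
    | zero => simp only [ll_lie_zero, map_zero]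
    | add a b ha hb => simp only [ll_lie_add, map_add, ha, hb]
    | tmul s y =>
      rw [br_tmul, A_tmul, A_tmul, A_tmul, br_tmul, mapAut_lie]

/-- Eigenspaces. -/
noncomputable def comp (i : ZMod p) : AddSubgroup (LL p G) :=
  (LinearMap.ker (A α - ((ζ p) ^ i.val) • LinearMap.id : LL p G →ₗ[R p] LL p G)).toAddSubgroup

theorem mem_comp {i : ZMod p} {v : LL p G} :
    v ∈ comp α i ↔ A α v = ((ζ p) ^ i.val) • v := by
  simp [comp, LinearMap.mem_ker, sub_eq_zero]

theorem iterate_mapAut (k n : ℕ) (x : G) (hx : x ∈ gam G n) :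
    (mapAut α)^[k] (ι n x hx) = ι n ((α ^ k) x) (aut_mem _ hx) := by
  induction k with
  | zero => exact ι_congr rfl (by simp) _ _
  | succ k ih =>
    rw [Function.iterate_succ_apply', ih, mapAut_ι]
    exact ι_congr rfl (by rw [pow_succ', MulAut.mul_apply]) _ _

theorem sum_iterate_eq_zero (hα : α ^ p = 1) (hfpf : ∀ g : G, α g = g → g = 1) (x : Gr G) :
    ∑ k ∈ Finset.range p, (mapAut α)^[k] x = 0 := by
  have hhom : ∀ k, ∀ a b : Gr G,
      (mapAut α)^[k] (a + b) = (mapAut α)^[k] a + (mapAut α)^[k] b := by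
    intro k
    induction k with
    | zero => intro a b; rfl
    | succ k ih => intro a b; simp only [Function.iterate_succ_apply', ih, map_add]
  have hzero : ∀ k, (mapAut α)^[k] (0 : Gr G) = 0 := by
    intro k
    induction k with
    | zero => rfl
    | succ k ih => simp only [Function.iterate_succ_apply', ih, map_zero]
  refine GrLie.induction (P := fun x => ∑ k ∈ Finset.range p, (mapAut α)^[k] x = 0)
    (Finset.sum_eq_zero fun k _ => hzero k) (fun n g hg => ?_) (fun a b ha hb => ?_) x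
  · obtain ⟨z, hz, he⟩ : ∃ z, ∃ hz : z ∈ gam G n,
        ι n z hz = ∑ k ∈ Finset.range p, (mapAut α)^[k] (ι n g hg) := by
      refine Finset.sum_induction _ (fun v : Gr G => ∃ z, ∃ hz : z ∈ gam G n, ι n z hz = v)
        ?_ ⟨1, one_mem _, ι_one⟩ (fun k _ => ⟨_, aut_mem _ hg, (iterate_mapAut α k n g hg).symm⟩)
      rintro a b ⟨u, hu, rfl⟩ ⟨v, hv, rfl⟩
      exact ⟨u * v, mul_mem hu hv, ι_mul hu hv⟩
    rw [← he, ι_eq_zero hz]
    refine FPFFour.fpf_of_mem α hfpf (fun k hk => aut_mem α hk) ?_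
    rw [← ι_eq_iff hz (aut_mem α hz), ← mapAut_ι α hz, he, map_sum]
    obtain ⟨q, hq⟩ : ∃ q, p = q + 1 := ⟨p - 1, by have := (Fact.out : p.Prime).pos; omega⟩
    subst hq
    simp only [← Function.iterate_succ_apply' (mapAut α)]
    rw [Finset.sum_range_succ', Finset.sum_range_succ (fun k => (mapAut α)^[k + 1] (ι n g hg))]
    congr 1
    rw [Function.iterate_zero_apply, iterate_mapAut]
    exact (ι_congr rfl (by rw [hα]; rfl) _ _).symm
  · simp only [hhom, Finset.sum_add_distrib, ha, hb, add_zero]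

theorem mapAut_iterate_p (hα : α ^ p = 1) (x : Gr G) : (mapAut α)^[p] x = x := by
  refine GrLie.induction (P := fun x => (mapAut α)^[p] x = x) ?_ (fun n g hg => ?_)
    (fun a b ha hb => ?_) x
  · exact (iterate_map_zero (mapAut α) p)
  · rw [iterate_mapAut]
    exact ι_congr rfl (by rw [hα]; rfl) _ _
  · rw [iterate_map_add, ha, hb]

theorem A_iterate (k : ℕ) (r : R p) (x : Gr G) :
    (A α)^[k] (r ⊗ₜ[ℤ] x) = r ⊗ₜ[ℤ] (mapAut α)^[k] x := by
  induction k with
  | zero => rfl
  | succ k ih => rw [Function.iterate_succ_apply', ih, A_tmul, Function.iterate_succ_apply']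

theorem A_iterate_p (hα : α ^ p = 1) (v : LL p G) : (A α)^[p] v = v := by
  induction v using TensorProduct.induction_on with
  | zero => exact iterate_map_zero (A α) p
  | add a b ha hb => rw [iterate_map_add, ha, hb]
  | tmul r x => rw [A_iterate, mapAut_iterate_p α hα]

theorem sum_A_eq_zero (hα : α ^ p = 1) (hfpf : ∀ g : G, α g = g → g = 1) (v : LL p G) :
    ∑ k ∈ Finset.range p, (A α)^[k] v = 0 := by
  induction v using TensorProduct.induction_on with
  | zero => exact Finset.sum_eq_zero fun k _ => iterate_map_zero (A α) k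
  | add a b ha hb => simp only [iterate_map_add, Finset.sum_add_distrib, ha, hb, add_zero]
  | tmul r x =>
    simp only [A_iterate]
    rw [← TensorProduct.tmul_sum, sum_iterate_eq_zero α hα hfpf, TensorProduct.tmul_zero]

theorem card_smul_eq_zero (v : LL p G) : (Nat.card G) • v = 0 := by
  have hG : ∀ x : Gr G, (Nat.card G) • x = 0 := fun x =>
    GrLie.induction (P := fun x => (Nat.card G) • x = 0) (smul_zero _) (fun n g hg => by
      rw [← ι_pow, ι_eq_zero, pow_card_eq_one']; exact one_mem _)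
      (fun a b ha hb => by rw [smul_add, ha, hb, add_zero]) x
  induction v using TensorProduct.induction_on with
  | zero => exact smul_zero _
  | add a b ha hb => rw [smul_add, ha, hb, add_zero]
  | tmul r x => rw [← TensorProduct.tmul_smul, hG, TensorProduct.tmul_zero]

theorem exists_inv_p (hcop : p.Coprime (Nat.card G)) :
    ∃ q : ℕ, ∀ v : LL p G, q • (p • v) = v := by
  obtain ⟨q, hq⟩ : ∃ q : ℕ, (q * p) % Nat.card G = 1 % Nat.card G := by
    refine ⟨((ZMod.unitOfCoprime p hcop)⁻¹ : (ZMod (Nat.card G))ˣ).val.val, ?_⟩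
    haveI : NeZero (Nat.card G) := ⟨Nat.card_pos.ne'⟩
    refine (ZMod.natCast_eq_natCast_iff' _ _ _).1 ?_
    rw [Nat.cast_mul, ZMod.natCast_val, ZMod.cast_id, Nat.cast_one,
      ← ZMod.coe_unitOfCoprime p hcop, ← Units.val_mul, inv_mul_cancel, Units.val_one]
  refine ⟨q, fun v => ?_⟩
  rw [← mul_smul]
  have h : ∀ k : ℕ, k • v = (k % Nat.card G) • v := fun k => by
    conv_lhs => rw [← Nat.mod_add_div k (Nat.card G), add_smul, mul_comm, mul_smul,
      card_smul_eq_zero, smul_zero, add_zero]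
  rw [h, hq, ← h, one_smul]

theorem closed (hα : α ^ p = 1) (hfpf : ∀ g : G, α g = g → g = 1)
    (hcop : p.Coprime (Nat.card G)) : Closed (comp (p := p) α) := by
  refine ⟨?_, fun i j x hx y hy => ?_⟩
  · rw [eq_bot_iff]
    intro v hv
    rw [mem_comp, ZMod.val_zero, pow_zero, one_smul] at hv
    rw [AddSubgroup.mem_bot]
    have h : ∀ k, (A α)^[k] v = v := fun k => Function.iterate_fixed hv k
    have h2 := sum_A_eq_zero α hα hfpf v
    simp only [h, Finset.sum_const, Finset.card_range] at h2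
    obtain ⟨q, hq⟩ := exists_inv_p (G := G) hcop
    rw [← hq v, h2, smul_zero]
  · rw [mem_comp] at hx hy ⊢
    rw [A_lie, hx, hy, ll_smul, ζ_val_add]

theorem span (hα : α ^ p = 1) (hcop : p.Coprime (Nat.card G)) (v : LL p G) :
    v ∈ ⨆ i, comp (p := p) α i := by
  classical
  obtain ⟨q, hq⟩ := exists_inv_p (G := G) hcop
  let w : ZMod p → LL p G := fun j =>
    ∑ k : ZMod p, (ζ p) ^ (j * -k).val • (A α)^[k.val] v
  have hw : ∀ j, w j ∈ comp α j := by
    intro j
    rw [mem_comp]
    simp only [w, map_sum, map_smul, Finset.smul_sum, smul_smul]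
    refine Fintype.sum_equiv (Equiv.addRight (1 : ZMod p)) _ _ fun k => ?_
    have hA : A α ((A α)^[k.val] v) = (A α)^[(k + 1).val] v := by
      rw [← Function.iterate_succ_apply' (A α)]
      have hper : ∀ m, (A α)^[m] v = (A α)^[m % p] v := by
        intro m
        conv_lhs => rw [← Nat.mod_add_div m p, Function.iterate_add_apply, Function.iterate_mul]
        rw [Function.iterate_fixed (A_iterate_p α hα v)]
      rw [ZMod.val_add, hper (k.val + 1), ZMod.val_one]
    simp only [Equiv.coe_addRight, hA, ← ζ_val_add]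
    congr 3
    ring
  have hsum : ∑ j : ZMod p, w j = p • v := by
    simp only [w]
    rw [Finset.sum_comm]
    simp only [← Finset.sum_smul]
    rw [Finset.sum_eq_single (0 : ZMod p)]
    · rw [sum_ζ_pow, if_pos neg_zero, ZMod.val_zero, Function.iterate_zero_apply,
        Nat.cast_smul_eq_nsmul]
    · intro k _ hk
      rw [sum_ζ_pow, if_neg (neg_ne_zero.2 hk), zero_smul]
    · exact fun h => absurd (Finset.mem_univ _) h
  rw [← hq v, ← hsum]
  refine AddSubgroup.nsmul_mem _ (AddSubgroup.sum_mem _ fun j _ => ?_) q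
  exact (le_iSup (comp (p := p) α) j) (hw j)

theorem ι_mem_lcf (hα : α ^ p = 1) (hcop : p.Coprime (Nat.card G)) :
    ∀ n x (hx : x ∈ gam G n),
      ((1 : R p) ⊗ₜ[ℤ] ι n x hx) ∈ ⨆ i, LieFamily.lcf (comp (p := p) α) n i := by
  intro n
  induction n with
  | zero => intro x hx; exact span α hα hcop _
  | succ n ih =>
    intro x hx
    set S := ⨆ i, LieFamily.lcf (comp (p := p) α) (n + 1) i
    refine Subgroup.closure_induction
      (p := fun x _ => ∀ hx : x ∈ gam G (n + 1), ((1 : R p) ⊗ₜ[ℤ] ι (n + 1) x hx) ∈ S)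
      ?_ ?_ ?_ ?_ hx hx
    · rintro g ⟨a, ha, b, -, rfl⟩ hg
      have hb : b ∈ gam G 0 := Subgroup.mem_top b
      have e : ι (n + 1) ⁅a, b⁆ hg = ⁅ι n a ha, ι 0 b hb⁆ := by
        rw [lie_ι]
      rw [e, ← one_mul (1 : R p), ← br_tmul]
      set u := (1 : R p) ⊗ₜ[ℤ] ι n a ha with hu
      set w := (1 : R p) ⊗ₜ[ℤ] ι 0 b hb with hw
      refine AddSubgroup.iSup_induction _ (C := fun u => ⁅u, w⁆ ∈ S) (ih a ha) (fun i y hy => ?_)
        (by rw [ll_zero_lie]; exact zero_mem _)
        (fun y z h1 h2 => by rw [ll_add_lie]; exact add_mem h1 h2)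
      refine AddSubgroup.iSup_induction _ (C := fun w => ⁅y, w⁆ ∈ S) (span α hα hcop w)
        (fun j z hz => ?_)
        (by rw [ll_lie_zero]; exact zero_mem _)
        (fun y z h1 h2 => by rw [ll_lie_add]; exact add_mem h1 h2)
      exact (le_iSup (LieFamily.lcf (comp (p := p) α) (n + 1)) (i + j)) (mem_br hy hz)
    · intro h
      rw [ι_one, TensorProduct.tmul_zero]
      exact zero_mem _
    · intro a b ha hb iha ihb h
      rw [ι_mul ha hb, TensorProduct.tmul_add]
      exact add_mem (iha _) (ihb _)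
    · intro a ha iha h
      rw [ι_inv ha, TensorProduct.tmul_neg]
      exact neg_mem (iha _)

/-- The bound on the class. -/
theorem class_le (hα : α ^ p = 1) (hfpf : ∀ g : G, α g = g → g = 1)
    (hnil : Group.IsNilpotent G) :
    (p = 3 → (⊤ : Subgroup G).lowerCentralSeries 2 = ⊥) ∧
      (⊤ : Subgroup G).lowerCentralSeries (bound p (2 ^ (p - 1) - 1)) = ⊥ := by
  have hp : p.Prime := Fact.out
  have hcop : p.Coprime (Nat.card G) := by
    refine (hp.coprime_iff_not_dvd).2 fun hd => ?_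
    letI : MulDistribMulAction (Subgroup.zpowers α) G :=
      MulDistribMulAction.compHom G (Subgroup.zpowers α).subtype
    have hpg : IsPGroup p (Subgroup.zpowers α) := fun x => ⟨1, by
      rw [pow_one]
      apply Subtype.ext
      obtain ⟨i, hi⟩ := Subgroup.mem_zpowers_iff.1 x.2
      rw [Subgroup.coe_pow, ← hi, ← zpow_natCast, ← zpow_mul, mul_comm, zpow_mul, zpow_natCast,
        hα, one_zpow]
      rfl⟩
    obtain ⟨x, -, hx1, hx⟩ := CfsgLib.Coprime.exists_fixed_ne_one_of_isPGroup hpg (⊤ : Subgroup G)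
      (CfsgLib.Coprime.IsInvariant.top _) (by rwa [Subgroup.card_top])
    exact hx1 (hfpf x (hx ⟨α, Subgroup.mem_zpowers α⟩))
  have hP := closed α hα hfpf hcop
  have key : ∀ K, (∀ i, LieFamily.lcf (comp (p := p) α) K i = ⊥) →
      (⊤ : Subgroup G).lowerCentralSeries K = ⊥ := by
    intro K hK
    obtain ⟨f, hf⟩ := exists_retraction p
    have h1 : gam G K ≤ gam G (K + 1) := by
      intro x hx
      have h := ι_mem_lcf α hα hcop K x hx
      simp only [hK, iSup_bot, AddSubgroup.mem_bot] at h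
      have h2 := congrArg (TensorProduct.lid ℤ (Gr G) ∘ f.rTensor (Gr G)) h
      simp only [Function.comp_apply, LinearMap.rTensor_tmul, TensorProduct.lid_tmul, map_zero,
        hf, one_smul] at h2
      exact (ι_eq_zero hx).1 h2
    obtain ⟨n, hn⟩ := Subgroup.nilpotent_iff_lowerCentralSeries.1 hnil
    have h3 : ∀ m, gam G K ≤ gam G (K + m) := by
      intro m
      induction m with
      | zero => exact le_rfl
      | succ m ihm =>
        refine h1.trans ?_
        show ⁅gam G K, (⊤ : Subgroup G)⁆ ≤ ⁅gam G (K + m), (⊤ : Subgroup G)⁆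
        exact Subgroup.commutator_mono ihm le_rfl
    refine eq_bot_iff.2 ((h3 n).trans ((gam_anti G (Nat.le_add_left n K)).trans hn.le))
  refine ⟨fun h3 => ?_, key _ (kostrikin _ _ hP fun i => kreknin hP i)⟩
  subst h3
  exact key 2 fun i => three hP i

end CfsgLib.Higman
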