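import Cfsg.Prelude.Def_Transfer
import Cfsg.Agent.FGSA.AbelianIndexP

/-!
# Extraspecial groups: orders and extensions of index `p`
-/

set_option autoImplicit false

namespace CfsgLib.Extraspecial

open Subgroup
open scoped commutatorElement

variable {Q : Type*} [Group Q] [Finite Q] {p : ℕ} [hp : Fact p.Prime]

omit [Finite Q] hp in
theorem commutator_mem_center (hQ : Cfsg.IsExtraspecial p Q) (a b : Q) : ⁅a, b⁆ ∈ center Q := by
  rw [← hQ.1.2.2, _root_.commutator_def]
  exact commutator_mem_commutator (mem_top a) (mem_top b)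

theorem pow_mem_center (hQ : Cfsg.IsExtraspecial p Q) (a : Q) : a ^ p ∈ center Q := by
  rw [← hQ.1.2.1]
  exact (CfsgLib.PGroupBasic.commutator_pow_le_frattini hQ.1.1).2 a

omit [Finite Q] in
theorem not_isMulCommutative (hQ : Cfsg.IsExtraspecial p Q) : ¬ IsMulCommutative Q := by
  intro h
  have h2 : commutator Q ≤ ⊥ := by
    rw [_root_.commutator_def, commutator_le]
    exact fun a _ b _ => mem_bot.2 (commutatorElement_eq_one_iff_mul_comm.2 (h.is_comm.comm a b))
  have h3 := hQ.2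
  rw [← hQ.1.2.2, le_bot_iff.1 h2, card_bot] at h3
  exact hp.out.one_lt.ne h3

/-- The map `h ↦ ⁅h, x⁆` into the centre, on a subgroup. -/
def commHom (hQ : Cfsg.IsExtraspecial p Q) (H : Subgroup Q) (x : Q) : H →* center Q :=
  MonoidHom.mk' (fun h => ⟨⁅(h : Q), x⁆, commutator_mem_center hQ _ _⟩) fun a b => Subtype.ext (by
    have hb := mem_center_iff.1 (commutator_mem_center hQ (b : Q) x) (a : Q)
    show ⁅(a : Q) * b, x⁆ = ⁅(a : Q), x⁆ * ⁅(b : Q), x⁆
    have hb' := mem_center_iff.1 (commutator_mem_center hQ (b : Q) x) ⁅(a : Q), x⁆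
    rw [hb']
    calc ⁅(a : Q) * b, x⁆ = a * ⁅(b : Q), x⁆ * x * (a : Q)⁻¹ * x⁻¹ := by
          simp only [commutatorElement_def]; group
      _ = _ := by rw [hb]; simp only [commutatorElement_def]; group)

omit [Finite Q] hp in
theorem commHom_apply (hQ : Cfsg.IsExtraspecial p Q) (H : Subgroup Q) (x : Q) (h : H) :
    ((commHom hQ H x h : center Q) : Q) = ⁅(h : Q), x⁆ := rfl

theorem card_commHom_step (hQ : Cfsg.IsExtraspecial p Q) {H : Subgroup Q} {x y : Q} (hy : y ∈ H)
    (hxy : ¬ Commute y x) :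
    Nat.card H = p * Nat.card ↥(H ⊓ centralizer {x}) ∧
      ∀ h ∈ H, ∃ i : ℤ, h * y ^ i ∈ H ⊓ centralizer {x} := by
  haveI : Fact (Nat.card (center Q)).Prime := ⟨hQ.2.symm ▸ hp.out⟩
  set φ := commHom hQ H x with hφ
  have hne : φ ⟨y, hy⟩ ≠ 1 := fun h =>
    hxy (commutatorElement_eq_one_iff_mul_comm.1 (congrArg Subtype.val h))
  have hgen : ∀ z : center Q, z ∈ zpowers (φ ⟨y, hy⟩) := fun z =>
    mem_zpowers_of_prime_card rfl hne
  have hrange : φ.range = ⊤ := eq_top_iff.2 fun z _ => by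
    obtain ⟨i, rfl⟩ := mem_zpowers_iff.1 (hgen z)
    exact zpow_mem (show φ ⟨y, hy⟩ ∈ φ.range from ⟨_, rfl⟩) i
  have hker : φ.ker.map H.subtype = H ⊓ centralizer {x} := by
    ext g
    constructor
    · rintro ⟨a, ha, rfl⟩
      exact ⟨a.2, mem_centralizer_singleton_iff.2
        (commutatorElement_eq_one_iff_mul_comm.1 (congrArg Subtype.val (MonoidHom.mem_ker.1 ha)))⟩
    · rintro ⟨hg, hgx⟩
      exact ⟨⟨g, hg⟩, MonoidHom.mem_ker.2 (Subtype.ext (commutatorElement_eq_one_iff_mul_comm.2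
        (mem_centralizer_singleton_iff.1 hgx))), rfl⟩
  refine ⟨?_, fun h hh => ?_⟩
  · have h1 := φ.ker.card_mul_index
    rw [index_ker, hrange, card_top, hQ.2, ← card_map_of_injective (K := φ.ker) H.subtype_injective,
      hker] at h1
    rw [← h1, mul_comm]
  · obtain ⟨i, hi⟩ := mem_zpowers_iff.1 (hgen (φ ⟨h, hh⟩))
    refine ⟨-i, ?_⟩
    rw [← hker]
    refine ⟨⟨h, hh⟩ * ⟨y, hy⟩ ^ (-i), MonoidHom.mem_ker.2 ?_, by simp⟩
    rw [map_mul, map_zpow, ← hi, zpow_neg, mul_inv_cancel]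

/-- A subgroup above the centre with centre equal to the centre of `Q` has order `p` to an odd power. -/
theorem exists_card_eq (hQ : Cfsg.IsExtraspecial p Q) : ∀ (m : ℕ) (H : Subgroup Q), Nat.card H ≤ m →
    center Q ≤ H → (∀ h ∈ H, (∀ k ∈ H, Commute h k) → h ∈ center Q) →
    ∃ n : ℕ, Nat.card H = p ^ (2 * n + 1) := by
  intro m
  induction m with
  | zero => intro H h; exact absurd h (Nat.not_le.2 Nat.card_pos)
  | succ m ih =>
    intro H hcard hZH hcen
    by_cases hH : H ≤ center Q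
    · exact ⟨0, by rw [le_antisymm hH hZH, hQ.2, mul_zero, zero_add, pow_one]⟩
    obtain ⟨x, hx, hxZ⟩ := SetLike.not_le_iff_exists.1 hH
    obtain ⟨y, hy, hyx⟩ : ∃ y ∈ H, ¬ Commute y x := by
      by_contra! h
      exact hxZ (hcen x hx fun k hk => (h k hk).symm)
    obtain ⟨h1, h1'⟩ := card_commHom_step hQ hy hyx
    have hx1 : x ∈ H ⊓ centralizer {x} := ⟨hx, mem_centralizer_singleton_iff.2 rfl⟩
    obtain ⟨h2, h2'⟩ := card_commHom_step hQ (H := H ⊓ centralizer {x}) (x := y) hx1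
      (fun h => hyx h.symm)
    set C := H ⊓ centralizer {x} ⊓ centralizer {y} with hC
    have hlt : Nat.card C ≤ m := by
      have h3 : 0 < Nat.card C := Nat.card_pos
      have := hp.out.two_le
      rw [h1, h2] at hcard
      nlinarith
    obtain ⟨n, hn⟩ := ih C hlt (le_inf (le_inf hZH (center_le_centralizer _)) (center_le_centralizer _))
      (fun c hc hcc => hcen c hc.1.1 fun k hk => by
        obtain ⟨i, hi⟩ := h1' k hk
        obtain ⟨j, hj⟩ := h2' _ hi
        have hcx : Commute c x := mem_centralizer_singleton_iff.1 hc.1.2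
        have hcy : Commute c y := mem_centralizer_singleton_iff.1 hc.2
        have : k = k * y ^ i * x ^ j * (x ^ j)⁻¹ * (y ^ i)⁻¹ := by group
        rw [this]
        exact ((hcc _ hj).mul_right (hcx.zpow_right j).inv_right).mul_right (hcy.zpow_right i).inv_right)
    exact ⟨n + 1, by rw [h1, h2, hn]; ring⟩

theorem card_eq (hQ : Cfsg.IsExtraspecial p Q) : ∃ n : ℕ, 1 ≤ n ∧ Nat.card Q = p ^ (2 * n + 1) := by
  obtain ⟨n, hn⟩ := exists_card_eq hQ _ ⊤ le_rfl le_top
    (fun h _ hh => mem_center_iff.2 fun g => (hh g (mem_top g)).symm)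
  rw [card_top] at hn
  refine ⟨n, ?_, hn⟩
  by_contra h0
  obtain rfl : n = 0 := by omega
  apply not_isMulCommutative hQ
  have h1 : Nat.card Q = p := by simpa using hn
  haveI : IsCyclic Q := isCyclic_of_prime_card h1
  exact ⟨⟨(IsCyclic.commGroup (α := Q)).mul_comm⟩⟩

theorem sq_dvd (hQ : Cfsg.IsExtraspecial p Q) (x : Q) : x ^ (p ^ 2) = 1 := by
  have h := pow_card_eq_one' (x := (⟨x ^ p, pow_mem_center hQ x⟩ : center Q))
  rw [hQ.2] at h
  rw [sq, pow_mul]
  exact congrArg Subtype.val h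

/-- An extraspecial group with an abelian subgroup of index `p` has order `p ^ 3`. -/
theorem card_eq_cube (hQ : Cfsg.IsExtraspecial p Q) {A : Subgroup Q} (hA : IsMulCommutative ↥A)
    (hAi : A.index = p) : Nat.card Q = p ^ 3 := by
  have h := CfsgLib.AbelianIndexP.index_center_eq hQ.1.1 (not_isMulCommutative hQ) hA hAi
  rw [hQ.1.2.2, hQ.2] at h
  rw [← (center Q).index_mul_card, h, hQ.2]
  ring

omit hp in
/-- A group of exponent `p` whose derived subgroup equals its centre of order `p` is extraspecial. -/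
theorem of_exponent [Fact p.Prime] (hexp : ∀ x : Q, x ^ p = 1) (hc : commutator Q = center Q)
    (hcard : Nat.card (center Q) = p) : Cfsg.IsExtraspecial p Q := by
  have hP : IsPGroup p Q := fun x => ⟨1, by rw [pow_one]; exact hexp x⟩
  refine ⟨⟨hP, le_antisymm ?_ ?_, hc⟩, hcard⟩
  · exact CfsgLib.PGroupBasic.frattini_le_of_elementary (p := p) _ hc.le fun x => by
      rw [hexp]; exact one_mem _
  · rw [← hc]
    exact (CfsgLib.PGroupBasic.commutator_pow_le_frattini hP).1

end CfsgLib.Extraspecial
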