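import Cfsg.Agent.Coprime.Sylow
import Mathlib.Data.Nat.Prime.Int
import Mathlib.Tactic

/-!
Invariant complements in finite abelian `p`-groups under a coprime action, and indecomposable ones.
-/

set_option autoImplicit false
set_option linter.unusedSectionVars false

namespace CfsgLib.InvariantComplement

open Subgroup
open CfsgLib.Coprime (IsInvariant)

variable {A : Type*} [CommGroup A] [Finite A] {p : ℕ} [Fact p.Prime]

/-- A subgroup that is homocyclic of the full exponent has a complement. -/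
theorem exists_compl {n : ℕ} (hexp : ∀ a : A, a ^ p ^ (n + 1) = 1) (K : Subgroup A)
    (hpure : ∀ k ∈ K, k ^ p ^ n = 1 → ∃ k' ∈ K, k' ^ p = k) :
    ∃ H : Subgroup A, H ⊓ K = ⊥ ∧ H ⊔ K = ⊤ := by
  classical
  have hp := (Fact.out : p.Prime)
  obtain ⟨H, -, hH⟩ := Finite.exists_le_maximal (p := fun H : Subgroup A => H ⊓ K = ⊥)
    (a := ⊥) (bot_inf_eq K)
  refine ⟨H, hH.prop, ?_⟩
  by_contra htop
  obtain ⟨a, ha⟩ : ∃ a : A, a ∉ H ⊔ K := by
    by_contra h
    exact htop (eq_top_iff.2 fun x _ => not_not.1 fun hx => h ⟨x, hx⟩)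
  have hex : ∃ j, a ^ p ^ j ∈ H ⊔ K := ⟨n + 1, by rw [hexp]; exact one_mem _⟩
  obtain ⟨j, hj⟩ : ∃ j, Nat.find hex = j + 1 := by
    refine ⟨Nat.find hex - 1, ?_⟩
    have : Nat.find hex ≠ 0 := fun h => ha (by simpa [h] using Nat.find_spec hex)
    omega
  set b := a ^ p ^ j with hb
  have hbn : b ∉ H ⊔ K := Nat.find_min hex (by omega)
  have hbp : b ^ p ∈ H ⊔ K := by
    rw [hb, ← pow_mul, ← pow_succ, ← hj]; exact Nat.find_spec hex
  obtain ⟨h, hh, k, hk, hhk⟩ := mem_sup.1 hbp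
  have hk1 : k ^ p ^ n = 1 := by
    have h1 : h ^ p ^ n * k ^ p ^ n = 1 := by
      rw [← mul_pow, hhk, ← pow_mul, ← pow_succ', hexp]
    have h2 : k ^ p ^ n ∈ H ⊓ K := ⟨by
      rw [show k ^ p ^ n = (h ^ p ^ n)⁻¹ from (inv_eq_of_mul_eq_one_right h1).symm]
      exact H.inv_mem (H.pow_mem hh _), K.pow_mem hk _⟩
    rwa [hH.prop, mem_bot] at h2
  obtain ⟨k', hk', hk'p⟩ := hpure k hk hk1
  set c := b * k'⁻¹ with hc
  have hcp : c ^ p = h := by
    rw [hc, mul_pow, inv_pow, hk'p, ← hhk, mul_inv_cancel_right]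
  have hcn : c ∉ H ⊔ K := fun h' => hbn (by
    simpa [hc] using mul_mem h' (mem_sup_right hk' : k' ∈ H ⊔ K))
  have hnew : (H ⊔ zpowers c) ⊓ K = ⊥ := by
    rw [eq_bot_iff]
    rintro x ⟨hx, hxK⟩
    obtain ⟨u, hu, v, hv, rfl⟩ := mem_sup.1 hx
    obtain ⟨m, rfl⟩ := mem_zpowers_iff.1 hv
    by_cases hdvd : (p : ℤ) ∣ m
    · obtain ⟨q, rfl⟩ := hdvd
      have hmem : u * c ^ ((p : ℤ) * q) ∈ H ⊓ K := ⟨mul_mem hu (by
        rw [zpow_mul, zpow_natCast, hcp]; exact zpow_mem hh q), hxK⟩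
      rwa [hH.prop] at hmem
    · exfalso
      have hcm : c ^ m ∈ H ⊔ K := by
        have := mul_mem (mem_sup_left (inv_mem hu) : u⁻¹ ∈ H ⊔ K) (mem_sup_right hxK)
        simpa using this
      obtain ⟨r, s, hrs⟩ := ((Nat.prime_iff_prime_int.1 hp).coprime_iff_not_dvd).2 hdvd
      have h2 : c ^ (p : ℤ) ∈ H ⊔ K := by
        rw [zpow_natCast, hcp]; exact mem_sup_left hh
      apply hcn
      have := mul_mem (zpow_mem h2 r) (zpow_mem hcm s)
      rw [← zpow_mul, ← zpow_mul, ← zpow_add, show (p : ℤ) * r + m * s = 1 by linarith,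
        zpow_one] at this
      exact this
  exact hcn (mem_sup_left (hH.le_of_ge hnew le_sup_left (mem_sup_right (mem_zpowers c))))

variable {X : Type*} [Group X] [Finite X] [MulDistribMulAction X A]

omit [Fact p.Prime] in
/-- Averaging a complement. -/
theorem exists_invariant_compl_of_compl (hcop : (Nat.card X).Coprime (Nat.card A)) (K H : Subgroup A)
    (hK : IsInvariant X K) (h1 : H ⊓ K = ⊥) (h2 : H ⊔ K = ⊤) :
    ∃ C : Subgroup A, IsInvariant X C ∧ C ⊓ K = ⊥ ∧ C ⊔ K = ⊤ := by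
  classical
  have := Fintype.ofFinite X
  have hex : ∀ a : A, ∃ k ∈ K, a * k⁻¹ ∈ H := fun a => by
    obtain ⟨u, hu, v, hv, rfl⟩ := mem_sup.1 (show a ∈ H ⊔ K by rw [h2]; exact mem_top a)
    exact ⟨v, hv, by simpa using hu⟩
  choose f hfK hfH using hex
  have huniq : ∀ (a k : A), k ∈ K → a * k⁻¹ ∈ H → f a = k := by
    intro a k hk hak
    have : f a * k⁻¹ ∈ H ⊓ K := ⟨by
      rw [show f a * k⁻¹ = (a * (f a)⁻¹)⁻¹ * (a * k⁻¹) by group]
      exact H.mul_mem (H.inv_mem (hfH a)) hak, K.mul_mem (hfK a) (K.inv_mem hk)⟩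
    rw [h1, mem_bot] at this
    exact mul_inv_eq_one.1 this
  have hfmul : ∀ a b, f (a * b) = f a * f b := fun a b => huniq _ _ (mul_mem (hfK a) (hfK b)) (by
    rw [mul_inv, mul_mul_mul_comm]; exact mul_mem (hfH a) (hfH b))
  let π : A →* A := MonoidHom.mk' (fun a => ∏ x : X, x • f (x⁻¹ • a)) fun a b => by
    simp only [smul_mul', hfmul, Finset.prod_mul_distrib]
  have hπK : ∀ a, π a ∈ K := fun a => K.prod_mem fun x _ => hK x _ (hfK _)
  have hπid : ∀ k ∈ K, π k = k ^ Fintype.card X := by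
    intro k hk
    change ∏ x : X, x • f (x⁻¹ • k) = _
    rw [Finset.prod_congr rfl fun x _ => ?_, Finset.prod_const, Finset.card_univ]
    rw [huniq _ _ (hK _ _ hk) (by rw [mul_inv_cancel]; exact one_mem H), smul_inv_smul]
  have hπeq : ∀ (y : X) (a : A), π (y • a) = y • π a := by
    intro y a
    change ∏ x : X, x • f (x⁻¹ • y • a) = y • ∏ x : X, x • f (x⁻¹ • a)
    rw [Finset.smul_prod', ← Equiv.prod_comp (Equiv.mulLeft y) fun x : X => x • f (x⁻¹ • y • a)]
    refine Finset.prod_congr rfl fun x _ => ?_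
    simp [← mul_smul, mul_assoc]
  rw [Nat.card_eq_fintype_card] at hcop
  have hcopK : (Nat.card K).Coprime (Fintype.card X) :=
    (hcop.symm).coprime_dvd_left (card_subgroup_dvd_card K)
  refine ⟨π.ker, fun y a ha => ?_, ?_, ?_⟩
  · rw [MonoidHom.mem_ker] at ha ⊢
    rw [hπeq, ha, smul_one]
  · rw [eq_bot_iff]
    rintro k ⟨hk, hkK⟩
    have h3 : (⟨k, hkK⟩ : K) ^ Fintype.card X = 1 := Subtype.ext (by
      change k ^ Fintype.card X = 1
      rw [← hπid k hkK]; exact hk)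
    exact congrArg Subtype.val ((powCoprime hcopK).injective
      (show powCoprime hcopK ⟨k, hkK⟩ = powCoprime hcopK 1 by simpa using h3))
  · rw [eq_top_iff]
    intro a _
    obtain ⟨k, hk⟩ := (powCoprime hcopK).surjective ⟨π a, hπK a⟩
    have hk' : (k : A) ^ Fintype.card X = π a := congrArg Subtype.val hk
    refine mem_sup.2 ⟨a * (k : A)⁻¹, ?_, k, k.2, inv_mul_cancel_right a _⟩
    rw [MonoidHom.mem_ker, map_mul, map_inv, hπid k k.2, hk', mul_inv_cancel]

/-- A homocyclic invariant subgroup of full exponent has an invariant complement. -/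
theorem exists_invariant_compl (hcop : (Nat.card X).Coprime (Nat.card A)) {n : ℕ}
    (hexp : ∀ a : A, a ^ p ^ (n + 1) = 1) (K : Subgroup A) (hK : IsInvariant X K)
    (hpure : ∀ k ∈ K, k ^ p ^ n = 1 → ∃ k' ∈ K, k' ^ p = k) :
    ∃ C : Subgroup A, IsInvariant X C ∧ C ⊓ K = ⊥ ∧ C ⊔ K = ⊤ := by
  obtain ⟨H, h1, h2⟩ := exists_compl hexp K hpure
  exact exists_invariant_compl_of_compl hcop K H hK h1 h2

/-- Maschke modulo the `p`-th powers. -/
theorem exists_invariant_compl_mod_pow (hcop : (Nat.card X).Coprime (Nat.card A)) (K : Subgroup A)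
    (hK : IsInvariant X K) (hNK : (powMonoidHom p : A →* A).range ≤ K) :
    ∃ C : Subgroup A, IsInvariant X C ∧ C ⊓ K = (powMonoidHom p : A →* A).range ∧ C ⊔ K = ⊤ := by
  set N := (powMonoidHom p : A →* A).range with hN
  have hNinv : ∀ x : X, N ≤ N.comap (MulDistribMulAction.toMonoidHom A x) := by
    rintro x _ ⟨a, rfl⟩
    exact ⟨x • a, (smul_pow' x a p).symm⟩
  let _ : MulDistribMulAction X (A ⧸ N) :=
    { smul := fun x => QuotientGroup.map N N (MulDistribMulAction.toMonoidHom A x) (hNinv x)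
      one_smul := fun q => QuotientGroup.induction_on q fun a => congrArg _ (one_smul X a)
      mul_smul := fun x y q => QuotientGroup.induction_on q fun a => congrArg _ (mul_smul x y a)
      smul_one := fun x => map_one _
      smul_mul := fun x a b => map_mul _ a b }
  set π := QuotientGroup.mk' N with hπ
  have hexp : ∀ q : A ⧸ N, q ^ p ^ (0 + 1) = 1 := fun q => QuotientGroup.induction_on q fun a => by
    rw [zero_add, pow_one, ← QuotientGroup.mk_pow, QuotientGroup.eq_one_iff]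
    exact ⟨a, rfl⟩
  obtain ⟨C, hC, h1, h2⟩ := exists_invariant_compl (X := X) (A := A ⧸ N) (p := p)
    (hcop.coprime_dvd_right (card_quotient_dvd_card N)) hexp (K.map π)
    (by rintro x _ ⟨k, hk, rfl⟩; exact ⟨x • k, hK x k hk, rfl⟩)
    (fun k _ h => ⟨1, one_mem _, by rw [one_pow]; simpa using h.symm⟩)
  have hNC : N ≤ C.comap π := fun a ha => by
    rw [mem_comap, show π a = 1 from (QuotientGroup.eq_one_iff a).2 ha]
    exact one_mem C
  refine ⟨C.comap π, fun x a ha => hC x _ ha, le_antisymm ?_ (le_inf hNC hNK), ?_⟩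
  · rintro a ⟨ha, haK⟩
    have : π a ∈ C ⊓ K.map π := ⟨ha, a, haK, rfl⟩
    rw [h1, mem_bot] at this
    exact (QuotientGroup.eq_one_iff a).1 this
  · rw [eq_top_iff]
    intro a _
    obtain ⟨c, hc, d, ⟨k, hk, rfl⟩, hcd⟩ := mem_sup.1 (show π a ∈ C ⊔ K.map π by
      rw [h2]; exact mem_top _)
    refine mem_sup.2 ⟨a * k⁻¹, ?_, k, hk, inv_mul_cancel_right a k⟩
    rw [mem_comap, map_mul, map_inv, ← hcd, mul_inv_cancel_right]
    exact hc

/-- In a coprimely acted indecomposable abelian `p`-group, an invariant subgroup of exponent `p` is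
trivial or the whole bottom layer. -/
theorem bottom_irreducible (hA : IsPGroup p A) (hcop : (Nat.card X).Coprime (Nat.card A))
    (hind : ∀ H C : Subgroup A, IsInvariant X H → IsInvariant X C → H ⊓ C = ⊥ → H ⊔ C = ⊤ →
      H = ⊥ ∨ C = ⊥) (B : Subgroup A) (hB : IsInvariant X B) (hBp : ∀ b ∈ B, b ^ p = 1)
    (hB1 : B ≠ ⊥) : ∀ a : A, a ^ p = 1 → a ∈ B := by
  classical
  obtain ⟨e, he⟩ := IsPGroup.iff_card.1 hA
  have hex : ∃ j, ∀ a : A, a ^ p ^ j = 1 := ⟨e, fun a => by rw [← he]; exact pow_card_eq_one'⟩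
  obtain ⟨b₀, hb₀B, hb₀⟩ := B.bot_or_exists_ne_one.resolve_left hB1
  obtain ⟨n, hn⟩ : ∃ n, Nat.find hex = n + 1 := by
    refine ⟨Nat.find hex - 1, ?_⟩
    have : Nat.find hex ≠ 0 := fun h => hb₀ (by simpa [h] using Nat.find_spec hex b₀)
    omega
  have hexp : ∀ a : A, a ^ p ^ (n + 1) = 1 := hn ▸ Nat.find_spec hex
  obtain ⟨a₀, ha₀⟩ : ∃ a : A, a ^ p ^ n ≠ 1 := not_forall.1 (Nat.find_min hex (by omega))
  obtain ⟨H, -, hH⟩ := Finite.exists_le_minimal
    (p := fun H : Subgroup A => IsInvariant X H ∧ ∃ h ∈ H, h ^ p ^ n ≠ 1) (a := ⊤)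
    ⟨IsInvariant.top X, a₀, mem_top _, ha₀⟩
  obtain ⟨hHinv, h₁, hh₁, hh₁'⟩ := hH.prop
  let _ : MulDistribMulAction X H :=
    { smul := fun x h => ⟨x • (h : A), hHinv x h h.2⟩
      one_smul := fun h => Subtype.ext (one_smul X (h : A))
      mul_smul := fun x y h => Subtype.ext (mul_smul x y (h : A))
      smul_one := fun x => Subtype.ext (smul_one x : x • (1 : A) = 1)
      smul_mul := fun x a b => Subtype.ext (smul_mul' x (a : A) b) }
  set L := (powMonoidHom (p ^ n) : H →* H).ker with hL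
  have hpure : ∀ k ∈ H, k ^ p ^ n = 1 → ∃ k' ∈ H, k' ^ p = k := by
    obtain ⟨C, hC, hCL, hCL'⟩ := exists_invariant_compl_mod_pow (X := X) (p := p)
      (hcop.coprime_dvd_right (card_subgroup_dvd_card H)) L
      (fun x k hk => by
        rw [hL, MonoidHom.mem_ker, powMonoidHom_apply] at hk ⊢
        rw [← smul_pow', hk, smul_one])
      (by
        rintro _ ⟨k, rfl⟩
        rw [hL, MonoidHom.mem_ker, powMonoidHom_apply, powMonoidHom_apply, ← pow_mul, ← pow_succ']
        exact Subtype.ext (hexp _))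
    have hCtop : C = ⊤ := by
      by_cases hCL2 : C ≤ L
      · exfalso
        rw [sup_eq_right.2 hCL2] at hCL'
        have h : (⟨h₁, hh₁⟩ : H) ∈ L := hCL' ▸ mem_top _
        exact hh₁' (congrArg Subtype.val h)
      · obtain ⟨c, hc, hcL⟩ := SetLike.not_le_iff_exists.1 hCL2
        have h := hH.le_of_le (y := C.map H.subtype) ⟨?_, (c : A), ⟨c, hc, rfl⟩,
          fun h => hcL (Subtype.ext h)⟩ (map_subtype_le C)
        · refine eq_top_iff.2 fun x _ => ?_
          obtain ⟨y, hy, hyx⟩ := h x.2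
          rwa [← show y = x from Subtype.ext hyx]
        · rintro x _ ⟨y, hy, rfl⟩
          exact ⟨x • y, hC x y hy, rfl⟩
    intro k hk hk1
    have h : (⟨k, hk⟩ : H) ∈ C ⊓ L := ⟨hCtop ▸ mem_top _, Subtype.ext hk1⟩
    rw [hCL] at h
    obtain ⟨k', hk'⟩ := h
    exact ⟨k', k'.2, congrArg Subtype.val hk'⟩
  obtain ⟨C, hC, h1, h2⟩ := exists_invariant_compl hcop hexp H hHinv hpure
  have hHtop : H = ⊤ := by
    rcases hind H C hHinv hC (inf_comm H C ▸ h1) (sup_comm H C ▸ h2) with h | h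
    · rw [h, mem_bot] at hh₁
      exact absurd (by rw [hh₁, one_pow]) hh₁'
    · rwa [h, bot_sup_eq] at h2
  have hroot : ∀ x : A, x ^ p = 1 → ∀ j ≤ n, ∃ y, y ^ p ^ j = x := by
    intro x hx j
    induction j with
    | zero => exact fun _ => ⟨x, by simp⟩
    | succ j ih =>
      intro hj
      obtain ⟨y, hy⟩ := ih (by omega)
      obtain ⟨d, hd⟩ : ∃ d, n = j + (d + 1) := ⟨n - j - 1, by omega⟩
      obtain ⟨z, -, hz⟩ := hpure y (hHtop ▸ mem_top _) (by
        rw [hd, pow_add, pow_mul, hy, pow_succ', pow_mul, hx, one_pow])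
      exact ⟨z, by rw [pow_succ', pow_mul, hz, hy]⟩
  set B' := B.comap (powMonoidHom (p ^ n) : A →* A) with hB'
  have hB'top : B' = ⊤ := by
    obtain ⟨y, hy⟩ := hroot b₀ (hBp b₀ hb₀B) n le_rfl
    have := hH.le_of_le (y := B') ⟨fun x a ha => ?_, y, ?_, ?_⟩ (hHtop ▸ le_top)
    · exact eq_top_iff.2 (hHtop ▸ this)
    · rw [hB', mem_comap, powMonoidHom_apply] at ha ⊢
      rw [← smul_pow']
      exact hB x _ ha
    · rw [hB', mem_comap, powMonoidHom_apply, hy]; exact hb₀B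
    · rwa [hy]
  intro a ha
  obtain ⟨y, rfl⟩ := hroot a ha n le_rfl
  have : y ∈ B' := hB'top ▸ mem_top _
  exact this

end CfsgLib.InvariantComplement
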