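import Cfsg.Agent.FGSA.ExtraTwoType
import Mathlib.GroupTheory.Perm.Finite

/-!
The automorphism group of the extraspecial group of order 32 without elementary abelian
subgroups of order 8.
-/

set_option autoImplicit false
set_option linter.style.haveILetI false
set_option linter.unusedSectionVars false

namespace CfsgLib.MinusThirtyTwo

open Subgroup CfsgLib.ExtraspecialIso
open scoped commutatorElement

section Tuples

variable {G : Type*} [Group G]

/-- Four involutions, pairwise with commutator the central involution `z`. -/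
structure Tuple (z : G) (a : Fin 4 → G) : Prop where
  hz : z ∈ center G
  hz2 : z ^ 2 = 1
  hn : z ≠ 1
  ha : ∀ i, a i ^ 2 = 1
  tw : ∀ i j, i ≠ j → a i * a j = z * (a j * a i)

/-- The subgroup generated by `z` and the first `k` members. -/
def chain (z : G) (a : Fin 4 → G) : ℕ → Subgroup G
  | 0 => zpowers z
  | k + 1 => chain z a k ⊔ closure {g | ∃ i : Fin 4, i.val = k ∧ a i = g}

variable {z : G} {a : Fin 4 → G}

theorem z_mem (k : ℕ) : z ∈ chain z a k := by
  induction k with
  | zero => exact mem_zpowers z
  | succ k ih => exact mem_sup_left ih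

theorem chain_le {k : ℕ} {K : Subgroup G} (hz : z ∈ K) (h : ∀ i : Fin 4, i.val < k → a i ∈ K) :
    chain z a k ≤ K := by
  induction k with
  | zero => exact zpowers_le.2 hz
  | succ k ih =>
    refine sup_le (ih fun i hi => h i (by omega)) ((closure_le K).2 ?_)
    rintro _ ⟨i, hi, rfl⟩
    exact h i (by omega)

theorem a_mem {k : ℕ} {i : Fin 4} (hi : i.val < k) : a i ∈ chain z a k := by
  induction k with
  | zero => omega
  | succ k ih =>
    rcases eq_or_lt_of_le (Nat.le_of_lt_succ hi) with h | h
    · exact mem_sup_right (subset_closure ⟨i, h, rfl⟩)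
    · exact mem_sup_left (ih h)

theorem chain_succ (i : Fin 4) : chain z a (i.val + 1) = chain z a i.val ⊔ zpowers (a i) := by
  show _ ⊔ _ = _ ⊔ _
  congr 1
  rw [zpowers_eq_closure]
  congr 1
  ext g
  constructor
  · rintro ⟨j, hj, rfl⟩
    rw [Fin.ext hj]
    rfl
  · rintro rfl
    exact ⟨i, rfl, rfl⟩

theorem Tuple.z_comm (T : Tuple z a) (g : G) : g * z = z * g := mem_center_iff.1 T.hz g

theorem Tuple.twist_twist (T : Tuple z a) {g h h' : G} (e : g * h = z * (h * g))
    (e' : g * h' = z * (h' * g)) : Commute g (h * h') := by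
  show g * (h * h') = h * h' * g
  calc g * (h * h') = z * (h * (g * h')) := by rw [← mul_assoc, e]; simp only [mul_assoc]
    _ = z * ((h * z) * (h' * g)) := by rw [e']; simp only [mul_assoc]
    _ = (z * z) * (h * h' * g) := by rw [T.z_comm h]; simp only [mul_assoc]
    _ = h * h' * g := by rw [← pow_two, T.hz2, one_mul]

theorem Tuple.commute_twist (T : Tuple z a) {g h h' : G} (e : Commute g h)
    (e' : g * h' = z * (h' * g)) : g * (h * h') = z * (h * h' * g) := by
  calc g * (h * h') = h * (g * h') := by rw [← mul_assoc, e.eq]; simp only [mul_assoc]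
    _ = (h * z) * (h' * g) := by rw [e']; simp only [mul_assoc]
    _ = z * (h * h' * g) := by rw [T.z_comm h]; simp only [mul_assoc]

theorem Tuple.twist_commute (T : Tuple z a) {g h h' : G} (e : g * h = z * (h * g))
    (e' : Commute g h') : g * (h * h') = z * (h * h' * g) := by
  calc g * (h * h') = z * (h * (g * h')) := by rw [← mul_assoc, e]; simp only [mul_assoc]
    _ = z * (h * h' * g) := by rw [e'.eq]; simp only [mul_assoc]

/-- Some element commutes with every member but the `k`-th. -/
theorem Tuple.dual (T : Tuple z a) (k : Fin 4) :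
    ∃ c, (∀ j, j ≠ k → Commute (a j) c) ∧ ¬ Commute (a k) c := by
  refine ⟨a (k.succAbove 0) * a (k.succAbove 1) * a (k.succAbove 2), fun j hj => ?_, fun hc => ?_⟩
  · have hne : ∀ s t : Fin 3, s ≠ t → k.succAbove s ≠ k.succAbove t :=
      fun s t h e => h (Fin.succAbove_right_injective e)
    obtain ⟨m, rfl⟩ := Fin.exists_succAbove_eq hj
    fin_cases m
    · exact T.twist_twist (T.commute_twist (Commute.refl _) (T.tw _ _ (hne _ _ (by decide))))
        (T.tw _ _ (hne _ _ (by decide)))
    · exact T.twist_twist (T.twist_commute (T.tw _ _ (hne _ _ (by decide))) (Commute.refl _))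
        (T.tw _ _ (hne _ _ (by decide)))
    · exact (T.twist_twist (T.tw _ _ (hne _ _ (by decide))) (T.tw _ _ (hne _ _ (by decide)))).mul_right
        (Commute.refl _)
  · have hk : ∀ s, a k * a (k.succAbove s) = z * (a (k.succAbove s) * a k) :=
      fun s => T.tw _ _ (Fin.succAbove_ne k s).symm
    have h := T.commute_twist (T.twist_twist (hk 0) (hk 1)) (hk 2)
    rw [hc.eq] at h
    exact T.hn (mul_eq_right.1 h.symm)

theorem Tuple.not_mem (T : Tuple z a) (k : Fin 4) : a k ∉ chain z a k.val := by
  obtain ⟨c, hc, hk⟩ := T.dual k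
  refine fun h => hk (mem_centralizer_singleton_iff.1 (chain_le
    (K := centralizer ({c} : Set G)) (mem_centralizer_singleton_iff.2 (T.z_comm c).symm) ?_ h))
  exact fun i hi => mem_centralizer_singleton_iff.2 (hc i (fun e => by subst e; omega))

theorem Tuple.card_chain [Finite G] (T : Tuple z a) :
    ∀ k, k ≤ 4 → Nat.card (chain z a k) = 2 ^ (k + 1) := by
  intro k
  induction k with
  | zero =>
    intro _
    show Nat.card (zpowers z) = _
    rw [Nat.card_zpowers, orderOf_eq_prime T.hz2 T.hn, zero_add, pow_one]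
  | succ k ih =>
    intro hk
    have e := chain_succ (z := z) (a := a) ⟨k, by omega⟩
    have hnm := T.not_mem ⟨k, by omega⟩
    have h2 := ih (by omega)
    set g := a ⟨k, by omega⟩ with hg
    set H := chain z a k
    have hstep : Nat.card (chain z a (k + 1)) ≤ 2 * Nat.card H := by
      rw [e]
      have hconj : ∀ h ∈ H, g * h * g⁻¹ ∈ H := by
        intro h hh
        have : (MulAut.conj g) h ∈ H := by
          refine chain_le (K := H.comap (MulAut.conj g).toMonoidHom) ?_ ?_ hh
          · show g * z * g⁻¹ ∈ H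
            rw [T.z_comm, mul_inv_cancel_right]
            exact z_mem k
          · intro i hi
            show g * a i * g⁻¹ ∈ H
            rw [hg, T.tw _ _ (fun ee => by subst ee; simp at hi), ← mul_assoc, mul_inv_cancel_right]
            exact mul_mem (z_mem k) (a_mem hi)
        exact this
      have hnorm : zpowers g ≤ normalizer (H : Set G) := by
        rw [zpowers_le]
        refine mem_normalizer_iff.2 fun h => ⟨hconj h, fun hh => ?_⟩
        have hgg : g * g = 1 := by rw [← pow_two]; exact T.ha _
        have := hconj _ hh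
        rwa [inv_eq_of_mul_eq_one_right hgg, show g * (g * h * g) * g = g * g * h * (g * g) by
          simp only [mul_assoc], hgg, one_mul, mul_one] at this
      have hord : Nat.card (zpowers g) ≤ 2 := by
        rw [Nat.card_zpowers]
        exact Nat.le_of_dvd two_pos (orderOf_dvd_of_pow_eq_one (T.ha _))
      let f : zpowers g × H → ↥(H ⊔ zpowers g) := fun q =>
        ⟨q.1 * q.2, mul_mem (mem_sup_right q.1.2) (mem_sup_left q.2.2)⟩
      refine (Nat.card_le_card_of_surjective f ?_).trans ?_
      · rintro ⟨x, hx⟩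
        rw [sup_comm] at hx
        obtain ⟨y, hy, h, hh, rfl⟩ := (CfsgLib.Solvable.mem_sup_of_le_normalizer hnorm).mp hx
        exact ⟨(⟨y, hy⟩, ⟨h, hh⟩), rfl⟩
      · rw [Nat.card_prod]
        exact Nat.mul_le_mul_right _ hord
    have hle : H ≤ chain z a (k + 1) := le_sup_left
    obtain ⟨m, hm⟩ := card_dvd_of_le hle
    have hm1 : m ≠ 1 := fun e1 => hnm <| by
      have := eq_of_le_of_card_ge hle (by rw [hm, e1, mul_one])
      exact this.symm ▸ a_mem (Nat.lt_succ_self k)
    have hm0 : m ≠ 0 := fun e0 => Nat.card_pos.ne' (hm.trans (by rw [e0, mul_zero]))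
    rw [hm, h2] at hstep ⊢
    have : m ≤ 2 := Nat.le_of_mul_le_mul_left (by linarith) (pow_pos two_pos (k + 1))
    obtain rfl : m = 2 := by omega
    rw [← pow_succ]

theorem Tuple.gen [Finite G] (T : Tuple z a) (h32 : Nat.card G = 32) : chain z a 4 = ⊤ :=
  eq_top_of_card_eq _ (by rw [T.card_chain 4 le_rfl, h32]; rfl)

/-- Two tuples of a group of order 32 differ by an automorphism. -/
theorem exists_aut [Finite G] (h32 : Nat.card G = 32) {b : Fin 4 → G} (Ta : Tuple z a)
    (Tb : Tuple z b) : ∃ φ : MulAut G, ∀ i, φ (a i) = b i := by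
  have T : Tuple ((z, z) : G × G) (fun i => (a i, b i)) :=
    ⟨mem_center_iff.2 fun g => Prod.ext (Ta.z_comm g.1) (Ta.z_comm g.2),
      Prod.ext Ta.hz2 Ta.hz2, fun e => Ta.hn (congrArg Prod.fst e),
      fun i => Prod.ext (Ta.ha i) (Tb.ha i),
      fun i j h => Prod.ext (Ta.tw i j h) (Tb.tw i j h)⟩
  set D := chain ((z, z) : G × G) (fun i => (a i, b i)) 4
  have hD : Nat.card D = Nat.card G := by rw [T.card_chain 4 le_rfl, h32]; rfl
  have key : ∀ (f : G × G →* G) (c : Fin 4 → G), Tuple z c → f (z, z) = z →
      (∀ i, f (a i, b i) = c i) → Function.Bijective (f.comp D.subtype) := by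
    intro f c Tc hfz hfc
    refine (Nat.bijective_iff_surjective_and_card _).2 ⟨MonoidHom.range_eq_top.1 ?_, hD⟩
    rw [eq_top_iff, ← Tc.gen h32]
    refine chain_le ⟨⟨(z, z), z_mem 4⟩, hfz⟩ fun i _ => ?_
    exact ⟨⟨(a i, b i), a_mem (a := fun i => (a i, b i)) i.2⟩, hfc i⟩
  have h1 := key (MonoidHom.fst G G) a Ta rfl fun i => rfl
  have h2 := key (MonoidHom.snd G G) b Tb rfl fun i => rfl
  refine ⟨(MulEquiv.ofBijective _ h1).symm.trans (MulEquiv.ofBijective _ h2), fun i => ?_⟩
  have : (MulEquiv.ofBijective _ h1).symm (a i) =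
      ⟨(a i, b i), a_mem (a := fun i => (a i, b i)) i.2⟩ := (MulEquiv.symm_apply_eq _).2 rfl
  show MulEquiv.ofBijective _ h2 ((MulEquiv.ofBijective _ h1).symm (a i)) = b i
  rw [this]
  rfl

end Tuples

section Main

variable {P : Type*} [Group P] [Finite P] (hex : Cfsg.IsExtraspecial 2 P) (h32 : Nat.card P = 32)
  (hminus : ∀ A : Subgroup P, Cfsg.IsElementaryAbelian 2 A → Nat.card ↥A ≤ 4)

variable (P) in
/-- The classes of noncentral involutions modulo the centre. -/
abbrev Classes : Type _ := {q : P ⧸ center P // q ≠ 1 ∧ q.out ^ 2 = 1}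

include hex

theorem sq_center {c : P} (hc : c ∈ center P) : c ^ 2 = 1 := by
  have := congrArg Subtype.val (pow_card_eq_one' (x := (⟨c, hc⟩ : center P)))
  rwa [hex.2] at this

theorem sq_mul_center (g : P) {c : P} (hc : c ∈ center P) : (g * c) ^ 2 = g ^ 2 := by
  rw [(show Commute g c from mem_center_iff.1 hc g).mul_pow, sq_center hex hc, mul_one]

theorem class_iff (g : P) :
    ((g : P ⧸ center P) ≠ 1 ∧ (g : P ⧸ center P).out ^ 2 = 1) ↔ g ∉ center P ∧ g ^ 2 = 1 := by
  have hmem : g⁻¹ * (g : P ⧸ center P).out ∈ center P :=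
    QuotientGroup.eq.1 (QuotientGroup.out_eq' _).symm
  rw [ne_eq, QuotientGroup.eq_one_iff, ← sq_mul_center hex g hmem, mul_inv_cancel_left]

theorem Classes.out_not_mem (q : Classes P) : q.1.out ∉ center P := fun h =>
  q.2.1 (by rw [← QuotientGroup.out_eq' q.1, QuotientGroup.eq_one_iff]; exact h)

omit hex in
theorem congr_mk (φ : MulAut P) : (center P).map φ.toMonoidHom = center P :=
  Subgroup.characteristic_iff_map_eq.1 inferInstance φ

/-- The action of automorphisms on the classes. -/
noncomputable def rho : MulAut P →* Equiv.Perm (Classes P) where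
  toFun φ := Equiv.subtypeEquiv (QuotientGroup.congr _ _ φ (congr_mk φ)).toEquiv fun q => by
    induction q using QuotientGroup.induction_on with
    | H g =>
      show _ ↔ (φ g : P ⧸ center P) ≠ 1 ∧ (φ g : P ⧸ center P).out ^ 2 = 1
      rw [class_iff hex, class_iff hex, ← map_pow, MulEquiv.map_eq_one_iff]
      refine and_congr_left' (not_congr ?_)
      conv_rhs => rw [← congr_mk φ]
      exact (Subgroup.mem_map_iff_mem (f := φ.toMonoidHom) φ.injective).symm
  map_one' := by
    ext ⟨q, hq⟩
    induction q using QuotientGroup.induction_on with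
    | H g => rfl
  map_mul' φ ψ := by
    ext ⟨q, hq⟩
    induction q using QuotientGroup.induction_on with
    | H g => rfl

theorem rho_out (φ : MulAut P) (q : Classes P) :
    (rho hex φ q).1 = (φ q.1.out : P ⧸ center P) := by
  show QuotientGroup.congr _ _ φ (congr_mk φ) q.1 = _
  conv_lhs => rw [← QuotientGroup.out_eq' q.1]
  rfl

theorem conj_mem_ker (g : P) : MulAut.conj g ∈ (rho hex).ker := by
  refine MonoidHom.mem_ker.2 (Equiv.ext fun q => Subtype.ext ?_)
  rw [rho_out]
  show _ = q.1
  conv_rhs => rw [← QuotientGroup.out_eq' q.1]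
  refine QuotientGroup.eq.2 ?_
  have h := inv_mem (CfsgLib.Extraspecial.commutator_mem_center hex g q.1.out)
  rw [commutatorElement_inv, commutatorElement_def] at h
  have h2 := Subgroup.Normal.conj_mem inferInstance _ h q.1.out⁻¹
  convert h2 using 1
  simp [MulAut.conj_apply, mul_assoc]

include h32 hminus

theorem exists_z : ∃ z ∈ center P, z ≠ 1 := exists_gen hex

theorem twist {z : P} (hz : z ∈ center P) (hn : z ≠ 1) {g h : P} (hg : g ∉ center P)
    (hg2 : g ^ 2 = 1) (hh2 : h ^ 2 = 1) (hh : h ∉ center P)
    (hne : (g : P ⧸ center P) ≠ h) : g * h = z * (h * g) := by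
  have hnc : ¬ Commute g h := by
    intro hc
    set K : Subgroup P := closure {z, g}
    set A : Subgroup P := closure {z, g, h}
    have hmemc : ∀ x ∈ ({z, g, h} : Set P), ∀ y ∈ ({z, g, h} : Set P), x * y = y * x := by
      rintro x (rfl | rfl | rfl) y (rfl | rfl | rfl) <;>
        first | rfl | exact hc.eq | exact hc.eq.symm | exact mem_center_iff.1 hz _ |
          exact (mem_center_iff.1 hz _).symm
    have hA : Cfsg.IsElementaryAbelian 2 A := by
      haveI hcm : IsMulCommutative A := Subgroup.isMulCommutative_closure hmemc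
      refine ⟨hcm, fun x hx => ?_⟩
      induction hx using closure_induction with
      | mem x hx =>
        rcases hx with rfl | rfl | rfl
        exacts [sq_center hex hz, hg2, hh2]
      | one => exact one_pow 2
      | mul x y hx hy ex ey =>
        rw [(show Commute x y from congrArg Subtype.val (hcm.is_comm.comm ⟨x, hx⟩ ⟨y, hy⟩)).mul_pow,
          ex, ey, one_mul]
      | inv x hx ex => rw [inv_pow, ex, inv_one]
    have h4 := hminus A hA
    have hzK : zpowers z < K := by
      refine lt_of_le_of_ne (zpowers_le.2 (subset_closure (Set.mem_insert _ _))) fun e => hg ?_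
      have : g ∈ zpowers z := e ▸ subset_closure (Set.mem_insert_of_mem _ rfl)
      exact (zpowers_le.2 hz) this
    have hKA : K < A := by
      refine lt_of_le_of_ne (closure_mono ?_) fun e => ?_
      · intro x hx
        rcases hx with rfl | rfl <;> simp
      · have hhK : h ∈ K := e ▸ subset_closure (by simp)
        have hle : K ≤ (zpowers (g : P ⧸ center P)).comap (QuotientGroup.mk' (center P)) := by
          refine (closure_le _).2 ?_
          rintro x (rfl | rfl)
          · show (x : P ⧸ center P) ∈ zpowers (g : P ⧸ center P)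
            rw [(QuotientGroup.eq_one_iff x).2 hz]
            exact one_mem _
          · exact mem_zpowers _
        obtain ⟨i, hi⟩ := hle hhK
        obtain ⟨t, rfl | rfl⟩ := Int.even_or_odd' i
        · apply hh
          have : (g : P ⧸ center P) ^ (2 : ℤ) = 1 := by
            rw [← QuotientGroup.mk_zpow, zpow_two, ← pow_two, hg2]; rfl
          rw [← QuotientGroup.eq_one_iff]
          simpa [zpow_mul, this] using hi.symm
        · apply hne
          have : (g : P ⧸ center P) ^ (2 : ℤ) = 1 := by
            rw [← QuotientGroup.mk_zpow, zpow_two, ← pow_two, hg2]; rfl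
          simpa [zpow_add, zpow_mul, this] using hi
    have grow : ∀ B C : Subgroup P, B < C → 2 * Nat.card B ≤ Nat.card C := by
      intro B C hBC
      obtain ⟨m, hm⟩ := card_dvd_of_le hBC.le
      have h1 : m ≠ 1 := fun e1 =>
        hBC.ne (eq_of_le_of_card_ge hBC.le (by rw [hm, e1, mul_one]))
      have h0 : m ≠ 0 := fun e0 => Nat.card_pos.ne' (hm.trans (by rw [e0, mul_zero]))
      rw [hm, mul_comm 2]
      exact Nat.mul_le_mul_left _ (by omega)
    have := grow _ _ hzK
    have := grow _ _ hKA
    have hzc : Nat.card (zpowers z) = 2 := by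
      rw [Nat.card_zpowers, orderOf_eq_prime (sq_center hex hz) hn]
    omega
  obtain ⟨i, hi⟩ := exists_zpow hex hz hn (CfsgLib.Extraspecial.commutator_mem_center hex g h)
  obtain ⟨t, rfl | rfl⟩ := Int.even_or_odd' i
  · rw [zpow_mul, zpow_two, ← pow_two, sq_center hex hz, one_zpow] at hi
    exact absurd (commutatorElement_eq_one_iff_mul_comm.1 hi) hnc
  · rw [zpow_add, zpow_mul, zpow_two, ← pow_two, sq_center hex hz, one_zpow, one_mul, zpow_one,
      commutatorElement_def] at hi
    rw [← hi]
    simp [mul_assoc]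

theorem tuple {z : P} (hz : z ∈ center P) (hn : z ≠ 1) (q : Fin 4 → Classes P)
    (hq : Function.Injective q) : Tuple z (fun i => (q i).1.out) :=
  ⟨hz, sq_center hex hz, hn, fun i => (q i).2.2, fun i j hij =>
    twist hex h32 hminus hz hn (Classes.out_not_mem hex _) (q i).2.2 (q j).2.2
      (Classes.out_not_mem hex _) (by
        rw [QuotientGroup.out_eq', QuotientGroup.out_eq']
        exact fun e => hij (hq (Subtype.ext e)))⟩

theorem card_classes : Nat.card (Classes P) = 5 := by
  classical
  have hcnt := (CfsgLib.ExtraTwoType.classify hex (n := 2) h32).2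
  have hr : Cfsg.PRankLE 2 2 P := fun A hA h2 => hminus A ⟨hA, h2⟩
  rw [CfsgLib.ExtraTwoType.cnt_top] at hcnt
  have h12 : Nat.card {g : P // g ^ 2 = 1} = 12 := by
    rcases hcnt with ⟨-, -, h⟩ | ⟨h, -, -⟩
    · exact absurd hr h
    · norm_num at h
      omega
  have e : Classes P × center P ≃ {g : {g : P // g ^ 2 = 1} // g.1 ∉ center P} :=
    { toFun := fun x => ⟨⟨x.1.1.out * x.2, by rw [sq_mul_center hex _ x.2.2]; exact x.1.2.2⟩,
        fun h => Classes.out_not_mem hex x.1 (by
          simpa using mul_mem h (inv_mem x.2.2))⟩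
      invFun := fun g => (⟨(g.1.1 : P ⧸ center P), (class_iff hex _).2 ⟨g.2, g.1.2⟩⟩,
        ⟨(g.1.1 : P ⧸ center P).out⁻¹ * g.1.1, QuotientGroup.eq.1 (QuotientGroup.out_eq' _)⟩)
      left_inv := fun x => by
        have h : ((x.1.1.out * x.2 : P) : P ⧸ center P) = x.1.1 := by
          rw [QuotientGroup.mk_mul_of_mem _ x.2.2, QuotientGroup.out_eq']
        refine Prod.ext (Subtype.ext h) (Subtype.ext ?_)
        show ((x.1.1.out * x.2 : P) : P ⧸ center P).out⁻¹ * (x.1.1.out * x.2) = _
        rw [h, inv_mul_cancel_left]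
      right_inv := fun g => Subtype.ext (Subtype.ext (mul_inv_cancel_left _ _)) }
  have h2 : Nat.card {g : {g : P // g ^ 2 = 1} // g.1 ∈ center P} = 2 := by
    refine (Nat.card_congr ?_).trans hex.2
    exact ⟨fun g => ⟨g.1.1, g.2⟩, fun c => ⟨⟨c.1, sq_center hex c.2⟩, c.2⟩,
      fun _ => rfl, fun _ => rfl⟩
  have hs := Nat.card_congr (Equiv.sumCompl fun g : {g : P // g ^ 2 = 1} => g.1 ∈ center P)
  rw [Nat.card_sum, h2, h12] at hs
  have he := Nat.card_congr e
  rw [Nat.card_prod, hex.2] at he
  omega

theorem aut_structure :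
    Nat.card ↥(MulAut.conj : P →* MulAut P).range = 16 ∧
      (MulAut.conj : P →* MulAut P).range = (rho hex).ker ∧
      Function.Surjective (rho hex) ∧ Nat.card (MulAut P) = 1920 := by
  classical
  obtain ⟨z, hz, hn⟩ := exists_z hex h32 hminus
  have h5 := card_classes hex h32 hminus
  obtain ⟨e⟩ : Nonempty (Fin 5 ≃ Classes P) := ⟨(Finite.equivFinOfCardEq h5).symm⟩
  let q : Fin 4 → Classes P := fun i => e i.castSucc
  have hq : Function.Injective q := e.injective.comp (Fin.castSucc_injective 4)
  have T := tuple hex h32 hminus hz hn q hq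
  have hsurj : Function.Surjective (rho hex) := by
    intro σ
    obtain ⟨φ, hφ⟩ := exists_aut h32 T
      (tuple hex h32 hminus hz hn (fun i => σ (q i)) (σ.injective.comp hq))
    refine ⟨φ, ?_⟩
    have hfour : ∀ i : Fin 4, rho hex φ (e i.castSucc) = σ (e i.castSucc) := fun i => by
      refine Subtype.ext ?_
      rw [rho_out]
      show ((φ (q i).1.out : P) : P ⧸ center P) = _
      rw [hφ i, QuotientGroup.out_eq']
    refine Equiv.ext fun x => ?_
    obtain ⟨i, rfl⟩ := e.surjective x
    induction i using Fin.lastCases with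
    | cast i => exact hfour i
    | last =>
      by_contra hx
      obtain ⟨j, hj⟩ := e.surjective ((rho hex φ).symm (σ (e (Fin.last 4))))
      induction j using Fin.lastCases with
      | cast j =>
        have h1 : σ (e j.castSucc) = σ (e (Fin.last 4)) := by
          rw [← hfour, hj, Equiv.apply_symm_apply]
        exact (Fin.castSucc_lt_last j).ne (e.injective (σ.injective h1))
      | last => exact hx (by conv_lhs => rw [hj, Equiv.apply_symm_apply])
  have hkc : (MulAut.conj : P →* MulAut P).ker = center P := by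
    ext g
    rw [MonoidHom.mem_ker, mem_center_iff, MulEquiv.ext_iff]
    refine forall_congr' fun h => ?_
    rw [MulAut.conj_apply, MulAut.one_apply, mul_inv_eq_iff_eq_mul, eq_comm]
  have h16 : Nat.card ↥(MulAut.conj : P →* MulAut P).range = 16 := by
    rw [← Subgroup.index_ker, hkc]
    have := (center P).card_mul_index
    rw [hex.2, h32] at this
    omega
  have hle : (MulAut.conj : P →* MulAut P).range ≤ (rho hex).ker := by
    rintro _ ⟨g, rfl⟩
    exact conj_mem_ker hex g
  have hker : Nat.card (rho hex).ker ≤ 16 := by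
    have hfix : ∀ φ : MulAut P, φ z = z := by
      intro φ
      have hc : φ z ∈ center P := (congr_mk φ).le ⟨z, hz, rfl⟩
      obtain ⟨i, hi⟩ := exists_zpow hex hz hn hc
      obtain ⟨t, rfl | rfl⟩ := Int.even_or_odd' i
      · rw [zpow_mul, zpow_two, ← pow_two, sq_center hex hz, one_zpow] at hi
        exact absurd (φ.injective (hi.trans (map_one φ).symm)) hn
      · rw [hi, zpow_add, zpow_mul, zpow_two, ← pow_two, sq_center hex hz, one_zpow, one_mul,
          zpow_one]
    have hmem : ∀ φ : (rho hex).ker, ∀ i : Fin 4,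
        ((q i).1.out)⁻¹ * φ.1 (q i).1.out ∈ center P := by
      intro φ i
      rw [← QuotientGroup.eq, QuotientGroup.out_eq']
      have : (rho hex φ.1 (q i)).1 = (q i).1 := by rw [MonoidHom.mem_ker.1 φ.2]; rfl
      rw [rho_out] at this
      exact this.symm
    refine (Nat.card_le_card_of_injective
      (fun φ i => (⟨_, hmem φ i⟩ : center P)) ?_).trans (by rw [Nat.card_fun, hex.2]; simp)
    intro φ ψ hφψ
    refine Subtype.ext (MulEquiv.toMonoidHom_injective ?_)
    refine MonoidHom.eq_of_eqOn_dense (s := (chain z (fun i => (q i).1.out) 4 : Set P))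
      (by rw [closure_eq]; exact T.gen h32) ?_
    intro x hx
    refine chain_le (K := φ.1.toMonoidHom.eqLocus ψ.1.toMonoidHom) ?_ ?_ hx
    · exact (hfix _).trans (hfix _).symm
    · intro i _
      have := congrArg Subtype.val (congrFun hφψ i)
      exact mul_left_cancel this
  have heq := eq_of_le_of_card_ge hle (by rw [h16]; exact hker)
  refine ⟨h16, heq, hsurj, ?_⟩
  have := (rho hex).ker.card_mul_index
  rw [← heq, h16, heq, Subgroup.index_ker, MonoidHom.range_eq_top.2 hsurj, card_top, Nat.card_perm,
    h5] at this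
  exact this.symm

theorem out_equiv [(MulAut.conj : P →* MulAut P).range.Normal] :
    Nonempty ((MulAut P ⧸ (MulAut.conj : P →* MulAut P).range) ≃* Equiv.Perm (Fin 5)) := by
  obtain ⟨-, heq, hsurj, -⟩ := aut_structure hex h32 hminus
  have h5 := card_classes hex h32 hminus
  obtain ⟨e⟩ : Nonempty (Classes P ≃ Fin 5) := ⟨Finite.equivFinOfCardEq h5⟩
  exact ⟨(QuotientGroup.quotientMulEquivOfEq heq).trans
    ((QuotientGroup.quotientKerEquivOfSurjective _ hsurj).trans e.permCongrHom)⟩

end Main

end CfsgLib.MinusThirtyTwo
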