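import Mathlib
import Cfsg.Agent.SeriesComm.Basic
import Cfsg.Agent.Solvable.PGroupBasic

/-!
Polynomial sequences in filtered groups and the Hall-Petrescu consequence: in a p-group of class
less than p the elements of order dividing p form a subgroup.
-/

set_option autoImplicit false
set_option linter.style.haveILetI false

namespace CfsgLib.FGSA.PolySeq

open Subgroup
open scoped commutatorElement

variable {G : Type*} [Group G]

/-- The difference of a sequence. -/
def diff (f : ℕ → G) : ℕ → G := fun n => (f n)⁻¹ * f (n + 1)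

/-- A decreasing normal filtration with commutators adding degrees, eventually trivial. -/
structure Filt (G : Type*) [Group G] where
  F : ℕ → Subgroup G
  K : ℕ
  anti : ∀ {a b : ℕ}, a ≤ b → F b ≤ F a
  comm : ∀ a b : ℕ, ⁅F a, F b⁆ ≤ F (a + b)
  eventually : ∀ a, K ≤ a → F a = ⊥

variable (Φ : Filt G)

/-- Polynomial sequences of level `i`. -/
def Mem (i : ℕ) (f : ℕ → G) : Prop := ∀ j n, diff^[j] f n ∈ Φ.F (i + j)

variable {Φ}

theorem mem_iff {i : ℕ} {f : ℕ → G} : Mem Φ i f ↔ (∀ n, f n ∈ Φ.F i) ∧ Mem Φ (i + 1) (diff f) := by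
  constructor
  · refine fun h => ⟨fun n => h 0 n, fun j n => ?_⟩
    have := h (j + 1) n
    rwa [Function.iterate_succ_apply, show i + (j + 1) = i + 1 + j by omega] at this
  · rintro ⟨h0, h1⟩ (_ | j) n
    · exact h0 n
    · rw [Function.iterate_succ_apply, show i + (j + 1) = i + 1 + j by omega]
      exact h1 j n

theorem Mem.mono {i k : ℕ} {f : ℕ → G} (h : Mem Φ k f) (hik : i ≤ k) : Mem Φ i f :=
  fun j n => Φ.anti (by omega) (h j n)

theorem Mem.apply_mem {i : ℕ} {f : ℕ → G} (h : Mem Φ i f) (n : ℕ) : f n ∈ Φ.F i := h 0 n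

theorem Mem.diff_mem {i : ℕ} {f : ℕ → G} (h : Mem Φ i f) : Mem Φ (i + 1) (diff f) := (mem_iff.1 h).2

theorem mem_one (i : ℕ) : Mem Φ i (fun _ => (1 : G)) := by
  intro j n
  have h : ∀ j, diff^[j] (fun _ => (1 : G)) = fun _ => 1 := by
    intro j
    induction j with
    | zero => rfl
    | succ j ih => rw [Function.iterate_succ_apply', ih]; funext n; simp [diff]
  rw [h]
  exact one_mem _

theorem mem_of_large {k : ℕ} (hk : Φ.K ≤ k) {f : ℕ → G} (h : ∀ n, f n = 1) : Mem Φ k f := by
  rw [funext h]; exact mem_one k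

/-- The closure properties at level `k`. -/
structure Closed (Φ : Filt G) (k : ℕ) : Prop where
  mul : ∀ f g, Mem Φ k f → Mem Φ k g → Mem Φ k (f * g)
  inv : ∀ f, Mem Φ k f → Mem Φ k f⁻¹
  comm : ∀ a b, k ≤ a + b → ∀ f g, Mem Φ a f → Mem Φ b g → Mem Φ k (fun n => ⁅f n, g n⁆)

theorem closed [Finite G] (k : ℕ) : Closed Φ k := by
  suffices h : ∀ d k, Φ.K ≤ k + d → Closed Φ k from h Φ.K k (by omega)
  intro d
  induction d with
  | zero =>
    intro k hk
    have hbot : ∀ {f : ℕ → G}, Mem Φ k f → ∀ n, f n = 1 := fun {f} hf n => by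
      have h1 := hf.apply_mem n
      rwa [Φ.eventually k (by omega), mem_bot] at h1
    refine ⟨fun f g hf hg => mem_of_large (by omega) fun n => ?_,
      fun f hf => mem_of_large (by omega) fun n => ?_,
      fun a b hab f g hf hg => mem_of_large (by omega) fun n => ?_⟩
    · rw [Pi.mul_apply, hbot hf, hbot hg, one_mul]
    · rw [Pi.inv_apply, hbot hf, inv_one]
    · have := Φ.comm a b (commutator_mem_commutator (hf.apply_mem n) (hg.apply_mem n))
      rwa [Φ.eventually (a + b) (by omega), mem_bot] at this
  | succ d ih =>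
    intro k hk
    have C := ih (k + 1) (by omega)
    -- conjugation of the next level
    have hconj : ∀ {a : ℕ} {h w : ℕ → G}, Mem Φ a h → Mem Φ (k + 1) w →
        Mem Φ (k + 1) (fun n => h n * w n * (h n)⁻¹) := by
      intro a h w hh hw
      have h1 := C.mul _ _ (C.comm a (k + 1) (by omega) h w hh hw) hw
      convert h1 using 1
      funext n
      simp [commutatorElement_def, mul_assoc]
    have hconjinv : ∀ {a : ℕ} {h w : ℕ → G}, Mem Φ a h → Mem Φ (k + 1) w →
        Mem Φ (k + 1) (fun n => (h n)⁻¹ * w n * h n) := by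
      intro a h w hh hw
      have hiter : ∀ e : ℕ, Mem Φ (k + 1) (fun n => h n ^ e * w n * (h n ^ e)⁻¹) := by
        intro e
        induction e with
        | zero => simpa using hw
        | succ e ihe =>
          convert hconj hh ihe using 1
          funext n
          rw [pow_succ', mul_inv_rev]; group
      convert hiter (Nat.card G - 1) using 1
      funext n
      have e : h n ^ (Nat.card G - 1) = (h n)⁻¹ := eq_inv_of_mul_eq_one_left (by
        rw [← pow_succ, Nat.sub_add_cancel Nat.card_pos, pow_card_eq_one'])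
      rw [e, inv_inv]
    have hinv : ∀ f, Mem Φ k f → Mem Φ k f⁻¹ := by
      intro f hf
      refine mem_iff.2 ⟨fun n => inv_mem (hf.apply_mem n), ?_⟩
      convert hconj hf (C.inv _ hf.diff_mem) using 1
      funext n
      simp [diff, mul_assoc]
    refine ⟨fun f g hf hg => mem_iff.2 ⟨fun n => mul_mem (hf.apply_mem n) (hg.apply_mem n), ?_⟩,
      hinv, fun a b hab f g hf hg => mem_iff.2 ⟨fun n => Φ.anti hab
        (Φ.comm a b (commutator_mem_commutator (hf.apply_mem n) (hg.apply_mem n))), ?_⟩⟩
    · convert C.mul _ _ (hconjinv hg hf.diff_mem) hg.diff_mem using 1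
      funext n
      simp [diff, mul_assoc]
    · set u := diff f with hu
      set v := diff g with hv
      have hu' : Mem Φ (a + 1) u := hf.diff_mem
      have hv' : Mem Φ (b + 1) v := hg.diff_mem
      have h1 : Mem Φ (k + 1) (fun n => ⁅u n, g n * v n⁆) := by
        convert C.mul _ _ (C.comm (a + 1) b (by omega) u g hu' hg)
          (hconj hg (C.comm (a + 1) (b + 1) (by omega) u v hu' hv')) using 1
        funext n
        simp [commutatorElement_def, mul_assoc]
      have h2 : Mem Φ (k + 1) (fun n => f n * ⁅u n, g n * v n⁆ * (f n)⁻¹) := hconj hf h1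
      -- conjugate by the commutator, one factor at a time
      have h3 := hconj hg (hconj hf (hconjinv hg (hconjinv hf h2)))
      have h4 : Mem Φ (k + 1) (fun n => g n * ⁅f n, v n⁆ * (g n)⁻¹) :=
        hconj hg (C.comm a (b + 1) (by omega) f v hf hv')
      convert C.mul _ _ h3 h4 using 1
      funext n
      simp only [Pi.mul_apply, hu, hv, diff, commutatorElement_def]
      group

theorem Mem.mul [Finite G] {k : ℕ} {f g : ℕ → G} (hf : Mem Φ k f) (hg : Mem Φ k g) :
    Mem Φ k (f * g) := (closed k).mul f g hf hg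

theorem Mem.inv [Finite G] {k : ℕ} {f : ℕ → G} (hf : Mem Φ k f) : Mem Φ k f⁻¹ := (closed k).inv f hf

/-- The binomial sequences. -/
theorem mem_binom {e : G} : ∀ (j i : ℕ), e ∈ Φ.F (i + j) → Mem Φ i (fun n => e ^ n.choose j) := by
  intro j
  induction j with
  | zero =>
    intro i he
    refine mem_iff.2 ⟨fun n => pow_mem (by simpa using he) _, ?_⟩
    convert mem_one (Φ := Φ) (i + 1) using 1
    funext n; simp [diff]
  | succ j ih =>
    intro i he
    refine mem_iff.2 ⟨fun n => pow_mem (Φ.anti (by omega) he) _, ?_⟩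
    convert ih (i + 1) (by rwa [show i + 1 + j = i + (j + 1) by omega]) using 1
    funext n
    simp only [diff, Nat.choose_succ_succ, Nat.succ_eq_add_one]
    rw [pow_add, ← mul_assoc]
    have hc : (e ^ n.choose (j + 1))⁻¹ * e ^ n.choose j = e ^ n.choose j * (e ^ n.choose (j + 1))⁻¹ :=
      ((Commute.refl e).pow_pow _ _).inv_left.eq
    rw [hc, inv_mul_cancel_right]

/-- The value at the first possibly nontrivial place lies deep in the filtration. -/
theorem apply_mem_of_vanish {f : ℕ → G} (hf : Mem Φ 0 f) {m : ℕ} (h : ∀ n < m, f n = 1) :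
    f m ∈ Φ.F m := by
  have key : ∀ j, j ≤ m → (∀ n, n + j < m → diff^[j] f n = 1) ∧ diff^[j] f (m - j) = f m := by
    intro j
    induction j with
    | zero => exact fun _ => ⟨fun n hn => h n (by omega), rfl⟩
    | succ j ih =>
      intro hj
      obtain ⟨h1, h2⟩ := ih (by omega)
      refine ⟨fun n hn => ?_, ?_⟩
      · rw [Function.iterate_succ_apply', diff, h1 n (by omega), h1 (n + 1) (by omega), inv_one, one_mul]
      · rw [Function.iterate_succ_apply', diff, h1 _ (by omega), inv_one, one_mul,
          show m - (j + 1) + 1 = m - j by omega, h2]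
  have h2 := (key m le_rfl).2
  rw [Nat.sub_self] at h2
  rw [← h2]
  simpa using hf m 0

/-- Sequences trivial at 0 and 1 are trivial at a prime beyond the class. -/
theorem apply_prime_eq_one [Finite G] {p : ℕ} (hp : p.Prime) (hexp : ∀ e ∈ Φ.F 2, e ^ p = 1)
    (hbot : Φ.F p = ⊥) {f : ℕ → G} (hf : Mem Φ 0 f) (h0 : f 0 = 1) (h1 : f 1 = 1) : f p = 1 := by
  have key : ∀ d f, Mem Φ 0 f → ∀ m, 2 ≤ m → p ≤ m + d → m ≤ p → (∀ n < m, f n = 1) → f p = 1 := by
    intro d
    induction d with
    | zero =>
      intro f hf m _ hpm hmp hv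
      obtain rfl : m = p := by omega
      have := apply_mem_of_vanish hf hv
      rwa [hbot, mem_bot] at this
    | succ d ih =>
      intro f hf m hm hpm hmp hv
      rcases eq_or_lt_of_le hmp with rfl | hlt
      · have := apply_mem_of_vanish hf hv
        rwa [hbot, mem_bot] at this
      have hmem := apply_mem_of_vanish hf hv
      set e := f m with he
      have hf' := ((mem_binom (Φ := Φ) (e := e) m 0 (by rwa [Nat.zero_add])).inv).mul hf
      have hval := ih _ hf' (m + 1) (by omega) (by omega) hlt (fun n hn => by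
        rcases Nat.lt_or_ge n m with h | h
        · simp [Nat.choose_eq_zero_of_lt h, hv n h]
        · obtain rfl : n = m := by omega
          simp [he])
      obtain ⟨c, hc⟩ := hp.dvd_choose_self (show m ≠ 0 by omega) hlt
      simpa [hc, pow_mul, hexp e (Φ.anti hm hmem)] using hval
  exact key p f hf 2 le_rfl (by omega) hp.two_le fun n hn => by
    rcases (show n = 0 ∨ n = 1 by omega) with rfl | rfl
    exacts [h0, h1]

/-- The filtration by the lower central series. -/
def lcsFilt (G : Type*) [Group G] (c : ℕ) (hc : (⊤ : Subgroup G).lowerCentralSeries c = ⊥) : Filt G where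
  F a := (⊤ : Subgroup G).lowerCentralSeries (a - 1)
  K := c + 1
  anti {a b} h := (⊤ : Subgroup G).lowerCentralSeries_antitone (by omega)
  eventually a ha := le_bot_iff.1 (hc ▸ (⊤ : Subgroup G).lowerCentralSeries_antitone (by omega))
  comm a b := by
    have key : ∀ j i : ℕ, ⁅(⊤ : Subgroup G).lowerCentralSeries i, (⊤ : Subgroup G).lowerCentralSeries j⁆ ≤
        (⊤ : Subgroup G).lowerCentralSeries (i + j + 1) := by
      intro j
      induction j with
      | zero => intro i; exact le_rfl
      | succ j ih =>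
        intro i
        haveI := CfsgLib.SeriesComm.lowerCentralSeries_normal (⊤ : Subgroup G) (i + (j + 1) + 1)
        rw [Subgroup.commutator_comm, Subgroup.lowerCentralSeries_succ]
        refine CfsgLib.SeriesComm.rotate_le ?_ ?_
        · refine (Subgroup.commutator_mono (le_of_eq (Subgroup.commutator_comm _ _)) le_rfl).trans
            ((ih (i + 1)).trans ?_)
          rw [show i + 1 + j + 1 = i + (j + 1) + 1 by omega]
        · refine (Subgroup.commutator_mono (ih i) le_rfl).trans ?_
          rw [show i + (j + 1) + 1 = (i + j + 1) + 1 by omega]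
          exact le_rfl
    rcases Nat.eq_zero_or_pos a with rfl | ha
    · haveI := CfsgLib.SeriesComm.lowerCentralSeries_normal (⊤ : Subgroup G) (b - 1)
      rw [Nat.zero_add]
      exact Subgroup.commutator_le_right _ _
    rcases Nat.eq_zero_or_pos b with rfl | hb
    · haveI := CfsgLib.SeriesComm.lowerCentralSeries_normal (⊤ : Subgroup G) (a - 1)
      rw [Nat.add_zero]
      exact Subgroup.commutator_le_left _ _
    refine (key (b - 1) (a - 1)).trans (le_of_eq ?_)
    rw [show a - 1 + (b - 1) + 1 = a + b - 1 by omega]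

theorem mem_pow (c : ℕ) (hc : (⊤ : Subgroup G).lowerCentralSeries c = ⊥) (x : G) :
    Mem (lcsFilt G c hc) 0 (fun n => x ^ n) := by
  refine mem_iff.2 ⟨fun n => mem_top _, mem_iff.2 ⟨fun n => mem_top _, ?_⟩⟩
  convert mem_one (Φ := lcsFilt G c hc) (0 + 1 + 1) using 1
  have h : diff (fun n : ℕ => x ^ n) = fun _ => x := by
    funext n; simp [diff, pow_succ]
  rw [h]
  funext n
  simp [diff]

universe u

/-- In a p-group of class less than `p` the elements of order dividing `p` multiply closed. -/
theorem mul_pow_prime_eq_one {p : ℕ} [hp : Fact p.Prime] (N : ℕ) : ∀ {G : Type u} [Group G] [Finite G],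
    Nat.card G ≤ N → IsPGroup p G → (⊤ : Subgroup G).lowerCentralSeries (p - 1) = ⊥ →
    ∀ x y : G, x ^ p = 1 → y ^ p = 1 → (x * y) ^ p = 1 := by
  induction N with
  | zero => intro G _ _ h; exact absurd h (Nat.not_le.2 Nat.card_pos)
  | succ N ih =>
    intro G _ _ hN hG hcl x y hx hy
    have hsub : ∀ M : Subgroup G, M ≠ ⊤ → ∀ a ∈ M, ∀ b ∈ M, a ^ p = 1 → b ^ p = 1 → (a * b) ^ p = 1 := by
      intro M hM a ha b hb hap hbp
      have hlt : Nat.card M < Nat.card G := by
        rcases lt_or_eq_of_le (Subgroup.card_le_card_group M) with h | h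
        · exact h
        · exact absurd (Subgroup.eq_top_of_card_eq M h) hM
      have hclM : (⊤ : Subgroup M).lowerCentralSeries (p - 1) = ⊥ := by
        have h := M.lowerCentralSeries_mono (p - 1) (le_top : M ≤ ⊤)
        refine (Subgroup.map_eq_bot_iff_of_injective _ M.subtype_injective).1 ?_
        rw [Subgroup.top_subtype_lowerCentralSeries]
        exact le_bot_iff.1 (hcl ▸ (Subgroup.lowerCentralSeries_mono (p - 1) (le_top : M ≤ ⊤)))
      have h := @ih M _ _ (by omega) (hG.to_subgroup M) hclM ⟨a, ha⟩ ⟨b, hb⟩ (Subtype.ext hap) (Subtype.ext hbp)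
      exact congrArg Subtype.val h
    by_cases htop : closure ({x, y} : Set G) = ⊤
    swap
    · exact hsub _ htop x (subset_closure (Set.mem_insert _ _)) y
        (subset_closure (Set.mem_insert_of_mem _ rfl)) hx hy
    by_cases hcyc : zpowers x = ⊤
    · obtain ⟨i, rfl⟩ := mem_zpowers_iff.1 (hcyc ▸ mem_top y : y ∈ zpowers x)
      rw [((Commute.refl x).zpow_right i).mul_pow, hx, hy, one_mul]
    obtain ⟨M, hM, hxM⟩ := (eq_top_or_exists_le_coatom (zpowers x)).resolve_left hcyc
    obtain ⟨hMn, -⟩ := CfsgLib.PGroupBasic.coatom_normal_index hG hM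
    haveI := hMn
    set X := normalClosure ({x} : Set G) with hX
    have hXM : X ≤ M := normalClosure_le_normal (by simpa using hxM (mem_zpowers x))
    have hXexp : ∀ z ∈ X, z ^ p = 1 := by
      intro z hz
      have : z ∈ M ∧ z ^ p = 1 := by
        induction hz using closure_induction with
        | mem z hz =>
          refine ⟨hXM (subset_closure hz), ?_⟩
          obtain ⟨a, ha, hc⟩ := Group.mem_conjugatesOfSet_iff.1 hz
          rw [Set.mem_singleton_iff] at ha; subst ha
          obtain ⟨c, rfl⟩ := isConj_iff.1 hc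
          rw [conj_pow, hx, mul_one, mul_inv_cancel]
        | one => exact ⟨one_mem _, one_pow p⟩
        | mul a b _ _ ha hb => exact ⟨mul_mem ha.1 hb.1, hsub M hM.1 a ha.1 b hb.1 ha.2 hb.2⟩
        | inv a _ ha => exact ⟨inv_mem ha.1, by rw [inv_pow, ha.2, inv_one]⟩
      exact this.2
    have hderX : _root_.commutator G ≤ X := by
      haveI : IsCyclic (G ⧸ X) := by
        refine ⟨⟨QuotientGroup.mk' X y, fun q => ?_⟩⟩
        obtain ⟨g, rfl⟩ := QuotientGroup.mk'_surjective X q
        have hle : closure ({x, y} : Set G) ≤ (zpowers (QuotientGroup.mk' X y)).comap (QuotientGroup.mk' X) := by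
          rw [closure_le]
          rintro z (rfl | rfl)
          · show QuotientGroup.mk' X z ∈ zpowers _
            rw [show QuotientGroup.mk' X z = 1 from
              (QuotientGroup.eq_one_iff z).2 (subset_normalClosure rfl)]
            exact one_mem _
          · exact mem_zpowers _
        exact hle (htop ▸ mem_top g)
      exact Subgroup.Normal.quotient_commutative_iff_commutator_le.1
        ⟨⟨(IsCyclic.commGroup (α := G ⧸ X)).mul_comm⟩⟩
    set Φ := lcsFilt G (p - 1) hcl
    have hf : Mem Φ 0 ((fun n => y⁻¹ ^ n) * (fun n => x⁻¹ ^ n) * (fun n => (x * y) ^ n)) :=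
      ((mem_pow _ hcl y⁻¹).mul (mem_pow _ hcl x⁻¹)).mul (mem_pow _ hcl (x * y))
    have h := apply_prime_eq_one hp.out (fun e he => hXexp e (hderX (by
      show e ∈ _
      rw [← Subgroup.top_lowerCentralSeries_one]
      exact he))) (Φ.eventually p (by show p - 1 + 1 ≤ p; have := hp.out.two_le; omega)) hf (by simp)
      (by simp [mul_assoc])
    simpa [hx, hy] using h

/-- A p-group of class less than `p`: the elements of order dividing `p` form a subgroup. -/
def omegaSubgroup {p : ℕ} [Fact p.Prime] {G : Type u} [Group G] [Finite G] (hG : IsPGroup p G)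
    (hcl : (⊤ : Subgroup G).lowerCentralSeries (p - 1) = ⊥) : Subgroup G where
  carrier := {g : G | g ^ p = 1}
  one_mem' := one_pow p
  mul_mem' := fun {a b} ha hb => mul_pow_prime_eq_one (Nat.card G) le_rfl hG hcl a b ha hb
  inv_mem' := fun {a} ha => by
    show a⁻¹ ^ p = 1
    rw [inv_pow, ha, inv_one]

end CfsgLib.FGSA.PolySeq
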