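import Cfsg.Prelude.Def_PLocal
import Cfsg.Agent.FGSA.PolySeq

/-!
Regular p-groups: torsion subgroups, powers, Kemhadze's criterion, class less than p.
-/

set_option autoImplicit false
set_option linter.style.haveILetI false

namespace CfsgLib.FGSA.Regular

open Subgroup
open scoped commutatorElement

variable {G : Type*} [Group G] {p n : ℕ}

/-- The regularity identity for the exponent `p ^ n`. -/
def PowLaw (p n : ℕ) (G : Type*) [Group G] : Prop :=
  ∀ a b : G, ∃ c ∈ Cfsg.powerClosure p n ⁅closure ({a, b} : Set G), closure ({a, b} : Set G)⁆,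
    (a * b) ^ p ^ n = a ^ p ^ n * b ^ p ^ n * c

theorem powerClosure_mono {H K : Subgroup G} (h : H ≤ K) :
    Cfsg.powerClosure p n H ≤ Cfsg.powerClosure p n K :=
  closure_mono fun _ ⟨x, hx, hy⟩ => ⟨x, h hx, hy⟩

theorem pow_mem_powerClosure {H : Subgroup G} {x : G} (hx : x ∈ H) :
    x ^ p ^ n ∈ Cfsg.powerClosure p n H := subset_closure ⟨x, hx, rfl⟩

theorem powerClosure_le {H : Subgroup G} : Cfsg.powerClosure p n H ≤ H := by
  rw [Cfsg.powerClosure, closure_le]
  rintro _ ⟨x, hx, rfl⟩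
  exact pow_mem hx _

theorem powerClosure_eq_bot {H : Subgroup G} (h : ∀ x ∈ H, x ^ p ^ n = 1) :
    Cfsg.powerClosure p n H = ⊥ := by
  rw [eq_bot_iff, Cfsg.powerClosure, closure_le]
  rintro _ ⟨x, hx, rfl⟩
  exact mem_bot.2 (h x hx)

theorem PowLaw.exists_in (law : PowLaw p n G) {H : Subgroup G} {a b : G} (ha : a ∈ H) (hb : b ∈ H) :
    ∃ c ∈ Cfsg.powerClosure p n ⁅H, H⁆, (a * b) ^ p ^ n = a ^ p ^ n * b ^ p ^ n * c := by
  obtain ⟨c, hc, e⟩ := law a b
  have hle : closure ({a, b} : Set G) ≤ H := (closure_le _).2 (by rintro z (rfl | rfl) <;> assumption)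
  exact ⟨c, powerClosure_mono (commutator_mono hle hle) hc, e⟩

theorem conj_mem_sup_commutator {H : Subgroup G} {u : G} (hu : u ∈ H) {h : G} (hh : h ∈ H) :
    h * u * h⁻¹ ∈ zpowers u ⊔ ⁅H, H⁆ := by
  rw [show h * u * h⁻¹ = ⁅h, u⁆ * u by simp [commutatorElement_def, mul_assoc]]
  exact mul_mem (mem_sup_right (commutator_mem_commutator hh hu)) (mem_sup_left (mem_zpowers u))

theorem sup_commutator_le {H : Subgroup G} {u : G} (hu : u ∈ H) : zpowers u ⊔ ⁅H, H⁆ ≤ H := by
  refine sup_le (zpowers_le.2 hu) (commutator_le.2 fun a ha b hb => ?_)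
  rw [commutatorElement_def]
  exact mul_mem (mul_mem (mul_mem ha hb) (inv_mem ha)) (inv_mem hb)

/-- The derived subgroup of a two-generated group is generated by conjugates of one commutator. -/
theorem commutator_pair_le (a b : G) :
    ⁅closure ({a, b} : Set G), closure ({a, b} : Set G)⁆ ≤
      closure {y : G | ∃ h ∈ closure ({a, b} : Set G), y = h * ⁅a, b⁆ * h⁻¹} := by
  set K := closure ({a, b} : Set G)
  set N := closure {y : G | ∃ h ∈ K, y = h * ⁅a, b⁆ * h⁻¹}
  have hconj : ∀ g ∈ K, ∀ x ∈ N, g * x * g⁻¹ ∈ N := by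
    intro g hg x hx
    induction hx using closure_induction with
    | mem x hx =>
      obtain ⟨h, hh, rfl⟩ := hx
      exact subset_closure ⟨g * h, mul_mem hg hh, by group⟩
    | one => simp
    | mul x y _ _ hx hy =>
      rw [show g * (x * y) * g⁻¹ = g * x * g⁻¹ * (g * y * g⁻¹) by group]; exact mul_mem hx hy
    | inv x _ hx => rw [show g * x⁻¹ * g⁻¹ = (g * x * g⁻¹)⁻¹ by group]; exact inv_mem hx
  have hgen : ⁅a, b⁆ ∈ N := subset_closure ⟨1, one_mem _, by group⟩
  refine commutator_le.2 fun x hx y hy => ?_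
  refine Subgroup.closure_induction₂ (p := fun x y _ _ => ⁅x, y⁆ ∈ N) ?_ ?_ ?_ ?_ ?_ ?_ ?_ hx hy
  · rintro x y (rfl | rfl) (rfl | rfl)
    · rw [commutatorElement_self]; exact one_mem _
    · exact hgen
    · rw [← commutatorElement_inv]; exact inv_mem hgen
    · rw [commutatorElement_self]; exact one_mem _
  · intro x _; rw [commutatorElement_one_left]; exact one_mem _
  · intro x _; rw [commutatorElement_one_right]; exact one_mem _
  · intro x y z hx hy hz h h'
    rw [show ⁅x * y, z⁆ = x * ⁅y, z⁆ * x⁻¹ * ⁅x, z⁆ by simp [commutatorElement_def, mul_assoc]]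
    exact mul_mem (hconj x hx _ h') h
  · intro y z x hy hz hx h h'
    rw [show ⁅x, y * z⁆ = ⁅x, y⁆ * (y * ⁅x, z⁆ * y⁻¹) by simp [commutatorElement_def, mul_assoc]]
    exact mul_mem h (hconj y hy _ h')
  · intro x y hx _ h
    rw [show ⁅x⁻¹, y⁆ = x⁻¹ * ⁅x, y⁆⁻¹ * x⁻¹⁻¹ by simp [commutatorElement_def, mul_assoc]]
    exact hconj _ (inv_mem hx) _ (inv_mem h)
  · intro x y _ hy h
    rw [show ⁅x, y⁻¹⁆ = y⁻¹ * ⁅x, y⁆⁻¹ * y⁻¹⁻¹ by simp [commutatorElement_def, mul_assoc]]
    exact hconj _ (inv_mem hy) _ (inv_mem h)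

variable [Finite G] [hp : Fact p.Prime]

theorem eq_zpowers (hG : IsPGroup p G) {H : Subgroup G} {u : G} (hu : u ∈ H)
    (h : H ≤ zpowers u ⊔ ⁅H, H⁆) : H = zpowers u := by
  refine le_antisymm ?_ (zpowers_le.2 hu)
  have h1 : zpowers (⟨u, hu⟩ : H) ⊔ frattini H = ⊤ := by
    rw [← top_le_iff, ← Subgroup.map_le_map_iff_of_injective H.subtype_injective,
      ← MonoidHom.range_eq_map, range_subtype]
    refine h.trans (sup_le ?_ ?_)
    · rw [zpowers_le]
      exact ⟨⟨u, hu⟩, mem_sup_left (mem_zpowers _), rfl⟩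
    · rw [← Subgroup.map_subtype_commutator H]
      exact map_mono (le_trans (CfsgLib.PGroupBasic.commutator_pow_le_frattini (hG.to_subgroup H)).1
        le_sup_right)
  have h2 := congrArg (Subgroup.map H.subtype) (frattini_nongenerating h1)
  rw [MonoidHom.map_zpowers, ← MonoidHom.range_eq_map, range_subtype] at h2
  exact h2.ge

theorem commutator_lt (hG : IsPGroup p G) {H : Subgroup G} (hH : H ≠ ⊥) : ⁅H, H⁆ < H := by
  refine lt_of_le_of_ne ((le_sup_right).trans (sup_commutator_le (one_mem H))) fun he => hH ?_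
  rw [eq_zpowers hG (one_mem H) (by rw [he]; exact le_sup_right), zpowers_one_eq_bot]

theorem card_lt {H K : Subgroup G} (h : H ≤ K) (hne : H ≠ K) : Nat.card H < Nat.card K :=
  lt_of_le_of_ne (card_le_of_le h) fun he => hne (Subgroup.eq_of_le_of_card_ge h he.ge)

/-- Elements of order dividing `p ^ n` multiply closed. -/
theorem torsion_mul (hG : IsPGroup p G) (law : PowLaw p n G) {a b : G} (ha : a ^ p ^ n = 1)
    (hb : b ^ p ^ n = 1) : (a * b) ^ p ^ n = 1 := by
  suffices h : ∀ N, ∀ H : Subgroup G, Nat.card H ≤ N → ∀ a ∈ H, ∀ b ∈ H, a ^ p ^ n = 1 →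
      b ^ p ^ n = 1 → (a * b) ^ p ^ n = 1 from
    h _ ⊤ le_rfl a (mem_top a) b (mem_top b) ha hb
  intro N
  induction N with
  | zero => intro H h; exact absurd h (Nat.not_le.2 Nat.card_pos)
  | succ N ih =>
    intro H hN a ha b hb hap hbp
    set K := closure ({a, b} : Set G) with hK
    have hKH : K ≤ H := (closure_le _).2 (by rintro z (rfl | rfl) <;> assumption)
    have haK : a ∈ K := subset_closure (Set.mem_insert _ _)
    have hbK : b ∈ K := subset_closure (Set.mem_insert_of_mem _ rfl)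
    by_cases hne : K = H
    swap
    · have := card_lt hKH hne
      exact ih K (by omega) a haK b hbK hap hbp
    subst hne
    by_cases hK1 : K = ⊥
    · rw [hK1, mem_bot] at haK
      rw [haK, one_mul]; exact hbp
    set M := zpowers a ⊔ ⁅K, K⁆ with hM
    by_cases hMK : M = K
    · obtain ⟨i, rfl⟩ := mem_zpowers_iff.1 (eq_zpowers hG haK hMK.ge ▸ hbK : b ∈ zpowers a)
      rw [((Commute.refl a).zpow_right i).mul_pow, hap, hbp, one_mul]
    have hMlt : Nat.card M < Nat.card K := card_lt (sup_commutator_le haK) hMK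
    have hc : ⁅a, b⁆ ^ p ^ n = 1 := by
      have h1 : b * a⁻¹ * b⁻¹ ∈ M := by
        rw [show b * a⁻¹ * b⁻¹ = (b * a * b⁻¹)⁻¹ by group]
        exact inv_mem (conj_mem_sup_commutator haK hbK)
      have h2 := ih M (by omega) a (mem_sup_left (mem_zpowers a)) _ h1 hap (by
        rw [conj_pow, inv_pow, hap, inv_one, mul_one, mul_inv_cancel])
      rwa [show a * (b * a⁻¹ * b⁻¹) = ⁅a, b⁆ by simp [commutatorElement_def, mul_assoc]] at h2
    have hlt := card_lt (commutator_lt hG hK1).le (commutator_lt hG hK1).ne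
    have htor : ∀ x ∈ ⁅K, K⁆, x ^ p ^ n = 1 := by
      intro x hx
      have : x ∈ ⁅K, K⁆ ∧ x ^ p ^ n = 1 := by
        have hxN := commutator_pair_le a b hx
        clear hx
        induction hxN using closure_induction with
        | mem y hy =>
          obtain ⟨h, hh, rfl⟩ := hy
          refine ⟨?_, by rw [conj_pow, hc, mul_one, mul_inv_cancel]⟩
          rw [show h * ⁅a, b⁆ * h⁻¹ = ⁅h * a * h⁻¹, h * b * h⁻¹⁆ by simp [commutatorElement_def, mul_assoc]]
          exact commutator_mem_commutator (mul_mem (mul_mem hh haK) (inv_mem hh))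
            (mul_mem (mul_mem hh hbK) (inv_mem hh))
        | one => exact ⟨one_mem _, one_pow _⟩
        | mul y z _ _ hy hz =>
          exact ⟨mul_mem hy.1 hz.1, ih ⁅K, K⁆ (by omega) y hy.1 z hz.1 hy.2 hz.2⟩
        | inv y _ hy => exact ⟨inv_mem hy.1, by rw [inv_pow, hy.2, inv_one]⟩
      exact this.2
    obtain ⟨c, hcm, e⟩ := law.exists_in haK hbK
    rw [powerClosure_eq_bot htor, mem_bot] at hcm
    rw [e, hap, hbp, hcm, one_mul, one_mul]

/-- The subgroup of elements of order dividing `p ^ n`. -/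
def torsion (hG : IsPGroup p G) (law : PowLaw p n G) : Subgroup G where
  carrier := {x : G | x ^ p ^ n = 1}
  one_mem' := one_pow _
  mul_mem' := fun ha hb => torsion_mul hG law ha hb
  inv_mem' := fun {a} ha => by
    show a⁻¹ ^ p ^ n = 1
    rw [inv_pow, ha, inv_one]

theorem derived_torsion (hG : IsPGroup p G) (law : PowLaw p n G) {a b : G}
    (h : ⁅a, b⁆ ^ p ^ n = 1) :
    ∀ x ∈ ⁅closure ({a, b} : Set G), closure ({a, b} : Set G)⁆, x ^ p ^ n = 1 := by
  intro x hx
  have hle : closure {y : G | ∃ h' ∈ closure ({a, b} : Set G), y = h' * ⁅a, b⁆ * h'⁻¹} ≤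
      torsion hG law := by
    rw [closure_le]
    rintro _ ⟨h', -, rfl⟩
    show (h' * ⁅a, b⁆ * h'⁻¹) ^ p ^ n = 1
    rw [conj_pow, h, mul_one, mul_inv_cancel]
  exact hle (commutator_pair_le a b hx)

theorem pow_mul_of_commutator (hG : IsPGroup p G) (law : PowLaw p n G) {a b : G}
    (h : ⁅a, b⁆ ^ p ^ n = 1) {x y : G} (hx : x ∈ closure ({a, b} : Set G))
    (hy : y ∈ closure ({a, b} : Set G)) : (x * y) ^ p ^ n = x ^ p ^ n * y ^ p ^ n := by
  obtain ⟨c, hc, e⟩ := law.exists_in hx hy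
  rw [powerClosure_eq_bot (derived_torsion hG law h), mem_bot] at hc
  rw [e, hc, mul_one]

theorem pow_eq_iff (hG : IsPGroup p G) (law : PowLaw p n G) (a b : G) :
    a ^ p ^ n = b ^ p ^ n ↔ (a * b⁻¹) ^ p ^ n = 1 := by
  constructor
  · suffices h : ∀ N, ∀ H : Subgroup G, Nat.card H ≤ N → ∀ a ∈ H, ∀ b ∈ H,
        a ^ p ^ n = b ^ p ^ n → (a * b⁻¹) ^ p ^ n = 1 from
      h _ ⊤ le_rfl a (mem_top a) b (mem_top b)
    intro N
    induction N with
    | zero => intro H h; exact absurd h (Nat.not_le.2 Nat.card_pos)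
    | succ N ih =>
      intro H hN a ha b hb hab
      set M := zpowers b ⊔ ⁅H, H⁆ with hM
      by_cases hMH : M = H
      · obtain ⟨i, rfl⟩ := mem_zpowers_iff.1 (eq_zpowers hG hb hMH.ge ▸ ha : a ∈ zpowers b)
        rw [((Commute.refl b).zpow_left i).inv_right.mul_pow, hab, inv_pow, mul_inv_cancel]
      have hlt : Nat.card M < Nat.card H := card_lt (sup_commutator_le hb) hMH
      have hx : a⁻¹ * b * a⁻¹⁻¹ ∈ M := conj_mem_sup_commutator hb (inv_mem ha)
      have h1 := ih M (by omega) _ hx b (mem_sup_left (mem_zpowers b)) (by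
        rw [conj_pow, ← hab, inv_inv, mul_assoc, ← pow_succ, pow_succ', ← mul_assoc, inv_mul_cancel,
          one_mul])
      have h2 : ⁅a⁻¹, b⁆ ^ p ^ n = 1 := by
        rw [← h1, commutatorElement_def]
      have haK : a ∈ closure ({a⁻¹, b} : Set G) := by
        rw [← inv_mem_iff]; exact subset_closure (Set.mem_insert _ _)
      rw [pow_mul_of_commutator hG law h2 haK
        (inv_mem (subset_closure (Set.mem_insert_of_mem _ rfl))), inv_pow, hab, mul_inv_cancel]
  · intro h
    set u := a * b⁻¹ with hu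
    have hc : ⁅u, b⁆ ^ p ^ n = 1 := by
      rw [show ⁅u, b⁆ = u * (b * u⁻¹ * b⁻¹) by simp [commutatorElement_def, mul_assoc]]
      exact torsion_mul hG law h (by rw [conj_pow, inv_pow, h, inv_one, mul_one, mul_inv_cancel])
    have e := pow_mul_of_commutator hG law hc (x := u) (y := b) (subset_closure (Set.mem_insert _ _))
      (subset_closure (Set.mem_insert_of_mem _ rfl))
    rwa [show u * b = a from inv_mul_cancel_right a b, h, one_mul] at e

theorem commute_pow_iff (hG : IsPGroup p G) (law : PowLaw p n G) (a b : G) :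
    a ^ p ^ n * b = b * a ^ p ^ n ↔ (a⁻¹ * b⁻¹ * a * b) ^ p ^ n = 1 := by
  rw [show a⁻¹ * b⁻¹ * a * b = a⁻¹ * ((b⁻¹ * a * b⁻¹⁻¹)⁻¹)⁻¹ by simp [mul_assoc],
    ← pow_eq_iff hG law, inv_pow, inv_pow, inv_inj, conj_pow, inv_inv, mul_assoc, eq_inv_mul_iff_mul_eq]
  exact eq_comm

/-- The `p ^ n`-th powers of a subgroup form a subgroup. -/
theorem mem_powerClosure_iff (hG : IsPGroup p G) (law : PowLaw p n G) {H : Subgroup G} {y : G} :
    y ∈ Cfsg.powerClosure p n H ↔ ∃ x ∈ H, y = x ^ p ^ n := by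
  suffices key : ∀ N, ∀ H : Subgroup G, Nat.card H ≤ N → ∀ y ∈ Cfsg.powerClosure p n H,
      ∃ x ∈ H, y = x ^ p ^ n from
    ⟨key _ H le_rfl y, fun ⟨x, hx, e⟩ => e ▸ pow_mem_powerClosure hx⟩
  intro N
  induction N with
  | zero => intro H h; exact absurd h (Nat.not_le.2 Nat.card_pos)
  | succ N ih =>
    intro H hN y hy
    have hmul : ∀ a ∈ H, ∀ b ∈ H, ∃ x ∈ H, a ^ p ^ n * b ^ p ^ n = x ^ p ^ n := by
      intro a ha b hb
      by_cases hH : H = ⊥
      · rw [hH, mem_bot] at ha
        exact ⟨b, hb, by rw [ha, one_pow, one_mul]⟩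
      obtain ⟨c, hc, e⟩ := law.exists_in ha hb
      have hlt := commutator_lt hG hH
      have := card_lt hlt.le hlt.ne
      obtain ⟨d, hd, hdc⟩ := ih _ (by omega) _ (inv_mem hc)
      have e' : a ^ p ^ n * b ^ p ^ n = (a * b) ^ p ^ n * d ^ p ^ n := by
        rw [← hdc, e, mul_inv_cancel_right]
      set M := zpowers (a * b) ⊔ ⁅H, H⁆ with hM
      have hab : a * b ∈ H := mul_mem ha hb
      by_cases hMH : M = H
      · have hz := eq_zpowers hG hab hMH.ge
        obtain ⟨i, hi⟩ := mem_zpowers_iff.1 (hz ▸ ha : a ∈ zpowers (a * b))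
        obtain ⟨j, hj⟩ := mem_zpowers_iff.1 (hz ▸ hb : b ∈ zpowers (a * b))
        have hcomm := (Commute.refl (a * b)).zpow_zpow i j
        rw [hi, hj] at hcomm
        exact ⟨a * b, hab, (hcomm.mul_pow _).symm⟩
      have : Nat.card M < Nat.card H := card_lt (sup_commutator_le hab) hMH
      obtain ⟨x, hx, hxe⟩ := ih M (by omega) _ (mul_mem
        (pow_mem_powerClosure (mem_sup_left (mem_zpowers (a * b))))
        (pow_mem_powerClosure (mem_sup_right hd)))
      exact ⟨x, sup_commutator_le hab hx, e'.trans hxe⟩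
    induction hy using closure_induction with
    | mem y hy => exact hy
    | one => exact ⟨1, one_mem _, (one_pow _).symm⟩
    | mul u v _ _ hu hv =>
      obtain ⟨a, ha, rfl⟩ := hu
      obtain ⟨b, hb, rfl⟩ := hv
      exact hmul a ha b hb
    | inv u _ hu =>
      obtain ⟨a, ha, rfl⟩ := hu
      exact ⟨a⁻¹, inv_mem ha, (inv_pow a _).symm⟩

theorem commutator_powerClosure_le (hG : IsPGroup p G) (law : PowLaw p n G) (H : Subgroup G) :
    ⁅Cfsg.powerClosure p n H, Cfsg.powerClosure p n H⁆ ≤ Cfsg.powerClosure p n ⁅H, H⁆ := by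
  refine commutator_le.2 fun u hu v hv => ?_
  obtain ⟨x, hx, rfl⟩ := (mem_powerClosure_iff hG law).1 hu
  have hvH : v ∈ H := powerClosure_le hv
  have hx' : v * x⁻¹ * v⁻¹ ∈ H := mul_mem (mul_mem hvH (inv_mem hx)) (inv_mem hvH)
  obtain ⟨c, hc, e⟩ := law.exists_in hx hx'
  have h1 : ⁅x ^ p ^ n, v⁆ = (x * (v * x⁻¹ * v⁻¹)) ^ p ^ n * c⁻¹ := by
    rw [e, mul_inv_cancel_right, conj_pow, inv_pow]
    simp [commutatorElement_def, mul_assoc]
  rw [h1]
  refine mul_mem (pow_mem_powerClosure ?_) (inv_mem hc)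
  rw [show x * (v * x⁻¹ * v⁻¹) = ⁅x, v⁆ by simp [commutatorElement_def, mul_assoc]]
  exact commutator_mem_commutator hx hvH

/-- Kemhadze's criterion. -/
theorem isRegular_iff (hG : IsPGroup p G) :
    Cfsg.IsRegularPGroup p G ↔ ∀ a b : G, ∃ c ∈ ⁅closure ({a, b} : Set G), closure ({a, b} : Set G)⁆,
      (a * b) ^ p = a ^ p * b ^ p * c ^ p := by
  constructor
  · intro h a b
    have law : PowLaw p 1 G := fun a b => h.2 a b 1
    obtain ⟨c, hc, e⟩ := law a b
    obtain ⟨d, hd, rfl⟩ := (mem_powerClosure_iff hG law).1 hc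
    exact ⟨d, hd, by simpa using e⟩
  · intro h
    refine ⟨hG, fun a b m => ?_⟩
    show ∃ c ∈ _, _
    suffices law : PowLaw p m G from law a b
    clear a b
    have law1 : PowLaw p 1 G := fun a b => by
      obtain ⟨c, hc, e⟩ := h a b
      exact ⟨c ^ p, by simpa using (pow_mem_powerClosure (p := p) (n := 1) hc), by simpa using e⟩
    induction m with
    | zero => exact fun a b => ⟨1, one_mem _, by simp⟩
    | succ m law =>
      intro a b
      set K := closure ({a, b} : Set G)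
      have haK : a ∈ K := subset_closure (Set.mem_insert _ _)
      have hbK : b ∈ K := subset_closure (Set.mem_insert_of_mem _ rfl)
      obtain ⟨c, hc, e⟩ := law a b
      set A := a ^ p ^ m with hA
      set B := b ^ p ^ m with hB
      have hA' : A ∈ Cfsg.powerClosure p m K := pow_mem_powerClosure haK
      have hB' : B ∈ Cfsg.powerClosure p m K := pow_mem_powerClosure hbK
      have hK' : ⁅K, K⁆ ≤ K := le_sup_right.trans (sup_commutator_le (one_mem K))
      have hpow : ∀ z ∈ Cfsg.powerClosure p m ⁅K, K⁆, z ^ p ∈ Cfsg.powerClosure p (m + 1) ⁅K, K⁆ := by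
        intro z hz
        obtain ⟨w, hw, rfl⟩ := (mem_powerClosure_iff hG law).1 hz
        rw [← pow_mul, ← pow_succ]
        exact pow_mem_powerClosure hw
      have hstep : ∀ u v, u ∈ Cfsg.powerClosure p m K → v ∈ Cfsg.powerClosure p m K →
          ∃ f ∈ Cfsg.powerClosure p (m + 1) ⁅K, K⁆, (u * v) ^ p = u ^ p * v ^ p * f := by
        intro u v hu hv
        obtain ⟨f, hf, ef⟩ := h u v
        refine ⟨f ^ p, hpow f (commutator_powerClosure_le hG law K ?_), ef⟩
        have hle : closure ({u, v} : Set G) ≤ Cfsg.powerClosure p m K :=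
          (closure_le _).2 (by rintro z (rfl | rfl) <;> assumption)
        exact commutator_mono hle hle hf
      obtain ⟨f, hf, ef⟩ := hstep A B hA' hB'
      obtain ⟨g, hg, eg⟩ := hstep (A * B) c (mul_mem hA' hB') (powerClosure_mono hK' hc)
      refine ⟨f * c ^ p * g, mul_mem (mul_mem hf (hpow c hc)) hg, ?_⟩
      rw [pow_succ p m, pow_mul, pow_mul, pow_mul, ← hA, ← hB, e, eg, ef]
      group

/-- The Newton expansion at a prime power. -/
theorem apply_mem_powers {Φ : PolySeq.Filt G} {f : ℕ → G} (hf : PolySeq.Mem Φ 0 f) (h0 : f 0 = 1)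
    (h1 : f 1 = 1) (q : ℕ) (S : Subgroup G) (hS : ∀ m, 2 ≤ m → m ≤ q → ∀ e ∈ Φ.F m, e ^ q.choose m ∈ S) :
    f q ∈ S := by
  have key : ∀ d f, PolySeq.Mem Φ 0 f → ∀ m, 2 ≤ m → q + 1 ≤ m + d → (∀ k < m, f k = 1) → f q ∈ S := by
    intro d
    induction d with
    | zero => intro f _ m _ hd hv; rw [hv q (by omega)]; exact one_mem _
    | succ d ih =>
      intro f hf m hm hd hv
      rcases Nat.lt_or_ge q m with hlt | hge
      · rw [hv q hlt]; exact one_mem _
      have hmem := PolySeq.apply_mem_of_vanish hf hv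
      set e := f m with he
      have hf' := ((PolySeq.mem_binom (Φ := Φ) (e := e) m 0 (by rwa [Nat.zero_add])).inv).mul hf
      have hval := ih _ hf' (m + 1) (by omega) (by omega) (fun k hk => by
        rcases Nat.lt_or_ge k m with h | h
        · simp [Nat.choose_eq_zero_of_lt h, hv k h]
        · obtain rfl : k = m := by omega
          simp [he])
      simpa using mul_mem (hS m hm hge e hmem) hval
  exact key (q + 1) f hf 2 le_rfl (by omega) fun k hk => by
    rcases (show k = 0 ∨ k = 1 by omega) with rfl | rfl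
    exacts [h0, h1]

/-- Groups of class less than `p` are regular. -/
theorem isRegular_of_class_lt (hG : IsPGroup p G)
    (hcl : (⊤ : Subgroup G).lowerCentralSeries (p - 1) = ⊥) : Cfsg.IsRegularPGroup p G := by
  refine ⟨hG, fun a b m => ?_⟩
  set K := closure ({a, b} : Set G) with hK
  have hclK : (⊤ : Subgroup K).lowerCentralSeries (p - 1) = ⊥ := by
    refine (Subgroup.map_eq_bot_iff_of_injective _ K.subtype_injective).1 ?_
    rw [Subgroup.top_subtype_lowerCentralSeries]
    exact le_bot_iff.1 (hcl ▸ Subgroup.lowerCentralSeries_mono (p - 1) (le_top : K ≤ ⊤))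
  set Φ := PolySeq.lcsFilt K (p - 1) hclK
  set x : K := ⟨a, subset_closure (Set.mem_insert _ _)⟩
  set y : K := ⟨b, subset_closure (Set.mem_insert_of_mem _ rfl)⟩
  have hf : PolySeq.Mem Φ 0 ((fun k => y⁻¹ ^ k) * (fun k => x⁻¹ ^ k) * (fun k => (x * y) ^ k)) :=
    ((PolySeq.mem_pow _ hclK y⁻¹).mul (PolySeq.mem_pow _ hclK x⁻¹)).mul (PolySeq.mem_pow _ hclK (x * y))
  have h := apply_mem_powers hf (by simp) (by simp [mul_assoc]) (p ^ m)
    ((Cfsg.powerClosure p m ⁅K, K⁆).comap K.subtype) (fun j hj hjq e he => by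
      rw [mem_comap, map_pow]
      by_cases hjp : p ≤ j
      · have he1 : e ∈ (⊤ : Subgroup K).lowerCentralSeries (j - 1) := he
        have : e = 1 := by
          rw [← mem_bot, ← hclK]
          exact (⊤ : Subgroup K).lowerCentralSeries_antitone (by omega) he1
        rw [this, map_one, one_pow]; exact one_mem _
      obtain ⟨t, ht⟩ : p ^ m ∣ (p ^ m).choose j := by
        have hcop : Nat.Coprime (p ^ m) j :=
          (hp.out.coprime_iff_not_dvd.2 fun hd => hjp (Nat.le_of_dvd (by omega) hd)).pow_left m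
        refine hcop.dvd_of_dvd_mul_right ?_
        obtain ⟨i, rfl⟩ : ∃ i, j = i + 1 := ⟨j - 1, by omega⟩
        obtain ⟨r, hr⟩ : ∃ r, p ^ m = r + 1 := ⟨p ^ m - 1, by have := pow_pos hp.out.pos m; omega⟩
        rw [hr]
        exact ⟨r.choose i, (Nat.add_one_mul_choose_eq r i).symm⟩
      rw [ht, mul_comm, pow_mul]
      refine pow_mem_powerClosure (pow_mem ?_ t)
      have he2 : e ∈ (⊤ : Subgroup K).lowerCentralSeries 1 :=
        (⊤ : Subgroup K).lowerCentralSeries_antitone (by omega) he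
      rw [Subgroup.top_lowerCentralSeries_one] at he2
      rw [← Subgroup.map_subtype_commutator K]
      exact mem_map_of_mem _ he2)
  refine ⟨_, h, ?_⟩
  simp [x, y, mul_assoc]

end CfsgLib.FGSA.Regular
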