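import Mathlib
import Cfsg.Agent.PLocal.Uniserial
import Cfsg.Agent.PLocal.MaximalClass
import Cfsg.Agent.FGSA.RegularPGroup
import Cfsg.Agent.FGSA.Huppert
import Cfsg.Agent.S4182

/-!
Elementary abelian sections of `p`-groups of maximal class of order at most `p ^ (2 * p - 3)`.
-/

set_option autoImplicit false
set_option linter.style.haveILetI false
set_option linter.unusedSectionVars false
set_option maxHeartbeats 1000000

namespace CfsgLib.FGSA.MaxClass

open Subgroup
open scoped commutatorElement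

universe u

/-- The terms of the lower central series of `G`. -/
abbrev lcs (G : Type*) [Group G] (i : ℕ) : Subgroup G := (⊤ : Subgroup G).lowerCentralSeries i

variable {G : Type u} [Group G]

theorem lcs_normal (i : ℕ) : (lcs G i).Normal := inferInstance

theorem commutator_lcs (j : ℕ) : ∀ i : ℕ, ⁅lcs G i, lcs G j⁆ ≤ lcs G (i + j + 1) := by
  induction j with
  | zero => intro i; exact le_rfl
  | succ j ih =>
    intro i
    haveI := CfsgLib.SeriesComm.lowerCentralSeries_normal (⊤ : Subgroup G) (i + (j + 1) + 1)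
    unfold lcs
    rw [Subgroup.commutator_comm, Subgroup.lowerCentralSeries_succ]
    refine CfsgLib.SeriesComm.rotate_le ?_ ?_
    · refine (Subgroup.commutator_mono (le_of_eq (Subgroup.commutator_comm _ _)) le_rfl).trans
        ((ih (i + 1)).trans ?_)
      unfold lcs
      rw [show i + 1 + j + 1 = i + (j + 1) + 1 by omega]
    · refine (Subgroup.commutator_mono (ih i) le_rfl).trans ?_
      unfold lcs
      rw [show i + (j + 1) + 1 = (i + j + 1) + 1 by omega]
      exact le_rfl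

theorem comm_mem_succ (i : ℕ) {g : G} (hg : g ∈ lcs G i) (x : G) : ⁅g, x⁆ ∈ lcs G (i + 1) :=
  commutator_mem_commutator hg (mem_top x)

variable [Finite G] {p : ℕ} [hp : Fact p.Prime] {n : ℕ}

theorem card_lcs (hG : IsPGroup p G) (hn : Nat.card G = p ^ n) (hmax : lcs G (n - 2) ≠ ⊥)
    {i : ℕ} (hi : 1 ≤ i) (hin : i ≤ n - 1) : Nat.card (lcs G i) = p ^ (n - 1 - i) := by
  have hanti : ∀ {a b : ℕ}, a ≤ b → lcs G b ≤ lcs G a := fun h =>
    (⊤ : Subgroup G).lowerCentralSeries_antitone h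
  have hup : ∀ j, lcs G (j + 1) ≠ ⊥ → Nat.card (lcs G (j + 1)) * p ^ (j + 2) ≤ p ^ n := by
    intro j hj
    rw [← hn, ← (lcs G (j + 1)).card_mul_index]
    exact Nat.mul_le_mul_left _ (CfsgLib.Uniserial.index_lcs_ge hG j hj)
  have hlow : ∀ d j, j + d = n - 2 → p ^ (d + 1) ≤ Nat.card (lcs G j) := by
    intro d
    induction d with
    | zero =>
      intro j hj
      obtain rfl : j = n - 2 := by omega
      obtain ⟨a, ha⟩ := IsPGroup.iff_card.1 (hG.to_subgroup (lcs G (n - 2)))
      rw [ha]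
      exact Nat.pow_le_pow_right hp.out.pos (Nat.one_le_iff_ne_zero.2 fun h0 => hmax
        (eq_bot_of_card_eq _ (by rw [ha, h0, pow_zero])))
    | succ d ihd =>
      intro j hj
      have h1 := ihd (j + 1) (by omega)
      have hne : lcs G j ≠ ⊥ := fun e => hmax (le_bot_iff.1 ((hanti (by omega : j ≤ n - 2)).trans e.le))
      have h2 : p * Nat.card ↥(⁅lcs G j, (⊤ : Subgroup G)⁆) ≤ Nat.card (lcs G j) :=
        CfsgLib.Uniserial.descend (hG.to_subgroup ⊤) le_top le_top
          ((⊤ : Subgroup G).self_le_normalizer_lowerCentralSeries j) hne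
      calc p ^ (d + 1 + 1) = p * p ^ (d + 1) := by ring
        _ ≤ p * Nat.card (lcs G (j + 1)) := Nat.mul_le_mul_left _ h1
        _ ≤ _ := h2
  obtain ⟨i, rfl⟩ : ∃ j, i = j + 1 := ⟨i - 1, by omega⟩
  by_cases hlast : i + 1 = n - 1
  · rw [← hlast, Nat.sub_self, pow_zero]
    refine (Subgroup.eq_bot_iff_card _).1 ?_
    by_contra hne
    have h1 := hup i hne
    have h2 : 1 < Nat.card (lcs G (i + 1)) := (Subgroup.one_lt_card_iff_ne_bot _).2 hne
    rw [show i + 2 = n by omega] at h1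
    have := pow_pos hp.out.pos n
    nlinarith
  have hne : lcs G (i + 1) ≠ ⊥ := fun e => hmax (le_bot_iff.1
    ((hanti (by omega : i + 1 ≤ n - 2)).trans e.le))
  refine le_antisymm ?_ ?_
  · have h1 := hup i hne
    rw [show p ^ n = p ^ (n - 1 - (i + 1)) * p ^ (i + 2) by
      rw [← pow_add, show n - 1 - (i + 1) + (i + 2) = n by omega]] at h1
    exact Nat.le_of_mul_le_mul_right h1 (pow_pos hp.out.pos _)
  · have := hlow (n - 3 - i) (i + 1) (by omega)
    rwa [show n - 3 - i + 1 = n - 1 - (i + 1) by omega] at this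

theorem lcs_last (hG : IsPGroup p G) (hn : Nat.card G = p ^ n) (h2 : 2 ≤ n)
    (hmax : lcs G (n - 2) ≠ ⊥) {j : ℕ} (hj : n - 1 ≤ j) : lcs G j = ⊥ := by
  refine le_bot_iff.1 (((⊤ : Subgroup G).lowerCentralSeries_antitone hj).trans (le_of_eq ?_))
  exact Subgroup.eq_bot_of_card_eq _ (by
    rw [card_lcs hG hn hmax (by omega) le_rfl, Nat.sub_self, pow_zero])

theorem not_le_succ (hG : IsPGroup p G) (hn : Nat.card G = p ^ n) (h2 : 2 ≤ n)
    (hmax : lcs G (n - 2) ≠ ⊥) {i : ℕ} (hi : i ≤ n - 2) : ¬ lcs G i ≤ lcs G (i + 1) := fun h => by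
  have h1 : Nat.card (lcs G i) ≤ Nat.card (lcs G (i + 1)) := Subgroup.card_le_of_le h
  rw [card_lcs hG hn hmax (i := i + 1) (by omega) (by omega)] at h1
  rcases Nat.eq_zero_or_pos i with rfl | hi0
  · rw [show lcs G 0 = ⊤ from rfl, Subgroup.card_top, hn] at h1
    have := (Nat.pow_le_pow_iff_right hp.out.one_lt).1 h1
    omega
  · rw [card_lcs hG hn hmax (i := i) hi0 (by omega)] at h1
    have := (Nat.pow_le_pow_iff_right hp.out.one_lt).1 h1
    omega

/-- Consecutive terms differ by a prime. -/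
theorem eq_of_succ_lt (hG : IsPGroup p G) (hn : Nat.card G = p ^ n) (h2 : 2 ≤ n)
    (hmax : lcs G (n - 2) ≠ ⊥) {i : ℕ} (hi : 1 ≤ i) (hin : i ≤ n - 2) {K : Subgroup G}
    (hK : lcs G (i + 1) ≤ K) {x : G} (hxK : x ∈ K) (hx : x ∈ lcs G i) (hx' : x ∉ lcs G (i + 1)) :
    lcs G i ≤ K := by
  have hlt : lcs G (i + 1) < K ⊓ lcs G i :=
    lt_of_le_of_ne (le_inf hK ((⊤ : Subgroup G).lowerCentralSeries_antitone (Nat.le_succ i)))
      fun e => hx' (e ▸ ⟨hxK, hx⟩)
  have h1 := CfsgLib.Uniserial.mul_card_le (hG.to_subgroup ⊤) le_top hlt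
  rw [card_lcs hG hn hmax (by omega) (by omega), ← pow_succ'] at h1
  have h3 : Nat.card (lcs G i) ≤ Nat.card ↥(K ⊓ lcs G i) := by
    rw [card_lcs hG hn hmax hi (by omega), show n - 1 - i = n - 1 - (i + 1) + 1 by omega]
    exact h1
  rw [← Subgroup.eq_of_le_of_card_ge inf_le_right h3]
  exact inf_le_left

theorem quotient_max (hG : IsPGroup p G) (hn : Nat.card G = p ^ n) (hmax : lcs G (n - 2) ≠ ⊥)
    {m : ℕ} (h2 : 2 ≤ m) (hm : m ≤ n) :
    IsPGroup p (G ⧸ lcs G (m - 1)) ∧ Nat.card (G ⧸ lcs G (m - 1)) = p ^ m ∧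
      lcs (G ⧸ lcs G (m - 1)) (m - 2) ≠ ⊥ := by
  refine ⟨hG.to_quotient _, ?_, fun h => ?_⟩
  · have h1 := Subgroup.card_eq_card_quotient_mul_card_subgroup (lcs G (m - 1))
    rw [hn, card_lcs hG hn hmax (by omega) (by omega),
      show p ^ n = p ^ m * p ^ (n - 1 - (m - 1)) by
        rw [← pow_add, show m + (n - 1 - (m - 1)) = n by omega]] at h1
    exact (Nat.eq_of_mul_eq_mul_right (pow_pos hp.out.pos _) h1).symm
  · refine not_le_succ hG hn (by omega) hmax (i := m - 2) (by omega) fun x hx => ?_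
    rw [show m - 2 + 1 = m - 1 by omega]
    refine (QuotientGroup.eq_one_iff x).1 (Subgroup.mem_bot.1 (h ▸ ?_))
    have := Subgroup.mem_map_of_mem (QuotientGroup.mk' (lcs G (m - 1))) hx
    unfold lcs at this ⊢
    rw [Subgroup.map_lowerCentralSeries,
      Subgroup.map_top_of_surjective _ (QuotientGroup.mk'_surjective _)] at this
    exact this

theorem mem_of_quotient {N : Subgroup G} [N.Normal] {i : ℕ} (hN : N ≤ lcs G i) {x : G}
    (h : (x : G ⧸ N) ∈ lcs (G ⧸ N) i) : x ∈ lcs G i := by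
  have e : (lcs G i).map (QuotientGroup.mk' N) = lcs (G ⧸ N) i := by
    unfold lcs
    rw [Subgroup.map_lowerCentralSeries,
      Subgroup.map_top_of_surjective _ (QuotientGroup.mk'_surjective _)]
  rw [← e] at h
  have h' : x ∈ ((lcs G i).map (QuotientGroup.mk' N)).comap (QuotientGroup.mk' N) := h
  rwa [Subgroup.comap_map_eq_self (by rwa [QuotientGroup.ker_mk'])] at h'

/-- The two-step centraliser of the `j`-th term. -/
def twoStep (G : Type*) [Group G] (j : ℕ) : Subgroup G :=
  (centralizer (((lcs G j).map (QuotientGroup.mk' (lcs G (j + 2))) : Subgroup _) : Set _)).comap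
    (QuotientGroup.mk' (lcs G (j + 2)))

theorem mem_twoStep {j : ℕ} {s : G} : s ∈ twoStep G j ↔ ∀ g ∈ lcs G j, ⁅g, s⁆ ∈ lcs G (j + 2) := by
  rw [twoStep, Subgroup.mem_comap, Subgroup.mem_centralizer_iff]
  constructor
  · intro h g hg
    rw [← QuotientGroup.eq_one_iff]
    have := h _ (Subgroup.mem_map_of_mem (QuotientGroup.mk' (lcs G (j + 2))) hg)
    exact commutatorElement_eq_one_iff_mul_comm.2 this
  · rintro h _ ⟨g, hg, rfl⟩
    exact commutatorElement_eq_one_iff_mul_comm.1 ((QuotientGroup.eq_one_iff _).2 (h g hg))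

theorem twoStep_ne_top (hG : IsPGroup p G) (hn : Nat.card G = p ^ n) (h2 : 2 ≤ n)
    (hmax : lcs G (n - 2) ≠ ⊥) {j : ℕ} (hj : j + 3 ≤ n) : twoStep G j ≠ ⊤ := fun h =>
  not_le_succ hG hn h2 hmax (i := j + 1) (by omega) (commutator_le.2 fun g hg x _ =>
    mem_twoStep.1 (h ▸ mem_top x) g hg)

theorem exists_avoid (hG : IsPGroup p G) (hn : Nat.card G = p ^ n) (h2 : 2 ≤ n)
    (hmax : lcs G (n - 2) ≠ ⊥) (a c : ℕ) (hc : c ≤ p) (hac : a + c + 2 ≤ n) :
    ∃ s : G, ∀ j, a ≤ j → j < a + c → s ∉ twoStep G j := by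
  by_contra hne
  push Not at hne
  have h := Cfsg.Agent.S4182.result (G := G) p (by
    refine top_le_iff.1 fun g _ => subset_closure ?_
    obtain ⟨e, he⟩ := hG g
    obtain ⟨k, -, hk⟩ := (Nat.dvd_prime_pow hp.out).1 (orderOf_dvd_of_pow_eq_one he)
    exact ⟨k, hk⟩) (fun i : Fin c => twoStep G (a + i))
    (fun i => twoStep_ne_top hG hn h2 hmax (by omega)) (fun g _ => by
      obtain ⟨j, h1, h3, h4⟩ := hne g
      exact ⟨⟨j - a, by omega⟩, by simpa [show a + (j - a) = j by omega] using h4⟩)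
  rw [Fintype.card_fin] at h
  omega

theorem fix (hG : IsPGroup p G) (hn : Nat.card G = p ^ n) (h2 : 2 ≤ n) (hmax : lcs G (n - 2) ≠ ⊥)
    {a : ℕ} (ha : 1 ≤ a) {s : G} (hs : ∀ j, a ≤ j → j + 3 ≤ n → s ∉ twoStep G j) {x : G}
    (hx : x ∈ lcs G a) (hxs : x * s = s * x) : x ∈ lcs G (n - 2) := by
  rcases Nat.lt_or_ge (n - 2) a with h | h
  · exact (⊤ : Subgroup G).lowerCentralSeries_antitone h.le hx
  have key : ∀ j, a ≤ j → j ≤ n - 2 → x ∈ lcs G j := by
    intro j hj
    induction j, hj using Nat.le_induction with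
    | base => exact fun _ => hx
    | succ j hj ih =>
      intro hjn
      have hxj := ih (by omega)
      by_contra hx'
      refine hs j hj (by omega) (mem_twoStep.2 fun g hg => ?_)
      have hK := eq_of_succ_lt hG hn h2 hmax (i := j) (by omega) (by omega)
        (K := (centralizer ({(s : G ⧸ lcs G (j + 2))} : Set (G ⧸ lcs G (j + 2)))).comap
          (QuotientGroup.mk' (lcs G (j + 2))))
        (fun y hy => mem_centralizer_singleton_iff.2 (commutatorElement_eq_one_iff_mul_comm.1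
          ((QuotientGroup.eq_one_iff _).2 (comm_mem_succ (j + 1) hy s))))
        (mem_centralizer_singleton_iff.2 (congrArg (QuotientGroup.mk' (lcs G (j + 2))) hxs))
        hxj hx' hg
      exact (QuotientGroup.eq_one_iff _).1
        (commutatorElement_eq_one_iff_mul_comm.2 (mem_centralizer_singleton_iff.1 hK))
  exact key _ h le_rfl

theorem surj (hG : IsPGroup p G) (hn : Nat.card G = p ^ n) (h2 : 2 ≤ n) (hmax : lcs G (n - 2) ≠ ⊥)
    {a : ℕ} (ha : 1 ≤ a) (han : a + 2 ≤ n) {s : G}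
    (hs : ∀ j, a ≤ j → j + 3 ≤ n → s ∉ twoStep G j) {y : G} (hy : y ∈ lcs G (a + 1)) :
    ∃ g ∈ lcs G a, ⁅g, s⁆ = y := by
  classical
  let f : ↥(lcs G a) → ↥(lcs G (a + 1)) := fun g => ⟨⁅(g : G), s⁆, comm_mem_succ a g.2 s⟩
  let r : Set.range f → ↥(lcs G a) := fun z => z.2.choose
  have hr : ∀ z, f (r z) = z := fun z => z.2.choose_spec
  let ψ : ↥(lcs G a) → Set.range f × ↥(lcs G (n - 2)) := fun g =>
    (⟨f g, g, rfl⟩, ⟨((r ⟨f g, g, rfl⟩ : ↥(lcs G a)) : G)⁻¹ * g, by
      refine fix hG hn h2 hmax ha hs (mul_mem (inv_mem (SetLike.coe_mem _)) g.2) ?_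
      have e := congrArg Subtype.val (hr ⟨f g, g, rfl⟩)
      simp only [f, commutatorElement_def, mul_left_inj] at e
      set r₀ : G := ((r ⟨f g, g, rfl⟩ : ↥(lcs G a)) : G)
      calc r₀⁻¹ * (g : G) * s = r₀⁻¹ * ((g : G) * s * (g : G)⁻¹) * g := by group
        _ = r₀⁻¹ * (r₀ * s * r₀⁻¹) * g := by rw [e]
        _ = s * (r₀⁻¹ * g) := by group⟩)
  have hψ : Function.Injective ψ := fun g g' h => by
    have h1 := congrArg Prod.fst h
    have h3 : ((r (ψ g).1 : ↥(lcs G a)) : G)⁻¹ * g = ((r (ψ g').1 : ↥(lcs G a)) : G)⁻¹ * g' :=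
      congrArg Subtype.val (congrArg Prod.snd h)
    rw [h1] at h3
    exact Subtype.ext (mul_left_cancel h3)
  have h3 := Nat.card_le_card_of_injective ψ hψ
  rw [Nat.card_prod, card_lcs hG hn hmax ha (by omega), card_lcs hG hn hmax (i := n - 2) (by omega)
    (by omega), show n - 1 - (n - 2) = 1 by omega, pow_one,
    show n - 1 - a = n - 1 - (a + 1) + 1 by omega, pow_succ] at h3
  have h4 : Nat.card ↥(lcs G (a + 1)) ≤ Nat.card (Set.range f) := by
    rw [card_lcs hG hn hmax (by omega) (by omega)]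
    exact Nat.le_of_mul_le_mul_right h3 hp.out.pos
  have h5 : Set.range f = Set.univ :=
    Set.eq_of_subset_of_ncard_le (Set.subset_univ _) (by
      rw [Set.ncard_univ, ← Nat.card_coe_set_eq]; exact h4)
  obtain ⟨g, hg⟩ := h5.ge (Set.mem_univ (⟨y, hy⟩ : ↥(lcs G (a + 1))))
  exact ⟨g, g.2, congrArg Subtype.val hg⟩

/-- In maximal class of order at most `p ^ p`, `p`-th powers lie in the last term. -/
theorem pow_mem_last : ∀ (m : ℕ) {G : Type u} [Group G] [Finite G], IsPGroup p G →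
    Nat.card G = p ^ m → 2 ≤ m → m ≤ p → lcs G (m - 2) ≠ ⊥ → ∀ x : G, x ^ p ∈ lcs G (m - 2) := by
  intro m
  induction m with
  | zero => intro G _ _ _ _ h; omega
  | succ m ih =>
    intro G _ _ hG hn h2 hmp hmax x
    rcases Nat.lt_or_ge m 3 with h3 | h3
    · rcases (show m = 1 ∨ m = 2 by omega) with rfl | rfl
      · exact mem_top _
      · have hcard := (quotient_max hG hn hmax (m := 2) le_rfl (by omega)).2.1
        have hnc := CfsgLib.Uniserial.not_isCyclic_abelianization hG hmax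
        rw [show 2 + 1 - 2 = 1 from rfl]
        refine (QuotientGroup.eq_one_iff _).1 ?_
        rw [QuotientGroup.mk_pow]
        obtain ⟨k, hk, hk'⟩ := (Nat.dvd_prime_pow hp.out).1
          (hcard ▸ orderOf_dvd_natCard (x : G ⧸ lcs G (2 - 1)))
        rcases Nat.lt_or_ge k 2 with hk2 | hk2
        · exact orderOf_dvd_iff_pow_eq_one.1 (hk' ▸
            (pow_dvd_pow p (by omega : k ≤ 1)).trans (dvd_of_eq (pow_one p)))
        · exact absurd (isCyclic_of_orderOf_eq_card (x : G ⧸ lcs G (2 - 1))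
            (by rw [hk', hcard, show k = 2 by omega])) hnc
    obtain ⟨hQp, hQn, hQmax⟩ := quotient_max hG hn hmax (m := m) (by omega) (by omega)
    have hstep : ∀ y : G, y ^ p ∈ lcs G (m - 2) := fun y =>
      mem_of_quotient (N := lcs G (m - 1)) (i := m - 2) ((⊤ : Subgroup G).lowerCentralSeries_antitone (by omega))
        (by rw [QuotientGroup.mk_pow]; exact ih hQp hQn (by omega) (by omega) hQmax _)
    have hout : ∀ y : G, y ∉ twoStep G (m - 2) → y ^ p ∈ lcs G (m + 1 - 2) := fun y hy =>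
      fix hG hn (by omega) hmax (a := m - 2) (by omega)
        (fun j hj hj' => by rwa [show j = m - 2 by omega]) (hstep y) ((Commute.refl y).pow_left p)
    obtain ⟨s, hs⟩ : ∃ s : G, s ∉ twoStep G (m - 2) := by
      by_contra h
      push Not at h
      exact twoStep_ne_top hG hn (by omega) hmax (by omega) (eq_top_iff.2 fun y _ => h y)
    -- the quotient by the last term is regular
    set N := lcs G (m + 1 - 2) with hN
    have hcl : (⊤ : Subgroup (G ⧸ N)).lowerCentralSeries (p - 1) = ⊥ := by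
      rw [← Subgroup.map_top_of_surjective _ (QuotientGroup.mk'_surjective N),
        ← Subgroup.map_lowerCentralSeries, Subgroup.map_eq_bot_iff, QuotientGroup.ker_mk', hN]
      exact (⊤ : Subgroup G).lowerCentralSeries_antitone (by omega)
    have hQ := hG.to_quotient N
    have law : Regular.PowLaw p 1 (G ⧸ N) := fun a b => (Regular.isRegular_of_class_lt hQ hcl).2 a b 1
    have hT : ∀ y : G, y ∉ twoStep G (m - 2) → (y : G ⧸ N) ∈ Regular.torsion hQ law := fun y hy => by
      show (y : G ⧸ N) ^ p ^ 1 = 1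
      rw [pow_one, ← QuotientGroup.mk_pow, QuotientGroup.eq_one_iff]
      exact hout y hy
    have hx : (x : G ⧸ N) ∈ Regular.torsion hQ law := by
      by_cases hxC : x ∈ twoStep G (m - 2)
      · have h1 := hT (x * s) fun h => hs (by simpa using mul_mem (inv_mem hxC) h)
        simpa [QuotientGroup.mk_mul] using mul_mem h1 (inv_mem (hT s hs))
      · exact hT x hxC
    have hx' : (x : G ⧸ N) ^ p ^ 1 = 1 := hx
    rw [pow_one, ← QuotientGroup.mk_pow, QuotientGroup.eq_one_iff] at hx'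
    exact hx'

theorem last_central (hG : IsPGroup p G) (hn : Nat.card G = p ^ n) (h2 : 2 ≤ n)
    (hmax : lcs G (n - 2) ≠ ⊥) {z : G} (hz : z ∈ lcs G (n - 2)) (x : G) : z * x = x * z :=
  commutatorElement_eq_one_iff_mul_comm.1 (Subgroup.mem_bot.1
    (lcs_last hG hn h2 hmax (j := n - 2 + 1) (by omega) ▸ comm_mem_succ (n - 2) hz x))

/-- The middle term of maximal class of order `p ^ (2k+1)` is elementary abelian. -/
theorem middle_elementary (hG : IsPGroup p G) {k : ℕ} (hk : 2 ≤ k) (hkp : k + 2 ≤ p)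
    (hn : Nat.card G = p ^ (2 * k + 1)) (hmax : lcs G (2 * k + 1 - 2) ≠ ⊥) :
    (∀ x ∈ lcs G (k - 1), ∀ y ∈ lcs G (k - 1), x * y = y * x) ∧ ∀ x ∈ lcs G (k - 1), x ^ p = 1 := by
  have h2 : 2 ≤ 2 * k + 1 := by omega
  have hbot : lcs G (k - 1 + k + 1) = ⊥ := lcs_last hG hn h2 hmax (by omega)
  have hA : ∀ z ∈ lcs G k, ∀ y ∈ lcs G (k - 1), y * z = z * y := fun z hz y hy =>
    commutatorElement_eq_one_iff_mul_comm.1 (Subgroup.mem_bot.1
      (hbot ▸ commutator_lcs k (k - 1) (commutator_mem_commutator hy hz)))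
  refine ⟨fun x hx y hy => ?_, fun x hx => ?_⟩
  · by_cases hx' : x ∈ lcs G k
    · exact (hA x hx' y hy).symm
    · exact (mem_centralizer_singleton_iff.1 (eq_of_succ_lt hG hn h2 hmax (i := k - 1) (by omega)
        (by omega) (K := centralizer ({x} : Set G))
        (fun z hz => mem_centralizer_singleton_iff.2 (hA z
          ((⊤ : Subgroup G).lowerCentralSeries_antitone (by omega) hz) x hx).symm)
        (mem_centralizer_singleton_iff.2 rfl) hx
        (by rwa [show k - 1 + 1 = k by omega]) hy)).symm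
  rcases Nat.lt_or_ge k 3 with h3 | h3
  · -- the whole group is regular
    obtain rfl : k = 2 := by omega
    have hp5 : 5 ≤ p := by
      rcases Nat.lt_or_ge p 5 with h | h
      · interval_cases p
        exact absurd hp.out (by norm_num)
      · exact h
    have hcl : (⊤ : Subgroup G).lowerCentralSeries (p - 1) = ⊥ := lcs_last hG hn h2 hmax (by omega)
    have law : Regular.PowLaw p 1 G := fun a b => (Regular.isRegular_of_class_lt hG hcl).2 a b 1
    have hle : lcs G 1 ≤ Regular.torsion hG law := commutator_le.2 fun a _ b _ => by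
      show ⁅a, b⁆ ^ p ^ 1 = 1
      have h := (Regular.commute_pow_iff hG law a⁻¹ b⁻¹).1 (last_central hG hn h2 hmax
        (by simpa using pow_mem_last _ hG hn h2 (by omega) hmax a⁻¹) b⁻¹)
      simpa [commutatorElement_def] using h
    simpa using (show x ^ p ^ 1 = 1 from hle hx)
  obtain ⟨s, hs⟩ := exists_avoid hG hn h2 hmax (k - 2) (k + 1) (by omega) (by omega)
  have hs' : ∀ a, k - 2 ≤ a → ∀ j, a ≤ j → j + 3 ≤ 2 * k + 1 → s ∉ twoStep G j :=
    fun a ha j hj hj' => hs j (by omega) (by omega)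
  have hspow : s ^ p ∈ lcs G (2 * k + 1 - 2) := by
    refine fix hG hn h2 hmax (a := k - 2) (by omega) (hs' _ le_rfl) ?_ ((Commute.refl s).pow_left p)
    obtain ⟨hQp, hQn, hQmax⟩ := quotient_max hG hn hmax (m := k) (by omega) (by omega)
    exact mem_of_quotient (N := lcs G (k - 1)) (i := k - 2) ((⊤ : Subgroup G).lowerCentralSeries_antitone (by omega))
      (by rw [QuotientGroup.mk_pow]; exact pow_mem_last _ hQp hQn (by omega) (by omega) hQmax _)
  have hcen := last_central hG hn h2 hmax hspow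
  set M := closure (insert s (lcs G (k - 1) : Set G)) with hM
  have hsM : s ∈ M := subset_closure (Set.mem_insert _ _)
  have hAM : lcs G (k - 1) ≤ M := fun y hy => subset_closure (Set.mem_insert_of_mem _ hy)
  have hM' : ⁅M, M⁆ ≤ lcs G k := by
    have hmk : ∀ y ∈ lcs G (k - 1), ∀ g : G, Commute (y : G ⧸ lcs G k) (g : G ⧸ lcs G k) :=
      fun y hy g => commutatorElement_eq_one_iff_mul_comm.1 ((QuotientGroup.eq_one_iff _).2
        (by have := comm_mem_succ (k - 1) hy g; rwa [show k - 1 + 1 = k by omega] at this))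
    have hcomm : IsMulCommutative (M.map (QuotientGroup.mk' (lcs G k))) := by
      rw [hM, MonoidHom.map_closure]
      refine Subgroup.isMulCommutative_closure ?_
      rintro _ ⟨u, hu, rfl⟩ _ ⟨v, hv, rfl⟩
      rcases hu with rfl | hu
      · rcases hv with rfl | hv
        · rfl
        · exact (hmk v hv _).symm
      · exact hmk u hu v
    refine commutator_le.2 fun u hu v hv => (QuotientGroup.eq_one_iff _).1 ?_
    exact commutatorElement_eq_one_iff_mul_comm.2 (congrArg Subtype.val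
      (hcomm.is_comm.comm ⟨_, mem_map_of_mem (QuotientGroup.mk' (lcs G k)) hu⟩
        ⟨_, mem_map_of_mem (QuotientGroup.mk' (lcs G k)) hv⟩))
  have hMl : ∀ i, M.lowerCentralSeries (i + 1) ≤ lcs G (k + i) := by
    intro i
    induction i with
    | zero => exact hM'
    | succ i ih => exact commutator_mono ih le_top
  have hcl : (⊤ : Subgroup M).lowerCentralSeries (p - 1) = ⊥ := by
    refine (Subgroup.map_eq_bot_iff_of_injective _ M.subtype_injective).1 ?_
    rw [Subgroup.top_subtype_lowerCentralSeries, show p - 1 = p - 2 + 1 by omega]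
    exact le_bot_iff.1 ((hMl (p - 2)).trans (lcs_last hG hn h2 hmax (by omega)).le)
  have hMp := hG.to_subgroup M
  have law : Regular.PowLaw p 1 M := fun a b => (Regular.isRegular_of_class_lt hMp hcl).2 a b 1
  have hLk : ∀ y ∈ lcs G k, y ^ p = 1 := by
    intro y hy
    obtain ⟨g, hg, rfl⟩ := surj hG hn h2 hmax (a := k - 1) (by omega) (by omega)
      (hs' _ (by omega)) (y := y) (by rwa [show k - 1 + 1 = k by omega])
    have h := (Regular.commute_pow_iff hMp law ⟨s, hsM⟩ (⟨g, hAM hg⟩ : M)⁻¹).1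
      (Subtype.ext (by simpa using hcen g⁻¹))
    have h' : (s⁻¹ * g * s * g⁻¹) ^ p = 1 := by simpa using congrArg Subtype.val h
    rw [show ⁅g, s⁆ = s * (s⁻¹ * g * s * g⁻¹) * s⁻¹ by rw [commutatorElement_def]; group,
      conj_pow, h', mul_one, mul_inv_cancel]
  obtain ⟨g, hg, rfl⟩ := surj hG hn h2 hmax (a := k - 2) (by omega) (by omega) (hs' _ le_rfl)
    (y := x) (by rwa [show k - 2 + 1 = k - 1 by omega])
  obtain ⟨c, hc, e⟩ := law ⟨⁅g, s⁆, hAM hx⟩ ⟨s, hsM⟩
  have hder : ∀ (K : Subgroup M) (z : M), z ∈ ⁅K, K⁆ → z ^ p ^ 1 = 1 := fun K z hz => by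
    have h1 : (z : G) ∈ (⁅K, K⁆).map M.subtype := Subgroup.mem_map_of_mem M.subtype hz
    rw [Subgroup.map_commutator] at h1
    have h3 : (z : G) ∈ lcs G k :=
      hM' (commutator_mono (Subgroup.map_subtype_le K) (Subgroup.map_subtype_le K) h1)
    apply Subtype.ext
    rw [pow_one, SubgroupClass.coe_pow, OneMemClass.coe_one]
    exact hLk _ h3
  have hc1 : (c : G) = 1 := by
    rw [Regular.powerClosure_eq_bot (hder _), mem_bot] at hc
    rw [hc]; rfl
  have e' := congrArg Subtype.val e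
  simp only [pow_one, Subgroup.coe_mul, SubgroupClass.coe_pow] at e'
  rw [hc1, mul_one, show ⁅g, s⁆ * s = g * s * g⁻¹ by rw [commutatorElement_def]; group,
    conj_pow, ← hcen g, mul_inv_cancel_right] at e'
  exact mul_right_cancel (b := s ^ p) (by rw [one_mul, ← e'])

/-- An elementary abelian section bounds the sectional rank from below. -/
theorem le_of_section {A B : Subgroup G} [B.Normal] (hBA : B ≤ A) {a b k : ℕ}
    (hA : Nat.card A = p ^ a) (hB : Nat.card B = p ^ b)
    (hcomm : ∀ x ∈ A, ∀ y ∈ A, ⁅x, y⁆ ∈ B) (hpow : ∀ x ∈ A, x ^ p ∈ B)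
    (h : Cfsg.SectionalPRankLE p k G) : a ≤ b + k := by
  have h1 := h A (B.subgroupOf A) ⊤ ?_ ?_
  · rw [Subgroup.card_top] at h1
    have h3 := Subgroup.card_eq_card_quotient_mul_card_subgroup (B.subgroupOf A)
    rw [Nat.card_congr (Subgroup.subgroupOfEquivOfLe hBA).toEquiv, hA, hB] at h3
    have h4 : p ^ a ≤ p ^ (k + b) := by
      rw [h3, pow_add]
      exact Nat.mul_le_mul_right _ h1
    have := (Nat.pow_le_pow_iff_right hp.out.one_lt).1 h4
    omega
  · refine ⟨⟨fun u v => Subtype.ext ?_⟩⟩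
    obtain ⟨x, hx⟩ := QuotientGroup.mk_surjective (u : ↥A ⧸ B.subgroupOf A)
    obtain ⟨y, hy⟩ := QuotientGroup.mk_surjective (v : ↥A ⧸ B.subgroupOf A)
    rw [Subgroup.coe_mul, Subgroup.coe_mul, ← hx, ← hy]
    refine commutatorElement_eq_one_iff_mul_comm.1 ((QuotientGroup.eq_one_iff ⁅x, y⁆).2 ?_)
    rw [Subgroup.mem_subgroupOf]
    simpa [commutatorElement_def] using hcomm x x.2 y y.2
  · intro u _
    obtain ⟨x, rfl⟩ := QuotientGroup.mk_surjective u
    exact (QuotientGroup.eq_one_iff (x ^ p)).2 (hpow x x.2)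

/-- Maximal class and sectional rank `k ≤ p - 2` forces order at most `p ^ (2k)`. -/
theorem le_two_mul (hG : IsPGroup p G) (hn : Nat.card G = p ^ n) (hmax : lcs G (n - 2) ≠ ⊥)
    {k : ℕ} (hk : 1 ≤ k) (hkp : k + 2 ≤ p) (h : Cfsg.SectionalPRankLE p k G) : n ≤ 2 * k := by
  by_contra hlt
  obtain ⟨hQp, hQn, hQmax⟩ := quotient_max hG hn hmax (m := 2 * k + 1) (by omega) (by omega)
  have hQ : ∀ x : G, (x : G ⧸ lcs G (2 * k + 1 - 1)) = 1 → x ∈ lcs G (2 * k) := fun x hx => by
    simpa using (QuotientGroup.eq_one_iff x).1 hx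
  rcases Nat.lt_or_ge k 2 with h1 | h1
  · obtain rfl : k = 1 := by omega
    have h3 := le_of_section (A := (⊤ : Subgroup G)) (B := lcs G 1) le_top (a := n) (b := n - 2)
      (by rw [Subgroup.card_top, hn])
      (by rw [card_lcs hG hn hmax le_rfl (by omega), show n - 1 - 1 = n - 2 by omega])
      (fun x _ y _ => comm_mem_succ 0 (mem_top x) y)
      (fun x _ => by
        obtain ⟨hp', hn', hmax'⟩ := quotient_max hG hn hmax (m := 3) (by omega) (by omega)
        exact mem_of_quotient (N := lcs G (3 - 1)) (i := 1)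
          ((⊤ : Subgroup G).lowerCentralSeries_antitone (by omega))
          (by rw [QuotientGroup.mk_pow]
              exact pow_mem_last 3 hp' hn' (by omega) (by omega) hmax' _)) h
    omega
  obtain ⟨hc, he⟩ := middle_elementary hQp h1 hkp hQn hQmax
  have hin : ∀ x ∈ lcs G (k - 1), (x : G ⧸ lcs G (2 * k + 1 - 1)) ∈
      lcs (G ⧸ lcs G (2 * k + 1 - 1)) (k - 1) := fun x hx => by
    have := Subgroup.mem_map_of_mem (QuotientGroup.mk' (lcs G (2 * k + 1 - 1))) hx
    unfold lcs at this ⊢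
    rw [Subgroup.map_lowerCentralSeries,
      Subgroup.map_top_of_surjective _ (QuotientGroup.mk'_surjective _)] at this
    exact this
  have h3 := le_of_section (A := lcs G (k - 1)) (B := lcs G (2 * k))
    ((⊤ : Subgroup G).lowerCentralSeries_antitone (by omega))
    (card_lcs hG hn hmax (by omega) (by omega)) (card_lcs hG hn hmax (by omega) (by omega))
    (fun x hx y hy => hQ _ (commutatorElement_eq_one_iff_mul_comm.2
      (hc _ (hin x hx) _ (hin y hy))))
    (fun x hx => hQ _ (by rw [QuotientGroup.mk_pow]; exact he _ (hin x hx))) h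
  omega

end CfsgLib.FGSA.MaxClass
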