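import Cfsg.Prelude.Def_Solvable
import Cfsg.Agent.FGSB.EqualPrimeDegree
import Cfsg.Agent.Perm.MinimalNormal
import Cfsg.Agent.Solvable.MaximalClass
import Cfsg.Agent.FGSA.MaximalClassSection

/-!
Sylow subgroups with abelianization of order `p ^ 2` in groups which are not almost simple, and
elements with centralizer of `p`-part `p ^ 2`.
-/

set_option autoImplicit false
set_option linter.unusedSectionVars false
set_option linter.style.haveILetI false

namespace CfsgLib.AbelQuotSq

open Subgroup CfsgLib.ExtPrim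
open scoped commutatorElement

universe u

section PGroup

variable {X : Type u} [Group X] [Finite X] {p : ℕ} [hp : Fact p.Prime]

theorem frattini_sup (hX : IsPGroup p X) {R : Subgroup X} (h : R ⊔ commutator X = ⊤) : R = ⊤ := by
  refine frattini_nongenerating (eq_top_iff.2 (h.symm.le.trans (sup_le le_sup_left ?_)))
  exact fun x hx => mem_sup_right ((CfsgLib.PGroupBasic.commutator_pow_le_frattini hX).1 hx)

theorem isMulCommutative_of_small (hX : IsPGroup p X) (h : (commutator X).index ≤ p) :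
    commutator X = ⊥ := by
  by_contra hne
  have h1 := CfsgLib.Uniserial.sq_le_index_commutator hX
    (by rw [Subgroup.lowerCentralSeries_succ, Subgroup.lowerCentralSeries_zero, ← _root_.commutator_def]; exact hne)
  rw [Subgroup.lowerCentralSeries_succ, Subgroup.lowerCentralSeries_zero, ← _root_.commutator_def] at h1
  have := hp.out.two_le
  have : p < p ^ 2 := by nlinarith
  omega

/-- A proper normal subgroup outside `X'` when `X'` has index `p ^ 2`. -/
theorem split (hX : IsPGroup p X) (hi : (commutator X).index = p ^ 2) (R : Subgroup X) [R.Normal]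
    (hR : ¬ R ≤ commutator X) (hT : R ≠ ⊤) :
    commutator X ≤ R ∧ R.index = p ∧ (commutator X).relIndex R = p := by
  set J := R ⊔ commutator X with hJ
  have hmul := relIndex_mul_index (le_sup_right : commutator X ≤ J)
  rw [hi] at hmul
  have hJi : J.index = p := by
    have hd : J.index ∣ p ^ 2 := ⟨(commutator X).relIndex J, by rw [← hmul, mul_comm]⟩
    obtain ⟨i, hi2, hj⟩ := (Nat.dvd_prime_pow hp.out).1 hd
    interval_cases i
    · exact absurd (frattini_sup hX (index_eq_one.1 (by simpa using hj))) hT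
    · simpa using hj
    · rw [hj] at hmul
      have h1 : (commutator X).relIndex J = 1 :=
        Nat.eq_of_mul_eq_mul_right (pow_pos hp.out.pos 2) (by rw [hmul, one_mul])
      exact absurd (le_sup_left.trans (relIndex_eq_one.1 h1)) hR
  have hmap : (commutator X).map (QuotientGroup.mk' R) = commutator (X ⧸ R) := by
    rw [_root_.commutator_def, _root_.commutator_def, map_commutator,
      map_top_of_surjective _ (QuotientGroup.mk'_surjective R)]
  have hidx : (commutator (X ⧸ R)).index = p := by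
    rw [← hmap, index_map, QuotientGroup.ker_mk', (QuotientGroup.mk' R).range_eq_top.2
      (QuotientGroup.mk'_surjective R), index_top, mul_one, sup_comm, ← hJ, hJi]
  have hbot := isMulCommutative_of_small (hX.to_quotient R) hidx.le
  have hle : commutator X ≤ R := by
    rw [← QuotientGroup.ker_mk' R, ← Subgroup.map_eq_bot_iff, hmap, hbot]
  have hJR : J = R := sup_eq_left.2 hle
  refine ⟨hle, hJR ▸ hJi, ?_⟩
  rw [← hJR]
  rw [hJi] at hmul
  exact Nat.eq_of_mul_eq_mul_right hp.out.pos (by rw [hmul, pow_two])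

theorem sup_zpowers_eq_top {R : Subgroup X} (hR : R.index = p) {y : X} (hy : y ∉ R) :
    R ⊔ zpowers y = ⊤ := by
  have h1 : (R ⊔ zpowers y).index ∣ R.index := index_dvd_of_le le_sup_left
  rw [hR] at h1
  rcases (Nat.dvd_prime hp.out).1 h1 with h | h
  · exact index_eq_one.1 h
  · exfalso
    have h2 := relIndex_mul_index (le_sup_left : R ≤ R ⊔ zpowers y)
    rw [h, hR] at h2
    have h3 : R.relIndex (R ⊔ zpowers y) = 1 :=
      Nat.eq_of_mul_eq_mul_right hp.out.pos (by rw [h2, one_mul])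
    exact hy (relIndex_eq_one.1 h3 (mem_sup_right (mem_zpowers y)))

theorem commutator_le_of {R K : Subgroup X} [R.Normal] [K.Normal] {y : X}
    (htop : R ⊔ zpowers y = ⊤) (hRR : ∀ a ∈ R, ∀ b ∈ R, ⁅a, b⁆ ∈ K) (hRy : ∀ a ∈ R, ⁅a, y⁆ ∈ K) :
    commutator X ≤ K := by
  rw [_root_.commutator_def, commutator_le]
  intro u _ v _
  have key : ∀ w : X, ∃ a ∈ R, ∃ i : ℤ, w = a * y ^ i := by
    intro w
    have hw : w ∈ R ⊔ zpowers y := htop ▸ mem_top w
    obtain ⟨a, ha, b, hb, rfl⟩ := mem_sup_of_normal_left.1 hw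
    obtain ⟨i, rfl⟩ := mem_zpowers_iff.1 hb
    exact ⟨a, ha, i, rfl⟩
  obtain ⟨a, ha, i, rfl⟩ := key u
  obtain ⟨b, hb, j, rfl⟩ := key v
  rw [← QuotientGroup.eq_one_iff, ← QuotientGroup.mk'_apply, map_commutatorElement,
    commutatorElement_eq_one_iff_commute]
  have hc : ∀ {g h : X}, ⁅g, h⁆ ∈ K →
      Commute (QuotientGroup.mk' K g) (QuotientGroup.mk' K h) := fun {g h} hh => by
    rw [← commutatorElement_eq_one_iff_commute, ← map_commutatorElement, QuotientGroup.mk'_apply,
      QuotientGroup.eq_one_iff]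
    exact hh
  simp only [map_mul, map_zpow]
  exact ((hc (hRR a ha b hb)).mul_right ((hc (hRy a ha)).zpow_right j)).mul_left
    ((((hc (hRy b hb)).symm).zpow_left i).mul_right (Commute.zpow_zpow_self _ i j))

theorem card_centralizer_le {R : Subgroup X} (hR : R.index = p) {y : X}
    (hb : Nat.card ↥(R ⊓ centralizer {y}) ≤ p) : Nat.card ↥(centralizer {y}) ≤ p ^ 2 := by
  have h1 : R.relIndex (centralizer {y}) ≤ p := by
    have := relIndex_le_of_le_right (le_top : centralizer {y} ≤ ⊤) (H := R)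
      (by rw [relIndex_top_right, hR]; exact hp.out.ne_zero)
    rwa [relIndex_top_right, hR] at this
  have h2 := relIndex_mul_relIndex ⊥ (R ⊓ centralizer {y}) (centralizer {y}) bot_le inf_le_right
  rw [relIndex_bot_left, relIndex_bot_left, inf_relIndex_right] at h2
  rw [← h2, pow_two]
  exact Nat.mul_le_mul hb h1

/-- An abelian normal subgroup outside `X'` and not the whole group. -/
theorem abelian_case (hX : IsPGroup p X) (hi : (commutator X).index = p ^ 2) (N : Subgroup X)
    [N.Normal] (hN : ¬ N ≤ commutator X) (hab : ∀ a ∈ N, ∀ b ∈ N, a * b = b * a) {y : X}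
    (hy : y ∉ N) : Nat.card ↥(centralizer {y}) ≤ p ^ 2 := by
  obtain ⟨hle, hidx, hrel⟩ := split hX hi N hN fun h => hy (h ▸ mem_top y)
  refine card_centralizer_le hidx ?_
  have hcm : ∀ r : N, ⁅(r : X), y⁆ ∈ N := fun r => by
    rw [commutatorElement_def]
    have : y * (r : X)⁻¹ * y⁻¹ ∈ N := Normal.conj_mem inferInstance _ (inv_mem r.2) y
    simpa [mul_assoc] using mul_mem r.2 this
  let φ : N →* N := MonoidHom.mk' (fun r => ⟨⁅(r : X), y⁆, hcm r⟩) fun r s => Subtype.ext (by
    simp only [Subgroup.coe_mul]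
    have h2 := hab _ r.2 _ (hcm s)
    calc ⁅(r : X) * s, y⁆ = ((r : X) * ⁅(s : X), y⁆) * (y * (r : X)⁻¹ * y⁻¹) := by
          simp only [commutatorElement_def]; group
      _ = ⁅(s : X), y⁆ * ⁅(r : X), y⁆ := by rw [h2]; simp only [commutatorElement_def]; group
      _ = _ := hab _ (hcm s) _ (hcm r))
  haveI hK : (φ.range.map N.subtype).Normal := ⟨fun n hn g => by
    obtain ⟨w, ⟨r, rfl⟩, rfl⟩ := hn
    have hg : g ∈ N ⊔ zpowers y := (sup_zpowers_eq_top hidx hy).symm ▸ mem_top g
    obtain ⟨a, ha, b, hb, rfl⟩ := mem_sup_of_normal_left.1 hg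
    obtain ⟨i, rfl⟩ := mem_zpowers_iff.1 hb
    refine ⟨φ ⟨y ^ i * (r : X) * (y ^ i)⁻¹, Normal.conj_mem inferInstance _ r.2 _⟩, ⟨_, rfl⟩, ?_⟩
    change ⁅y ^ i * (r : X) * (y ^ i)⁻¹, y⁆ = a * y ^ i * ⁅(r : X), y⁆ * (a * y ^ i)⁻¹
    have e : ⁅y ^ i * (r : X) * (y ^ i)⁻¹, y⁆ = y ^ i * ⁅(r : X), y⁆ * (y ^ i)⁻¹ := by
      simp only [commutatorElement_def]; group
    have h3 : a * (y ^ i * ⁅(r : X), y⁆ * (y ^ i)⁻¹) * a⁻¹ = y ^ i * ⁅(r : X), y⁆ * (y ^ i)⁻¹ := by
      rw [hab a ha _ (Normal.conj_mem inferInstance _ (hcm r) _)]; group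
    rw [e, ← h3]
    group⟩
  have hsub : commutator X ≤ φ.range.map N.subtype := by
    refine commutator_le_of (sup_zpowers_eq_top hidx hy) (fun a ha b hb => ?_)
      (fun a ha => ⟨φ ⟨a, ha⟩, ⟨_, rfl⟩, rfl⟩)
    rw [commutatorElement_eq_one_iff_mul_comm.2 (hab a ha b hb)]
    exact one_mem _
  have hker : Nat.card φ.ker = Nat.card ↥(N ⊓ centralizer {y}) := by
    refine Nat.card_congr
      { toFun := fun r => ⟨((r : N) : X), (r : N).2, mem_centralizer_singleton_iff.2
          (commutatorElement_eq_one_iff_mul_comm.1 (congrArg Subtype.val (φ.mem_ker.1 r.2)))⟩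
        invFun := fun r => ⟨⟨r, r.2.1⟩, φ.mem_ker.2 (Subtype.ext
          (commutatorElement_eq_one_iff_mul_comm.2 (mem_centralizer_singleton_iff.1 r.2.2)))⟩
        left_inv := fun r => rfl
        right_inv := fun r => rfl }
  have h2 := φ.ker.card_mul_index
  rw [index_ker] at h2
  have h3 : Nat.card (commutator X) ≤ Nat.card φ.range := by
    rw [← card_map_of_injective N.subtype_injective]
    exact card_le_of_le hsub
  have h4 := relIndex_mul_relIndex ⊥ (commutator X) N bot_le hle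
  rw [relIndex_bot_left, relIndex_bot_left, hrel] at h4
  rw [hker] at h2
  have h5 : Nat.card ↥(N ⊓ centralizer {y}) * Nat.card φ.range ≤ p * Nat.card φ.range := by
    rw [h2, ← h4, mul_comm]
    exact Nat.mul_le_mul_left _ h3
  exact Nat.le_of_mul_le_mul_right h5 Nat.card_pos

end PGroup

section Main

variable {G : Type u} [Group G] [Finite G] {p : ℕ} [hp : Fact p.Prime]

theorem relIndex_commutator (Q : Subgroup G) : ⁅Q, Q⁆.relIndex Q = (commutator Q).index := by
  rw [relIndex, ← map_subtype_commutator, subgroupOf,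
    comap_map_eq_self_of_injective Q.subtype_injective]

theorem index_commutator_congr {A B : Type u} [Group A] [Group B] (e : A ≃* B) :
    (commutator A).index = (commutator B).index := by
  have h : (commutator A).map (e : A →* B) = commutator B := by
    rw [_root_.commutator_def, _root_.commutator_def, map_commutator,
      map_top_of_surjective _ e.surjective]
  rw [← h, index_map_equiv]

theorem index_commutator_sylow (P Q : Sylow p G) :
    (commutator (Q : Subgroup G)).index = (commutator (P : Subgroup G)).index :=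
  index_commutator_congr (Q.equiv P)

/-- A normalised subgroup whose normal `p'`-subgroups are trivial and which is no `p`-group meets
a Sylow subgroup outside its derived subgroup. -/
theorem exists_not_mem (Q : Sylow p G) (K : Subgroup G)
    (hQK : (Q : Subgroup G) ≤ normalizer (K : Set G))
    (hp' : ∀ K₀ : Subgroup G, K₀ ≤ K → K ≤ normalizer (K₀ : Set G) → ¬ p ∣ Nat.card K₀ → K₀ = ⊥)
    (hnp : ¬ IsPGroup p K) :
    ∃ x : (Q : Subgroup G), (x : G) ∈ K ∧ x ∉ commutator (Q : Subgroup G) := by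
  by_contra hc
  simp only [not_exists, not_and, not_not] at hc
  set H := (Q : Subgroup G) ⊔ K with hH
  have hQH : (Q : Subgroup G) ≤ H := le_sup_left
  have hKH : K ≤ H := le_sup_right
  haveI : (K.subgroupOf H).Normal :=
    (normal_subgroupOf_iff_le_normalizer hKH).2 (sup_le hQK le_normalizer)
  obtain ⟨K₀, hn0, hle0, hp0, hpow⟩ :=
    CfsgLib.EqualPrimeDegree.exists_complement (Q.subtype hQH) (K.subgroupOf H) (fun x hx => by
      let e : ((Q.subtype hQH : Sylow p H) : Subgroup H) ≃* (Q : Subgroup G) :=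
        Subgroup.subgroupOfEquivOfLe hQH
      have h1 := hc (e x) (mem_subgroupOf.1 hx)
      have h2 : (commutator ((Q.subtype hQH : Sylow p H) : Subgroup H)).map e.toMonoidHom =
          commutator (Q : Subgroup G) := by
        rw [_root_.commutator_def, _root_.commutator_def, map_commutator,
          map_top_of_surjective _ e.surjective]
      rw [← h2] at h1
      obtain ⟨w, hw, hwe⟩ := h1
      exact e.injective hwe ▸ hw)
  have hbot : K₀.map H.subtype = ⊥ := by
    refine hp' _ ?_ ?_ (by rwa [card_map_of_injective H.subtype_injective])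
    · rintro _ ⟨w, hw, rfl⟩; exact hle0 hw
    · intro k hk
      rw [mem_normalizer_iff]
      intro h
      constructor
      · rintro ⟨w, hw, rfl⟩
        exact ⟨⟨k, hKH hk⟩ * w * ⟨k, hKH hk⟩⁻¹, hn0.conj_mem w hw _, rfl⟩
      · rintro ⟨w, hw, e⟩
        refine ⟨⟨k, hKH hk⟩⁻¹ * w * ⟨k, hKH hk⟩, by
          simpa using hn0.conj_mem w hw (⟨k, hKH hk⟩ : H)⁻¹, ?_⟩
        simp only [coe_subtype] at e ⊢
        simp only [Subgroup.coe_mul, Subgroup.coe_inv, e]
        group
  rw [map_eq_bot_iff_of_injective _ H.subtype_injective] at hbot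
  refine hnp fun g => ?_
  obtain ⟨k, hk⟩ := hpow ⟨g, hKH g.2⟩ g.2
  rw [hbot, mem_bot] at hk
  exact ⟨k, Subtype.ext (congrArg Subtype.val hk :)⟩

theorem le_of_normalized (Q : Sylow p G) {M Y : Subgroup G}
    (hQM : (Q : Subgroup G) ≤ normalizer (M : Set G)) (hY : IsPGroup p Y) (hYM : Y ≤ M)
    (hge : (Q : Subgroup G) ⊓ M ≤ Y) : Y ≤ Q := by
  set H := (Q : Subgroup G) ⊔ M with hH
  have hYH : Y ≤ H := hYM.trans le_sup_right
  have hp2 : IsPGroup p (Y.subgroupOf H) := hY.of_equiv (subgroupOfEquivOfLe hYH).symm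
  obtain ⟨S, hS⟩ := hp2.exists_le_sylow
  obtain ⟨c, hc⟩ := MulAction.exists_smul_eq H S (Q.subtype (le_sup_left : (Q : Subgroup G) ≤ H))
  have hmem : Y.map (MulAut.conj (c : G)).toMonoidHom ≤ (Q : Subgroup G) ⊓ M := by
    rintro _ ⟨x, hx, rfl⟩
    refine ⟨?_, (mem_normalizer_iff.1 (sup_le hQM le_normalizer c.2) x).1 (hYM hx)⟩
    have h1 : c * ⟨x, hYH hx⟩ * c⁻¹ ∈
        ((Q.subtype (le_sup_left : (Q : Subgroup G) ≤ H) : Sylow p H) : Subgroup H) := by
      rw [← hc, Sylow.coe_subgroup_smul]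
      exact Subgroup.smul_mem_pointwise_smul (⟨x, hYH hx⟩ : H) (MulAut.conj c) (S : Subgroup H)
        (hS (mem_subgroupOf.2 hx))
    exact h1
  have heq : (Q : Subgroup G) ⊓ M = Y := by
    refine eq_of_le_of_card_ge hge ?_
    rw [← card_map_of_injective (f := (MulAut.conj (c : G)).toMonoidHom) (MulAut.conj (c : G)).injective (K := Y)]
    exact card_le_of_le hmem
  exact heq.symm.le.trans inf_le_left

/-- A minimal normal subgroup, as a Prop. -/
def MinNormal (N : Subgroup G) : Prop :=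
  N ≠ ⊥ ∧ N.Normal ∧ ∀ K : Subgroup G, K.Normal → K ≤ N → K = ⊥ ∨ K = N

variable {N T : Subgroup G}

theorem inf_centralizer_eq_bot [N.Normal] (hN : MinNormal N) (hT : IsFactor N T) :
    N ⊓ centralizer (N : Set G) = ⊥ := by
  rcases hN.2.2 (N ⊓ centralizer (N : Set G)) inferInstance inf_le_left with h | h
  · exact h
  · exfalso
    refine hT.nonab ⟨⟨fun a b => Subtype.ext ?_⟩⟩
    exact (mem_centralizer_iff.1 (inf_eq_left.1 h (hT.le a.2)) b (hT.le b.2)).symm

/-- An element of `N` in the span of some factors commuting with those factors is trivial. -/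
theorem eq_one_of_commute [N.Normal] (hN : MinNormal N) (hT : IsFactor N T) {S : Set G}
    {z : G} (hzM : z ∈ ⨆ q ∈ S, cj q T) (hcomm : ∀ q ∈ S, ∀ t ∈ cj q T, t * z = z * t) :
    z = 1 := by
  have hzN : z ∈ N := (iSup₂_le fun q _ => (hT.cj q).le) hzM
  have h1 : N ≤ centralizer {z} := by
    conv_lhs => rw [← MinimalNormal.factors_iSup hT]
    refine iSup_le fun H t ht => ?_
    rw [mem_centralizer_singleton_iff]
    obtain ⟨g, hg⟩ := H.2
    by_cases hS : ∃ q ∈ S, cj q T = cj g T
    · obtain ⟨q, hq, e⟩ := hS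
      exact hcomm q hq t (by rw [e, hg]; exact ht)
    · have hle : (⨆ q ∈ S, cj q T) ≤ others (cj g T) := iSup₂_le fun q hq =>
        MinimalNormal.factors_le_others ⟨g, rfl⟩ ⟨q, rfl⟩ fun e => hS ⟨q, hq, e⟩
      exact ((hT.cj g).commute (hg ▸ ht) (hle hzM)).eq
  have h2 : z ∈ N ⊓ centralizer (N : Set G) :=
    ⟨hzN, mem_centralizer_iff.2 fun n hn => (mem_centralizer_singleton_iff.1 (h1 hn))⟩
  rwa [inf_centralizer_eq_bot hN hT, mem_bot] at h2

theorem eq_bot_or_eq (hT : IsFactor N T) {K : Subgroup G} (hK : K ≤ T)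
    (hn : T ≤ normalizer (K : Set G)) : K = ⊥ ∨ K = T := by
  haveI := hT.simple
  haveI : (K.subgroupOf T).Normal := (normal_subgroupOf_iff_le_normalizer hK).2 hn
  rcases IsSimpleGroup.eq_bot_or_eq_top_of_normal (K.subgroupOf T) inferInstance with h | h
  · left
    rw [subgroupOf_eq_bot, disjoint_iff, inf_eq_left.2 hK] at h
    exact h
  · exact Or.inr (le_antisymm hK (subgroupOf_eq_top.1 h))

theorem not_isPGroup_factor (hT : IsFactor N T) : ¬ IsPGroup p T := by
  intro h
  haveI := hT.simple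
  haveI : Group.IsNilpotent T := h.isNilpotent
  exact hT.nonab (IsSimpleGroup.comm_iff_isSolvable.2 inferInstance |> fun hc => ⟨⟨hc⟩⟩)

theorem dvd_card_factor [N.Normal] (hN : MinNormal N) (hT : IsFactor N T)
    (hpN : p ∣ Nat.card N) : p ∣ Nat.card T := by
  obtain ⟨⟨r, hrN⟩, hr⟩ := exists_prime_orderOf_dvd_card' p hpN
  by_contra hnd
  have hone : ∀ g : G, ∀ t ∈ cj g T, ∀ c ∈ others (cj g T), r = t * c → t = 1 := by
    intro g t ht c hc hrt
    have hcm := (hT.cj g).commute ht hc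
    have ho : orderOf r = p := by rw [← hr, orderOf_mk]
    have h1 : t ^ p = c⁻¹ ^ p := by
      have : r ^ p = 1 := by rw [← ho]; exact pow_orderOf_eq_one r
      rw [hrt, hcm.mul_pow] at this
      rw [inv_pow]; exact eq_inv_of_mul_eq_one_left this
    have h2 : t ^ p ∈ cj g T ⊓ others (cj g T) :=
      ⟨pow_mem ht p, h1 ▸ pow_mem (inv_mem hc) p⟩
    rw [(hT.cj g).inf_others, mem_bot] at h2
    rcases (Nat.dvd_prime hp.out).1 (orderOf_dvd_of_pow_eq_one h2) with h | h
    · exact orderOf_eq_one_iff.1 h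
    · exfalso
      apply hnd
      rw [← h, ← card_cj g T]
      calc orderOf t = orderOf (⟨t, ht⟩ : cj g T) := (orderOf_mk t ht).symm
        _ ∣ _ := orderOf_dvd_natCard _
  have hcen : r = 1 := by
    refine eq_one_of_commute hN hT (S := Set.univ) ?_ ?_
    · have : r ∈ N := hrN
      rw [← MinimalNormal.factors_iSup hT] at this
      refine (show _ ≤ ⨆ q ∈ (Set.univ : Set G), cj q T from iSup_le fun H => ?_) this
      obtain ⟨g, hg⟩ := H.2
      rw [← hg]
      exact le_iSup₂ (f := fun q (_ : q ∈ (Set.univ : Set G)) => cj q T) g trivial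
    · intro g _ u hu
      obtain ⟨t, ht, c, hc, hrt⟩ := (hT.cj g).exists_mul hrN
      have := hone g t ht c hc hrt
      rw [this, one_mul] at hrt
      rw [hrt]
      exact ((hT.cj g).commute hu hc).eq
  subst hcen
  rw [orderOf_mk, orderOf_one] at hr
  exact hp.out.ne_one hr.symm

/-- The projection of `N` onto a factor. -/
noncomputable def proj [N.Normal] (hT : IsFactor N T) : N →* T :=
  MonoidHom.mk' (fun x => ⟨(hT.exists_mul x.2).choose, (hT.exists_mul x.2).choose_spec.1⟩)
    fun x y => by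
      obtain ⟨ht, c, hc, hx⟩ := (hT.exists_mul x.2).choose_spec
      obtain ⟨hs, d, hd, hy⟩ := (hT.exists_mul y.2).choose_spec
      obtain ⟨hu, e, he, hxy⟩ := (hT.exists_mul (x * y).2).choose_spec
      set t := (hT.exists_mul x.2).choose
      set s := (hT.exists_mul y.2).choose
      set u := (hT.exists_mul (x * y).2).choose
      apply Subtype.ext
      change u = t * s
      rw [Subgroup.coe_mul, hx, hy, mul_assoc, ← mul_assoc c s d, ← (hT.commute hs hc).eq] at hxy
      have h1 : (t * s)⁻¹ * u = c * d * e⁻¹ := by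
        rw [show u = t * (s * c * d) * e⁻¹ by rw [hxy]; group]
        group
      have h2 : (t * s)⁻¹ * u ∈ T ⊓ others T :=
        mem_inf.2 ⟨mul_mem (inv_mem (mul_mem ht hs)) hu, h1 ▸ mul_mem (mul_mem hc hd) (inv_mem he)⟩
      rw [hT.inf_others, mem_bot] at h2
      exact (inv_mul_eq_one.1 h2).symm

theorem proj_eq [N.Normal] (hT : IsFactor N T) (x : N) :
    ∃ c ∈ others T, (x : G) = (proj hT x : G) * c :=
  (hT.exists_mul x.2).choose_spec.2

theorem proj_of_mem [N.Normal] (hT : IsFactor N T) (x : N) (h : (x : G) ∈ T) :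
    (proj hT x : G) = x := by
  obtain ⟨c, hc, hx⟩ := proj_eq hT x
  have h2 : c ∈ T ⊓ others T :=
    mem_inf.2 ⟨by rw [show c = (proj hT x : G)⁻¹ * x by rw [hx]; group]
                  exact mul_mem (inv_mem (proj hT x).2) h, hc⟩
  rw [hT.inf_others, mem_bot] at h2
  rw [h2, mul_one] at hx
  exact hx.symm

theorem proj_of_others [N.Normal] (hT : IsFactor N T) (x : N) (h : (x : G) ∈ others T) :
    proj hT x = 1 := by
  obtain ⟨c, hc, hx⟩ := proj_eq hT x
  have h2 : (proj hT x : G) ∈ T ⊓ others T :=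
    mem_inf.2 ⟨(proj hT x).2, by rw [show (proj hT x : G) = x * c⁻¹ by rw [hx]; group]
                                 exact mul_mem h (inv_mem hc)⟩
  rw [hT.inf_others, mem_bot] at h2
  exact Subtype.ext h2

/-- A factor moved by an element `y` of a Sylow subgroup. -/
theorem moved_case [N.Normal] (hN : MinNormal N) (hT : IsFactor N T) (hpN : p ∣ Nat.card N)
    (Q : Sylow p G) (hi : (commutator (Q : Subgroup G)).index = p ^ 2) (y : (Q : Subgroup G))
    (hy : cj (y : G) T ≠ T) :
    Nat.card ↥(centralizer ({y} : Set (Q : Subgroup G))) ≤ p ^ 2 := by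
  classical
  set M := ⨆ q ∈ ((Q : Subgroup G) : Set G), cj q T with hM
  have hMN : M ≤ N := iSup₂_le fun q _ => (hT.cj q).le
  have hQM : (Q : Subgroup G) ≤ normalizer (M : Set G) := by
    have key : ∀ q ∈ (Q : Subgroup G), M.map (MulAut.conj q).toMonoidHom ≤ M := by
      intro q hq
      rw [hM, Subgroup.map_iSup]
      refine iSup_le fun k => ?_
      rw [Subgroup.map_iSup]
      refine iSup_le fun hk => ?_
      change cj q (cj k T) ≤ _
      rw [cj_cj]
      exact le_iSup₂ (f := fun q (_ : q ∈ ((Q : Subgroup G) : Set G)) => cj q T) (q * k)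
        (mul_mem hq hk)
    intro q hq
    rw [mem_normalizer_iff]
    refine fun h => ⟨fun hh => key q hq ⟨h, hh, rfl⟩, fun hh => ?_⟩
    have := key q⁻¹ (inv_mem hq) ⟨_, hh, rfl⟩
    simpa [mul_assoc] using this
  have hTM : T ≤ M := by
    conv_lhs => rw [← cj_one T]
    exact le_iSup₂ (f := fun q (_ : q ∈ ((Q : Subgroup G) : Set G)) => cj q T) 1 (one_mem _)
  -- `Q ⊓ M` is outside the derived subgroup
  obtain ⟨x, hxM, hxc⟩ := exists_not_mem Q M hQM (fun K₀ hK₀ hnK₀ hpK₀ => by
    rw [eq_bot_iff_forall]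
    intro z hz
    refine eq_one_of_commute hN hT (hK₀ hz) fun q hq t ht => ?_
    have hqM : cj q T ≤ M :=
      le_iSup₂ (f := fun q (_ : q ∈ ((Q : Subgroup G) : Set G)) => cj q T) q hq
    have hI : cj q T ⊓ K₀ = ⊥ := by
      rcases eq_bot_or_eq (hT.cj q) (inf_le_left : cj q T ⊓ K₀ ≤ cj q T) (fun g hg => by
        rw [mem_normalizer_iff]
        intro h
        constructor
        · rintro ⟨h1, h2⟩
          exact ⟨(hT.cj q).conj_mem g ((hT.cj q).le hg) h h1,
            (mem_normalizer_iff.1 (hnK₀ (hqM hg)) h).1 h2⟩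
        · rintro ⟨h1, h2⟩
          exact ⟨by simpa [mul_assoc] using
              (hT.cj q).conj_mem g⁻¹ ((hT.cj q).le (inv_mem hg)) _ h1,
            (mem_normalizer_iff.1 (hnK₀ (hqM hg)) h).2 h2⟩) with h | h
      · exact h
      · exfalso
        apply hpK₀
        refine dvd_trans ?_ (card_dvd_of_le (inf_eq_left.1 h))
        rw [card_cj]
        exact dvd_card_factor hN hT hpN
    have hmem : t * z * t⁻¹ * z⁻¹ ∈ cj q T ⊓ K₀ :=
      mem_inf.2 ⟨by
        have : z * t⁻¹ * z⁻¹ ∈ cj q T := (hT.cj q).conj_mem z (hMN (hK₀ hz)) _ (inv_mem ht)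
        simpa [mul_assoc] using mul_mem ht this,
       mul_mem ((mem_normalizer_iff.1 (hnK₀ (hqM ht)) z).1 hz) (inv_mem hz)⟩
    rw [hI, mem_bot] at hmem
    exact mul_inv_eq_iff_eq_mul.1 (mul_inv_eq_one.1 hmem))
    (fun h => not_isPGroup_factor hT (h.to_le hTM))
  set R := M.subgroupOf (Q : Subgroup G) with hR
  haveI : R.Normal := ⟨fun n hn g => mem_subgroupOf.2
    ((mem_normalizer_iff.1 (hQM g.2) n).1 (mem_subgroupOf.1 hn))⟩
  have hyR : y ∉ R := fun h => hy (hT.cj_eq_of_mem (hMN (mem_subgroupOf.1 h)))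
  obtain ⟨hle, hidx, hrel⟩ :=
    split Q.2 hi R (fun h => hxc (h (mem_subgroupOf.2 hxM))) (fun h => hyR (h ▸ mem_top y))
  have htop := sup_zpowers_eq_top hidx hyR
  refine card_centralizer_le hidx ?_
  have hyp : y ^ p ∈ R := by
    rw [← QuotientGroup.eq_one_iff, QuotientGroup.mk_pow]
    have h1 : Nat.card ((Q : Subgroup G) ⧸ R) = p := hidx
    have h2 : ((y : (Q : Subgroup G) ⧸ R)) ^ Nat.card ((Q : Subgroup G) ⧸ R) = 1 := pow_card_eq_one'
    rwa [h1] at h2
  have hfixR : ∀ r ∈ R, cj ((r : (Q : Subgroup G)) : G) T = T :=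
    fun r hr => hT.cj_eq_of_mem (hMN (mem_subgroupOf.1 hr))
  have hmove : ∀ i : ℕ, 0 < i → i < p → cj ((y : G) ^ i) T ≠ T := by
    intro i h0 hip hfix
    let St : Subgroup G :=
      { carrier := {g | cj g T = T}
        mul_mem' := fun {a b} ha hb => by
          simp only [Set.mem_setOf_eq] at ha hb ⊢; rw [← cj_cj, hb, ha]
        one_mem' := cj_one T
        inv_mem' := fun {a} ha => by
          simp only [Set.mem_setOf_eq] at ha ⊢
          conv_lhs => rw [← ha]
          rw [cj_cj, inv_mul_cancel, cj_one] }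
    apply hy
    change (y : G) ∈ St
    have h1 : (y : G) ^ (i : ℤ) ∈ St := by rw [zpow_natCast]; exact hfix
    have h2 : (y : G) ^ (p : ℤ) ∈ St := by
      rw [zpow_natCast]; exact hfixR _ hyp
    have hco : Nat.gcd i p = 1 :=
      Nat.Coprime.symm (hp.out.coprime_iff_not_dvd.2 fun hd => by
        have := Nat.le_of_dvd h0 hd; omega)
    have h3 := Nat.gcd_eq_gcd_ab i p
    rw [hco] at h3
    have h4 : (y : G) = ((y : G) ^ (i : ℤ)) ^ Nat.gcdA i p * ((y : G) ^ (p : ℤ)) ^ Nat.gcdB i p := by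
      rw [← zpow_mul, ← zpow_mul, ← zpow_add, ← h3]; simp
    rw [h4]
    exact mul_mem (zpow_mem h1 _) (zpow_mem h2 _)
  have hyN : ∀ i : ℕ, ∀ r : R, (y : G) ^ i * ((r : (Q : Subgroup G)) : G) * ((y : G) ^ i)⁻¹ ∈ N :=
    fun i r => Normal.conj_mem inferInstance _ (hMN (mem_subgroupOf.1 r.2)) _
  let incl : R →* N := MonoidHom.mk' (fun r => ⟨_, hMN (mem_subgroupOf.1 r.2)⟩) fun _ _ => rfl
  have hincl : ∀ r : R, ((incl r : N) : G) = ((r : (Q : Subgroup G)) : G) := fun _ => rfl
  set A := ((proj hT).comp incl).range.map T.subtype with hA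
  have hAQ : A ≤ (Q : Subgroup G) := by
    have hn : (Q : Subgroup G) ⊓ M ≤ normalizer (A : Set G) := by
      have key : ∀ g ∈ (Q : Subgroup G) ⊓ M, ∀ a ∈ A, g * a * g⁻¹ ∈ A := by
        rintro g ⟨hgQ, hgM⟩ _ ⟨_, ⟨r, rfl⟩, rfl⟩
        let g' : R := ⟨⟨g, hgQ⟩, mem_subgroupOf.2 hgM⟩
        refine ⟨_, ⟨g' * r * g'⁻¹, rfl⟩, ?_⟩
        obtain ⟨c, hc, hgc⟩ := proj_eq hT (incl g')
        have hgc' : g = (proj hT (incl g') : G) * c := hgc
        simp only [MonoidHom.comp_apply, map_mul, map_inv, coe_subtype, Subgroup.coe_mul, Subgroup.coe_inv]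
        set a := (proj hT (incl g') : G)
        set b := (proj hT (incl r) : G)
        have hb : Commute b c := hT.commute (proj hT (incl r)).2 hc
        rw [hgc']
        calc a * b * a⁻¹ = a * (b * c * c⁻¹) * a⁻¹ := by group
          _ = _ := by rw [hb.eq]; group
      intro g hg
      rw [mem_normalizer_iff]
      refine fun h => ⟨key g hg h, fun hh => ?_⟩
      simpa [mul_assoc] using key g⁻¹ (inv_mem hg) _ hh
    have hQp : IsPGroup p ↥((Q : Subgroup G) ⊓ M) := Q.2.to_le inf_le_left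
    have hAp : IsPGroup p A := by
      have h1 : IsPGroup p R := Q.2.to_subgroup R
      exact (h1.of_surjective ((proj hT).comp incl).rangeRestrict
        (MonoidHom.rangeRestrict_surjective _)).map T.subtype
    refine le_sup_right.trans (le_of_normalized Q hQM (hQp.to_sup_of_normal_right' hAp hn)
      (sup_le inf_le_right ((map_subtype_le _).trans hTM)) le_sup_left)
  have hAR : ∀ a : A, ∃ r : R, ((r : (Q : Subgroup G)) : G) = a := fun a =>
    ⟨⟨⟨a, hAQ a.2⟩, mem_subgroupOf.2 (hTM (map_subtype_le _ a.2))⟩, rfl⟩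
  let f : ℕ → R →* Abelianization A := fun i =>
    Abelianization.of.comp (MonoidHom.mk'
      (fun r => (⟨(proj hT ⟨_, hyN i r⟩ : G), by
        have hc : (y ^ i * (r : (Q : Subgroup G)) * (y ^ i)⁻¹) ∈ R :=
          Normal.conj_mem inferInstance _ r.2 _
        exact ⟨_, ⟨⟨_, hc⟩, rfl⟩, by
          simp only [MonoidHom.comp_apply, coe_subtype]
          congr 2⟩⟩ : A))
      fun r s => Subtype.ext (by
        simp only [Subgroup.coe_mul]
        refine Eq.trans (congrArg (fun z : N => (proj hT z : G))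
          (show (_ : N) = ⟨_, hyN i r⟩ * ⟨_, hyN i s⟩ from Subtype.ext (by simp [mul_assoc]))) ?_
        rw [map_mul, Subgroup.coe_mul]))
  let μ : R →* Abelianization A :=
    MonoidHom.mk' (fun r => ∏ i ∈ Finset.range p, f i r) fun r s => by
      simp only [map_mul, Finset.prod_mul_distrib]
  have hμt : ∀ r : R, ∀ a : A, ((r : (Q : Subgroup G)) : G) = a → μ r = Abelianization.of a := by
    intro r a hra
    change ∏ i ∈ Finset.range p, f i r = _
    rw [Finset.prod_eq_single 0]
    · apply congrArg Abelianization.of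
      apply Subtype.ext
      simp only [MonoidHom.mk'_apply]
      rw [proj_of_mem hT _ (by simpa [hra] using map_subtype_le _ a.2)]
      simp [hra]
    · intro i hi hi0
      rw [Finset.mem_range] at hi
      have h1 : proj hT ⟨_, hyN i r⟩ = 1 := by
        refine proj_of_others hT _ (cj_le_others (hmove i (Nat.pos_of_ne_zero hi0) hi) ?_)
        change (y : G) ^ i * ((r : (Q : Subgroup G)) : G) * ((y : G) ^ i)⁻¹ ∈ _
        rw [hra]
        exact conj_mem_cj (map_subtype_le _ a.2)
      simp only [f, MonoidHom.comp_apply, MonoidHom.mk'_apply]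
      convert map_one (Abelianization.of (G := A)) using 2
      exact Subtype.ext (by simp [h1])
    · intro h; exact absurd (Finset.mem_range.2 hp.out.pos) h
  have hshift : ∀ r : R, μ ⟨y * r * y⁻¹, Normal.conj_mem inferInstance _ r.2 y⟩ = μ r := by
    intro r
    set r' : R := ⟨y * r * y⁻¹, Normal.conj_mem inferInstance _ r.2 y⟩ with hr'
    have hs : ∀ i, f i r' = f (i + 1) r := by
      intro i
      simp only [f, MonoidHom.comp_apply, MonoidHom.mk'_apply]
      refine congrArg Abelianization.of (Subtype.ext ?_)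
      simp only
      congr 2
      refine Subtype.ext ?_
      simp only [hr', Subgroup.coe_mul, Subgroup.coe_inv, pow_succ, mul_inv_rev]
      group
    have h0 : f p r = f 0 r := by
      simp only [f, MonoidHom.comp_apply, MonoidHom.mk'_apply]
      have hz : (y : G) ^ p ∈ N := hMN (mem_subgroupOf.1 hyp)
      set u : A := ⟨(proj hT ⟨_, hyN p r⟩ : G), _⟩
      set v : A := ⟨(proj hT ⟨_, hyN 0 r⟩ : G), _⟩
      have hw : (proj hT (⟨_, hz⟩ : N) : G) ∈ A := ⟨_, ⟨⟨y ^ p, hyp⟩, rfl⟩, rfl⟩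
      have e : u = ⟨_, hw⟩ * v * ⟨_, hw⟩⁻¹ := by
        apply Subtype.ext
        simp only [u, v, Subgroup.coe_mul, Subgroup.coe_inv]
        rw [← Subgroup.coe_inv, ← map_inv, ← Subgroup.coe_mul, ← Subgroup.coe_mul, ← map_mul,
          ← map_mul]
        congr 2
        exact Subtype.ext (by simp)
      refine (congrArg Abelianization.of e).trans ?_
      rw [map_mul, map_mul, map_inv, mul_comm (Abelianization.of _) (Abelianization.of v),
        mul_inv_cancel_right]
      rfl
    change ∏ i ∈ Finset.range p, f i r' = ∏ i ∈ Finset.range p, f i r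
    simp only [hs]
    have h1 := Finset.prod_range_succ' (fun i => f i r) p
    rw [Finset.prod_range_succ, h0] at h1
    exact (mul_right_cancel h1).symm
  set K := μ.ker.map R.subtype with hK
  have hKin : ∀ r : R, μ r = 1 → (r : (Q : Subgroup G)) ∈ K := fun r hr => ⟨r, hr, rfl⟩
  haveI : K.Normal := ⟨by
    rintro _ ⟨k, hk, rfl⟩ g
    obtain ⟨a, ha, b, hb, rfl⟩ :=
      mem_sup_of_normal_left.1 (htop.symm ▸ mem_top g : g ∈ R ⊔ zpowers y)
    have hbk : ∀ i : ℤ, ∀ r : R, μ ⟨y ^ i * r * (y ^ i)⁻¹,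
        Normal.conj_mem inferInstance _ r.2 _⟩ = μ r := by
      intro i
      induction i using Int.induction_on with
      | zero => intro r; congr 1; exact Subtype.ext (by simp)
      | succ i ih =>
        intro r
        rw [← ih r, ← hshift ⟨y ^ (i : ℤ) * r * (y ^ (i : ℤ))⁻¹,
          Normal.conj_mem inferInstance _ r.2 _⟩]
        congr 1
        exact Subtype.ext (by group)
      | pred i ih =>
        intro r
        rw [← hshift, ← ih r]
        congr 1
        exact Subtype.ext (by group)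
    obtain ⟨i, rfl⟩ := mem_zpowers_iff.1 hb
    have h1 := hbk i k
    set k' : R := ⟨y ^ i * k * (y ^ i)⁻¹, Normal.conj_mem inferInstance _ k.2 _⟩ with hk'
    refine ⟨⟨a, ha⟩ * k' * ⟨a, ha⟩⁻¹, ?_, ?_⟩
    · change μ _ = 1
      rw [map_mul, map_mul, h1, show μ k = 1 from hk, map_inv, mul_one, mul_inv_cancel]
    · simp [hk', mul_assoc]⟩
  have hsub : commutator (Q : Subgroup G) ≤ K := by
    refine commutator_le_of htop (fun a ha b hb => ?_) (fun a ha => ?_)
    · have hc : ⁅a, b⁆ = R.subtype ⁅(⟨a, ha⟩ : R), ⟨b, hb⟩⁆ := by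
        rw [map_commutatorElement]; rfl
      rw [hc]
      refine hKin ⁅(⟨a, ha⟩ : R), ⟨b, hb⟩⁆ ?_
      rw [map_commutatorElement, commutatorElement_eq_one_iff_mul_comm]
      exact mul_comm _ _
    · have hm : y * a⁻¹ * y⁻¹ ∈ R := Normal.conj_mem inferInstance _ (inv_mem ha) y
      have hc : ⁅a, y⁆ = R.subtype (⟨a, ha⟩ * ⟨_, hm⟩) := by
        simp [commutatorElement_def, mul_assoc]
      rw [hc]
      refine hKin (⟨a, ha⟩ * ⟨_, hm⟩) ?_
      rw [map_mul]
      have h1 := hshift (⟨a, ha⟩⁻¹ : R)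
      rw [show (⟨_, hm⟩ : R) = ⟨y * ((⟨a, ha⟩⁻¹ : R) : (Q : Subgroup G)) * y⁻¹,
        Normal.conj_mem inferInstance _ ((⟨a, ha⟩⁻¹ : R)).2 y⟩ from rfl, h1, map_inv, mul_inv_cancel]
  have hsurj : Function.Surjective μ := by
    intro w
    obtain ⟨a, rfl⟩ : ∃ a, Abelianization.of a = w := QuotientGroup.mk_surjective w
    obtain ⟨r, hr⟩ := hAR a
    exact ⟨r, hμt r a hr⟩
  have hAab : (commutator A).index ≤ p := by
    have h1 : Nat.card (Abelianization A) = (commutator A).index := rfl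
    rw [← h1]
    have h2 : μ.ker.index = Nat.card (Abelianization A) := by
      rw [index_ker, MonoidHom.range_eq_top.2 hsurj, card_top]
    rw [← h2]
    have h3 : μ.ker.index = K.relIndex R := by
      rw [hK, relIndex, subgroupOf, comap_map_eq_self_of_injective R.subtype_injective]
    rw [h3]
    exact (Nat.le_of_dvd (by rw [hrel]; exact hp.out.pos) (relIndex_dvd_of_le_left R hsub)).trans hrel.le
  have hAp : IsPGroup p A := Q.2.to_le hAQ
  have hAc := isMulCommutative_of_small hAp hAab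
  have hAcard : Nat.card A ≤ p := by rwa [hAc, index_bot] at hAab
  refine le_trans ?_ hAcard
  refine Nat.card_le_card_of_injective
    (fun r : ↥(R ⊓ centralizer ({y} : Set (Q : Subgroup G))) =>
      (⟨(proj hT (incl ⟨r, r.2.1⟩) : G), ⟨_, ⟨⟨r, r.2.1⟩, rfl⟩, rfl⟩⟩ : A)) ?_
  intro r s hrs
  have hrs' : proj hT (incl ⟨r, r.2.1⟩) = proj hT (incl ⟨s, s.2.1⟩) :=
    Subtype.ext (congrArg (fun z : A => (z : G)) hrs :)
  have hpr : proj hT (incl (⟨r, r.2.1⟩⁻¹ * ⟨s, s.2.1⟩)) = 1 := by
    rw [map_mul, map_mul, map_inv, map_inv, hrs', inv_mul_cancel]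
  set d : R := ⟨r, r.2.1⟩⁻¹ * ⟨s, s.2.1⟩ with hd
  have hdc : (d : (Q : Subgroup G)) ∈ centralizer ({y} : Set (Q : Subgroup G)) :=
    mul_mem (inv_mem r.2.2) s.2.2
  have hdy : ∀ i : ℤ, Commute ((y : G) ^ i) ((d : (Q : Subgroup G)) : G) := fun i =>
    Commute.zpow_left (congrArg Subtype.val (mem_centralizer_singleton_iff.1 hdc).symm :) i
  obtain ⟨c, hc, hdceq⟩ := proj_eq hT (incl d)
  rw [hpr, OneMemClass.coe_one, one_mul, hincl] at hdceq
  have hd1 : ((d : (Q : Subgroup G)) : G) = 1 := by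
    refine eq_one_of_commute hN hT (mem_subgroupOf.1 d.2) fun q hq t ht => ?_
    obtain ⟨a, ha, b, hb, hab⟩ :=
      mem_sup_of_normal_left.1 (htop.symm ▸ mem_top _ : (⟨q, hq⟩ : (Q : Subgroup G)) ∈ R ⊔ zpowers y)
    obtain ⟨i, rfl⟩ := mem_zpowers_iff.1 hb
    have hq' : q = (a : G) * (y : G) ^ i := by
      rw [show q = (((a * y ^ i : (Q : Subgroup G))) : G) by rw [hab]]; simp
    have hcj : cj q T = cj ((y : G) ^ i) T := by
      rw [hq', ← cj_cj]
      have h1 := hT.cj ((y : G) ^ i)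
      exact h1.cj_eq_of_mem (hMN (mem_subgroupOf.1 ha))
    rw [hcj, mem_cj] at ht
    have h2 := hT.commute ht hc
    rw [← hdceq] at h2
    have h3 : Commute ((y : G) ^ i * (((y : G) ^ i)⁻¹ * t * (y : G) ^ i) * ((y : G) ^ i)⁻¹)
        ((d : (Q : Subgroup G)) : G) :=
      ((hdy i).mul_left h2).mul_left (hdy i).inv_left
    have h4 := h3.eq
    simpa [mul_assoc] using h4
  have : (⟨r, r.2.1⟩ : R) = ⟨s, s.2.1⟩ := inv_mul_eq_one.1 (Subtype.ext (Subtype.ext hd1))
  exact Subtype.ext (congrArg (fun z : R => (z : (Q : Subgroup G))) this)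

theorem exists_minNormal_le (K : Subgroup G) [K.Normal] (hK : K ≠ ⊥) :
    ∃ N, MinNormal N ∧ N ≤ K := by
  classical
  haveI := Fintype.ofFinite (Subgroup G)
  obtain ⟨N, hN, hmin⟩ := Finset.exists_min_image
    (Finset.univ.filter fun L : Subgroup G => L.Normal ∧ L ≠ ⊥ ∧ L ≤ K) (fun L => Nat.card L)
    ⟨K, by simp [hK]; infer_instance⟩
  simp only [Finset.mem_filter, Finset.mem_univ, true_and] at hN hmin
  refine ⟨N, ⟨hN.2.1, hN.1, fun L hL hLN => ?_⟩, hN.2.2⟩
  by_cases h : L = ⊥
  · exact Or.inl h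
  · exact Or.inr (eq_of_le_of_card_ge hLN (hmin L ⟨hL, h, hLN.trans hN.2.2⟩))

theorem eq_bot_of_coprime (hcore : Cfsg.pPrimeCore p G = ⊥) (K : Subgroup G) (hK : K.Normal)
    (h : ¬ p ∣ Nat.card K) : K = ⊥ :=
  le_bot_iff.1 (hcore ▸ le_sSup ⟨hK, (hp.out.coprime_iff_not_dvd.2 h).symm⟩)

theorem factorization_centralizer {y : G} (hy : ∃ k, orderOf y = p ^ k) (P : Sylow p G)
    (hyP : y ∈ (P : Subgroup G)) (hlow : p ^ 2 ≤ Nat.card (P : Subgroup G))
    (hb : ∀ Q : Sylow p G, ∀ hy : y ∈ (Q : Subgroup G),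
      Nat.card ↥(centralizer ({⟨y, hy⟩} : Set (Q : Subgroup G))) ≤ p ^ 2) :
    (Nat.card (centralizer ({y} : Set G))).factorization p = 2 := by
  have hge : p ^ 2 ≤ Nat.card ↥(centralizer ({⟨y, hyP⟩} : Set (P : Subgroup G))) := by
    set C := centralizer ({⟨y, hyP⟩} : Set (P : Subgroup G))
    obtain ⟨k, hk⟩ := (P.2.to_subgroup C).exists_card_eq
    by_contra hlt
    have hk1 : k ≤ 1 := by
      by_contra hc
      exact hlt (hk ▸ Nat.pow_le_pow_right hp.out.pos (by omega))
    have hZC : center (P : Subgroup G) ≤ C := center_le_centralizer _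
    haveI : Nontrivial (P : Subgroup G) :=
      Finite.one_lt_card_iff_nontrivial.1 (lt_of_lt_of_le (Nat.one_lt_pow (by norm_num) hp.out.one_lt) hlow)
    haveI := P.2.center_nontrivial
    have hZ2 : 1 < Nat.card (center (P : Subgroup G)) := Finite.one_lt_card_iff_nontrivial.2 ‹_›
    have hZeq : center (P : Subgroup G) = C := by
      refine eq_of_le_of_card_ge hZC ?_
      obtain ⟨j, hj⟩ := (P.2.to_subgroup (center (P : Subgroup G))).exists_card_eq
      rw [hj, hk]
      refine Nat.pow_le_pow_right hp.out.pos ?_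
      rcases Nat.eq_zero_or_pos j with rfl | hj0
      · rw [hj] at hZ2; simp at hZ2
      · omega
    have hyC : (⟨y, hyP⟩ : (P : Subgroup G)) ∈ C := mem_centralizer_singleton_iff.2 rfl
    rw [← hZeq] at hyC
    apply hlt
    have hCtop : C = ⊤ := eq_top_iff.2 fun z _ =>
      mem_centralizer_singleton_iff.2 (mem_center_iff.1 hyC z)
    rw [hCtop, card_top]
    exact hlow
  set Cy := centralizer ({y} : Set G)
  obtain ⟨S⟩ : Nonempty (Sylow p Cy) := inferInstance
  rw [← Nat.pow_right_injective hp.out.two_le |>.eq_iff, ← S.card_eq_multiplicity]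
  apply le_antisymm
  · obtain ⟨k, hk⟩ := hy
    have hyS : (⟨y, mem_centralizer_singleton_iff.2 rfl⟩ : Cy) ∈ (S : Subgroup Cy) := by
      set y' : Cy := ⟨y, mem_centralizer_singleton_iff.2 rfl⟩
      haveI : (zpowers y').Normal := ⟨fun n hn g => by
        obtain ⟨i, rfl⟩ := mem_zpowers_iff.1 hn
        have hc : Commute g y' := Subtype.ext (mem_centralizer_singleton_iff.1 g.2)
        rw [(hc.zpow_right i).eq, mul_inv_cancel_right]
        exact zpow_mem (mem_zpowers y') i⟩
      have hp1 : IsPGroup p (zpowers y') := IsPGroup.of_card (n := k) (by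
        rw [Nat.card_zpowers, ← Subgroup.orderOf_coe]; exact hk)
      have hp2 := hp1.to_sup_of_normal_left S.2
      exact (S.3 hp2 le_sup_right).le (mem_sup_left (mem_zpowers y'))
    obtain ⟨Q, hQ⟩ := (S.2.map Cy.subtype).exists_le_sylow
    have hyQ : y ∈ (Q : Subgroup G) := hQ ⟨_, hyS, rfl⟩
    refine le_trans ?_ (hb Q hyQ)
    refine Nat.card_le_card_of_injective (fun s : (S : Subgroup Cy) =>
      (⟨⟨((s : Cy) : G), hQ ⟨_, s.2, rfl⟩⟩, mem_centralizer_singleton_iff.2
        (Subtype.ext (mem_centralizer_singleton_iff.1 (s : Cy).2))⟩ :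
        ↥(centralizer ({⟨y, hyQ⟩} : Set (Q : Subgroup G))))) ?_
    intro a b hab
    simp only [Subtype.mk.injEq] at hab
    exact Subtype.ext (Subtype.ext hab)
  · set C' := centralizer ({⟨y, hyP⟩} : Set (P : Subgroup G))
    have hle : C'.map (P : Subgroup G).subtype ≤ Cy := by
      rintro _ ⟨c, hc, rfl⟩
      exact mem_centralizer_singleton_iff.2
        (congrArg Subtype.val (mem_centralizer_singleton_iff.1 hc))
    refine hge.trans ?_
    have hp3 : IsPGroup p ((C'.map (P : Subgroup G).subtype).subgroupOf Cy) :=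
      ((P.2.to_subgroup C').map _).of_equiv (subgroupOfEquivOfLe hle).symm
    obtain ⟨S', hS'⟩ := hp3.exists_le_sylow
    rw [S.card_eq_multiplicity, ← S'.card_eq_multiplicity,
      ← card_map_of_injective (P : Subgroup G).subtype_injective (K := C'),
      ← Nat.card_congr (subgroupOfEquivOfLe hle).toEquiv]
    exact card_le_of_le hS'

/-- From `[P : P'] = p ^ 2` to an element. -/
theorem exists_element (P : Sylow p G) (hbig : p ^ 2 ∣ Nat.card G)
    (hcore : Cfsg.pPrimeCore p G = ⊥)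
    (hcore' : (⁅(P : Subgroup G), (P : Subgroup G)⁆).normalCore = ⊥)
    (hnas : ¬ ∃ S : Subgroup G, S.Normal ∧ IsSimpleGroup S ∧ ¬ IsMulCommutative S ∧
      centralizer (S : Set G) = ⊥)
    (hi : (commutator (P : Subgroup G)).index = p ^ 2) :
    ∃ x : G, (∃ k : ℕ, orderOf x = p ^ k) ∧
      (Nat.card (centralizer ({x} : Set G))).factorization p = 2 := by
  classical
  have hlow : p ^ 2 ≤ Nat.card (P : Subgroup G) :=
    Nat.le_of_dvd Nat.card_pos (hi ▸ index_dvd_card _)
  have hQi : ∀ Q : Sylow p G, (commutator (Q : Subgroup G)).index = p ^ 2 :=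
    fun Q => (index_commutator_sylow P Q).trans hi
  have horder : ∀ y ∈ (P : Subgroup G), ∃ k, orderOf y = p ^ k := fun y hy => by
    obtain ⟨k, hk⟩ := IsPGroup.iff_orderOf.1 P.2 ⟨y, hy⟩
    exact ⟨k, by rw [← hk, orderOf_mk]⟩
  by_cases hsmall : Nat.card (P : Subgroup G) = p ^ 2
  · refine ⟨1, ⟨0, by simp⟩, factorization_centralizer ⟨0, by simp⟩ P (one_mem _) hlow fun Q hy => ?_⟩
    refine (card_le_card_group _).trans (le_of_eq ?_)
    rw [Q.card_eq_multiplicity, ← P.card_eq_multiplicity, hsmall]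
  haveI : Nontrivial G := by
    refine Finite.one_lt_card_iff_nontrivial.1 (lt_of_lt_of_le ?_ (Nat.le_of_dvd Nat.card_pos hbig))
    exact Nat.one_lt_pow (by norm_num) hp.out.one_lt
  have hpN : ∀ N : Subgroup G, MinNormal N → p ∣ Nat.card N := fun N hN => by
    by_contra h
    exact hN.1 (eq_bot_of_coprime hcore N hN.2.1 h)
  by_cases habel : ∃ N : Subgroup G, MinNormal N ∧ ∀ a ∈ N, ∀ b ∈ N, a * b = b * a
  · obtain ⟨N, hN, hab⟩ := habel
    haveI := hN.2.1
    haveI : IsMulCommutative N := ⟨⟨fun a b => Subtype.ext (hab _ a.2 _ b.2)⟩⟩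
    have hNp : IsPGroup p N := by
      obtain ⟨S⟩ : Nonempty (Sylow p N) := inferInstance
      haveI : (S : Subgroup N).Normal := Subgroup.normal_of_isMulCommutative _
      have hc : (S : Subgroup N).Characteristic := S.characteristic_of_normal inferInstance
      have hn : ((S : Subgroup N).map N.subtype).Normal := inferInstance
      rcases hN.2.2 _ hn (map_subtype_le _) with h | h
      · exfalso
        rw [map_eq_bot_iff_of_injective _ N.subtype_injective] at h
        have := S.dvd_card_of_dvd_card (hpN N hN)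
        rw [h, card_bot] at this
        exact hp.out.not_dvd_one this
      · exact (S.2.map N.subtype).to_le h.symm.le
    have hNQ : ∀ Q : Sylow p G, N ≤ (Q : Subgroup G) := fun Q =>
      le_sup_right.trans (Q.3 (Q.2.to_sup_of_normal_right hNp) le_sup_left).le
    have hout : ∀ Q : Sylow p G, ¬ N.subgroupOf (Q : Subgroup G) ≤ commutator (Q : Subgroup G) := by
      intro Q hle
      obtain ⟨g, hg⟩ := MulAction.exists_smul_eq G Q P
      apply hN.1
      rw [← le_bot_iff, ← hcore']
      refine Subgroup.normal_le_normalCore.2 ?_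
      intro z hz
      have hz' : g⁻¹ * z * g ∈ N := by simpa using hN.2.1.conj_mem z hz g⁻¹
      have h1 : g⁻¹ * z * g ∈ ⁅(Q : Subgroup G), (Q : Subgroup G)⁆ := by
        rw [← map_subtype_commutator]
        exact ⟨⟨_, hNQ Q hz'⟩, hle (mem_subgroupOf.2 hz'), rfl⟩
      have h2 := mem_map_of_mem (MulAut.conj g).toMonoidHom h1
      rw [map_commutator] at h2
      have e : (Q : Subgroup G).map (MulAut.conj g).toMonoidHom = (P : Subgroup G) := by
        rw [← hg, Sylow.coe_subgroup_smul]; rfl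
      rw [e] at h2
      simpa [mul_assoc] using h2
    obtain ⟨y, hyP, hyN⟩ : ∃ y ∈ (P : Subgroup G), y ∉ N := by
      by_contra hc
      simp only [not_exists, not_and, not_not] at hc
      apply hsmall
      have hb : commutator (P : Subgroup G) = ⊥ := by
        rw [_root_.commutator_def, eq_bot_iff, commutator_le]
        exact fun a _ b _ => mem_bot.2 (commutatorElement_eq_one_iff_mul_comm.2
          (Subtype.ext (hab _ (hc _ a.2) _ (hc _ b.2))))
      rw [← hi, hb, index_bot]
    refine ⟨y, horder y hyP, factorization_centralizer (horder y hyP) P hyP hlow fun Q hyQ => ?_⟩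
    exact abelian_case Q.2 (hQi Q) (N.subgroupOf (Q : Subgroup G)) (hout Q)
      (fun a ha b hb => Subtype.ext (hab _ (mem_subgroupOf.1 ha) _ (mem_subgroupOf.1 hb)))
      (fun h => hyN (mem_subgroupOf.1 h))
  have hfac : ∀ N : Subgroup G, MinNormal N → ∃ T, IsFactor N T := fun N hN => by
    haveI := hN.2.1
    refine exists_isFactor N hN.1 hN.2.2 fun hc => habel ⟨N, hN, fun a ha b hb => ?_⟩
    exact congrArg Subtype.val (hc.is_comm.comm (⟨a, ha⟩ : N) ⟨b, hb⟩)
  by_cases hmv : ∃ (N T : Subgroup G), MinNormal N ∧ IsFactor N T ∧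
      ∃ y ∈ (P : Subgroup G), cj y T ≠ T
  · obtain ⟨N, T, hN, hT, y, hy, hne⟩ := hmv
    haveI := hN.2.1
    exact ⟨y, horder y hy, factorization_centralizer (horder y hy) P hy hlow
      fun Q hyQ => moved_case hN hT (hpN N hN) Q (hQi Q) ⟨y, hyQ⟩ hne⟩
  exfalso
  simp only [not_exists, not_and, not_not] at hmv
  -- two commuting factors normalised by `P`
  obtain ⟨N₁, hN₁, -⟩ := exists_minNormal_le (⊤ : Subgroup G) top_ne_bot
  obtain ⟨T₁, hT₁⟩ := hfac N₁ hN₁
  haveI := hN₁.2.1
  obtain ⟨N₂, T₂, hN₂, hT₂, hdis⟩ : ∃ N₂ T₂ : Subgroup G, MinNormal N₂ ∧ IsFactor N₂ T₂ ∧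
      T₁ ⊓ T₂ = ⊥ := by
    by_cases hg : ∃ g, cj g T₁ ≠ T₁
    · obtain ⟨g, hg⟩ := hg
      refine ⟨N₁, cj g T₁, hN₁, hT₁.cj g, ?_⟩
      rw [← le_bot_iff, ← hT₁.inf_others]
      exact inf_le_inf_left _ (cj_le_others hg)
    · simp only [not_exists, not_not] at hg
      haveI hTn : T₁.Normal := ⟨fun x hx g => by
        have := conj_mem_cj (g := g) hx
        rwa [hg g] at this⟩
      have hC : centralizer (T₁ : Set G) ≠ ⊥ := fun h =>
        hnas ⟨T₁, hTn, hT₁.simple, hT₁.nonab, h⟩
      obtain ⟨N₂, hN₂, hle⟩ := exists_minNormal_le (centralizer (T₁ : Set G)) hC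
      obtain ⟨T₂, hT₂⟩ := hfac N₂ hN₂
      refine ⟨N₂, T₂, hN₂, hT₂, le_bot_iff.1 ?_⟩
      have h1 : T₁ ⊓ centralizer (T₁ : Set G) = ⊥ := by
        rcases eq_bot_or_eq hT₁ (inf_le_left : T₁ ⊓ centralizer (T₁ : Set G) ≤ T₁)
          (le_normalizer_of_normal) with h | h
        · exact h
        · exact absurd ⟨⟨fun a b => Subtype.ext
            ((mem_centralizer_iff.1 (inf_eq_left.1 h a.2) b b.2).symm)⟩⟩ hT₁.nonab
      rw [← h1]
      exact inf_le_inf_left _ (hT₂.le.trans hle)
  haveI := hN₂.2.1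
  have hnorm : ∀ (N T : Subgroup G), MinNormal N → IsFactor N T →
      (P : Subgroup G) ≤ normalizer (T : Set G) := by
    intro N T hN hT q hq
    rw [mem_normalizer_iff]
    intro h
    have e := hmv N T hN hT q hq
    constructor
    · intro hh; rw [← e]; exact conj_mem_cj hh
    · intro hh; rw [← e, mem_cj] at hh; simpa [mul_assoc] using hh
  have hout : ∀ (N T : Subgroup G), MinNormal N → IsFactor N T →
      ¬ T.subgroupOf (P : Subgroup G) ≤ commutator (P : Subgroup G) := by
    intro N T hN hT hle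
    haveI := hN.2.1
    obtain ⟨x, hx, hxc⟩ := exists_not_mem P T (hnorm N T hN hT) (fun K₀ hle hn hp0 => by
      rcases eq_bot_or_eq hT hle hn with h | h
      · exact h
      · exact absurd (h ▸ dvd_card_factor hN hT (hpN N hN)) hp0) (not_isPGroup_factor hT)
    exact hxc (hle (mem_subgroupOf.2 hx))
  have hnormal : ∀ (N T : Subgroup G), MinNormal N → IsFactor N T →
      (T.subgroupOf (P : Subgroup G)).Normal := fun N T hN hT => ⟨fun n hn g =>
    mem_subgroupOf.2 ((mem_normalizer_iff.1 (hnorm N T hN hT g.2) n).1 (mem_subgroupOf.1 hn))⟩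
  set R₁ := T₁.subgroupOf (P : Subgroup G)
  set R₂ := T₂.subgroupOf (P : Subgroup G)
  haveI := hnormal N₁ T₁ hN₁ hT₁
  haveI := hnormal N₂ T₂ hN₂ hT₂
  have hinf : R₁ ⊓ R₂ = ⊥ := by
    rw [eq_bot_iff_forall]
    intro z hz
    have h1 : (z : G) ∈ T₁ ⊓ T₂ := ⟨mem_subgroupOf.1 hz.1, mem_subgroupOf.1 hz.2⟩
    rw [hdis, mem_bot] at h1
    exact Subtype.ext h1
  have hprop : ∀ R R' : Subgroup (P : Subgroup G), R ⊓ R' = ⊥ →
      ¬ R' ≤ commutator (P : Subgroup G) → R ≠ ⊤ := by
    intro R R' h hR' htop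
    rw [htop, top_inf_eq] at h
    exact hR' (h ▸ bot_le)
  obtain ⟨-, hi1, -⟩ := split P.2 hi R₁ (hout N₁ T₁ hN₁ hT₁)
    (hprop R₁ R₂ hinf (hout N₂ T₂ hN₂ hT₂))
  obtain ⟨-, hi2, -⟩ := split P.2 hi R₂ (hout N₂ T₂ hN₂ hT₂)
    (hprop R₂ R₁ (inf_comm R₁ R₂ ▸ hinf) (hout N₁ T₁ hN₁ hT₁))
  apply hsmall
  refine le_antisymm ?_ hlow
  rw [← R₂.card_mul_index, hi2, pow_two]
  refine Nat.mul_le_mul_right _ ?_
  have h1 : R₁.relIndex R₂ = Nat.card R₂ := by
    rw [← inf_relIndex_right, hinf, relIndex_bot_left]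
  rw [← h1]
  have h2 := relIndex_le_of_le_right (le_top : R₂ ≤ ⊤) (H := R₁)
    (by rw [relIndex_top_right, hi1]; exact hp.out.ne_zero)
  rwa [relIndex_top_right, hi1] at h2

/-- From an element to `[P : P'] = p ^ 2`. -/
theorem index_of_element (P : Sylow p G) {x : G} (hx : ∃ k, orderOf x = p ^ k)
    (hc : (Nat.card (centralizer ({x} : Set G))).factorization p = 2) :
    (commutator (P : Subgroup G)).index = p ^ 2 := by
  obtain ⟨k, hk⟩ := hx
  set Cx := centralizer ({x} : Set G)
  obtain ⟨S⟩ : Nonempty (Sylow p Cx) := inferInstance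
  set x' : Cx := ⟨x, mem_centralizer_singleton_iff.2 rfl⟩
  haveI : (zpowers x').Normal := ⟨fun n hn g => by
    obtain ⟨i, rfl⟩ := mem_zpowers_iff.1 hn
    have hcc : Commute g x' := Subtype.ext (mem_centralizer_singleton_iff.1 g.2)
    rw [(hcc.zpow_right i).eq, mul_inv_cancel_right]
    exact zpow_mem (mem_zpowers x') i⟩
  have hxS : x' ∈ (S : Subgroup Cx) := by
    have hp1 : IsPGroup p (zpowers x') := IsPGroup.of_card (n := k) (by
      rw [Nat.card_zpowers, ← Subgroup.orderOf_coe]; exact hk)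
    exact (S.3 (hp1.to_sup_of_normal_left S.2) le_sup_right).le (mem_sup_left (mem_zpowers x'))
  have hS2 : Nat.card (S : Subgroup Cx) = p ^ 2 := by rw [S.card_eq_multiplicity, hc]
  obtain ⟨Q, hQ⟩ := (S.2.map Cx.subtype).exists_le_sylow
  set A := ((S : Subgroup Cx).map Cx.subtype).subgroupOf (Q : Subgroup G) with hA
  have hA2 : Nat.card A = p ^ 2 := by
    rw [Nat.card_congr (subgroupOfEquivOfLe hQ).toEquiv, card_map_of_injective Cx.subtype_injective,
      hS2]
  rw [index_commutator_sylow Q P]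
  obtain ⟨n, hn⟩ := Q.2.exists_card_eq
  have hn2 : 2 ≤ n := by
    have h1 := A.card_subgroup_dvd_card
    rw [hA2, hn] at h1
    exact (Nat.pow_dvd_pow_iff_le_right hp.out.one_lt).1 h1
  rcases Nat.lt_or_ge n 3 with h3 | h3
  · obtain rfl : n = 2 := by omega
    have hbot : commutator (Q : Subgroup G) = ⊥ := by
      rw [_root_.commutator_def, eq_bot_iff, commutator_le]
      exact fun a _ b _ => mem_bot.2 (commutatorElement_eq_one_iff_mul_comm.2
        (IsPGroup.commutative_of_card_eq_prime_sq hn a b))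
    rw [hbot, index_bot, hn]
  have hself : centralizer (A : Set (Q : Subgroup G)) = A := by
    refine le_antisymm (fun z hz => ?_) fun z hz => mem_centralizer_iff.2 fun a ha => ?_
    · have hxA : (⟨x, hQ ⟨x', hxS, rfl⟩⟩ : (Q : Subgroup G)) ∈ A :=
        mem_subgroupOf.2 ⟨x', hxS, rfl⟩
      have hzx : (z : G) ∈ Cx := mem_centralizer_singleton_iff.2
        (congrArg Subtype.val (mem_centralizer_iff.1 hz _ hxA)).symm
      have hXp : IsPGroup p ((Q : Subgroup G).subgroupOf Cx) :=
        Q.2.comap_of_injective Cx.subtype Cx.subtype_injective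
      have hle : (S : Subgroup Cx) ≤ (Q : Subgroup G).subgroupOf Cx := fun s hs =>
        mem_subgroupOf.2 (hQ ⟨s, hs, rfl⟩)
      have := (S.3 hXp hle).le (x := ⟨z, hzx⟩) (mem_subgroupOf.2 z.2)
      exact mem_subgroupOf.2 ⟨_, this, rfl⟩
    · exact congrArg Subtype.val (IsPGroup.commutative_of_card_eq_prime_sq hA2 ⟨a, ha⟩ ⟨z, hz⟩)
  have hcl := CfsgLib.MaximalClass.class_of_self_centralizing n hn A hA2 hself
  haveI := Q.2.isNilpotent
  have hne : FGSA.MaxClass.lcs (Q : Subgroup G) (n - 2) ≠ ⊥ := fun h => by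
    have := (Subgroup.lowerCentralSeries_eq_bot_iff_nilpotencyClass_le).1 h
    omega
  have h1 := FGSA.MaxClass.card_lcs Q.2 hn hne le_rfl (by omega : 1 ≤ n - 1)
  rw [FGSA.MaxClass.lcs, Subgroup.lowerCentralSeries_succ, Subgroup.lowerCentralSeries_zero,
    ← _root_.commutator_def] at h1
  have h4 := (commutator (Q : Subgroup G)).card_mul_index
  rw [h1, hn] at h4
  refine Nat.eq_of_mul_eq_mul_left (pow_pos hp.out.pos (n - 1 - 1)) ?_
  rw [h4, ← pow_add]
  congr 1
  omega

end Main

end CfsgLib.AbelQuotSq
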