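import Mathlib

/-!
A p-element permuting the characters of an abelian p'-group acting on an elementary abelian p-group
has a regular orbit, hence a minimal polynomial of full degree.
-/

set_option autoImplicit false
set_option linter.style.haveILetI false

namespace CfsgLib.FGSA.RegularOrbit

/-- Dedekind's independence argument in the form used below. -/
theorem smul_eq_zero_of_relation {A W : Type*} [CommRing A] [AddCommGroup W] [Module A W]
    (P : Ideal A) [P.IsPrime] (τ : ℕ → (A →+* A)) (hτ : τ 0 = RingHom.id A) {e : A}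
    (he : ∀ d : A, d ∉ P → ∀ w : W, d • e • w = 0 → e • w = 0) (T : Finset ℕ) (h0 : 0 ∉ T)
    (hT : ∀ i ∈ T, ∃ b, τ i b - b ∉ P) :
    ∀ u : ℕ → W, (∀ a, ∑ i ∈ insert 0 T, τ i a • u i = 0) → e • u 0 = 0 := by
  induction T using Finset.induction_on with
  | empty =>
    intro u hu
    have := hu 1
    simp only [Finset.sum_insert (Finset.notMem_empty 0), Finset.sum_empty, add_zero, map_one,
      one_smul] at this
    rw [this, smul_zero]
  | insert j T hjT ih =>
    intro u hu
    simp only [Finset.mem_insert, not_or] at h0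
    obtain ⟨b, hb⟩ := hT j (Finset.mem_insert_self j T)
    have key : ∀ a, ∑ i ∈ insert 0 T, τ i a • ((τ i b - τ j b) • u i) = 0 := by
      intro a
      have h1 := hu (a * b)
      have h2 := congrArg (fun w => τ j b • w) (hu a)
      simp only [Finset.smul_sum, smul_zero] at h2
      have hj : j ∉ insert 0 T := by simp [Ne.symm h0.1, hjT]
      rw [Finset.insert_comm, Finset.sum_insert hj] at h1 h2
      have h3 : (∑ i ∈ insert 0 T, τ i (a * b) • u i) - (∑ i ∈ insert 0 T, τ j b • τ i a • u i) = 0 := by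
        rw [map_mul, mul_comm, mul_smul] at h1
        rw [eq_neg_of_add_eq_zero_right h1, eq_neg_of_add_eq_zero_right h2, sub_self]
      rw [← Finset.sum_sub_distrib] at h3
      refine Eq.trans (Finset.sum_congr rfl fun i _ => ?_) h3
      rw [smul_smul, smul_smul, ← sub_smul, map_mul, mul_sub, mul_comm (τ i a) (τ j b)]
    have h4 := ih h0.2 (fun i hi => hT i (Finset.mem_insert_of_mem hi)) _ key
    rw [hτ, RingHom.id_apply, smul_comm] at h4
    refine he (b - τ j b) (fun h => hb ?_) _ h4
    rw [← neg_sub]; exact P.neg_mem h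

open scoped IsMulCommutative

variable {X : Type*} [Group X]

/-- Conjugation as an endomorphism of the additive group of a normal commutative subgroup. -/
def endoHom (V : Subgroup X) [V.Normal] [IsMulCommutative V] : X →* AddMonoid.End (Additive V) where
  toFun g := MonoidHom.toAdditive (MulAut.conjNormal g : MulAut V).toMonoidHom
  map_one' := by
    apply AddMonoidHom.ext; intro v
    show Additive.ofMul ((MulAut.conjNormal (1 : X) : MulAut V) (Additive.toMul v)) = v
    rw [map_one]; rfl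
  map_mul' g h := by
    apply AddMonoidHom.ext; intro v
    show Additive.ofMul ((MulAut.conjNormal (g * h) : MulAut V) (Additive.toMul v)) = _
    rw [map_mul]; rfl

theorem endoHom_apply (V : Subgroup X) [V.Normal] [IsMulCommutative V] (g : X) (v : Additive V) :
    ((Additive.toMul (endoHom V g v) : V) : X) = g * (Additive.toMul v : V) * g⁻¹ := rfl

theorem endoHom_eq_one_iff (V : Subgroup X) [V.Normal] [IsMulCommutative V] (g : X) :
    endoHom V g = 1 ↔ g ∈ Subgroup.centralizer (V : Set X) := by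
  rw [Subgroup.mem_centralizer_iff]
  constructor
  · intro h v hv
    have h1 := congrArg (fun f : AddMonoid.End (Additive V) =>
      ((Additive.toMul (f (Additive.ofMul ⟨v, hv⟩)) : V) : X)) h
    change g * v * g⁻¹ = v at h1
    exact (mul_inv_eq_iff_eq_mul.1 h1).symm
  · intro h
    ext v
    show g * (Additive.toMul v : V) * g⁻¹ = _
    rw [← h _ (Additive.toMul v : V).2, mul_inv_cancel_right]
    rfl

/-- If `x ^ p ^ m` acts non-trivially on an abelian p'-group of operators of `V`, then some element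
`v * x` has `p ^ (m + 1)`-th power different from that of `x`. -/
theorem exists_pow_ne [Finite X] {p : ℕ} [Fact p.Prime] (V : Subgroup X) [V.Normal]
    [IsMulCommutative V] (hexp : ∀ v ∈ V, v ^ p = 1) (Q : Subgroup X) (x : X) (m : ℕ)
    (hxQ : x ∈ Subgroup.normalizer (Q : Set X))
    (hQab : ∀ a ∈ Q, ∀ b ∈ Q, a * b * (b * a)⁻¹ ∈ Subgroup.centralizer (V : Set X))
    (k : ℕ) (hk : k.Coprime p) (hQk : ∀ a ∈ Q, a ^ k ∈ Subgroup.centralizer (V : Set X))
    (hn : x ^ p ^ (m + 1) ∈ Subgroup.centralizer (V : Set X))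
    (hmove : ∃ a ∈ Q, x ^ p ^ m * a * (x ^ p ^ m)⁻¹ * a⁻¹ ∉ Subgroup.centralizer (V : Set X)) :
    ∃ v ∈ V, (v * x) ^ p ^ (m + 1) ≠ x ^ p ^ (m + 1) := by
  classical
  by_contra hcon
  push Not at hcon
  set ρ := endoHom V with hρ
  obtain ⟨a₀, ha₀, hmv⟩ := hmove
  haveI : Nontrivial V := by
    by_contra hV
    rw [not_nontrivial_iff_subsingleton] at hV
    refine hmv (Subgroup.mem_centralizer_iff.2 fun v hv => ?_)
    have hv1 : v = 1 := congrArg Subtype.val (Subsingleton.elim (⟨v, hv⟩ : V) 1)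
    simp [hv1]
  set S : Set (AddMonoid.End (Additive V)) := ρ '' (Q : Set X) with hS
  have hScomm : ∀ a ∈ S, ∀ b ∈ S, a * b = b * a := by
    rintro _ ⟨a, ha, rfl⟩ _ ⟨b, hb, rfl⟩
    have h := (endoHom_eq_one_iff V _).2 (hQab a ha b hb)
    calc ρ a * ρ b = ρ (a * b * (b * a)⁻¹) * (ρ b * ρ a) := by
          rw [← map_mul, ← map_mul, ← map_mul, inv_mul_cancel_right]
      _ = ρ b * ρ a := by rw [h, one_mul]
  set A := Subring.closure S with hA
  letI : CommRing A :=
    { (inferInstance : Ring A) with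
      mul_comm := fun a b => by
        have hc : Set.Pairwise S fun a b => a * b = b * a := fun a ha b hb _ => hScomm a ha b hb
        apply Subtype.ext
        refine Subring.closure_induction₂ (p := fun a b _ _ => a * b = b * a)
          (fun a b ha hb => hScomm a ha b hb) (fun a _ => by simp) (fun a _ => by simp)
          (fun a _ => by simp) (fun a _ => by simp)
          (fun a b _ _ h => by exact (Commute.neg_left h : _) )
          (fun a b _ _ h => by exact (Commute.neg_right h : _) )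
          (fun a b c _ _ _ h h' => by rw [add_mul, mul_add, h, h'])
          (fun a b c _ _ _ h h' => by rw [mul_add, add_mul, h, h'])
          (fun a b c _ _ _ h h' => by rw [mul_assoc, h', ← mul_assoc, h, mul_assoc])
          (fun a b c _ _ _ h h' => by rw [← mul_assoc, h, mul_assoc, h', mul_assoc]) a.2 b.2 }
  haveI : Finite (AddMonoid.End (Additive V)) :=
    Finite.of_injective (fun f => (f : Additive V → Additive V)) DFunLike.coe_injective
  letI : Fintype A := Fintype.ofFinite A
  haveI : Nontrivial A := by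
    obtain ⟨v, hv⟩ := exists_ne (0 : Additive V)
    exact ⟨⟨0, 1, fun h => hv (congrArg (fun r : A => (r : AddMonoid.End (Additive V)) v) h).symm⟩⟩
  haveI hchar : CharP A p := by
    refine (CharP.charP_iff_prime_eq_zero Fact.out).2 (Subtype.ext ?_)
    apply AddMonoidHom.ext; intro v
    show ((p : AddMonoid.End (Additive V)) v) = 0
    rw [AddMonoid.End.natCast_apply]
    exact congrArg Additive.ofMul (Subtype.ext (hexp _ (Additive.toMul v : V).2) :
      (Additive.toMul v : V) ^ p = 1)
  set N := p ^ k.totient with hN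
  have hN2 : 2 ≤ N := by
    have hk0 : k ≠ 0 := by
      rintro rfl
      exact (Fact.out : p.Prime).one_lt.ne' (Nat.coprime_zero_left p |>.1 hk)
    exact le_trans (Fact.out : p.Prime).two_le
      (Nat.le_self_pow (Nat.totient_pos.2 (Nat.pos_of_ne_zero hk0)).ne' p)
  have hfrob : ∀ r : A, r ^ N = r := by
    rintro ⟨r, hr⟩
    induction hr using Subring.closure_induction with
    | mem r hr =>
      obtain ⟨a, ha, rfl⟩ := hr
      apply Subtype.ext
      show (ρ a) ^ N = ρ a
      have hmod : N ≡ 1 [MOD k] := Nat.ModEq.pow_totient hk.symm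
      obtain ⟨c, hc⟩ := (Nat.modEq_iff_dvd' (by omega : 1 ≤ N)).1 hmod.symm
      rw [show N = 1 + k * c by omega, pow_add, pow_one, pow_mul, ← map_pow,
        (endoHom_eq_one_iff V _).2 (hQk a ha), one_pow, mul_one]
    | zero => exact zero_pow (by omega : N ≠ 0)
    | one => exact one_pow N
    | add a b ha hb h h' =>
      have := add_pow_char_pow (R := A) (p := p) (n := k.totient) ⟨a, ha⟩ ⟨b, hb⟩
      rw [← hN, h, h'] at this
      exact this
    | neg a ha h =>
      have := add_pow_char_pow (R := A) (p := p) (n := k.totient) ⟨a, ha⟩ ⟨-a, neg_mem ha⟩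
      rw [← hN, h, show (⟨a, ha⟩ : A) + ⟨-a, neg_mem ha⟩ = 0 from Subtype.ext (add_neg_cancel a),
        zero_pow (by omega : N ≠ 0)] at this
      exact (neg_eq_of_add_eq_zero_right this.symm).symm.trans
        (Subtype.ext rfl : -(⟨a, ha⟩ : A) = ⟨-a, neg_mem ha⟩)
    | mul a b ha hb h h' =>
      rw [show (⟨a * b, mul_mem ha hb⟩ : A) = ⟨a, ha⟩ * ⟨b, hb⟩ from rfl, mul_pow, h, h']
  -- conjugation by `x`
  have hσmem : ∀ g ∈ Subgroup.normalizer (Q : Set X), ∀ r ∈ A, ρ g * r * ρ g⁻¹ ∈ A := by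
    intro g hg r hr
    have hinv : ρ g⁻¹ * ρ g = 1 := by rw [← map_mul, inv_mul_cancel, map_one]
    have hinv' : ρ g * ρ g⁻¹ = 1 := by rw [← map_mul, mul_inv_cancel, map_one]
    induction hr using Subring.closure_induction with
    | mem r hr =>
      obtain ⟨a, ha, rfl⟩ := hr
      rw [← map_mul, ← map_mul]
      exact Subring.subset_closure ⟨_, (Subgroup.mem_normalizer_iff.1 hg a).1 ha, rfl⟩
    | zero => simp
    | one => rw [mul_one, hinv']; exact one_mem _
    | add a b _ _ h h' => rw [mul_add, add_mul]; exact add_mem h h'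
    | neg a _ h =>
      have hn : ρ g * (-a) * ρ g⁻¹ = -(ρ g * a * ρ g⁻¹) :=
        eq_neg_of_add_eq_zero_left (by rw [← add_mul, ← mul_add, neg_add_cancel, mul_zero, zero_mul])
      rw [hn]; exact neg_mem h
    | mul a b _ _ h h' =>
      have : ρ g * (a * b) * ρ g⁻¹ = (ρ g * a * ρ g⁻¹) * (ρ g * b * ρ g⁻¹) := by
        calc ρ g * (a * b) * ρ g⁻¹ = ρ g * a * 1 * b * ρ g⁻¹ := by rw [mul_one]; noncomm_ring
          _ = _ := by rw [← hinv]; noncomm_ring
      rw [this]; exact mul_mem h h'
  have hpowN : ∀ i : ℕ, x ^ i ∈ Subgroup.normalizer (Q : Set X) := fun i => pow_mem hxQ i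
  let τ : ℕ → (A →+* A) := fun i =>
    { toFun := fun r => ⟨ρ (x ^ i) * r * ρ (x ^ i)⁻¹, hσmem _ (hpowN i) _ r.2⟩
      map_one' := Subtype.ext (by
        show ρ (x ^ i) * 1 * ρ (x ^ i)⁻¹ = 1
        rw [mul_one, ← map_mul, mul_inv_cancel, map_one])
      map_zero' := Subtype.ext (by simp)
      map_add' := fun a b => Subtype.ext (by simp [mul_add, add_mul])
      map_mul' := fun a b => Subtype.ext (by
        show ρ (x ^ i) * ((a : AddMonoid.End (Additive V)) * b) * ρ (x ^ i)⁻¹ =
          (ρ (x ^ i) * a * ρ (x ^ i)⁻¹) * (ρ (x ^ i) * b * ρ (x ^ i)⁻¹)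
        have hinv : ρ (x ^ i)⁻¹ * ρ (x ^ i) = 1 := by rw [← map_mul, inv_mul_cancel, map_one]
        calc ρ (x ^ i) * ((a : AddMonoid.End (Additive V)) * b) * ρ (x ^ i)⁻¹
            = ρ (x ^ i) * a * 1 * b * ρ (x ^ i)⁻¹ := by rw [mul_one]; noncomm_ring
          _ = _ := by rw [← hinv]; noncomm_ring) }
  have hτadd : ∀ i j r, τ (i + j) r = τ i (τ j r) := fun i j r => Subtype.ext (by
    show ρ (x ^ (i + j)) * r * ρ (x ^ (i + j))⁻¹ =
      ρ (x ^ i) * (ρ (x ^ j) * r * ρ (x ^ j)⁻¹) * ρ (x ^ i)⁻¹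
    rw [pow_add, mul_inv_rev, map_mul, map_mul]
    noncomm_ring)
  have hτn : ∀ r, τ (p ^ (m + 1)) r = r := fun r => Subtype.ext (by
    show ρ (x ^ p ^ (m + 1)) * r * ρ (x ^ p ^ (m + 1))⁻¹ = r
    rw [(endoHom_eq_one_iff V _).2 hn, (endoHom_eq_one_iff V _).2 (inv_mem hn), one_mul, mul_one])
  have hτ0 : τ 0 = RingHom.id A := RingHom.ext fun r => Subtype.ext (by
    show ρ (x ^ 0) * r * ρ (x ^ 0)⁻¹ = r
    rw [pow_zero, inv_one, map_one, one_mul, mul_one])
  -- a prime ideal moved by `x ^ p ^ m`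
  set r₀ : A := ⟨ρ a₀, Subring.subset_closure ⟨a₀, ha₀, rfl⟩⟩ with hr₀
  have hd : τ (p ^ m) r₀ - r₀ ≠ 0 := by
    intro h
    have h1 : ρ (x ^ p ^ m) * ρ a₀ * ρ (x ^ p ^ m)⁻¹ = ρ a₀ := congrArg Subtype.val (sub_eq_zero.1 h)
    refine hmv ((endoHom_eq_one_iff V _).1 ?_)
    rw [map_mul, map_mul, map_mul, h1, ← map_mul, mul_inv_cancel, map_one]
  have hred : ∀ r : A, IsNilpotent r → r = 0 := by
    rintro r ⟨c, hc⟩
    have hiter : ∀ j : ℕ, r ^ N ^ j = r := by
      intro j
      induction j with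
      | zero => simp
      | succ j ih => rw [pow_succ, pow_mul, ih, hfrob]
    rw [← hiter c]
    exact pow_eq_zero_of_le (Nat.lt_pow_self (by omega : 1 < N)).le hc
  obtain ⟨P, hP, hdP⟩ : ∃ P : Ideal A, P.IsPrime ∧ τ (p ^ m) r₀ - r₀ ∉ P := by
    by_contra! h
    refine hd (hred _ ?_)
    exact nilpotent_iff_mem_prime.2 fun P hP => h P hP
  haveI := hP
  set e : A := ∏ b : {b : A // b ∈ P}, (1 - b.1 ^ (N - 1)) with he
  have heb : ∀ b ∈ P, e * b = 0 := by
    intro b hb
    have h0 : (1 - b ^ (N - 1)) * b = 0 := by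
      rw [sub_mul, one_mul, ← pow_succ, show N - 1 + 1 = N by omega, hfrob, sub_self]
    rw [he, ← Finset.prod_erase_mul _ _ (Finset.mem_univ (⟨b, hb⟩ : {b : A // b ∈ P})), mul_assoc, h0,
      mul_zero]
  have heP : e ∉ P := by
    intro h
    obtain ⟨b, -, hb⟩ := Ideal.IsPrime.prod_mem_iff.1 (he ▸ h)
    have := P.add_mem hb (P.pow_mem_of_mem b.2 (N - 1) (by omega))
    rw [sub_add_cancel] at this
    exact hP.ne_top ((Ideal.eq_top_iff_one P).2 this)
  have hcancel : ∀ d : A, d ∉ P → ∀ w : Additive V, d • e • w = 0 → e • w = 0 := by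
    intro d hd' w hw
    have h0 : d ^ (N - 1) - 1 ∈ P := by
      refine (hP.mem_or_mem (?_ : d * (d ^ (N - 1) - 1) ∈ P)).resolve_left hd'
      rw [mul_sub, mul_one, ← pow_succ', show N - 1 + 1 = N by omega, hfrob, sub_self]
      exact P.zero_mem
    have h1 : e * d ^ (N - 1) = e := by
      have := heb _ h0
      rwa [mul_sub, mul_one, sub_eq_zero] at this
    conv_lhs => rw [← h1, show N - 1 = (N - 2) + 1 by omega, pow_succ, mul_left_comm, mul_smul,
      mul_comm e, mul_smul, hw, smul_zero]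
  -- the relation
  have hsum : ∀ (w : Additive V) (j : ℕ),
      (((Additive.toMul (∑ i ∈ Finset.range j, ρ (x ^ i) w) : V) : X)) * x ^ j =
        (((Additive.toMul w : V) : X) * x) ^ j := by
    intro w j
    induction j with
    | zero => simp
    | succ j ih =>
      rw [Finset.sum_range_succ, pow_succ (((Additive.toMul w : V) : X) * x), ← ih, toMul_add,
        Subgroup.coe_mul, endoHom_apply, pow_succ]
      group
  have hrel : ∀ w : Additive V, ∑ i ∈ Finset.range (p ^ (m + 1)), ρ (x ^ i) w = 0 := fun w => by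
    have h := hsum w (p ^ (m + 1))
    rw [hcon _ (Additive.toMul w : V).2] at h
    have h' := mul_eq_right.1 h
    exact congrArg Additive.ofMul (Subtype.ext h' : (Additive.toMul (∑ i ∈ Finset.range (p ^ (m + 1)),
      ρ (x ^ i) w) : V) = 1)
  have hmovei : ∀ i ∈ (Finset.range (p ^ (m + 1))).erase 0, ∃ b, τ i b - b ∉ P := by
    intro i hi
    by_contra! hall
    simp only [Finset.mem_erase, Finset.mem_range] at hi
    have hmul : ∀ c : ℕ, ∀ b, τ (i * c) b - b ∈ P := by
      intro c
      induction c with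
      | zero => intro b; simp [hτ0]
      | succ c ih =>
        intro b
        rw [mul_add, mul_one, add_comm, hτadd, ← sub_add_sub_cancel (τ i (τ (i * c) b)) (τ (i * c) b) b]
        exact P.add_mem (hall _) (ih b)
    have hper : ∀ c d : ℕ, ∀ b, τ (d + p ^ (m + 1) * c) b = τ d b := by
      intro c d
      induction c with
      | zero => intro b; simp
      | succ c ih => intro b; rw [mul_add, mul_one, ← add_assoc, hτadd, hτn, ih]
    obtain ⟨s, hs, hg⟩ := (Nat.dvd_prime_pow Fact.out).1 (Nat.gcd_dvd_right i (p ^ (m + 1)))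
    have hsm : s ≤ m := by
      by_contra hlt
      have h1 : p ^ (m + 1) ∣ i := by
        have := Nat.gcd_dvd_left i (p ^ (m + 1))
        rwa [hg, show s = m + 1 by omega] at this
      exact absurd (Nat.le_of_dvd (Nat.pos_of_ne_zero hi.1) h1) (by omega)
    obtain ⟨c, hc⟩ : ∃ c, i * c ≡ p ^ m [MOD p ^ (m + 1)] := by
      obtain ⟨c, -, hc⟩ := Nat.exists_mul_mod_eq_gcd (k := p ^ (m + 1)) (n := i) (by
        rw [hg]; exact Nat.pow_lt_pow_right (Fact.out : p.Prime).one_lt (by omega))
      refine ⟨c * p ^ (m - s), ?_⟩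
      rw [← mul_assoc, show p ^ m = p ^ s * p ^ (m - s) by rw [← pow_add, Nat.add_sub_cancel' hsm]]
      refine Nat.ModEq.mul_right _ ?_
      rw [Nat.ModEq, hc, hg, Nat.mod_eq_of_lt (Nat.pow_lt_pow_right (Fact.out : p.Prime).one_lt (by omega))]
    have key : τ (p ^ m) r₀ = τ (i * c) r₀ := by
      have hlt : p ^ m < p ^ (m + 1) := Nat.pow_lt_pow_right (Fact.out : p.Prime).one_lt (by omega)
      have h1 := Nat.mod_add_div (i * c) (p ^ (m + 1))
      rw [hc, Nat.mod_eq_of_lt hlt] at h1
      rw [← h1, hper]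
    exact hdP (key ▸ hmul c r₀)
  have hins : insert 0 ((Finset.range (p ^ (m + 1))).erase 0) = Finset.range (p ^ (m + 1)) :=
    Finset.insert_erase (Finset.mem_range.2 (pow_pos (Fact.out : p.Prime).pos _))
  refine heP ?_
  have hzero : e = 0 := Subtype.ext (by
    apply AddMonoidHom.ext; intro w
    show e • w = 0
    have hu := smul_eq_zero_of_relation (W := Additive V) P τ hτ0 hcancel
      ((Finset.range (p ^ (m + 1))).erase 0) (Finset.notMem_erase 0 _) hmovei
      (fun i => ρ (x ^ i) w) (fun a => by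
        rw [hins, ← hrel ((a : AddMonoid.End (Additive V)) w)]
        refine Finset.sum_congr rfl fun i _ => ?_
        show (ρ (x ^ i) * (a : AddMonoid.End (Additive V)) * ρ (x ^ i)⁻¹) (ρ (x ^ i) w) =
          ρ (x ^ i) ((a : AddMonoid.End (Additive V)) w)
        have hinv : ρ (x ^ i)⁻¹ * ρ (x ^ i) = 1 := by rw [← map_mul, inv_mul_cancel, map_one]
        show (ρ (x ^ i) * (a : AddMonoid.End (Additive V)) * ρ (x ^ i)⁻¹ * ρ (x ^ i)) w = _
        rw [mul_assoc _ _ (ρ (x ^ i)), hinv, mul_one]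
        rfl)
    simp only [pow_zero, map_one] at hu
    exact hu)
  rw [hzero]
  exact P.zero_mem

end CfsgLib.FGSA.RegularOrbit
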