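import Cfsg.Agent.FGSA.PLengthSeries
import Cfsg.Agent.FGSA.RegularOrbit
import Cfsg.Agent.PLocal.PConstrained
import Cfsg.Agent.Solvable.CoprimeAct
import Cfsg.Agent.Solvable.PGroupBasic

/-!
Hall and Higman: p-length against the exponent when the other Sylow subgroups are abelian.
-/

set_option autoImplicit false
set_option linter.style.haveILetI false

namespace CfsgLib.FGSA.AbelianSylow

open Subgroup

universe u

variable {Y : Type u} [Group Y] [Finite Y] {p : ℕ} [hp : Fact p.Prime]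

/-- The mirror image of self-centrality of the p-core. -/
theorem centralizer_pPrimeCore_le (h0 : Cfsg.pCore p Y = ⊥) (hs : Cfsg.IsPSolvable p Y) :
    centralizer (Cfsg.pPrimeCore p Y : Set Y) ≤ Cfsg.pPrimeCore p Y := by
  set R := Cfsg.pPrimeCore p Y with hR
  haveI : R.Normal := CfsgLib.Solvable.pPrimeCore_normal p
  set C := centralizer (R : Set Y) with hC
  haveI : C.Normal := Subgroup.normal_centralizer
  by_contra hne
  set f := QuotientGroup.mk' R
  haveI hCn : (C.map f).Normal := Subgroup.Normal.map inferInstance f (QuotientGroup.mk'_surjective R)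
  have hCne : C.map f ≠ ⊥ := fun h => hne (by
    rwa [Subgroup.map_eq_bot_iff, QuotientGroup.ker_mk'] at h)
  haveI : Nontrivial (C.map f : Subgroup (Y ⧸ R)) := (Subgroup.nontrivial_iff_ne_bot _).2 hCne
  have hsC : Cfsg.IsPSolvable p (C.map f : Subgroup (Y ⧸ R)) :=
    CfsgLib.PConstrained.isPSolvable_map (f.subgroupMap C) (f.subgroupMap_surjective C)
      (CfsgLib.PConstrained.isPSolvable_comap C.subtype C.subtype_injective hs)
  -- a normal subgroup `D ≤ R ⊔ C` above `R` with p-group or p'-group quotient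
  rcases CfsgLib.PConstrained.exists_core_ne_bot hsC with hp' | hq
  · set M := (Cfsg.pCore p (C.map f : Subgroup (Y ⧸ R))).map (C.map f).subtype with hM
    haveI hMn : M.Normal := CfsgLib.PConstrained.normal_map_pCore hCn
    set D := M.comap f ⊓ C with hD
    haveI : D.Normal := inferInstanceAs (M.comap f ⊓ C).Normal
    haveI hDnil : Group.IsNilpotent D := by
      let g : D →* Y ⧸ R := f.comp D.subtype
      have hker : g.ker ≤ center D := by
        intro z hz
        rw [Subgroup.mem_center_iff]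
        intro d
        have hzR : (z : Y) ∈ R := (QuotientGroup.eq_one_iff _).1 hz
        exact Subtype.ext ((mem_centralizer_iff.1 d.2.2 _ hzR).symm)
      have hrange : IsPGroup p g.range := by
        refine ((CfsgLib.Solvable.isPGroup_pCore p).map (C.map f).subtype).to_le ?_
        rintro _ ⟨d, rfl⟩
        exact d.2.1
      haveI : Group.IsNilpotent g.range := hrange.isNilpotent
      exact Subgroup.isNilpotent_of_ker_le_center g.rangeRestrict
        (by rw [MonoidHom.ker_rangeRestrict]; exact hker)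
    obtain ⟨S⟩ := (inferInstance : Nonempty (Sylow p D))
    haveI hSn : (S : Subgroup D).Normal := inferInstance
    haveI hSc : (S : Subgroup D).Characteristic := S.characteristic_of_normal hSn
    have hS0 : (S : Subgroup D).map D.subtype = ⊥ := le_bot_iff.1 (h0 ▸
      CfsgLib.Solvable.le_pCore p ConjAct.normal_of_characteristic_of_normal (S.2.map _))
    have hpD : ¬ p ∣ Nat.card D := by
      intro hd
      refine S.not_dvd_index ?_
      rw [(Subgroup.map_eq_bot_iff_of_injective _ D.subtype_injective).1 hS0, Subgroup.index_bot]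
      exact hd
    have hDR : D ≤ R := CfsgLib.Solvable.le_pPrimeCore p inferInstance
      ((hp.out.coprime_iff_not_dvd.2 hpD).symm)
    refine hp' ((Subgroup.map_eq_bot_iff_of_injective _ (C.map f).subtype_injective).1 (le_bot_iff.1 ?_))
    intro z hz
    obtain ⟨c, hc, rfl⟩ : z ∈ C.map f := Subgroup.map_subtype_le _ hz
    exact (QuotientGroup.eq_one_iff c).2 (hDR ⟨hz, hc⟩)
  · set M := (Cfsg.pPrimeCore p (C.map f : Subgroup (Y ⧸ R))).map (C.map f).subtype with hM
    haveI hMn : M.Normal := CfsgLib.PConstrained.normal_map_pPrimeCore hCn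
    have hle : M.comap f ≤ R := by
      refine CfsgLib.Solvable.le_pPrimeCore p inferInstance ?_
      have h1 : R ≤ M.comap f := by
        conv_lhs => rw [← QuotientGroup.ker_mk' R]
        exact Subgroup.ker_le_comap _ _
      have h2 : R.relIndex (M.comap f) = Nat.card M := by
        have e := Subgroup.relIndex_ker (M.comap f) (f := f)
        rw [QuotientGroup.ker_mk'] at e
        rw [e, Subgroup.map_comap_eq_self_of_surjective (QuotientGroup.mk'_surjective R)]
      rw [← Subgroup.card_mul_index (R.subgroupOf (M.comap f)),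
        Nat.card_congr (Subgroup.subgroupOfEquivOfLe h1).toEquiv]
      exact (CfsgLib.Solvable.coprime_card_pPrimeCore p).mul_left (by
        show (R.relIndex (M.comap f)).Coprime p
        rw [h2]
        exact (CfsgLib.Solvable.coprime_card_pPrimeCore p).coprime_dvd_left (card_map_dvd _ _))
    refine hq ((Subgroup.map_eq_bot_iff_of_injective _ (C.map f).subtype_injective).1 (le_bot_iff.1 ?_))
    intro z hz
    obtain ⟨c, rfl⟩ := QuotientGroup.mk'_surjective R z
    exact (QuotientGroup.eq_one_iff c).2 (hle hz)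

omit hp in
/-- Commutativity of the `q`-subgroups passes to quotients. -/
theorem qSubgroups_commute_quotient {G : Type u} [Group G] [Finite G] (N : Subgroup G) [N.Normal]
    (h : ∀ q : ℕ, q.Prime → q ≠ p → ∀ K : Subgroup G, IsPGroup q K → ∀ a ∈ K, ∀ b ∈ K, a * b = b * a) :
    ∀ q : ℕ, q.Prime → q ≠ p → ∀ K : Subgroup (G ⧸ N), IsPGroup q K → ∀ a ∈ K, ∀ b ∈ K, a * b = b * a := by
  intro q hq hqp K hK a ha b hb
  haveI := Fact.mk hq
  obtain ⟨S, hS⟩ := hK.exists_le_sylow
  obtain ⟨S', rfl⟩ := Sylow.mapSurjective_surjective (QuotientGroup.mk'_surjective N) q S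
  obtain ⟨a', ha', rfl⟩ := hS ha
  obtain ⟨b', hb', rfl⟩ := hS hb
  rw [← map_mul, ← map_mul, h q hq hqp _ S'.2 a' ha' b' hb']

/-- The key step: `p ^ m`-th powers of p-elements fall into the p-core. -/
theorem pow_mem_pCore (h0 : Cfsg.pPrimeCore p Y = ⊥) (hs : Cfsg.IsPSolvable p Y)
    (hab : ∀ q : ℕ, q.Prime → q ≠ p → ∀ K : Subgroup Y, IsPGroup q K → ∀ a ∈ K, ∀ b ∈ K, a * b = b * a)
    (m : ℕ) (hexp : ∀ K : Subgroup Y, IsPGroup p K → ∀ y ∈ K, y ^ p ^ (m + 1) = 1) (x : Y)
    (hx : IsPGroup p (zpowers x)) : x ^ p ^ m ∈ Cfsg.pCore p Y := by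
  classical
  by_contra hx1
  set F := Cfsg.pCore p Y with hF
  haveI : F.Normal := CfsgLib.Solvable.pCore_normal p
  set Φ := (frattini F).map F.subtype with hΦ
  haveI hΦn : Φ.Normal := ConjAct.normal_of_characteristic_of_normal
  set π := QuotientGroup.mk' Φ with hπ
  set V := F.map π with hV
  haveI hVn : V.Normal := Subgroup.Normal.map inferInstance π (QuotientGroup.mk'_surjective Φ)
  have hFp : IsPGroup p F := CfsgLib.Solvable.isPGroup_pCore p
  obtain ⟨hcom, hpow⟩ := CfsgLib.PGroupBasic.commutator_pow_le_frattini hFp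
  haveI hVc : IsMulCommutative V := ⟨⟨by
    rintro ⟨_, a, ha, rfl⟩ ⟨_, b, hb, rfl⟩
    refine Subtype.ext ?_
    show π a * π b = π b * π a
    rw [← mul_inv_eq_one, ← map_mul, ← map_mul, ← map_inv, ← map_mul]
    refine (QuotientGroup.eq_one_iff _).2 ⟨(⟨a, ha⟩ : F) * ⟨b, hb⟩ * (⟨b, hb⟩ * ⟨a, ha⟩)⁻¹, hcom ?_, rfl⟩
    rw [_root_.commutator_def, mul_inv_rev, ← mul_assoc]
    exact commutator_mem_commutator (mem_top (⟨a, ha⟩ : F)) (mem_top (⟨b, hb⟩ : F))⟩⟩
  have hVexp : ∀ v ∈ V, v ^ p = 1 := by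
    rintro _ ⟨a, ha, rfl⟩
    rw [← map_pow]
    exact (QuotientGroup.eq_one_iff _).2 ⟨(⟨a, ha⟩ : F) ^ p, hpow _, rfl⟩
  -- the kernel of the action on `V`
  set C0 := (centralizer (V : Set (Y ⧸ Φ))).comap π with hC0
  haveI : C0.Normal := Subgroup.Normal.comap Subgroup.normal_centralizer π
  have hC0F : C0 ≤ F := by
    refine CfsgLib.Solvable.le_pCore p inferInstance ?_
    intro c
    obtain ⟨k, r₀, hk1, hk2⟩ :=
      Nat.exists_eq_pow_mul_and_not_dvd (orderOf_pos (c : Y)).ne' p hp.out.ne_one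
    refine ⟨k, Subtype.ext ?_⟩
    show (c : Y) ^ p ^ k = 1
    set d := (c : Y) ^ p ^ k with hd
    obtain ⟨r, hr, hr'⟩ : ∃ r, ¬ p ∣ r ∧ orderOf (c : Y) = p ^ k * r := ⟨_, hk1, hk2⟩
    have hdo : orderOf d = r := by
      rw [hd, orderOf_pow_of_dvd (pow_ne_zero _ hp.out.pos.ne') ⟨r, hr'⟩, hr',
        Nat.mul_div_cancel_left _ (pow_pos hp.out.pos _)]
    have hdC : zpowers d ≤ C0 := by rw [zpowers_le]; exact pow_mem c.2 _
    have hdn : zpowers d ≤ normalizer (F : Set Y) := by rw [Subgroup.normalizer_eq_top]; exact le_top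
    have hcopF : (Nat.card (zpowers d)).Coprime (Nat.card (frattini F)) := by
      rw [Nat.card_zpowers, hdo]
      obtain ⟨j, hj⟩ := IsPGroup.iff_card.1 (hFp.to_subgroup (frattini F))
      rw [hj]
      exact ((hp.out.coprime_iff_not_dvd.2 hr).symm).pow_right j
    have hcen := CfsgLib.CoprimeAct.trivial_on_frattini_quotient hdn hcopF (fun a ha f hf => by
      show a * f * a⁻¹ * f⁻¹ ∈ Φ
      rw [← QuotientGroup.eq_one_iff]
      show π (a * f * a⁻¹ * f⁻¹) = 1
      rw [map_mul, map_mul, map_mul, map_inv, map_inv,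
        ← mem_centralizer_iff.1 (hdC ha) (π f) ⟨f, hf, rfl⟩, mul_inv_cancel_right, mul_inv_cancel])
    have hdF : d ∈ F :=
      CfsgLib.PConstrained.selfCent_of_pSolvable h0
        (CfsgLib.PConstrained.isPSolvable_comap (Subgroup.subtype _) (Subgroup.subtype_injective _) hs)
        (hcen (mem_zpowers d))
    obtain ⟨j, hj⟩ := IsPGroup.iff_orderOf.1 hFp ⟨d, hdF⟩
    rw [Subgroup.orderOf_mk, hdo] at hj
    rw [← orderOf_eq_one_iff, hdo]
    rcases Nat.eq_zero_or_pos j with rfl | hj0
    · simpa using hj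
    · exact absurd (hj ▸ dvd_pow_self p hj0.ne') hr
  -- the group `Y / F`
  set φ := QuotientGroup.mk' F with hφ
  have hH0 : Cfsg.pCore p (Y ⧸ F) = ⊥ := by
    have hle : (Cfsg.pCore p (Y ⧸ F)).comap φ ≤ F :=
      CfsgLib.Solvable.le_pCore p ((CfsgLib.Solvable.pCore_normal p).comap φ)
        ((CfsgLib.Solvable.isPGroup_pCore p).comap_of_ker_isPGroup φ (by
          rw [QuotientGroup.ker_mk']; exact hFp))
    rw [← map_comap_eq_self_of_surjective (QuotientGroup.mk'_surjective F) (Cfsg.pCore p (Y ⧸ F)),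
      Subgroup.map_eq_bot_iff, QuotientGroup.ker_mk']
    exact hle
  set R := Cfsg.pPrimeCore p (Y ⧸ F) with hR
  haveI hRn : R.Normal := CfsgLib.Solvable.pPrimeCore_normal p
  have hRc : (Nat.card R).Coprime p := CfsgLib.Solvable.coprime_card_pPrimeCore p
  obtain ⟨j, hj⟩ := IsPGroup.iff_card.1 (hx.map φ)
  have hnC : φ (x ^ p ^ m) ∉ centralizer (R : Set (Y ⧸ F)) := by
    intro hmem
    have hR' := centralizer_pPrimeCore_le hH0
      (CfsgLib.PConstrained.isPSolvable_map φ (QuotientGroup.mk'_surjective F) hs) hmem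
    have h2 : φ (x ^ p ^ m) ∈ (zpowers x).map φ := mem_map_of_mem φ (pow_mem (mem_zpowers x) _)
    have h3 : φ (x ^ p ^ m) ∈ (zpowers x).map φ ⊓ R := ⟨h2, hR'⟩
    rw [Subgroup.inf_eq_bot_of_coprime (by rw [hj]; exact hRc.symm.pow_left j)] at h3
    exact hx1 ((QuotientGroup.eq_one_iff _).1 h3)
  have hAR : (zpowers x).map φ ≤ normalizer (R : Set (Y ⧸ F)) := by
    rw [Subgroup.normalizer_eq_top]; exact le_top
  have hcop : (Nat.card ((zpowers x).map φ)).Coprime (Nat.card R) := by
    rw [hj]; exact hRc.symm.pow_left j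
  have hsolA : Group.IsSolvable ((zpowers x).map φ : Subgroup (Y ⧸ F)) := by
    haveI : Group.IsNilpotent ((zpowers x).map φ : Subgroup (Y ⧸ F)) := (hx.map φ).isNilpotent
    infer_instance
  have hinv : ∀ q : Nat.Primes, ∃ P : Sylow (q : ℕ) R,
      (zpowers x).map φ ≤ normalizer ((P : Subgroup R).map R.subtype : Set (Y ⧸ F)) := fun q => by
    haveI := Fact.mk q.2
    exact CfsgLib.CoprimeAct.exists_invariant_sylow hAR hcop (Or.inl hsolA) (q : ℕ)
  choose Ps hPs using hinv
  obtain ⟨q, r, hr, hrq⟩ : ∃ (q : Nat.Primes) (r : Y ⧸ F), r ∈ (Ps q : Subgroup R).map R.subtype ∧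
      φ (x ^ p ^ m) * r * (φ (x ^ p ^ m))⁻¹ * r⁻¹ ≠ 1 := by
    by_contra! hall
    refine hnC (mem_centralizer_iff.2 fun r hr => ?_)
    have hle : R ≤ centralizer ({φ (x ^ p ^ m)} : Set (Y ⧸ F)) := by
      have htop : (⨆ q : Nat.Primes, (Ps q : Subgroup R)) = ⊤ := CfsgLib.Solvable.iSup_sylow_eq_top Ps
      conv_lhs => rw [← Subgroup.range_subtype R, MonoidHom.range_eq_map, ← htop, Subgroup.map_iSup]
      refine iSup_le fun q r hr => mem_centralizer_singleton_iff.2 ?_
      exact (mul_inv_eq_iff_eq_mul.1 (mul_inv_eq_one.1 (hall q r hr))).symm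
    exact mem_centralizer_singleton_iff.1 (hle hr)
  haveI := Fact.mk q.2
  set Q := (Ps q : Subgroup R).map R.subtype with hQ
  obtain ⟨e, he⟩ := IsPGroup.iff_card.1 ((Ps q).2.map R.subtype)
  have hqp : (q : ℕ) ≠ p := by
    intro hqp
    have h1 : Nat.card Q ∣ Nat.card R := by
      rw [hQ, card_map_of_injective R.subtype_injective]
      exact card_subgroup_dvd_card _
    have h2 : Nat.card Q = 1 :=
      Nat.eq_one_of_dvd_coprimes (hRc.pow_right e) h1 (dvd_of_eq (he.trans (congrArg (· ^ e) hqp)))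
    rw [Subgroup.eq_bot_of_card_eq Q h2, mem_bot] at hr
    subst hr
    exact hrq (by group)
  set Q' := (Q.comap φ).map π with hQ'
  have hxQ : π x ∈ normalizer (Q' : Set (Y ⧸ Φ)) := by
    refine le_normalizer_map π ⟨x, ?_, rfl⟩
    exact Subgroup.le_normalizer_comap φ (hPs q (mem_map_of_mem φ (mem_zpowers x)))
  have hcenV : ∀ y : Y, y ∈ F → π y ∈ centralizer (V : Set (Y ⧸ Φ)) := fun y hy =>
    Subgroup.le_centralizer V ⟨y, hy, rfl⟩
  obtain ⟨v, ⟨f, hf, rfl⟩, hne⟩ := RegularOrbit.exists_pow_ne V hVexp Q' (π x) m hxQ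
    (by
      rintro _ ⟨a, ha, rfl⟩ _ ⟨b, hb, rfl⟩
      rw [← map_mul, ← map_mul, ← map_inv, ← map_mul]
      refine hcenV _ ((QuotientGroup.eq_one_iff _).1 ?_)
      show φ (a * b * (b * a)⁻¹) = 1
      rw [map_mul, map_inv, mul_inv_eq_one, map_mul, map_mul]
      exact qSubgroups_commute_quotient F hab q q.2 hqp Q ((Ps q).2.map R.subtype) _ ha _ hb)
    ((q : ℕ) ^ e) (((Nat.coprime_primes q.2 hp.out).2 hqp).pow_left e)
    (by
      rintro _ ⟨a, ha, rfl⟩
      rw [← map_pow]
      refine hcenV _ ((QuotientGroup.eq_one_iff _).1 ?_)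
      show φ (a ^ (q : ℕ) ^ e) = 1
      rw [map_pow, ← he]
      exact congrArg Subtype.val (pow_card_eq_one' (x := (⟨φ a, ha⟩ : Q))))
    (by
      rw [← map_pow, hexp _ hx x (mem_zpowers x), map_one]
      exact one_mem _)
    (by
      obtain ⟨a, rfl⟩ := QuotientGroup.mk'_surjective F r
      refine ⟨π a, ⟨a, hr, rfl⟩, fun hmem => hrq ?_⟩
      rw [← map_pow, ← map_mul, ← map_inv, ← map_mul, ← map_inv, ← map_mul] at hmem
      rw [← map_mul, ← map_inv, ← map_mul, ← map_inv, ← map_mul]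
      exact (QuotientGroup.eq_one_iff _).2 (hC0F hmem))
  refine hne ?_
  rw [← map_mul, ← map_pow, ← map_pow, hexp _ hx x (mem_zpowers x),
    hexp (F ⊔ zpowers x) (IsPGroup.to_sup_of_normal_left hFp hx) (f * x)
      (mul_mem_sup hf (mem_zpowers x))]

/-- The p-length is bounded by the exponent of a Sylow p-subgroup. -/
theorem pLengthLE_of_exponent (n : ℕ) : ∀ (G : Type u) [Group G] [Finite G], Cfsg.IsPSolvable p G →
    (∀ q : ℕ, q.Prime → q ≠ p → ∀ K : Subgroup G, IsPGroup q K → ∀ a ∈ K, ∀ b ∈ K, a * b = b * a) →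
    (∀ K : Subgroup G, IsPGroup p K → ∀ y ∈ K, y ^ p ^ n = 1) → Cfsg.PLengthLE p n G := by
  induction n with
  | zero =>
    intro G _ _ _ _ hexp
    refine PLen.pLengthLE_zero_of_coprime ?_
    refine (hp.out.coprime_iff_not_dvd.2 fun hd => ?_).symm
    obtain ⟨g, hg⟩ := exists_prime_orderOf_dvd_card' p hd
    have := hexp (zpowers g) (IsPGroup.of_card (n := 1) (by rw [Nat.card_zpowers, hg, pow_one])) g
      (mem_zpowers g)
    rw [pow_zero, pow_one] at this
    rw [this, orderOf_one] at hg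
    exact hp.out.one_lt.ne hg
  | succ n ih =>
    intro G _ _ hs hab hexp
    set U1 := PLen.U p G 1 with hU1
    set U2 := PLen.U p G 2 with hU2
    have hU12 : U1 ≤ U2 := PLen.U_le_succ 1
    have hcore : Cfsg.pPrimeCore p (G ⧸ U1) = ⊥ := by
      have hle : (Cfsg.pPrimeCore p (G ⧸ U1)).comap (QuotientGroup.mk' U1) ≤ U1 := by
        refine PLen.le_succ ((CfsgLib.Solvable.pPrimeCore_normal p).comap _) ?_
        have h1 : U1 ≤ (Cfsg.pPrimeCore p (G ⧸ U1)).comap (QuotientGroup.mk' U1) := by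
          conv_lhs => rw [← QuotientGroup.ker_mk' U1]
          exact Subgroup.ker_le_comap _ _
        rw [PLen.U_zero, ← Subgroup.relIndex_mul_relIndex ⊥ U1 _ bot_le h1, Subgroup.relIndex_bot_left]
        refine PLen.Good.mul (by simpa [PLen.Good] using PLen.card_U_one_coprime (G := G) (p := p)) ?_
        have e := Subgroup.relIndex_ker ((Cfsg.pPrimeCore p (G ⧸ U1)).comap (QuotientGroup.mk' U1))
          (f := QuotientGroup.mk' U1)
        rw [QuotientGroup.ker_mk'] at e
        rw [e, Subgroup.map_comap_eq_self_of_surjective (QuotientGroup.mk'_surjective U1)]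
        simpa [PLen.Good] using CfsgLib.Solvable.coprime_card_pPrimeCore p (G := G ⧸ U1)
      rw [← map_comap_eq_self_of_surjective (QuotientGroup.mk'_surjective U1) (Cfsg.pPrimeCore p (G ⧸ U1)),
        Subgroup.map_eq_bot_iff, QuotientGroup.ker_mk']
      exact hle
    have key : ∀ g : G, IsPGroup p (zpowers g) → g ^ p ^ n ∈ U2 := by
      intro g hg
      have h := pow_mem_pCore hcore
        (CfsgLib.PConstrained.isPSolvable_map _ (QuotientGroup.mk'_surjective U1) hs)
        (qSubgroups_commute_quotient U1 hab) n (fun K hK y hy => by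
          obtain ⟨S, hS⟩ := hK.exists_le_sylow
          obtain ⟨S', rfl⟩ := Sylow.mapSurjective_surjective (QuotientGroup.mk'_surjective U1) p S
          obtain ⟨y', hy', rfl⟩ := hS hy
          rw [← map_pow, hexp _ S'.2 y' hy', map_one])
        (QuotientGroup.mk' U1 g) (MonoidHom.map_zpowers (QuotientGroup.mk' U1) g ▸ hg.map _)
      rw [← map_pow] at h
      show g ^ p ^ n ∈ (Cfsg.upperPSeries p G (1 + 1)).1
      simp only [Cfsg.upperPSeries, show ¬ Even 1 by decide, if_false, Subgroup.mem_comap]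
      exact h
    have hQ : Cfsg.PLengthLE p n (G ⧸ U2) := by
      refine ih _ (CfsgLib.PConstrained.isPSolvable_map _ (QuotientGroup.mk'_surjective U2) hs)
        (qSubgroups_commute_quotient U2 hab) fun K hK y hy => ?_
      obtain ⟨S, hS⟩ := hK.exists_le_sylow
      obtain ⟨S', rfl⟩ := Sylow.mapSurjective_surjective (QuotientGroup.mk'_surjective U2) p S
      obtain ⟨y', hy', rfl⟩ := hS hy
      rw [← map_pow]
      exact (QuotientGroup.eq_one_iff _).2 (key y' (S'.2.to_le (zpowers_le.2 hy')))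
    have hU : Cfsg.PLengthLE p (0 + 1) U2 := by
      refine PLen.pLengthLE_add (U1.subgroupOf U2) (PLen.pLengthLE_zero_of_coprime ?_) ?_
      · rw [Nat.card_congr (Subgroup.subgroupOfEquivOfLe hU12).toEquiv]
        exact PLen.card_U_one_coprime
      · show PLen.U p _ (2 * 1 + 1) = ⊤
        refine top_le_iff.1 (le_trans (PLen.le_succ (j := 1) (inferInstance : (⊤ : Subgroup (U2 ⧸ U1.subgroupOf U2)).Normal) ?_)
          (PLen.U_mono (by omega)))
        refine PLen.Good.of_dvd (n := Nat.card (U2 ⧸ U1.subgroupOf U2)) ?_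
          (Subgroup.relIndex_top_right (PLen.U p (U2 ⧸ U1.subgroupOf U2) 1) ▸ Subgroup.index_dvd_card _)
        rw [← Subgroup.index_eq_card]
        exact (PLen.good_factor (G := G) (p := p) 1)
    exact PLen.pLengthLE_mono (by omega) (PLen.pLengthLE_add U2 hU hQ)

end CfsgLib.FGSA.AbelianSylow
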