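import Mathlib.GroupTheory.PGroup
import Mathlib.GroupTheory.IndexNormal
import Mathlib.GroupTheory.GroupAction.Quotient
import Mathlib.Tactic.Linarith
import Mathlib.Tactic.Ring

/-!
A non-abelian finite group has at most `#G / p` orbits of its automorphism group, `p` the least
prime divisor of the order.
-/

set_option autoImplicit false
set_option linter.style.haveILetI false

namespace CfsgLib.AutOrbits

open Subgroup

theorem counting {α Ω : Type*} [Fintype α] [Fintype Ω] [DecidableEq Ω] (π : α → Ω)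
    (hπ : Function.Surjective π) (C T : Finset α) (p s : ℕ) (hp : 1 ≤ p) (hps : p < s)
    (hbig : ∀ x, x ∉ C → p ≤ (Finset.univ.filter fun y => π y = π x).card)
    (hT : ∀ x ∈ T, s ≤ (Finset.univ.filter fun y => π y = π x).card)
    (hcount : (p - 1) * s * C.card ≤ (s - p) * T.card) :
    p * Fintype.card Ω ≤ Fintype.card α := by
  classical
  have hsum : ∀ A : Finset α, A.card = ∑ o : Ω, (A.filter fun x => π x = o).card := fun A =>
    Finset.card_eq_sum_card_fiberwise fun x _ => Finset.mem_univ _
  have hfib : ∀ o : Ω, p * s + (s - p) * (T.filter fun x => π x = o).card ≤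
      s * (Finset.univ.filter fun x => π x = o).card +
        (p - 1) * s * (C.filter fun x => π x = o).card := by
    intro o
    set F := Finset.univ.filter fun x => π x = o
    have hTF : (T.filter fun x => π x = o).card ≤ F.card :=
      Finset.card_le_card (Finset.filter_subset_filter _ (Finset.subset_univ T))
    obtain ⟨x, rfl⟩ := hπ o
    by_cases hTo : (T.filter fun y => π y = π x).Nonempty
    · obtain ⟨y, hy⟩ := hTo
      rw [Finset.mem_filter] at hy
      have hFs : s ≤ F.card := by
        have := hT y hy.1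
        rwa [hy.2] at this
      obtain ⟨e, rfl⟩ := Nat.exists_eq_add_of_le hps.le
      rw [Nat.add_sub_cancel_left] at *
      calc p * (p + e) + e * (T.filter fun y => π y = π x).card
          ≤ p * F.card + e * F.card := by gcongr
        _ = (p + e) * F.card := by ring
        _ ≤ _ := Nat.le_add_right _ _
    rw [Finset.not_nonempty_iff_eq_empty.mp hTo, Finset.card_empty, mul_zero, add_zero]
    by_cases hCo : (C.filter fun y => π y = π x).Nonempty
    · have h1 : 1 ≤ F.card := Finset.card_pos.mpr ⟨x, Finset.mem_filter.mpr ⟨Finset.mem_univ _, rfl⟩⟩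
      calc p * s = s * 1 + (p - 1) * s * 1 := by
            obtain ⟨e, rfl⟩ := Nat.exists_eq_add_of_le hp
            rw [Nat.add_sub_cancel_left]; ring
        _ ≤ _ := by gcongr; exact Finset.card_pos.mpr hCo
    · have hxC : x ∉ C := fun h => hCo ⟨x, Finset.mem_filter.mpr ⟨h, rfl⟩⟩
      calc p * s = s * p := mul_comm _ _
        _ ≤ s * F.card := Nat.mul_le_mul_left _ (hbig x hxC)
        _ ≤ _ := Nat.le_add_right _ _
  have h := Finset.sum_le_sum (s := Finset.univ) fun o _ => hfib o
  simp only [Finset.sum_add_distrib, ← Finset.mul_sum, Finset.sum_const, smul_eq_mul, ← hsum,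
    Finset.card_univ] at h
  have h2 : s * (p * Fintype.card Ω) ≤ s * Fintype.card α := by
    nlinarith [h, hcount]
  exact Nat.le_of_mul_le_mul_left h2 (by omega)

variable {G : Type*} [Group G]

theorem mul_pow_class_two {a b c : G} (hc : ∀ x, Commute c x) (h : b * a = c * (a * b)) (n : ℕ) :
    (a * b) ^ n = a ^ n * b ^ n * c ^ n.choose 2 := by
  have hb : ∀ k : ℕ, b ^ k * a = c ^ k * (a * b ^ k) := by
    intro k
    induction k with
    | zero => simp
    | succ k ih =>
      calc b ^ (k + 1) * a = b * (b ^ k * a) := by rw [pow_succ', mul_assoc]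
        _ = c ^ k * ((b * a) * b ^ k) := by
          rw [ih, ← mul_assoc, ← ((hc b).pow_left k).eq, mul_assoc, ← mul_assoc b a]
        _ = c ^ (k + 1) * (a * b ^ (k + 1)) := by
          rw [h, pow_succ c, pow_succ' b]; simp only [mul_assoc]
  induction n with
  | zero => simp
  | succ n ih =>
    calc (a * b) ^ (n + 1) = a ^ n * b ^ n * c ^ n.choose 2 * (a * b) := by rw [pow_succ, ih]
      _ = a ^ n * ((b ^ n * a) * b) * c ^ n.choose 2 := by
        rw [mul_assoc _ (c ^ n.choose 2), ((hc (a * b)).pow_left _).eq]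
        simp only [mul_assoc]
      _ = a ^ n * (a * b ^ n * b) * c ^ n * c ^ n.choose 2 := by
        rw [hb, mul_assoc (c ^ n), ((hc (a * b ^ n * b)).pow_left n).eq]
        simp only [mul_assoc]
      _ = a ^ (n + 1) * b ^ (n + 1) * c ^ (n + 1).choose 2 := by
        rw [Nat.choose_succ_succ' n 1, Nat.choose_one_right, pow_add c, pow_succ a, pow_succ b]
        simp only [mul_assoc]

variable [Finite G]

theorem p_le_of_dvd {d : ℕ} (h : d ∣ Nat.card G) (h1 : d ≠ 1) : (Nat.card G).minFac ≤ d :=
  Nat.minFac_le_of_dvd (Nat.two_le_iff d |>.mpr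
    ⟨fun h0 => Nat.card_pos.ne' (zero_dvd_iff.mp (h0 ▸ h)), h1⟩) h

theorem prime_of_lt_sq {d : ℕ} (h : d ∣ Nat.card G) (h1 : d ≠ 1)
    (h2 : d < (Nat.card G).minFac ^ 2) : d.Prime := by
  by_contra hd
  obtain ⟨a, ⟨b, rfl⟩, ha1, ha2⟩ := Nat.exists_dvd_of_not_prime
    (Nat.two_le_iff d |>.mpr ⟨fun h0 => Nat.card_pos.ne' (zero_dvd_iff.mp (h0 ▸ h)), h1⟩) hd
  have hb1 : b ≠ 1 := fun hb => ha2 (by rw [hb, mul_one])
  have := Nat.mul_le_mul (p_le_of_dvd (dvd_of_mul_right_dvd h) ha1)
    (p_le_of_dvd (dvd_of_mul_left_dvd h) hb1)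
  rw [pow_two] at h2
  omega

/-- Powers below the least prime are invertible. -/
theorem mem_of_pow_mem {H : Subgroup G} {x : G} {k : ℕ} (hk : 0 < k)
    (hkp : k < (Nat.card G).minFac) (h : x ^ k ∈ H) : x ∈ H := by
  have hco : (Nat.card G).Coprime k := Nat.coprime_of_dvd fun q hq hqG hqk => by
    have := p_le_of_dvd hqG hq.ne_one
    have := Nat.le_of_dvd hk hqk
    omega
  have e : (x ^ k) ^ (Nat.card G).gcdB k = x := (powCoprime hco).left_inv x
  exact e ▸ zpow_mem h _

theorem index_centralizer_le_orbit (x : G) :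
    (centralizer ({x} : Set G)).index ≤ Nat.card (MulAction.orbit (MulAut G) x) := by
  refine Nat.card_le_card_of_injective (α := G ⧸ centralizer ({x} : Set G))
    (fun q => ⟨MulAut.conj q.out x, MulAut.conj q.out, rfl⟩) fun a b hab => ?_
  rw [← QuotientGroup.out_eq' a, ← QuotientGroup.out_eq' b, QuotientGroup.eq,
    mem_centralizer_singleton_iff]
  have h : a.out * x * a.out⁻¹ = b.out * x * b.out⁻¹ := congrArg Subtype.val hab
  calc a.out⁻¹ * b.out * x = a.out⁻¹ * (b.out * x * b.out⁻¹) * b.out := by group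
    _ = x * (a.out⁻¹ * b.out) := by rw [← h]; group

omit [Finite G] in
theorem index_centralizer_eq_one {x : G} :
    (centralizer ({x} : Set G)).index = 1 ↔ x ∈ center G := by
  rw [index_eq_one, centralizer_eq_top_iff_subset, Set.singleton_subset_iff, SetLike.mem_coe]

/-- Reduction to exhibiting enough long orbits. -/
theorem reduce (T : Set G) (s : ℕ) (hps : (Nat.card G).minFac < s)
    (hT : ∀ x ∈ T, s ≤ Nat.card (MulAction.orbit (MulAut G) x))
    (hcount : ((Nat.card G).minFac - 1) * s * Nat.card (center G) ≤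
      (s - (Nat.card G).minFac) * Nat.card T) :
    Nat.card (MulAction.orbitRel.Quotient (MulAut G) G) ≤ Nat.card G / (Nat.card G).minFac := by
  classical
  haveI := Fintype.ofFinite G
  haveI := Fintype.ofFinite (MulAction.orbitRel.Quotient (MulAut G) G)
  rw [Nat.le_div_iff_mul_le (Nat.minFac_pos _), mul_comm]
  conv_rhs => rw [Nat.card_eq_fintype_card]
  rw [Nat.card_eq_fintype_card (α := MulAction.orbitRel.Quotient (MulAut G) G)]
  have hfib : ∀ x : G, (Finset.univ.filter fun y =>
      (Quotient.mk'' y : MulAction.orbitRel.Quotient (MulAut G) G) = Quotient.mk'' x).card =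
      Nat.card (MulAction.orbit (MulAut G) x) := by
    intro x
    rw [Nat.card_eq_fintype_card, ← Set.toFinset_card]
    congr 1
    ext y
    simp only [Finset.mem_filter, Finset.mem_univ, true_and, Set.mem_toFinset, Quotient.eq'']
    rfl
  refine counting (Quotient.mk'' (s₁ := MulAction.orbitRel (MulAut G) G)) Quotient.mk''_surjective
    (center G : Set G).toFinset T.toFinset _ s (Nat.minFac_pos _) hps
    (fun x hx => ?_) (fun x hx => ?_) ?_
  · rw [hfib]
    refine le_trans (p_le_of_dvd (index_dvd_card _) fun h => hx ?_)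
      (index_centralizer_le_orbit x)
    simpa using index_centralizer_eq_one.mp h
  · rw [hfib]
    exact hT x (by simpa using hx)
  · simpa [Set.toFinset_card, ← Nat.card_eq_fintype_card] using hcount

theorem zmul_mem_center {k : G} (hk : k ∉ center G) {i j : ℕ} (hi : i < (Nat.card G).minFac)
    (hj : j < (Nat.card G).minFac) (h : (k ^ i)⁻¹ * k ^ j ∈ center G) : i = j := by
  wlog hij : i ≤ j generalizing i j
  · refine (this hj hi ?_ (le_of_not_ge hij)).symm
    have := inv_mem h
    rwa [mul_inv_rev, inv_inv] at this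
  by_contra hne
  obtain ⟨e, rfl⟩ := Nat.exists_eq_add_of_le hij
  rw [pow_add, inv_mul_cancel_left] at h
  exact hk (mem_of_pow_mem (by omega) (by omega) h)

/-- A set closed under central translation with `p` cosets. -/
theorem card_mul_le {P : Set G} {g k : G} (hk : k ∉ center G)
    (hP : ∀ i : ℕ, i < (Nat.card G).minFac → ∀ z ∈ center G, g * k ^ i * z ∈ P) :
    (Nat.card G).minFac * Nat.card (center G) ≤ Nat.card P := by
  have e : Nat.card (Fin (Nat.card G).minFac × center G) =
      (Nat.card G).minFac * Nat.card (center G) := by rw [Nat.card_prod, Nat.card_fin]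
  rw [← e]
  refine Nat.card_le_card_of_injective
    (fun q => ⟨g * k ^ (q.1 : ℕ) * q.2, hP q.1 q.1.isLt q.2 q.2.2⟩) ?_
  rintro ⟨i, z⟩ ⟨j, z'⟩ hab
  have h : g * k ^ (i : ℕ) * (z : G) = g * k ^ (j : ℕ) * z' := congrArg Subtype.val hab
  rw [mul_assoc, mul_assoc, mul_left_cancel_iff] at h
  have hij : (i : ℕ) = j := zmul_mem_center hk i.isLt j.isLt
    (by
      have e2 : (k ^ (i : ℕ))⁻¹ * k ^ (j : ℕ) = (z : G) * (z' : G)⁻¹ := by
        calc (k ^ (i : ℕ))⁻¹ * k ^ (j : ℕ) = (k ^ (i : ℕ))⁻¹ * (k ^ (j : ℕ) * z') * (z' : G)⁻¹ := by group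
          _ = z * (z' : G)⁻¹ := by rw [← h, inv_mul_cancel_left]
      exact e2 ▸ mul_mem z.2 (inv_mem z'.2))
  rw [hij, mul_left_cancel_iff] at h
  exact Prod.ext (Fin.ext hij) (Subtype.ext h)

/-- Long orbits of order `p^2` on `p` cosets of the centre suffice. -/
theorem reduce_sq (T : Set G) {g k : G} (hk : k ∉ center G) (hp : 2 ≤ (Nat.card G).minFac)
    (hT : ∀ x ∈ T, (Nat.card G).minFac ^ 2 ≤ Nat.card (MulAction.orbit (MulAut G) x))
    (hP : ∀ i : ℕ, i < (Nat.card G).minFac → ∀ z ∈ center G, g * k ^ i * z ∈ T) :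
    Nat.card (MulAction.orbitRel.Quotient (MulAut G) G) ≤ Nat.card G / (Nat.card G).minFac := by
  refine reduce T _ (by nlinarith) hT ?_
  have h := card_mul_le hk hP
  generalize (Nat.card G).minFac = p at hp h ⊢
  obtain ⟨e, rfl⟩ := Nat.exists_eq_add_of_le (show 1 ≤ p by omega)
  rw [Nat.add_sub_cancel_left, show (1 + e) ^ 2 - (1 + e) = (1 + e) * e from
    Nat.sub_eq_of_eq_add (by ring)]
  calc e * (1 + e) ^ 2 * Nat.card (center G) = (1 + e) * e * ((1 + e) * Nat.card (center G)) := by
        ring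
    _ ≤ _ := by gcongr

end CfsgLib.AutOrbits
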