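import Mathlib.GroupTheory.PGroup
import Mathlib.Algebra.BigOperators.GroupWithZero.Action
import Mathlib.Algebra.Group.Subgroup.Finite
import Mathlib.GroupTheory.Commutator.Basic
import Mathlib.GroupTheory.GroupAction.Defs

/-!
The Baer trick for groups of class two and odd exponent `p`, and the `P × Q` lemma it gives.
-/

set_option autoImplicit false

namespace CfsgLib.BaerTrick

open scoped commutatorElement

variable {H : Type*} [Group H]

/-- A copy of `H` carrying the abelian operation. -/
@[ext] structure Twist (H : Type*) where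
  /-- The underlying element. -/
  val : H

/-- The correction term. -/
def corr (h : ℕ) (x y : H) : H := ⁅x, y⁆ ^ h

/-- Class two: all commutators are central. -/
def ClassTwo (H : Type*) [Group H] : Prop := ∀ x y z : H, Commute ⁅x, y⁆ z

theorem comm_mul_left (hc : ClassTwo H) (x y z : H) : ⁅x * y, z⁆ = ⁅x, z⁆ * ⁅y, z⁆ := by
  have h1 : ⁅x * y, z⁆ = x * ⁅y, z⁆ * x⁻¹ * ⁅x, z⁆ := by simp only [commutatorElement_def]; group
  rw [h1, ← (hc y z x).eq, mul_inv_cancel_right, (hc y z _).eq]

theorem comm_mul_right (hc : ClassTwo H) (x y z : H) : ⁅x, y * z⁆ = ⁅x, y⁆ * ⁅x, z⁆ := by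
  have h1 : ⁅x, y * z⁆ = ⁅x, y⁆ * (y * ⁅x, z⁆ * y⁻¹) := by simp only [commutatorElement_def]; group
  rw [h1, ← (hc x z y).eq, mul_inv_cancel_right]

theorem corr_mul_left (hc : ClassTwo H) (h : ℕ) (x y z : H) :
    corr h (x * y) z = corr h x z * corr h y z := by
  rw [corr, comm_mul_left hc, (hc x z _).mul_pow]; rfl

theorem corr_mul_right (hc : ClassTwo H) (h : ℕ) (x y z : H) :
    corr h x (y * z) = corr h x y * corr h x z := by
  rw [corr, comm_mul_right hc, (hc x y _).mul_pow]; rfl

theorem corr_central (hc : ClassTwo H) (h : ℕ) (x y z : H) : Commute (corr h x y) z :=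
  (hc x y z).pow_left h

theorem corr_of_commute (h : ℕ) {x y : H} (hxy : Commute x y) : corr h x y = 1 := by
  rw [corr, commutatorElement_eq_one_iff_commute.2 hxy, one_pow]

/-- The Baer operation as a commutative group. -/
@[reducible] def twistGroup (hc : ClassTwo H) (h : ℕ)
    (hh : ∀ x y : H, corr h x y * corr h x y = ⁅x, y⁆) : CommGroup (Twist H) where
  mul a b := ⟨a.val * b.val * corr h b.val a.val⟩
  one := ⟨1⟩
  inv a := ⟨a.val⁻¹⟩
  mul_assoc a b c := by
    ext
    change a.val * b.val * corr h b.val a.val * c.val *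
        corr h c.val (a.val * b.val * corr h b.val a.val) =
      a.val * (b.val * c.val * corr h c.val b.val) *
        corr h (b.val * c.val * corr h c.val b.val) a.val
    rw [corr_mul_right hc, corr_mul_left hc _ (b.val * c.val), corr_mul_right hc,
      corr_mul_left hc, corr_of_commute h (corr_central hc h c.val b.val a.val),
      corr_of_commute h (corr_central hc h b.val a.val c.val).symm]
    have e1 := corr_central hc h b.val a.val
    simp only [mul_one, mul_assoc]
    congr 1; congr 1
    rw [← mul_assoc, (e1 c.val).eq, mul_assoc]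
    congr 1
    calc corr h b.val a.val * (corr h c.val a.val * corr h c.val b.val)
        = corr h b.val a.val * corr h c.val a.val * corr h c.val b.val := (mul_assoc _ _ _).symm
      _ = corr h c.val b.val * (corr h b.val a.val * corr h c.val a.val) :=
        ((corr_central hc h c.val b.val _).eq).symm
  one_mul a := by
    ext
    change 1 * a.val * corr h a.val 1 = a.val
    rw [corr_of_commute h (Commute.one_right _), one_mul, mul_one]
  mul_one a := by
    ext
    change a.val * 1 * corr h 1 a.val = a.val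
    rw [corr_of_commute h (Commute.one_left _), mul_one, mul_one]
  inv_mul_cancel a := by
    ext
    change a.val⁻¹ * a.val * corr h a.val a.val⁻¹ = 1
    rw [corr_of_commute h (Commute.refl _).inv_right, inv_mul_cancel, one_mul]
  mul_comm a b := by
    ext
    change a.val * b.val * corr h b.val a.val = b.val * a.val * corr h a.val b.val
    have h1 : b.val * a.val = ⁅b.val, a.val⁆ * (a.val * b.val) := by
      simp only [commutatorElement_def]; group
    have h2 : corr h a.val b.val = (corr h b.val a.val)⁻¹ := by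
      rw [corr, corr, ← inv_pow, commutatorElement_inv]
    rw [h1, h2, (hc _ _ (a.val * b.val)).eq, mul_assoc (a.val * b.val) ⁅b.val, a.val⁆,
      ← hh b.val a.val, mul_assoc (corr h b.val a.val), mul_inv_cancel, mul_one]

theorem half {p : ℕ} (hodd : Odd p) (hexp : ∀ x : H, x ^ p = 1) (x y : H) :
    corr ((p + 1) / 2) x y * corr ((p + 1) / 2) x y = ⁅x, y⁆ := by
  obtain ⟨m, rfl⟩ := hodd
  rw [corr, ← pow_add, show (2 * m + 1 + 1) / 2 + (2 * m + 1 + 1) / 2 = 2 * m + 1 + 1 by omega,
    pow_succ, hexp, one_mul]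

theorem smul_commutatorElement {M : Type*} [Monoid M] [MulDistribMulAction M H] (g : M) (x y : H) :
    g • ⁅x, y⁆ = ⁅g • x, g • y⁆ :=
  map_commutatorElement (MulDistribMulAction.toMonoidHom H g) x y

/-- The `P × Q` lemma for an abelian `p`-group. -/
theorem smul_eq_of_comm {V M : Type*} [CommGroup V] [Finite V] [Group M] [MulDistribMulAction M V]
    {p : ℕ} [Fact p.Prime] (hV : IsPGroup p V) (P Q : Subgroup M) [Finite Q] (hP : IsPGroup p P)
    (hQ : (Nat.card Q).Coprime p) (hPQ : P ≤ Subgroup.normalizer (Q : Set M))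
    (hfix : ∀ v : V, (∀ a ∈ P, a • v = v) → ∀ q ∈ Q, q • v = v) :
    ∀ v : V, ∀ q ∈ Q, q • v = v := by
  classical
  have := Fintype.ofFinite Q
  let ν : V →* V := MonoidHom.mk' (fun v => ∏ q : Q, (q : M) • v) fun v w => by
    simp [smul_mul', Finset.prod_mul_distrib]
  have hνinv : ∀ a ∈ P, ∀ v : V, ν (a • v) = a • ν v := by
    intro a ha v
    have hn := Subgroup.mem_normalizer_iff.1 (hPQ ha)
    let e : Q ≃ Q :=
      { toFun := fun q => ⟨a * q * a⁻¹, (hn q).1 q.2⟩
        invFun := fun q => ⟨a⁻¹ * q * a, (hn _).2 (by simp [mul_assoc])⟩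
        left_inv := fun q => Subtype.ext (by simp [mul_assoc])
        right_inv := fun q => Subtype.ext (by simp [mul_assoc]) }
    change ∏ q : Q, (q : M) • a • v = a • ∏ q : Q, (q : M) • v
    rw [Finset.smul_prod', ← Equiv.prod_comp e fun q : Q => (q : M) • a • v]
    refine Finset.prod_congr rfl fun q _ => ?_
    simp [e, ← mul_smul, mul_assoc]
  have hker : ν.ker = ⊥ := by
    rw [← Subgroup.card_eq_one]
    by_contra hne
    let _ : MulAction P ν.ker :=
      { smul := fun a n => ⟨(a : M) • (n : V), by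
          rw [MonoidHom.mem_ker, hνinv a a.2, n.2, smul_one]⟩
        one_smul := fun n => Subtype.ext (one_smul M (n : V))
        mul_smul := fun a b n => Subtype.ext (mul_smul (a : M) (b : M) (n : V)) }
    have h1 : (1 : ν.ker) ∈ MulAction.fixedPoints P ν.ker :=
      fun a => Subtype.ext (smul_one (a : M))
    obtain ⟨k, hk⟩ := (IsPGroup.iff_card).1 (hV.to_subgroup ν.ker)
    have hk0 : k ≠ 0 := fun h => hne (by rw [hk, h, pow_zero])
    obtain ⟨b, hb, hb1⟩ := hP.exists_fixed_point_of_prime_dvd_card_of_fixed_point _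
      (hk ▸ dvd_pow_self p hk0) h1
    have hbQ := hfix b fun a ha => congrArg Subtype.val (hb ⟨a, ha⟩)
    have h2 : (b : V) ^ Fintype.card Q = 1 := by
      rw [← MonoidHom.mem_ker.1 b.2]
      change (b : V) ^ Fintype.card Q = ∏ q : Q, (q : M) • (b : V)
      simp [fun q : Q => hbQ q q.2]
    obtain ⟨j, hj⟩ := IsPGroup.iff_orderOf.1 hV (b : V)
    have h3 : orderOf (b : V) ∣ Nat.card Q := by
      rw [Nat.card_eq_fintype_card]; exact orderOf_dvd_of_pow_eq_one h2
    rw [hj] at h3
    have h4 := (hQ.symm.pow_left j).eq_one_of_dvd h3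
    exact hb1 (Subtype.ext (orderOf_eq_one_iff.1 (hj.trans h4)).symm)
  intro v q hq
  refine (MonoidHom.ker_eq_bot_iff ν).1 hker ?_
  change ∏ r : Q, (r : M) • q • v = ∏ r : Q, (r : M) • v
  simp only [← mul_smul]
  exact Equiv.prod_comp (Equiv.mulRight (⟨q, hq⟩ : Q)) fun r : Q => (r : M) • v

/-- The `P × Q` lemma, without commutation of `P` and `Q`, for class two and odd exponent `p`. -/
theorem smul_eq_of_classTwo [Finite H] {M : Type*} [Group M] [MulDistribMulAction M H]
    {p : ℕ} [Fact p.Prime] (hodd : Odd p) (hc : ClassTwo H) (hexp : ∀ x : H, x ^ p = 1)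
    (P Q : Subgroup M) [Finite Q] (hP : IsPGroup p P)
    (hQ : (Nat.card Q).Coprime p) (hPQ : P ≤ Subgroup.normalizer (Q : Set M))
    (hfix : ∀ v : H, (∀ a ∈ P, a • v = v) → ∀ q ∈ Q, q • v = v) :
    ∀ v : H, ∀ q ∈ Q, q • v = v := by
  let _ := twistGroup hc ((p + 1) / 2) (half hodd hexp)
  let e : Twist H ≃ H := ⟨Twist.val, Twist.mk, fun _ => rfl, fun _ => rfl⟩
  have := Finite.of_equiv H e.symm
  let _ : MulDistribMulAction M (Twist H) :=
    { smul := fun g a => ⟨g • a.val⟩
      one_smul := fun a => Twist.ext (one_smul M a.val)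
      mul_smul := fun g g' a => Twist.ext (mul_smul g g' a.val)
      smul_one := fun g => Twist.ext (smul_one g : g • (1 : H) = 1)
      smul_mul := fun g a b => Twist.ext (by
        change g • (a.val * b.val * corr _ b.val a.val) =
          (g • a.val) * (g • b.val) * corr _ (g • b.val) (g • a.val)
        rw [smul_mul', smul_mul', corr, smul_pow', smul_commutatorElement]; rfl) }
  have hV : IsPGroup p (Twist H) := by
    have hH : IsPGroup p H := fun x => ⟨1, by rw [pow_one]; exact hexp x⟩
    obtain ⟨k, hk⟩ := IsPGroup.iff_card.1 hH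
    exact IsPGroup.of_card ((Nat.card_congr e).trans hk)
  intro v q hq
  exact congrArg Twist.val (smul_eq_of_comm hV P Q hP hQ hPQ
    (fun a ha r hr => Twist.ext (hfix a.val (fun g hg => congrArg Twist.val (ha g hg)) r hr))
    ⟨v⟩ q hq)

end CfsgLib.BaerTrick
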