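import Mathlib.GroupTheory.Sylow
import Mathlib.GroupTheory.Nilpotent
import Mathlib.GroupTheory.Solvable

/-!
# Small general lemmas used by the finite-group-structure statements (slice A)
-/

set_option autoImplicit false

namespace CfsgLib.FGSA

variable {G : Type*} [Group G]

lemma isPGroup_of_prime_orderOf_eq [Finite G] {p : ℕ}
    (h : ∀ g : G, (orderOf g).Prime → orderOf g = p) : IsPGroup p G := by
  rw [isPGroup_iff_orderOf_dvd_pow]
  intro g
  refine ⟨(orderOf g).primeFactorsList.length, ?_⟩
  have hpos : orderOf g ≠ 0 := (orderOf_pos g).ne'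
  have hall : ∀ r ∈ (orderOf g).primeFactorsList, r = p := by
    intro r hr
    have hrp := Nat.prime_of_mem_primeFactorsList hr
    have hrd := Nat.dvd_of_mem_primeFactorsList hr
    have := h (g ^ (orderOf g / r)) (by rwa [orderOf_pow_orderOf_div hpos hrd])
    rwa [orderOf_pow_orderOf_div hpos hrd] at this
  exact dvd_of_eq (Nat.eq_prime_pow_of_unique_prime_dvd hpos
    (fun {d} hd hdd => hall d ((Nat.mem_primeFactorsList hpos).2 ⟨hd, hdd⟩)))

lemma isSolvable_of_isPGroup [Finite G] {p : ℕ} [Fact p.Prime] (h : IsPGroup p G) :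
    Group.IsSolvable G := by
  haveI := h.isNilpotent
  infer_instance

lemma lt_inf_normalizer_of_isPGroup [Finite G] {p : ℕ} [Fact p.Prime] {P R : Subgroup G}
    (hP : IsPGroup p P) (hR : R < P) : R < P ⊓ Subgroup.normalizer (R : Set G) := by
  haveI : Group.IsNilpotent P := hP.isNilpotent
  have hlt : R.subgroupOf P < ⊤ := by
    rw [lt_top_iff_ne_top]
    intro h
    rw [Subgroup.subgroupOf_eq_top] at h
    exact hR.not_ge h
  have hn := Group.normalizerCondition_of_isNilpotent (G := P) _ hlt
  refine lt_of_le_of_ne (le_inf hR.le Subgroup.le_normalizer) fun h => ?_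
  obtain ⟨x, hx, hxR⟩ := SetLike.exists_of_lt hn
  apply hxR
  rw [Subgroup.mem_subgroupOf]
  rw [h]
  refine ⟨x.2, ?_⟩
  show (x : G) ∈ Subgroup.normalizer (R : Set G)
  rw [Subgroup.mem_normalizer_iff] at hx ⊢
  intro k
  constructor
  · intro hk
    exact (hx ⟨k, hR.le hk⟩).1 hk
  · intro hk
    have hkP : k ∈ P := by
      have := P.mul_mem (P.mul_mem (P.inv_mem x.2) (hR.le hk)) x.2
      simpa [mul_assoc] using this
    exact (hx ⟨k, hkP⟩).2 hk

/-- A subgroup with no proper overgroups other than `⊤`, if normal, has cyclic quotient. -/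
lemma isSolvable_quotient_of_normal_isCoatom [Finite G] {P : Subgroup G} [P.Normal]
    (hP : IsCoatom P) : Group.IsSolvable (G ⧸ P) := by
  obtain ⟨g, hg⟩ : ∃ g, g ∉ P := by
    by_contra h
    push_neg at h
    exact hP.1 (eq_top_iff.2 fun x _ => h x)
  have hlt : P < (Subgroup.zpowers (g : G ⧸ P)).comap (QuotientGroup.mk' P) := by
    refine lt_of_le_of_ne (fun x hx => ?_) fun heq => hg ?_
    · rw [Subgroup.mem_comap, QuotientGroup.mk'_apply, (QuotientGroup.eq_one_iff x).2 hx]
      exact one_mem _
    · rw [heq]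
      exact Subgroup.mem_zpowers (g : G ⧸ P)
  have htop := hP.2 _ hlt
  apply Group.isSolvable_of_comm
  have hmem : ∀ a : G ⧸ P, a ∈ Subgroup.zpowers (g : G ⧸ P) := by
    intro a
    induction a using QuotientGroup.induction_on with
    | _ x =>
      have : x ∈ (Subgroup.zpowers (g : G ⧸ P)).comap (QuotientGroup.mk' P) := by
        rw [htop]; trivial
      exact this
  intro a b
  obtain ⟨i, rfl⟩ := hmem a
  obtain ⟨j, rfl⟩ := hmem b
  exact (Commute.zpow_zpow (Commute.refl _) i j)

end CfsgLib.FGSA
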