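import Cfsg.Agent.FGSA.RankTwoOdd

/-!
Blackburn's list of the `p`-groups of rank at most two, `p` odd.
-/

set_option autoImplicit false
set_option linter.style.haveILetI false
set_option linter.unusedSectionVars false

namespace CfsgLib.FGSA.Blackburn

open Subgroup CfsgLib.FGSA.Huppert CfsgLib.FGSA.RankTwoOdd
open scoped commutatorElement

universe u

variable {G : Type u} [Group G] [Finite G] {p : ℕ} [hp : Fact p.Prime]

/-- Iterated conjugation. -/
theorem conj_iterate {x w v z : G} (h1 : x * w * x⁻¹ = v * w) (h2 : x * v * x⁻¹ = z * v)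
    (h3 : x * z = z * x) (h4 : z * v = v * z) (k : ℕ) :
    x ^ k * w * (x ^ k)⁻¹ = v ^ k * z ^ (k.choose 2) * w ∧ x ^ k * v * (x ^ k)⁻¹ = z ^ k * v := by
  induction k with
  | zero => simp
  | succ k ih =>
    have hz : ∀ i : ℕ, x * z ^ i * x⁻¹ = z ^ i := fun i => by
      rw [(show Commute x z from h3).pow_right i |>.eq, mul_inv_cancel_right]
    constructor
    · calc x ^ (k + 1) * w * (x ^ (k + 1))⁻¹ = x * (x ^ k * w * (x ^ k)⁻¹) * x⁻¹ := by rw [pow_succ']; group
        _ = x * (v ^ k * z ^ (k.choose 2) * w) * x⁻¹ := by rw [ih.1]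
        _ = (x * v * x⁻¹) ^ k * (x * z ^ (k.choose 2) * x⁻¹) * (x * w * x⁻¹) := by rw [conj_pow]; group
        _ = z ^ k * v ^ k * z ^ (k.choose 2) * (v * w) := by
          rw [h2, hz, h1, (show Commute z v from h4).mul_pow]
        _ = _ := by
          have hc : Commute z v := h4
          rw [Nat.choose_succ_succ' k 1, Nat.choose_one_right, pow_add z k, pow_succ v k, (hc.pow_pow k k).eq,
            mul_assoc (v ^ k) (z ^ k), ← mul_assoc _ v w, mul_assoc (v ^ k) _ v,
            ((hc.pow_left k).mul_left (hc.pow_left _)).eq, ← mul_assoc (v ^ k) v]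
    · calc x ^ (k + 1) * v * (x ^ (k + 1))⁻¹ = x * (x ^ k * v * (x ^ k)⁻¹) * x⁻¹ := by rw [pow_succ']; group
        _ = x * (z ^ k * v) * x⁻¹ := by rw [ih.2]
        _ = (x * z ^ k * x⁻¹) * (x * v * x⁻¹) := by group
        _ = _ := by rw [hz, h2, ← mul_assoc, ← pow_succ]

theorem pow_choose_two_eq_one (hp2 : p ≠ 2) {z : G} (hz : z ^ p = 1) : z ^ (p.choose 2) = 1 := by
  obtain ⟨d, hd⟩ := hp.out.dvd_choose_self (k := 2) (by norm_num)
    (lt_of_le_of_ne hp.out.two_le (Ne.symm hp2))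
  rw [hd, pow_mul, hz, one_pow]

/-- The context of an element of order `p` outside `M = C(U)`. -/
structure Setup (p : ℕ) {G : Type u} [Group G] (U M : Subgroup G) (x : G) : Prop where
  hM : M = centralizer (U : Set G)
  hMn : M.Normal
  hMi : M.index = p
  hU2 : Nat.card U = p ^ 2
  hUel : Cfsg.IsElementaryAbelian p U
  hZp : Nat.card ↥(U ⊓ center G) = p
  hcl : ∀ (g : G), ∀ u ∈ U, g * u * g⁻¹ * u⁻¹ ∈ U ⊓ center G
  hfixU : ∀ u ∈ U, x * u = u * x → u ∈ U ⊓ center G
  hΩ : ∀ m ∈ M, m ^ p = 1 → m ∈ U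
  law : Regular.PowLaw p 1 M
  hx : x ^ p = 1
  hxM : x ∉ M

theorem Setup.le_M {U M : Subgroup G} {x : G} (S : Setup p U M x) : U ≤ M := by
  rw [S.hM]
  haveI := S.hUel.1
  exact fun u hu => mem_centralizer_iff.2 fun v hv =>
    congrArg Subtype.val (mul_comm' (⟨v, hv⟩ : U) ⟨u, hu⟩)

theorem Setup.commute {U M : Subgroup G} {x : G} (S : Setup p U M x) {m u : G} (hm : m ∈ M)
    (hu : u ∈ U) : Commute u m := by
  rw [S.hM] at hm
  exact mem_centralizer_iff.1 hm u hu

theorem Setup.pow_eq {U M : Subgroup G} {x : G} (hG : IsPGroup p G) (S : Setup p U M x) {a b : G}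
    (ha : a ∈ M) (hb : b ∈ M) (h : a ^ p = b ^ p) : a * b⁻¹ ∈ U := by
  have := (Regular.pow_eq_iff (hG.to_subgroup M) S.law ⟨a, ha⟩ ⟨b, hb⟩).1 (Subtype.ext (by simpa using h))
  exact S.hΩ _ (mul_mem ha (inv_mem hb)) (by simpa using congrArg Subtype.val this)

/-- If `x` centralizes an element of `M` of order `p ^ 2`, it acts trivially modulo `U`. -/
theorem Setup.commutator_mem {U M : Subgroup G} {x : G} (hp2 : p ≠ 2) (hG : IsPGroup p G)
    (S : Setup p U M x) {c : G} (hc : c ∈ M) (hxc : x * c = c * x) (hco : orderOf c = p ^ 2) :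
    ∀ m ∈ M, x * m * x⁻¹ * m⁻¹ ∈ U := by
  set Z := U ⊓ center G with hZ
  have hMn := S.hMn
  have hMp : IsPGroup p M := hG.to_subgroup M
  have hcp : (c ^ p) ^ p = 1 := by rw [← pow_mul, ← pow_two, ← hco, pow_orderOf_eq_one]
  have hcp1 : c ^ p ≠ 1 := fun e => by
    have := orderOf_dvd_of_pow_eq_one e
    rw [hco] at this
    exact absurd (Nat.le_of_dvd hp.out.pos this) (not_le.2 (lt_self_pow₀ hp.out.one_lt one_lt_two))
  have hcZ : c ^ p ∈ Z := S.hfixU _ (S.hΩ _ (pow_mem hc p) hcp) ((show Commute x c from hxc).pow_right p).eq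
  have hgen : zpowers (c ^ p) = Z := eq_of_le_of_card_ge (zpowers_le.2 hcZ) (by
    rw [Nat.card_zpowers, orderOf_eq_prime hcp hcp1, S.hZp])
  -- the key step
  have key : ∀ m ∈ M, ∀ w ∈ Z, (x * m * x⁻¹) ^ p = m ^ p * w → w = 1 := by
    intro m hm w hw h
    obtain ⟨i, hi⟩ := mem_zpowers_iff.1 (hgen.ge hw)
    set c' := c ^ i with hc'
    have hc'M : c' ∈ M := zpow_mem hc i
    have hc'x : Commute x c' := (show Commute x c from hxc).zpow_right i
    have hc'p : c' ^ p = w := by rw [← hi, hc', ← zpow_natCast, ← zpow_natCast c p, ← zpow_mul, ← zpow_mul, mul_comm]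
    set A : M := ⟨m, hm⟩
    set B : M := ⟨c', hc'M⟩
    have h1 : B⁻¹ ^ p ^ 1 * A⁻¹ = A⁻¹ * B⁻¹ ^ p ^ 1 := Subtype.ext (by
      simp only [pow_one, Subgroup.coe_mul, Subgroup.coe_pow, InvMemClass.coe_inv, A, B, inv_pow, hc'p]
      exact (mem_center_iff.1 (inv_mem hw.2) _).symm)
    have h2 := (Regular.commute_pow_iff hMp S.law B⁻¹ A⁻¹).1 h1
    rw [inv_inv, inv_inv, show B * A * B⁻¹ * A⁻¹ = ⁅B, A⁆ from (commutatorElement_def B A).symm] at h2
    have h3 := congrArg Subtype.val (Regular.pow_mul_of_commutator hMp S.law h2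
      (subset_closure (Set.mem_insert_of_mem _ rfl)) (subset_closure (Set.mem_insert _ _)))
    simp only [pow_one, Subgroup.coe_mul, Subgroup.coe_pow, A, B, hc'p] at h3
    have hxm : x * m * x⁻¹ ∈ M := hMn.conj_mem m hm x
    set v := x * m * x⁻¹ * (m * c')⁻¹ with hv
    have hvU : v ∈ U := S.pow_eq hG hxm (mul_mem hm hc'M) (h.trans h3.symm)
    set ζ := x * v * x⁻¹ * v⁻¹ with hζ
    have hζZ : ζ ∈ Z := S.hcl x v hvU
    have hit : ∀ k : ℕ, x ^ k * m * (x ^ k)⁻¹ = v ^ k * ζ ^ (k.choose 2) * m * c' ^ k := by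
      intro k
      induction k with
      | zero => simp
      | succ k ih =>
        have hxv : x * v * x⁻¹ = ζ * v := by rw [hζ]; group
        have hζx : ∀ j : ℕ, x * ζ ^ j * x⁻¹ = ζ ^ j := fun j => by
          rw [mem_center_iff.1 (pow_mem hζZ.2 j) x, mul_inv_cancel_right]
        have hcz : Commute ζ v := (mem_center_iff.1 hζZ.2 v).symm
        calc x ^ (k + 1) * m * (x ^ (k + 1))⁻¹ = x * (x ^ k * m * (x ^ k)⁻¹) * x⁻¹ := by rw [pow_succ']; group
          _ = (x * v * x⁻¹) ^ k * (x * ζ ^ (k.choose 2) * x⁻¹) * (x * m * x⁻¹) * (x * c' ^ k * x⁻¹) := by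
            rw [ih, conj_pow]; group
          _ = ζ ^ k * v ^ k * ζ ^ (k.choose 2) * (v * (m * c')) * c' ^ k := by
            rw [hxv, hζx, hcz.mul_pow, (hc'x.pow_right k).eq, mul_inv_cancel_right, hv]; group
          _ = v ^ k * (ζ ^ k * ζ ^ (k.choose 2)) * v * m * (c' * c' ^ k) := by
            rw [(hcz.pow_pow k k).eq]; group
          _ = v ^ k * (v * (ζ ^ k * ζ ^ (k.choose 2))) * m * (c' * c' ^ k) := by
            rw [mem_center_iff.1 (mul_mem (pow_mem hζZ.2 k) (pow_mem hζZ.2 (k.choose 2))) v]; group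
          _ = _ := by
            rw [← pow_succ', Nat.choose_succ_succ' k 1, Nat.choose_one_right, ← pow_add, ← mul_assoc, ← pow_succ]
    have hp' := hit p
    rw [S.hx, one_mul, inv_one, mul_one, S.hUel.2 v hvU, one_mul,
      pow_choose_two_eq_one hp2 (S.hUel.2 ζ hζZ.1), one_mul, hc'p] at hp'
    exact mul_left_cancel ((mul_one m).trans hp').symm
  -- `x` fixes the elements of `U` which are `p`-th powers, then all `p`-th powers
  set P := (Cfsg.powerClosure p 1 (⊤ : Subgroup M)).map M.subtype with hP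
  haveI : (Cfsg.powerClosure p 1 (⊤ : Subgroup M)).Normal := powerClosure_normal 1 ⊤
  have hpow : ∀ e ∈ P, ∃ m ∈ M, m ^ p = e := by
    rintro _ ⟨e, he, rfl⟩
    obtain ⟨m, -, rfl⟩ := (Regular.mem_powerClosure_iff hMp S.law).1 he
    exact ⟨m, m.2, by simp⟩
  have hmemP : ∀ m ∈ M, m ^ p ∈ P := fun m hm =>
    ⟨(⟨m, hm⟩ : M) ^ p, pow_mem_top_powerClosure _, rfl⟩
  have hPU : ∀ u ∈ U, u ∈ P → u ∈ Z := by
    intro u hu huP
    obtain ⟨m, hm, rfl⟩ := hpow u huP
    have hw := S.hcl x (m ^ p) hu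
    have h := key m hm _ hw (by
      rw [conj_pow, mem_center_iff.1 hw.2 (m ^ p), inv_mul_cancel_right])
    exact S.hfixU _ hu (mul_inv_eq_iff_eq_mul.1 (mul_inv_eq_one.1 h))
  have hfix : ∀ e ∈ P, x * e * x⁻¹ = e := by
    have hind : ∀ k : ℕ, ∀ e ∈ P, e ^ p ^ k = 1 → x * e * x⁻¹ = e := by
      intro k
      induction k with
      | zero => intro e _ h; rw [pow_zero, pow_one] at h; rw [h, mul_one, mul_inv_cancel]
      | succ k ih =>
        intro e he h
        obtain ⟨m, hm, hme⟩ := hpow e he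
        have heM : e ∈ M := hme ▸ pow_mem hm p
        have he' : x * e * x⁻¹ ∈ P := by
          rw [← hme, ← conj_pow]; exact hmemP _ (hMn.conj_mem m hm x)
        have hep : (x * e * x⁻¹) ^ p = e ^ p := by
          rw [conj_pow]
          exact ih _ (pow_mem he p) (by rw [← pow_mul, ← pow_succ']; exact h)
        have hwU := S.pow_eq hG (hMn.conj_mem e heM x) heM hep
        have hwZ := hPU _ hwU (mul_mem he' (inv_mem he))
        have h1 := key m hm _ hwZ (by
          rw [conj_pow, hme, mem_center_iff.1 hwZ.2 e, inv_mul_cancel_right])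
        exact mul_inv_eq_one.1 h1
    intro e he
    obtain ⟨k, hk⟩ := IsPGroup.iff_card.1 hG
    exact hind k e he (by rw [← hk, pow_card_eq_one'])
  intro m hm
  exact S.pow_eq hG (hMn.conj_mem m hm x) hm (by rw [conj_pow]; exact hfix _ (hmemP m hm))

/-- The two nonmetacyclic families. -/
theorem structure_families (hp2 : p ≠ 2) (hG : IsPGroup p G) {n : ℕ} (hn : Nat.card G = p ^ n)
    {U M : Subgroup G} {x : G} (S : Setup p U M x) (hxm : ∀ m ∈ M, x * m * x⁻¹ * m⁻¹ ∈ U) :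
    (3 ≤ n ∧ ∃ x y z : G, closure ({x, y, z} : Set G) = ⊤ ∧ x ^ p = 1 ∧ y ^ p = 1 ∧ z ^ p ^ (n - 2) = 1 ∧
        x * z = z * x ∧ y * z = z * y ∧ x⁻¹ * y * x = y * z ^ p ^ (n - 3)) ∨
    (4 ≤ n ∧ ∃ (s : ℕ) (x y z : G), (s = 1 ∨ ¬ IsSquare (s : ZMod p)) ∧ closure ({x, y, z} : Set G) = ⊤ ∧
        x ^ p = 1 ∧ y ^ p = 1 ∧ z ^ p ^ (n - 2) = 1 ∧ y * z = z * y ∧
        x⁻¹ * y * x = y * z ^ (s * p ^ (n - 3)) ∧ x⁻¹ * z * x = y * z) := by
  classical
  set Z := U ⊓ center G with hZ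
  haveI hZn : Z.Normal := ⟨fun z hz g => by rwa [mem_center_iff.1 hz.2 g, mul_inv_cancel_right]⟩
  have hUM := S.le_M
  have hMn := S.hMn
  set C := M ⊓ centralizer ({x} : Set G) with hC
  have hCx : ∀ c ∈ C, x * c = c * x := fun c hc => (mem_centralizer_singleton_iff.1 hc.2).symm
  have hCU : ∀ c ∈ C, c ^ p = 1 → c ∈ Z := fun c hc hcp => S.hfixU c (S.hΩ c hc.1 hcp) (hCx c hc)
  have hCc : IsCyclic C := isCyclic_of_omega_le hp2 hG C Z S.hZp hCU
  have hZC : Z ≤ C := fun z hz =>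
    ⟨hUM hz.1, mem_centralizer_singleton_iff.2 (mem_center_iff.1 hz.2 x).symm⟩
  have hpowC : ∀ m ∈ M, m ^ p ∈ C := by
    intro m hm
    refine ⟨pow_mem hm p, mem_centralizer_singleton_iff.2 ?_⟩
    set v := x * m * x⁻¹ * m⁻¹ with hv
    have hvU := hxm m hm
    have e : x * m * x⁻¹ = v * m := by rw [hv]; group
    have h1 : x * m ^ p * x⁻¹ = m ^ p := by
      rw [← conj_pow, e, (S.commute hm hvU).mul_pow, S.hUel.2 v hvU, one_mul]
    exact (mul_inv_eq_iff_eq_mul.1 h1).symm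
  obtain ⟨a, ha⟩ := IsPGroup.iff_card.1 (hG.to_subgroup C)
  have ha1 : 1 ≤ a := by
    have := card_le_of_le hZC
    rw [S.hZp, ha] at this
    by_contra h
    rw [show a = 0 by omega, pow_zero] at this
    exact absurd hp.out.one_lt (not_lt.2 this)
  have hn1 : 1 ≤ n := by
    by_contra h0
    have hc := card_le_card_group U
    rw [S.hU2, hn, show n = 0 by omega, pow_zero] at hc
    exact absurd (Nat.one_lt_pow two_ne_zero hp.out.one_lt) (not_lt.2 hc)
  have hMc : Nat.card M = p ^ (n - 1) := by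
    have := M.card_mul_index
    rw [S.hMi, hn, show n = n - 1 + 1 by omega, pow_succ] at this
    exact Nat.eq_of_mul_eq_mul_right hp.out.pos this
  have hupper : n - 1 ≤ a + 2 := by
    have h := card_le_of_fibre M C U hpowC (fun a' ha' b hb e => S.pow_eq hG ha' hb e)
    rw [hMc, ha, S.hU2, ← pow_add] at h
    exact (Nat.pow_le_pow_iff_right hp.out.one_lt).1 h
  have hnormU : ∀ H : Subgroup G, H ≤ M → H ≤ normalizer (U : Set G) := by
    intro H hH
    rw [S.hM] at hH
    exact hH.trans (centralizer_le_normalizer _)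
  have hcard_sup : ∀ H : Subgroup G, H ≤ M → Z ≤ H → (∀ h ∈ H, h ∈ U → h ∈ Z) →
      Nat.card ↥(H ⊔ U) = Nat.card H * p := by
    intro H hH hZH hHU
    have := CfsgLib.Solvable.card_sup_mul_card_inf (hnormU H hH)
    have heq : H ⊓ U = Z := le_antisymm (fun h hh => hHU h hh.1 hh.2) (le_inf hZH inf_le_left)
    rw [heq, S.hZp, S.hU2, pow_two, ← mul_assoc] at this
    exact Nat.eq_of_mul_eq_mul_right hp.out.pos this
  have hCU' : ∀ c ∈ C, c ∈ U → c ∈ Z := fun c hc hcU => S.hfixU c hcU (hCx c hc)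
  have hlower : a + 1 ≤ n - 1 := by
    have h := card_le_of_le (sup_le inf_le_left hUM : C ⊔ U ≤ M)
    rw [hcard_sup C inf_le_left hZC hCU', ha, hMc, ← pow_succ] at h
    exact (Nat.pow_le_pow_iff_right hp.out.one_lt).1 h
  -- generation
  have hgen : ∀ x' y z : G, x' ∉ M → y ∈ U → y ∉ Z → Z ≤ zpowers z → z ∈ M →
      (zpowers z ⊔ U = M) → closure ({x', y, z} : Set G) = ⊤ := by
    intro x' y z hx' hy hyZ hZz hz hzM
    set K := closure ({x', y, z} : Set G)
    have hzK : zpowers z ≤ K := zpowers_le.2 (subset_closure (by simp))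
    have hyK : y ∈ K := subset_closure (by simp)
    have hxK : x' ∈ K := subset_closure (by simp)
    have hUK : U ≤ K := by
      have e : Z ⊔ zpowers y = U := by
        refine eq_of_le_of_card_ge (sup_le inf_le_left (zpowers_le.2 hy)) ?_
        have hlt : Z < Z ⊔ zpowers y :=
          lt_of_le_of_ne le_sup_left fun e => hyZ (e ▸ mem_sup_right (mem_zpowers y))
        rw [S.hU2, pow_two]
        exact S.hZp ▸ card_mul_le_of_lt hG hlt
      rw [← e]
      exact sup_le (hZz.trans hzK) (zpowers_le.2 hyK)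
    have hMK : M < K := lt_of_le_of_ne (hzM ▸ sup_le hzK hUK) fun e => hx' (e ▸ hxK)
    refine eq_top_of_card_eq _ (le_antisymm (card_le_card_group _) ?_)
    rw [← M.card_mul_index, S.hMi, mul_comm]
    exact card_mul_le_of_lt hG hMK
  have hZgen : ∀ z : G, ∀ k : ℕ, orderOf z = p ^ (k + 1) → z ^ p ^ k ∈ M → (z ^ p ^ k) * x = x * (z ^ p ^ k) →
      z ^ p ^ k ≠ 1 ∧ zpowers (z ^ p ^ k) = Z := by
    intro z k hz hzM hzx
    have h1 : (z ^ p ^ k) ^ p = 1 := by rw [← pow_mul, ← pow_succ, ← hz, pow_orderOf_eq_one]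
    have h2 : z ^ p ^ k ≠ 1 := fun e => by
      have := orderOf_dvd_of_pow_eq_one e
      rw [hz] at this
      exact absurd ((Nat.pow_dvd_pow_iff_le_right hp.out.one_lt).1 this) (by omega)
    exact ⟨h2, eq_of_le_of_card_ge (zpowers_le.2 (S.hfixU _ (S.hΩ _ hzM h1) hzx.symm))
      (by rw [Nat.card_zpowers, orderOf_eq_prime h1 h2, S.hZp])⟩
  obtain ⟨cc, hcc⟩ := IsCyclic.exists_ofOrder_eq_natCard (α := C)
  rcases (show a + 2 = n ∨ a + 3 = n by omega) with hB | hCcase
  · -- `M = C U`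
    refine Or.inl ⟨by omega, ?_⟩
    set z : G := (cc : G) with hz
    have hzo : orderOf z = p ^ a := by rw [hz, Subgroup.orderOf_coe, hcc, ha]
    obtain ⟨j, rfl⟩ : ∃ j, a = j + 1 := ⟨a - 1, by omega⟩
    have hzC : z ∈ C := cc.2
    obtain ⟨hz1, hzZ⟩ := hZgen z j hzo (pow_mem hzC.1 _)
      ((show Commute z x from (hCx z hzC).symm).pow_left _).eq
    have hZlt : Z < U := lt_of_le_of_ne inf_le_left fun e => by
      have := S.hU2
      rw [← e, S.hZp] at this
      exact absurd this (ne_of_lt (lt_self_pow₀ hp.out.one_lt one_lt_two))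
    obtain ⟨y, hyU, hyZ⟩ := SetLike.exists_of_lt hZlt
    set t := x⁻¹ * y * x * y⁻¹ with ht
    have htZ : t ∈ Z := by
      have := S.hcl x⁻¹ y hyU
      rwa [inv_inv] at this
    have ht1 : t ≠ 1 := fun e => hyZ (S.hfixU y hyU (by
      rw [ht, mul_inv_eq_one, mul_assoc, inv_mul_eq_iff_eq_mul] at e
      exact e.symm))
    have htgen : zpowers t = Z := eq_of_le_of_card_ge (zpowers_le.2 htZ) (by
      rw [Nat.card_zpowers, orderOf_eq_prime (S.hUel.2 t htZ.1) ht1, S.hZp])
    obtain ⟨i, hi⟩ := mem_zpowers_iff.1 (htgen.ge (hzZ ▸ mem_zpowers (z ^ p ^ j)))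
    have hzM : zpowers z ⊔ U = M := by
      refine eq_of_le_of_card_ge (sup_le (zpowers_le.2 hzC.1) hUM) ?_
      rw [hcard_sup _ (zpowers_le.2 hzC.1)
        (hzZ ▸ zpowers_le.2 (pow_mem (mem_zpowers z) _)) (fun h hh hhU => hCU' h ((zpowers_le.2 hzC) hh) hhU),
        Nat.card_zpowers, hzo, hMc, ← pow_succ]
      exact Nat.pow_le_pow_right hp.out.pos (by omega)
    have hyi : y ^ i ∉ Z := by
      intro hmem
      apply hz1
      rw [← hi]
      have h1 : x⁻¹ * y ^ i * x = y ^ i := by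
        rw [mul_assoc, ← mem_center_iff.1 hmem.2 x, inv_mul_cancel_left]
      have h2 : x⁻¹ * y ^ i * x = t ^ i * y ^ i := by
        rw [← (show Commute t y from (mem_center_iff.1 htZ.2 y).symm).mul_zpow,
          show t * y = x⁻¹ * y * x⁻¹⁻¹ by rw [ht]; group, conj_zpow, inv_inv]
      rw [h1] at h2
      exact mul_eq_right.1 h2.symm
    refine ⟨x, y ^ i, z, hgen x _ z S.hxM (zpow_mem hyU i) hyi
      (hzZ ▸ zpowers_le.2 (pow_mem (mem_zpowers z) _)) hzC.1 hzM, S.hx, S.hUel.2 _ (zpow_mem hyU i), ?_,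
      hCx z hzC, (S.commute hzC.1 (zpow_mem hyU i)).eq, ?_⟩
    · rw [show n - 2 = j + 1 by omega, ← hzo, pow_orderOf_eq_one]
    · rw [show n - 3 = j by omega, ← hi, mem_center_iff.1 (zpow_mem (Subgroup.mem_inf.1 htZ).2 i) (y ^ i),
        ← (show Commute t y from (mem_center_iff.1 htZ.2 y).symm).mul_zpow,
        show t * y = x⁻¹ * y * x⁻¹⁻¹ by rw [ht]; group, conj_zpow, inv_inv]
  · -- `z ^ p` generates `C`
    refine Or.inr ⟨by omega, ?_⟩
    obtain ⟨b, rfl⟩ : ∃ b, a = b + 1 := ⟨a - 1, by omega⟩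
    obtain ⟨z, hzM, hzo⟩ : ∃ z ∈ M, orderOf (z ^ p) = p ^ (b + 1) := by
      by_contra hcon
      push Not at hcon
      set S' := (zpowers ((cc : G) ^ p)) with hS'
      have hS'c : Nat.card S' = p ^ b := by
        rw [hS', Nat.card_zpowers, orderOf_pow_of_dvd hp.out.ne_zero (by
          rw [Subgroup.orderOf_coe, hcc, ha, pow_succ']; exact dvd_mul_right p _),
          Subgroup.orderOf_coe, hcc, ha, pow_succ', Nat.mul_div_cancel_left _ hp.out.pos]
      have hmem : ∀ m ∈ M, m ^ p ∈ S' := by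
        intro m hm
        obtain ⟨i, hi⟩ := mem_zpowers_iff.1 ((isCyclic_iff_exists_zpowers_eq_top.1 hCc).choose_spec.ge
          (mem_top (⟨m ^ p, hpowC m hm⟩ : C)))
        obtain ⟨k, hk⟩ : ∃ k : ℕ, (cc : C) ^ k = ⟨m ^ p, hpowC m hm⟩ := by
          have htop : zpowers cc = ⊤ := eq_top_of_card_eq _ (by rw [Nat.card_zpowers, hcc])
          exact (isOfFinOrder_of_finite cc).mem_powers_iff_mem_zpowers.2 (htop ▸ mem_top _)
        have hk' : (cc : G) ^ k = m ^ p := congrArg Subtype.val hk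
        by_cases hpk : p ∣ k
        · obtain ⟨k', rfl⟩ := hpk
          rw [← hk', pow_mul]
          exact pow_mem (mem_zpowers _) k'
        · refine absurd ?_ (hcon m hm)
          rw [← hk', Nat.Coprime.orderOf_pow, Subgroup.orderOf_coe, hcc, ha]
          rw [Subgroup.orderOf_coe, hcc, ha]
          exact (hp.out.coprime_iff_not_dvd.2 hpk).pow_left _
      have h := card_le_of_fibre M S' U hmem (fun a' ha' b' hb e => S.pow_eq hG ha' hb e)
      rw [hMc, hS'c, S.hU2, ← pow_add] at h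
      have := (Nat.pow_le_pow_iff_right hp.out.one_lt).1 h
      omega
    have hzord : orderOf z = p ^ (b + 2) := by
      refine orderOf_eq_prime_pow (n := b + 1) (fun e => ?_) ?_
      · have h1 : (z ^ p) ^ p ^ b = 1 := by rw [← pow_mul, ← pow_succ']; exact e
        have := orderOf_dvd_of_pow_eq_one h1
        rw [hzo] at this
        exact absurd ((Nat.pow_dvd_pow_iff_le_right hp.out.one_lt).1 this) (by omega)
      · rw [pow_succ', pow_mul, ← hzo, pow_orderOf_eq_one]
    have hzp : z ^ p ^ (b + 1) = (z ^ p) ^ p ^ b := by rw [← pow_mul, ← pow_succ']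
    obtain ⟨hz1, hzZ⟩ := hZgen z (b + 1) hzord (pow_mem hzM _) (by
      rw [hzp]; exact ((show Commute (z ^ p) x from (hCx _ (hpowC z hzM)).symm).pow_left _).eq)
    have hZz : Z ≤ zpowers z := hzZ ▸ zpowers_le.2 (pow_mem (mem_zpowers z) _)
    have hzU : zpowers z ⊔ U = M := by
      refine eq_of_le_of_card_ge (sup_le (zpowers_le.2 hzM) hUM) ?_
      rw [hcard_sup _ (zpowers_le.2 hzM) hZz ?_, Nat.card_zpowers, hzord, hMc, ← pow_succ]
      · exact Nat.pow_le_pow_right hp.out.pos (by omega)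
      · intro h hh hhU
        obtain ⟨k, rfl⟩ := (isOfFinOrder_of_finite z).mem_powers_iff_mem_zpowers.2 hh
        have hdvd : p ^ (b + 1) ∣ k := by
          have := orderOf_dvd_of_pow_eq_one (show z ^ (k * p) = 1 by rw [pow_mul]; exact S.hUel.2 _ hhU)
          rw [hzord, pow_succ] at this
          exact Nat.dvd_of_mul_dvd_mul_right hp.out.pos this
        obtain ⟨k', rfl⟩ := hdvd
        show z ^ (p ^ (b + 1) * k') ∈ Z
        rw [pow_mul]
        exact pow_mem (hzZ ▸ mem_zpowers _) k'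
    -- conjugation by `x⁻¹`
    set y := x⁻¹ * z * x * z⁻¹ with hy
    have hyU : y ∈ U := by
      have h := hxm (x⁻¹ * z * x) (by simpa using hMn.conj_mem z hzM x⁻¹)
      rw [show x * (x⁻¹ * z * x) * x⁻¹ * (x⁻¹ * z * x)⁻¹ = (x⁻¹ * z * x * z⁻¹)⁻¹ by group] at h
      exact inv_mem_iff.1 h
    set t := x⁻¹ * y * x * y⁻¹ with ht
    have htZ : t ∈ Z := by
      have := S.hcl x⁻¹ y hyU
      rwa [inv_inv] at this
    have hyZ : y ∉ Z := by
      intro hyZ
      have hZlt : Z < U := lt_of_le_of_ne inf_le_left fun e => by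
        have := S.hU2
        rw [← e, S.hZp] at this
        exact absurd this (ne_of_lt (lt_self_pow₀ hp.out.one_lt one_lt_two))
      obtain ⟨w, hwU, hwZ⟩ := SetLike.exists_of_lt hZlt
      set τ := x⁻¹ * w * x * w⁻¹ with hτ
      have hτZ : τ ∈ Z := by
        have := S.hcl x⁻¹ w hwU
        rwa [inv_inv] at this
      have hτ1 : τ ≠ 1 := fun e => hwZ (S.hfixU w hwU (by
        rw [hτ, mul_inv_eq_one, mul_assoc, inv_mul_eq_iff_eq_mul] at e
        exact e.symm))
      have hτgen : zpowers τ = Z := eq_of_le_of_card_ge (zpowers_le.2 hτZ) (by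
        rw [Nat.card_zpowers, orderOf_eq_prime (S.hUel.2 τ hτZ.1) hτ1, S.hZp])
      obtain ⟨j, hj⟩ := mem_zpowers_iff.1 (hτgen.ge (inv_mem hyZ))
      have hzc : z * w ^ j ∈ C := by
        refine ⟨mul_mem hzM (zpow_mem (hUM hwU) j), mem_centralizer_singleton_iff.2 ?_⟩
        have h : x⁻¹ * (z * w ^ j) * x = z * w ^ j := by
          calc x⁻¹ * (z * w ^ j) * x = (x⁻¹ * z * x) * (x⁻¹ * w ^ j * x⁻¹⁻¹) := by group
            _ = (y * z) * (x⁻¹ * w * x⁻¹⁻¹) ^ j := by rw [hy, conj_zpow]; group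
            _ = (y * z) * (τ ^ j * w ^ j) := by
              rw [← (show Commute τ w from (mem_center_iff.1 hτZ.2 w).symm).mul_zpow, hτ]; group
            _ = z * w ^ j := by
              rw [hj, ← mem_center_iff.1 hyZ.2 z, mul_assoc z y, mul_inv_cancel_left]
        rw [mul_assoc, inv_mul_eq_iff_eq_mul] at h
        exact h
      have hdvd := Subgroup.orderOf_dvd_natCard C hzc
      rw [ha] at hdvd
      have h1 : (z * w ^ j) ^ p ^ (b + 1) = 1 := orderOf_dvd_iff_pow_eq_one.1 hdvd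
      rw [((S.commute hzM (zpow_mem hwU j)).symm).mul_pow,
        show (w ^ j) ^ p ^ (b + 1) = 1 by rw [pow_succ', pow_mul, S.hUel.2 _ (zpow_mem hwU j), one_pow],
        mul_one] at h1
      exact hz1 h1
    have ht1 : t ≠ 1 := fun e => hyZ (S.hfixU y hyU (by
      rw [ht, mul_inv_eq_one, mul_assoc, inv_mul_eq_iff_eq_mul] at e
      exact e.symm))
    set ζ := z ^ p ^ (b + 1) with hζ
    have hζo : orderOf ζ = p := by
      refine orderOf_eq_prime ?_ hz1
      rw [hζ, ← pow_mul, ← pow_succ, ← hzord, pow_orderOf_eq_one]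
    obtain ⟨r, hr⟩ := (isOfFinOrder_of_finite ζ).mem_powers_iff_mem_zpowers.2 (hzZ.ge htZ)
    simp only at hr
    have hnm : n - 3 = b + 1 := by omega
    have hn2 : n - 2 = b + 2 := by omega
    by_cases hsq : IsSquare (r : ZMod p)
    swap
    · refine ⟨r, x, y, z, Or.inr hsq, hgen x y z S.hxM hyU hyZ hZz hzM hzU, S.hx, S.hUel.2 y hyU,
        by rw [hn2, ← hzord, pow_orderOf_eq_one], (S.commute hzM hyU).eq, ?_, by rw [hy]; group⟩
      rw [hnm, mul_comm r, pow_mul, ← hζ, hr, mem_center_iff.1 htZ.2 y, ht]; group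
    -- rescale
    obtain ⟨q, hq⟩ := hsq
    have hr0 : (r : ZMod p) ≠ 0 := fun h0 => by
      obtain ⟨r', rfl⟩ := (ZMod.natCast_eq_zero_iff _ _).1 h0
      rw [pow_mul, ← hζo, pow_orderOf_eq_one, one_pow] at hr
      exact ht1 hr.symm
    have hq0 : q ≠ 0 := fun h0 => hr0 (by rw [hq, h0, mul_zero])
    set j : ℕ := (q⁻¹).val with hj
    have hjc : (j : ZMod p) = q⁻¹ := ZMod.natCast_zmod_val _
    have hj0 : ¬ p ∣ j := fun h => by
      rw [← ZMod.natCast_eq_zero_iff] at h
      exact inv_ne_zero hq0 (hjc ▸ h)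
    have hmod : r * j * j ≡ 1 [MOD p] := by
      rw [← ZMod.natCast_eq_natCast_iff, Nat.cast_mul, Nat.cast_mul, hjc, hq, Nat.cast_one]
      field_simp
    set x' := x ^ j with hx'
    obtain ⟨hit1, -⟩ := conj_iterate (x := x⁻¹) (w := z) (v := y) (z := t) (by rw [hy]; group)
      (by rw [ht]; group) (mem_center_iff.1 htZ.2 x⁻¹) (mem_center_iff.1 htZ.2 y).symm j
    obtain ⟨-, hit2⟩ := conj_iterate (x := x⁻¹) (w := z) (v := y) (z := t) (by rw [hy]; group)
      (by rw [ht]; group) (mem_center_iff.1 htZ.2 x⁻¹) (mem_center_iff.1 htZ.2 y).symm j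
    rw [inv_pow, inv_inv, ← hx'] at hit1 hit2
    set y' := y ^ j * t ^ (j.choose 2) with hy'
    have hy'U : y' ∈ U := mul_mem (pow_mem hyU j) (pow_mem htZ.1 _)
    have hy'Z : y' ∉ Z := by
      intro h
      apply hyZ
      have hyj : y ^ j ∈ Z := by
        simpa [hy'] using mul_mem h (inv_mem (pow_mem htZ (j.choose 2)))
      obtain ⟨e, -, he⟩ := Nat.exists_mul_mod_eq_one_of_coprime
        ((hp.out.coprime_iff_not_dvd.2 hj0).symm) hp.out.one_lt
      have : y = (y ^ j) ^ e := by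
        rw [← pow_mul, ← Nat.mod_add_div (j * e) p, he, pow_add, pow_mul, S.hUel.2 y hyU, one_pow, mul_one,
          pow_one]
      rw [this]; exact pow_mem hyj e
    have hconj : x'⁻¹ * y' * x' = y' * z ^ (1 * p ^ (n - 3)) := by
      rw [one_mul, hnm, ← hζ]
      calc x'⁻¹ * y' * x' = (x'⁻¹ * y * x'⁻¹⁻¹) ^ j * (x'⁻¹ * (t ^ (j.choose 2) * x')) := by
            rw [hy', conj_pow]; group
        _ = (t ^ j * y) ^ j * t ^ (j.choose 2) := by
            rw [inv_inv, hit2, ← mem_center_iff.1 (pow_mem htZ.2 (j.choose 2)) x', inv_mul_cancel_left]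
        _ = (t ^ j) ^ j * (y ^ j * t ^ (j.choose 2)) := by
            rw [((show Commute t y from (mem_center_iff.1 htZ.2 y).symm).pow_left j).mul_pow, mul_assoc]
        _ = y' * ζ := by
            have e : (t ^ j) ^ j = ζ := by
              rw [← hr, ← pow_mul, ← pow_mul, ← mul_assoc]
              conv_rhs => rw [← pow_one ζ]
              rw [pow_eq_pow_iff_modEq, hζo]
              exact hmod
            rw [e, hy']
            exact (mem_center_iff.1 (hzZ ▸ mem_zpowers ζ : ζ ∈ Z).2 _).symm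
    refine ⟨1, x', y', z, Or.inl rfl, hgen x' y' z ?_ hy'U hy'Z hZz hzM hzU,
      by rw [hx', ← pow_mul, mul_comm, pow_mul, S.hx, one_pow], S.hUel.2 _ hy'U,
      by rw [hn2, ← hzord, pow_orderOf_eq_one], (S.commute hzM hy'U).eq, hconj, hit1⟩
    intro hmem
    obtain ⟨e, -, he⟩ := Nat.exists_mul_mod_eq_one_of_coprime
      ((hp.out.coprime_iff_not_dvd.2 hj0).symm) hp.out.one_lt
    apply S.hxM
    have : x = x' ^ e := by
      rw [hx', ← pow_mul, ← Nat.mod_add_div (j * e) p, he, pow_add, pow_mul, S.hx, one_pow, mul_one, pow_one]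
    rw [this]; exact pow_mem hmem e

/-- Blackburn's theorem. -/
theorem main (hp2 : p ≠ 2) (n : ℕ) (hn : Nat.card G = p ^ n)
    (hrk : ∀ E : Subgroup G, IsMulCommutative E → (∀ a ∈ E, a ^ p = 1) → Nat.card E ≤ p ^ 2) :
    Cfsg.IsMetacyclic G ∨
    (3 ≤ n ∧ ∃ x y z : G, closure ({x, y, z} : Set G) = ⊤ ∧ x ^ p = 1 ∧ y ^ p = 1 ∧ z ^ p ^ (n - 2) = 1 ∧
        x * z = z * x ∧ y * z = z * y ∧ x⁻¹ * y * x = y * z ^ p ^ (n - 3)) ∨
    (4 ≤ n ∧ ∃ (s : ℕ) (x y z : G), (s = 1 ∨ ¬ IsSquare (s : ZMod p)) ∧ closure ({x, y, z} : Set G) = ⊤ ∧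
        x ^ p = 1 ∧ y ^ p = 1 ∧ z ^ p ^ (n - 2) = 1 ∧ y * z = z * y ∧
        x⁻¹ * y * x = y * z ^ (s * p ^ (n - 3)) ∧ x⁻¹ * z * x = y * z) ∨
    (p = 3 ∧ 2 ≤ n ∧ (⊤ : Subgroup G).lowerCentralSeries (n - 2) ≠ ⊥) := by
  classical
  have hG : IsPGroup p G := IsPGroup.of_card hn
  by_cases hcyc : IsCyclic G
  · refine Or.inl ⟨⊥, inferInstance, isCyclic_of_subsingleton, ?_⟩
    exact isCyclic_of_surjective _ (QuotientGroup.mk'_surjective (⊥ : Subgroup G))
  obtain ⟨U, hUn, hU, hU2⟩ := exists_data hp2 hG hcyc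
  set M := centralizer (U : Set G) with hM
  have hΩ : ∀ m ∈ M, m ^ p = 1 → m ∈ U := by
    intro m hm hmp
    haveI := hU.1
    have hcomm : ∀ a ∈ (U : Set G) ∪ {m}, ∀ b ∈ (U : Set G) ∪ {m}, a * b = b * a := by
      rintro a (ha | rfl) b (hb | rfl)
      · exact congrArg Subtype.val (mul_comm' (⟨a, ha⟩ : U) ⟨b, hb⟩)
      · exact mem_centralizer_iff.1 hm a ha
      · exact (mem_centralizer_iff.1 hm b hb).symm
      · rfl
    haveI := Subgroup.isMulCommutative_closure hcomm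
    have hexp : ∀ a ∈ closure ((U : Set G) ∪ {m}), a ^ p = 1 := by
      intro a ha
      induction ha using closure_induction with
      | mem a ha =>
        rcases ha with ha | rfl
        exacts [hU.2 a ha, hmp]
      | one => exact one_pow p
      | mul a b ha hb iha ihb =>
        rw [(show Commute a b from congrArg Subtype.val
          (mul_comm' (⟨a, ha⟩ : closure ((U : Set G) ∪ {m})) ⟨b, hb⟩)).mul_pow, iha, ihb, one_mul]
      | inv a _ ha => rw [inv_pow, ha, inv_one]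
    have hle : U ≤ closure ((U : Set G) ∪ {m}) := fun u hu => subset_closure (Or.inl hu)
    rw [eq_of_le_of_card_ge hle ((hrk _ inferInstance hexp).trans hU2.ge)]
    exact subset_closure (Or.inr rfl)
  have hUM : U ≤ M := fun u hu => mem_centralizer_iff.2 fun v hv => by
    haveI := hU.1
    exact congrArg Subtype.val (mul_comm' (⟨v, hv⟩ : U) ⟨u, hu⟩)
  have hsmM : SmallOmega p M := by
    refine le_trans ?_ hU2.le
    refine le_trans (card_map_of_injective M.subtype_injective).ge (card_le_of_le ?_)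
    rw [Cfsg.omegaOne, MonoidHom.map_closure, closure_le]
    rintro _ ⟨m, hm, rfl⟩
    exact hΩ _ m.2 (by rw [← map_pow, hm.2, map_one])
  have hMexp : ∀ m : M, m ^ p = 1 → m ∈ center M := fun m hm => mem_center_iff.2 fun w => Subtype.ext
    ((mem_centralizer_iff.1 w.2 m (hΩ m m.2 (by simpa using congrArg Subtype.val hm))).symm)
  by_cases hsm : SmallOmega p G
  · by_cases hp3 : 3 < p
    · exact Or.inl (hsm.isMetacyclic hp3 hG)
    obtain rfl : p = 3 := by have := hp.out.two_le; omega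
    rcases metacyclic_or_maximal_class hp2 _ le_rfl hG hsm with h | h
    · exact Or.inl h
    · exact Or.inr (Or.inr (Or.inr ⟨rfl, h n hn⟩))
  obtain ⟨x, hxp, hxM⟩ : ∃ x : G, x ^ p = 1 ∧ x ∉ M := by
    by_contra h
    push Not at h
    refine hsm (le_trans (card_le_of_le ((closure_le _).2 fun x hx => hΩ x (h x hx.2) hx.2)) hU2.le)
  obtain ⟨hZp, hMi, hcl, hfixU⟩ := split_data hG U hU hU2 fun e => hxM (by rw [hM, e]; exact mem_top x)
  have S : Setup p U M x := {
    hM := rfl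
    hMn := inferInstance
    hMi := hMi
    hU2 := hU2
    hUel := hU
    hZp := hZp
    hcl := hcl
    hfixU := fun u hu h => hfixU x hxM u hu h
    hΩ := hΩ
    law := regular_law (hG.to_subgroup M) (isRegular_of_cyclic_commutator hp2 (hG.to_subgroup M)
      (cyclic_commutator_of_omega_central hp2 _ le_rfl (hG.to_subgroup M) hMexp hsmM))
    hx := hxp
    hxM := hxM }
  have hfin : (∀ m ∈ M, x * m * x⁻¹ * m⁻¹ ∈ U) → _ := fun h => structure_families hp2 hG hn S h
  by_cases hp3 : 3 < p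
  · have hexp := CfsgLib.RankTwo.omega_one_exponent hp3 _ le_rfl hG (fun E hE => hrk E hE.1 hE.2)
    rcases hfin (fun m hm => by
      refine hΩ _ (mul_mem ((inferInstance : M.Normal).conj_mem m hm x) (inv_mem hm)) (hexp _ ?_)
      rw [show x * m * x⁻¹ * m⁻¹ = x * (m * x⁻¹ * m⁻¹) by group]
      exact mul_mem (subset_closure hxp) (subset_closure (by
        show (m * x⁻¹ * m⁻¹) ^ p = 1
        rw [conj_pow, inv_pow, hxp, inv_one, mul_one, mul_inv_cancel]))) with h | h
    · exact Or.inr (Or.inl h)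
    · exact Or.inr (Or.inr (Or.inl h))
  obtain rfl : p = 3 := by have := hp.out.two_le; omega
  set C := M ⊓ centralizer ({x} : Set G) with hC
  by_cases hbig : 3 < Nat.card C
  · have hCc : IsCyclic C := isCyclic_of_omega_le hp2 hG C (U ⊓ center G) hZp fun c hc hcp =>
      hfixU x hxM c (hΩ c hc.1 hcp) (mem_centralizer_singleton_iff.1 hc.2).symm
    obtain ⟨a, ha⟩ := IsPGroup.iff_card.1 (hG.to_subgroup C)
    have ha2 : 2 ≤ a := by
      by_contra h
      rw [ha] at hbig
      exact absurd hbig (not_lt.2 ((Nat.pow_le_pow_right (by norm_num) (by omega : a ≤ 1)).trans (pow_one 3).le))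
    obtain ⟨cc, hcc⟩ := IsCyclic.exists_ofOrder_eq_natCard (α := C)
    have hd : orderOf ((cc : G) ^ 3 ^ (a - 2)) = 3 ^ 2 := by
      rw [orderOf_pow_of_dvd (pow_ne_zero _ (by norm_num)), Subgroup.orderOf_coe, hcc, ha]
      · rw [show a = a - 2 + 2 by omega, pow_add, Nat.add_sub_cancel,
          Nat.mul_div_cancel_left _ (pow_pos (by norm_num) _)]
      · rw [Subgroup.orderOf_coe, hcc, ha]; exact pow_dvd_pow 3 (by omega)
    have hdC : (cc : G) ^ 3 ^ (a - 2) ∈ C := pow_mem cc.2 _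
    have h := S.commutator_mem hp2 hG hdC.1 (mem_centralizer_singleton_iff.1 hdC.2).symm hd
    rcases hfin h with h | h
    · exact Or.inr (Or.inl h)
    · exact Or.inr (Or.inr (Or.inl h))
  · have hn2 : 2 ≤ n := by
      have := (card_le_card_group U).trans_eq hn
      rw [hU2] at this
      exact (Nat.pow_le_pow_iff_right (by norm_num)).1 this
    refine Or.inr (Or.inr (Or.inr ⟨rfl, hn2, maximal_class_of_centralizer n hn2 hn x ?_⟩))
    have e := relIndex_mul_relIndex ⊥ C (centralizer ({x} : Set G)) bot_le inf_le_right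
    rw [relIndex_bot_left, relIndex_bot_left, hC, inf_relIndex_right] at e
    rw [← e, pow_two]
    exact Nat.mul_le_mul (not_lt.1 hbig) (hMi ▸ Nat.le_of_dvd (Nat.pos_of_ne_zero index_ne_zero_of_finite)
      (relIndex_dvd_index_of_normal M _))

end CfsgLib.FGSA.Blackburn
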