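import Mathlib.GroupTheory.Sylow
import Mathlib.GroupTheory.Transfer
import Mathlib.GroupTheory.SchurZassenhaus
import Mathlib.Algebra.Group.Conj
import Mathlib.Algebra.Group.ConjFinite
import Mathlib.Data.Nat.Factorization.Basic
import Cfsg.Prelude.Def_Transfer

/-!
# Counting conjugacy classes of π-elements (slice A)
-/

set_option autoImplicit false

namespace CfsgLib.FGSA

/-- A surjection whose fibres outside `F` have at least two points. -/
lemma two_mul_card_le_add {α β : Type*} [Finite α] (f : α → β) (hf : Function.Surjective f)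
    (F : Set α) (h : ∀ a, a ∉ F → ∃ a', a' ≠ a ∧ f a' = f a) :
    2 * Nat.card β ≤ Nat.card α + Nat.card F := by
  classical
  haveI : Finite β := Finite.of_surjective f hf
  choose s hs using hf
  have key : ∀ b : β, ∃ t : α ⊕ F, t ≠ Sum.inl (s b) ∧ f (Sum.elim id Subtype.val t) = b := by
    intro b
    by_cases hb : s b ∈ F
    · exact ⟨Sum.inr ⟨s b, hb⟩, by simp, hs b⟩
    · obtain ⟨a', ha', hfa⟩ := h _ hb
      exact ⟨Sum.inl a', by simpa using ha', by simpa [hs b] using hfa⟩
  choose t ht1 ht2 using key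
  let g : β ⊕ β → α ⊕ F := Sum.elim (fun b => Sum.inl (s b)) t
  have hg : Function.Injective g := by
    intro u v huv
    have hval := congrArg (fun z => f (Sum.elim id Subtype.val z)) huv
    rcases u with b | b <;> rcases v with c | c
    · simp only [g, Sum.elim_inl, id] at hval
      rw [hs, hs] at hval; rw [hval]
    · simp only [g, Sum.elim_inl, Sum.elim_inr, id] at hval huv
      rw [hs, ht2] at hval; subst hval
      exact absurd huv.symm (ht1 b)
    · simp only [g, Sum.elim_inl, Sum.elim_inr, id] at hval huv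
      rw [hs, ht2] at hval; subst hval
      exact absurd huv (ht1 b)
    · simp only [g, Sum.elim_inr] at hval
      rw [ht2, ht2] at hval; rw [hval]
  have := Nat.card_le_card_of_injective g hg
  rw [Nat.card_sum, Nat.card_sum] at this
  omega

/-- The classes of `p`-elements. -/
abbrev pClasses (p : ℕ) (G : Type*) [Group G] : Type _ :=
  {c : ConjClasses G // ∀ x ∈ c.carrier, ∃ k : ℕ, orderOf x = p ^ k}

/-- The classes of `π`-elements. -/
abbrev piClasses (π : Finset ℕ) (G : Type*) [Group G] : Type _ :=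
  {c : ConjClasses G // ∀ x ∈ c.carrier, ∀ r : ℕ, r.Prime → r ∣ orderOf x → r ∈ π}

variable {G : Type*} [Group G]

lemma orderOf_eq_of_isConj {x y : G} (h : IsConj x y) : orderOf y = orderOf x := by
  obtain ⟨c, hc⟩ := isConj_iff.1 h
  rw [← hc, show c * x * c⁻¹ = MulAut.conj c x from rfl]
  exact MulEquiv.orderOf_eq _ _

/-- The map from a Sylow subgroup to the classes of `p`-elements. -/
def toPClasses {p : ℕ} [Fact p.Prime] (P : Sylow p G) (x : (P : Subgroup G)) : pClasses p G :=
  ⟨ConjClasses.mk (x : G), fun y hy => by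
    rw [orderOf_eq_of_isConj ((ConjClasses.mk_eq_mk_iff_isConj.1
      (ConjClasses.mem_carrier_iff_mk_eq.1 hy)).symm)]
    obtain ⟨k, hk⟩ := IsPGroup.iff_orderOf.1 P.isPGroup' x
    exact ⟨k, by rw [Subgroup.orderOf_coe]; exact hk⟩⟩

lemma toPClasses_surjective [Finite G] {p : ℕ} [Fact p.Prime] (P : Sylow p G) :
    Function.Surjective (toPClasses P) := by
  rintro ⟨c, hc⟩
  obtain ⟨y, rfl⟩ := ConjClasses.exists_rep c
  obtain ⟨k, hk⟩ := hc y ConjClasses.mem_carrier_mk
  have hy : IsPGroup p (Subgroup.zpowers y) :=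
    IsPGroup.of_card (n := k) (by rw [Nat.card_zpowers, hk])
  obtain ⟨Q, hQ⟩ := hy.exists_le_sylow
  obtain ⟨g, hg⟩ := MulAction.exists_smul_eq G Q P
  have hmem : g * y * g⁻¹ ∈ (P : Subgroup G) := by
    rw [← hg, Sylow.coe_subgroup_smul]
    exact ⟨y, hQ (Subgroup.mem_zpowers y), rfl⟩
  refine ⟨⟨_, hmem⟩, Subtype.ext ?_⟩
  exact (ConjClasses.mk_eq_mk_iff_isConj.2 (isConj_iff.2 ⟨g, rfl⟩)).symm

lemma card_pClasses_le [Finite G] {p : ℕ} [Fact p.Prime] (P : Sylow p G) :
    Nat.card (pClasses p G) ≤ Nat.card (P : Subgroup G) :=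
  Nat.card_le_card_of_surjective _ (toPClasses_surjective P)

/-- If many classes of `p`-elements, then the normalizer of a Sylow subgroup centralizes it. -/
lemma normalizer_le_centralizer_of_card_pClasses [Finite G] {p : ℕ} [Fact p.Prime] (P : Sylow p G)
    (h : (p + 1) * Nat.card (P : Subgroup G) < 2 * p * Nat.card (pClasses p G)) :
    Subgroup.normalizer ((P : Subgroup G) : Set G) ≤ Subgroup.centralizer ((P : Subgroup G) : Set G) := by
  intro g hg
  by_contra hgc
  set F : Subgroup (P : Subgroup G) :=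
    (Subgroup.centralizer ({g} : Set G)).subgroupOf (P : Subgroup G) with hF
  have hFne : F ≠ ⊤ := by
    intro htop
    apply hgc
    rw [Subgroup.mem_centralizer_iff]
    intro x hx
    have hx' : (⟨x, hx⟩ : (P : Subgroup G)) ∈ F := htop ▸ Subgroup.mem_top _
    exact (Subgroup.mem_centralizer_iff.1 (Subgroup.mem_subgroupOf.1 hx') g rfl).symm
  have hFp : p * Nat.card F ≤ Nat.card (P : Subgroup G) := by
    obtain ⟨n, hn⟩ := P.isPGroup'.index F
    have hn0 : n ≠ 0 := by
      rintro rfl
      rw [pow_zero, Subgroup.index_eq_one] at hn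
      exact hFne hn
    rw [← F.card_mul_index, hn, mul_comm p]
    exact Nat.mul_le_mul_left _ (Nat.le_self_pow hn0 p)
  have h2 := two_mul_card_le_add (toPClasses P) (toPClasses_surjective P) (F : Set (P : Subgroup G))
    (fun a ha => ⟨⟨g * a.1 * g⁻¹, (Subgroup.mem_normalizer_iff.1 hg a.1).1 a.2⟩, fun he => ha (by
        rw [SetLike.mem_coe, hF, Subgroup.mem_subgroupOf, Subgroup.mem_centralizer_iff]
        intro z hz
        rw [Set.mem_singleton_iff] at hz; subst hz
        exact mul_inv_eq_iff_eq_mul.1 (congrArg Subtype.val he)),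
      Subtype.ext (ConjClasses.mk_eq_mk_iff_isConj.2 (isConj_iff.2 ⟨g, rfl⟩).symm)⟩)
  rw [show Nat.card ((F : Set (P : Subgroup G))) = Nat.card F from rfl] at h2
  nlinarith [h, h2, hFp]

lemma isMulCommutative_of_normalizer_le_centralizer {H : Subgroup G}
    (h : Subgroup.normalizer (H : Set G) ≤ Subgroup.centralizer (H : Set G)) :
    IsMulCommutative H :=
  ⟨⟨fun a b => Subtype.ext
    (Subgroup.mem_centralizer_iff.1 (h (Subgroup.le_normalizer b.2)) a a.2)⟩⟩

/-- Normal `p`-complement and abelian Sylow subgroup from many classes of `p`-elements. -/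
lemma hasNormalPComplement_of_card_pClasses [Finite G] {p : ℕ} [Fact p.Prime] (P : Sylow p G)
    (h : (p + 1) * Nat.card (P : Subgroup G) < 2 * p * Nat.card (pClasses p G)) :
    Cfsg.HasNormalPComplement p G ∧ IsMulCommutative (P : Subgroup G) := by
  have hb := normalizer_le_centralizer_of_card_pClasses P h
  exact ⟨⟨P, _, MonoidHom.normal_ker _, MonoidHom.ker_transferSylow_isComplement' P hb⟩,
    isMulCommutative_of_normalizer_le_centralizer hb⟩

lemma hasNormalPComplement_exists [Finite G] {p : ℕ} [Fact p.Prime] (P : Sylow p G)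
    (h : Cfsg.HasNormalPComplement p G) :
    ∃ N : Subgroup G, N.Normal ∧ N.IsComplement' (P : Subgroup G) := by
  obtain ⟨Q, N, hN, hc⟩ := h
  refine ⟨N, hN, ?_⟩
  have hcard : Nat.card (Q : Subgroup G) = Nat.card (P : Subgroup G) :=
    Nat.card_congr (Q.equiv P).toEquiv
  apply Subgroup.isComplement'_of_coprime (hcard ▸ hc.card_mul)
  rw [← hcard, ← hc.index_eq_card]
  exact Q.card_coprime_index.symm

lemma card_le_card_pClasses [Finite G] {p : ℕ} [Fact p.Prime] (P : Sylow p G)
    (hN : Cfsg.HasNormalPComplement p G) (hab : IsMulCommutative (P : Subgroup G)) :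
    Nat.card (P : Subgroup G) ≤ Nat.card (pClasses p G) := by
  obtain ⟨N, hNn, hc⟩ := hasNormalPComplement_exists P hN
  apply Nat.card_le_card_of_injective (toPClasses P)
  intro x y hxy
  have hxy' : IsConj (x : G) (y : G) :=
    ConjClasses.mk_eq_mk_iff_isConj.1 (congrArg Subtype.val hxy)
  obtain ⟨g, hg⟩ := isConj_iff.1 hxy'
  obtain ⟨⟨n, u⟩, hnu, -⟩ := hc.existsUnique g
  simp only at hnu
  have hux : (u : G) * x = x * u := congrArg Subtype.val (hab.is_comm.comm u x)
  have hy : (y : G) = (n : G) * x * (n : G)⁻¹ := by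
    rw [← hg, ← hnu, mul_inv_rev]
    calc (n : G) * u * x * ((u : G)⁻¹ * (n : G)⁻¹)
        = (n : G) * ((u : G) * x * (u : G)⁻¹) * (n : G)⁻¹ := by group
      _ = (n : G) * x * (n : G)⁻¹ := by rw [hux, mul_inv_cancel_right]
  have hin : (x : G)⁻¹ * y ∈ N := by
    rw [hy]
    have h1 : (x : G)⁻¹ * (n : G) * x ∈ N := by
      simpa using hNn.conj_mem n n.2 (x : G)⁻¹
    have h2 := N.mul_mem h1 (N.inv_mem n.2)
    simpa [mul_assoc] using h2
  have hone : (x : G)⁻¹ * y ∈ N ⊓ (P : Subgroup G) :=
    ⟨hin, (P : Subgroup G).mul_mem ((P : Subgroup G).inv_mem x.2) y.2⟩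
  rw [hc.disjoint.eq_bot, Subgroup.mem_bot, inv_mul_eq_one] at hone
  exact Subtype.ext hone

/-- The number of classes of `π`-elements is at most the `π`-part of the order, with a refinement
at one prime. -/
lemma card_piClasses_insert_le [Finite G] {r : ℕ} (hr : r.Prime) (π : Finset ℕ)
    (hrπ : r ∉ π) (hπ : ∀ s ∈ π, s.Prime)
    (hrec : ∀ H : Subgroup G, Nat.card (piClasses π H) ≤
      π.prod (fun s => s ^ (Nat.card H).factorization s)) :
    Nat.card (piClasses (insert r π) G) ≤
      Nat.card (pClasses r G) * π.prod (fun s => s ^ (Nat.card G).factorization s) := by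
  classical
  haveI : Fintype (pClasses r G) := Fintype.ofFinite _
  have hrep : ∀ c : pClasses r G, ∃ x : G, ConjClasses.mk x = c.1 := fun c =>
    ConjClasses.exists_rep c.1
  choose rep hrep using hrep
  have hrk : ∀ c : pClasses r G, ∃ k : ℕ, orderOf (rep c) = r ^ k := fun c =>
    c.2 _ (by rw [ConjClasses.mem_carrier_iff_mk_eq, hrep])
  let D := Σ c : pClasses r G, piClasses π (Subgroup.centralizer ({rep c} : Set G))
  have hzrep : ∀ (c : pClasses r G) (d : piClasses π (Subgroup.centralizer ({rep c} : Set G))),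
      ∃ z, ConjClasses.mk z = d.1 := fun c d => ConjClasses.exists_rep d.1
  choose zrep hzrep using hzrep
  let Φ : D → ConjClasses G := fun d => ConjClasses.mk (rep d.1 * (zrep d.1 d.2 : G))
  let ι : piClasses (insert r π) G → ConjClasses G := Subtype.val
  have hcover : Set.range ι ⊆ Set.range Φ := by
    rintro _ ⟨⟨c, hc⟩, rfl⟩
    obtain ⟨y, rfl⟩ := ConjClasses.exists_rep c
    have hπy := hc y ConjClasses.mem_carrier_mk
    set n := orderOf y with hn
    have hn0 : n ≠ 0 := (orderOf_pos y).ne'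
    set a := r ^ n.factorization r with ha
    set b := n / a with hb
    have hab : a * b = n := Nat.ordProj_mul_ordCompl_eq_self n r
    have hcop : Nat.Coprime a b := (Nat.coprime_ordCompl hr hn0).pow_left _
    obtain ⟨u, v, huv⟩ : ∃ u v : ℤ, 1 = (a : ℤ) * u + (b : ℤ) * v :=
      ⟨Nat.gcdA a b, Nat.gcdB a b, by
        have := Nat.gcd_eq_gcd_ab a b
        rw [hcop] at this
        exact_mod_cast this⟩
    set x := y ^ ((b : ℤ) * v) with hx
    set z := y ^ ((a : ℤ) * u) with hz
    have hxz : x * z = y := by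
      rw [hx, hz, ← zpow_add, add_comm, ← huv, zpow_one]
    have hxa : x ^ a = 1 := by
      rw [hx, ← zpow_natCast, ← zpow_mul, show ((b : ℤ) * v * (a : ℤ)) = ((n : ℕ) : ℤ) * v by
        rw [← hab]; push_cast; ring, zpow_mul, zpow_natCast, hn, pow_orderOf_eq_one, one_zpow]
    have hzb : z ^ b = 1 := by
      rw [hz, ← zpow_natCast, ← zpow_mul, show ((a : ℤ) * u * (b : ℤ)) = ((n : ℕ) : ℤ) * u by
        rw [← hab]; push_cast; ring, zpow_mul, zpow_natCast, hn, pow_orderOf_eq_one, one_zpow]
    obtain ⟨k, -, hk⟩ := (Nat.dvd_prime_pow hr).1 (orderOf_dvd_of_pow_eq_one hxa)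
    let cx : pClasses r G := ⟨ConjClasses.mk x, fun w hw => ⟨k, by
      rw [orderOf_eq_of_isConj ((ConjClasses.mk_eq_mk_iff_isConj.1
        (ConjClasses.mem_carrier_iff_mk_eq.1 hw)).symm), hk]⟩⟩
    obtain ⟨g, hg⟩ := isConj_iff.1 (ConjClasses.mk_eq_mk_iff_isConj.1 (hrep cx).symm)
    have hzC : g * z * g⁻¹ ∈ Subgroup.centralizer ({rep cx} : Set G) := by
      rw [Subgroup.mem_centralizer_iff]
      intro w hw
      rw [Set.mem_singleton_iff] at hw; subst hw
      have hcxz : x * z = z * x := (Commute.refl y).zpow_zpow _ _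
      rw [← hg]
      calc g * x * g⁻¹ * (g * z * g⁻¹) = g * (x * z) * g⁻¹ := by group
        _ = g * (z * x) * g⁻¹ := by rw [hcxz]
        _ = g * z * g⁻¹ * (g * x * g⁻¹) := by group
    let z' : Subgroup.centralizer ({rep cx} : Set G) := ⟨g * z * g⁻¹, hzC⟩
    have hzπ : ∀ w ∈ (ConjClasses.mk z').carrier, ∀ s : ℕ, s.Prime → s ∣ orderOf w → s ∈ π := by
      intro w hw s hs hsd
      rw [orderOf_eq_of_isConj ((ConjClasses.mk_eq_mk_iff_isConj.1
        (ConjClasses.mem_carrier_iff_mk_eq.1 hw)).symm), ← Subgroup.orderOf_coe,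
        show ((z' : Subgroup.centralizer ({rep cx} : Set G)) : G) = MulAut.conj g z from rfl,
        MulEquiv.orderOf_eq] at hsd
      have hsb : s ∣ b := hsd.trans (orderOf_dvd_of_pow_eq_one hzb)
      have hsn : s ∣ n := hsb.trans ⟨a, by rw [mul_comm, hab]⟩
      rcases Finset.mem_insert.1 (hπy s hs hsn) with h | h
      · subst h
        exact absurd hsb (Nat.not_dvd_ordCompl hr hn0)
      · exact h
    refine ⟨⟨cx, ⟨ConjClasses.mk z', hzπ⟩⟩, ?_⟩
    have h3 := hzrep cx ⟨ConjClasses.mk z', hzπ⟩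
    obtain ⟨e, he⟩ := isConj_iff.1 (ConjClasses.mk_eq_mk_iff_isConj.1 h3)
    have he' : (e : G) * (zrep cx ⟨ConjClasses.mk z', hzπ⟩ : G) * (e : G)⁻¹ = g * z * g⁻¹ :=
      congrArg Subtype.val he
    apply ConjClasses.mk_eq_mk_iff_isConj.2
    have hec : (e : G) * rep cx * (e : G)⁻¹ = rep cx := by
      rw [← (Subgroup.mem_centralizer_iff.1 e.2 (rep cx) rfl), mul_inv_cancel_right]
    refine IsConj.trans (isConj_iff.2 ⟨(e : G), rfl⟩) (IsConj.symm (isConj_iff.2 ⟨g, ?_⟩))
    calc g * y * g⁻¹ = (g * x * g⁻¹) * (g * z * g⁻¹) := by rw [← hxz]; group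
      _ = ((e : G) * rep cx * (e : G)⁻¹) *
            ((e : G) * (zrep cx ⟨ConjClasses.mk z', hzπ⟩ : G) * (e : G)⁻¹) := by
          rw [hec, he', hg]
      _ = _ := by group
  calc Nat.card (piClasses (insert r π) G)
      = Nat.card (Set.range ι) :=
        (Nat.card_range_of_injective Subtype.val_injective).symm
    _ ≤ Nat.card (Set.range Φ) := Nat.card_mono (Set.finite_range _) hcover
    _ ≤ Nat.card D := Finite.card_range_le _
    _ = ∑ c : pClasses r G, Nat.card (piClasses π (Subgroup.centralizer ({rep c} : Set G))) :=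
        Nat.card_sigma
    _ ≤ ∑ _c : pClasses r G, π.prod (fun s => s ^ (Nat.card G).factorization s) := by
        refine Finset.sum_le_sum fun c _ => (hrec _).trans ?_
        refine Finset.prod_le_prod' fun s hs => Nat.pow_le_pow_right (hπ s hs).pos ?_
        exact (Nat.factorization_le_iff_dvd Nat.card_pos.ne' Nat.card_pos.ne').2
          (Subgroup.card_subgroup_dvd_card _) s
    _ = _ := by rw [Finset.sum_const, Finset.card_univ, smul_eq_mul, ← Nat.card_eq_fintype_card]

lemma card_piClasses_le (π : Finset ℕ) (hπ : ∀ s ∈ π, s.Prime) :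
    ∀ (G : Type*) [Group G] [Finite G],
      Nat.card (piClasses π G) ≤ π.prod (fun s => s ^ (Nat.card G).factorization s) := by
  classical
  induction π using Finset.induction_on with
  | empty =>
    intro G _ _
    rw [Finset.prod_empty, Finite.card_le_one_iff_subsingleton]
    refine ⟨fun a b => Subtype.ext ?_⟩
    have h1 : ∀ c : piClasses ∅ G, c.1 = ConjClasses.mk 1 := by
      rintro ⟨c, hc⟩
      obtain ⟨y, rfl⟩ := ConjClasses.exists_rep c
      show ConjClasses.mk y = ConjClasses.mk 1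
      congr 1
      rw [← orderOf_eq_one_iff]
      by_contra hne
      obtain ⟨q, hq, hqd⟩ := Nat.exists_prime_and_dvd hne
      exact absurd (hc y ConjClasses.mem_carrier_mk q hq hqd) (Finset.notMem_empty q)
    rw [h1 a, h1 b]
  | insert r π hrπ ih =>
    intro G _ _
    have hr := hπ r (Finset.mem_insert_self r π)
    have hπ' : ∀ s ∈ π, s.Prime := fun s hs => hπ s (Finset.mem_insert_of_mem hs)
    refine (card_piClasses_insert_le hr π hrπ hπ' (fun H => ih hπ' H)).trans ?_
    rw [Finset.prod_insert hrπ]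
    haveI : Fact r.Prime := ⟨hr⟩
    refine Nat.mul_le_mul_right _ ?_
    obtain ⟨P⟩ := (inferInstance : Nonempty (Sylow r G))
    exact (card_pClasses_le P).trans_eq P.card_eq_multiplicity

end CfsgLib.FGSA
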