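import Cfsg.Agent.FGSA.TwoClassCount
import Cfsg.Prelude.Def_OddOrderLocal

/-!
Classes of π-elements in groups of odd order, and splitting off one prime.
-/

set_option autoImplicit false
set_option linter.style.haveILetI false

namespace CfsgLib.FGSA

open Subgroup
open scoped commutatorElement

variable {G : Type*} [Group G]

/-- Splitting off one prime, in the other order. -/
theorem card_piClasses_insert_le' [Finite G] {r : ℕ} (hr : r.Prime) (π : Finset ℕ) (hrπ : r ∉ π) :
    Nat.card (piClasses (insert r π) G) ≤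
      Nat.card (piClasses π G) * r ^ (Nat.card G).factorization r := by
  classical
  haveI : Fintype (piClasses π G) := Fintype.ofFinite _
  haveI : Fact r.Prime := ⟨hr⟩
  have hrep : ∀ c : piClasses π G, ∃ z : G, ConjClasses.mk z = c.1 := fun c =>
    ConjClasses.exists_rep c.1
  choose rep hrep using hrep
  let D := Σ c : piClasses π G, pClasses r (Subgroup.centralizer ({rep c} : Set G))
  have hxrep : ∀ (c : piClasses π G) (d : pClasses r (Subgroup.centralizer ({rep c} : Set G))),
      ∃ x, ConjClasses.mk x = d.1 := fun c d => ConjClasses.exists_rep d.1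
  choose xrep hxrep using hxrep
  let Φ : D → ConjClasses G := fun d => ConjClasses.mk (rep d.1 * (xrep d.1 d.2 : G))
  let ι : piClasses (insert r π) G → ConjClasses G := Subtype.val
  have hcover : Set.range ι ⊆ Set.range Φ := by
    rintro _ ⟨⟨c, hc⟩, rfl⟩
    obtain ⟨y, rfl⟩ := ConjClasses.exists_rep c
    have hπy := hc y ConjClasses.mem_carrier_mk
    set n := orderOf y with hn
    have hn0 : n ≠ 0 := (orderOf_pos y).ne'
    set a := r ^ n.factorization r with ha
    set b := n / a with hb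
    have hab : a * b = n := Nat.ordProj_mul_ordCompl_eq_self n r
    have hcop : Nat.Coprime a b := (Nat.coprime_ordCompl hr hn0).pow_left _
    obtain ⟨u, v, huv⟩ : ∃ u v : ℤ, 1 = (a : ℤ) * u + (b : ℤ) * v :=
      ⟨Nat.gcdA a b, Nat.gcdB a b, by
        have := Nat.gcd_eq_gcd_ab a b
        rw [hcop] at this
        exact_mod_cast this⟩
    set x := y ^ ((b : ℤ) * v) with hx
    set z := y ^ ((a : ℤ) * u) with hz
    have hxz : x * z = y := by
      rw [hx, hz, ← zpow_add, add_comm, ← huv, zpow_one]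
    have hxa : x ^ a = 1 := by
      rw [hx, ← zpow_natCast, ← zpow_mul, show ((b : ℤ) * v * (a : ℤ)) = ((n : ℕ) : ℤ) * v by
        rw [← hab]; push_cast; ring, zpow_mul, zpow_natCast, hn, pow_orderOf_eq_one, one_zpow]
    have hzb : z ^ b = 1 := by
      rw [hz, ← zpow_natCast, ← zpow_mul, show ((a : ℤ) * u * (b : ℤ)) = ((n : ℕ) : ℤ) * u by
        rw [← hab]; push_cast; ring, zpow_mul, zpow_natCast, hn, pow_orderOf_eq_one, one_zpow]
    obtain ⟨k, -, hk⟩ := (Nat.dvd_prime_pow hr).1 (orderOf_dvd_of_pow_eq_one hxa)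
    have hzx : z * x = x * z := (Commute.refl y).zpow_zpow _ _
    have hzπ : ∀ w ∈ (ConjClasses.mk z).carrier, ∀ s : ℕ, s.Prime → s ∣ orderOf w → s ∈ π := by
      intro w hw s hs hsd
      rw [orderOf_eq_of_isConj ((ConjClasses.mk_eq_mk_iff_isConj.1
        (ConjClasses.mem_carrier_iff_mk_eq.1 hw)).symm)] at hsd
      have hsb : s ∣ b := hsd.trans (orderOf_dvd_of_pow_eq_one hzb)
      have hsn : s ∣ n := hsb.trans ⟨a, by rw [mul_comm, hab]⟩
      rcases Finset.mem_insert.1 (hπy s hs hsn) with h | h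
      · subst h
        exact absurd hsb (Nat.not_dvd_ordCompl hr hn0)
      · exact h
    let cz : piClasses π G := ⟨ConjClasses.mk z, hzπ⟩
    obtain ⟨g, hg⟩ := isConj_iff.1 (ConjClasses.mk_eq_mk_iff_isConj.1 (hrep cz).symm)
    have hxC : g * x * g⁻¹ ∈ Subgroup.centralizer ({rep cz} : Set G) := by
      rw [Subgroup.mem_centralizer_iff]
      intro w hw
      rw [Set.mem_singleton_iff] at hw; subst hw
      rw [← hg]
      calc g * z * g⁻¹ * (g * x * g⁻¹) = g * (z * x) * g⁻¹ := by group
        _ = g * (x * z) * g⁻¹ := by rw [hzx]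
        _ = g * x * g⁻¹ * (g * z * g⁻¹) := by group
    let x' : Subgroup.centralizer ({rep cz} : Set G) := ⟨g * x * g⁻¹, hxC⟩
    have hx'r : ∀ w ∈ (ConjClasses.mk x').carrier, ∃ j : ℕ, orderOf w = r ^ j := fun w hw => ⟨k, by
      rw [orderOf_eq_of_isConj ((ConjClasses.mk_eq_mk_iff_isConj.1
        (ConjClasses.mem_carrier_iff_mk_eq.1 hw)).symm), ← Subgroup.orderOf_coe,
        show ((x' : Subgroup.centralizer ({rep cz} : Set G)) : G) = MulAut.conj g x from rfl,
        MulEquiv.orderOf_eq, hk]⟩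
    refine ⟨⟨cz, ⟨ConjClasses.mk x', hx'r⟩⟩, ?_⟩
    obtain ⟨e, he⟩ := isConj_iff.1 (ConjClasses.mk_eq_mk_iff_isConj.1
      (hxrep cz ⟨ConjClasses.mk x', hx'r⟩))
    have he' : (e : G) * (xrep cz ⟨ConjClasses.mk x', hx'r⟩ : G) * (e : G)⁻¹ = g * x * g⁻¹ :=
      congrArg Subtype.val he
    apply ConjClasses.mk_eq_mk_iff_isConj.2
    have hec : (e : G) * rep cz * (e : G)⁻¹ = rep cz := by
      rw [← (Subgroup.mem_centralizer_iff.1 e.2 (rep cz) rfl), mul_inv_cancel_right]
    refine IsConj.trans (isConj_iff.2 ⟨(e : G), rfl⟩) (IsConj.symm (isConj_iff.2 ⟨g, ?_⟩))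
    calc g * y * g⁻¹ = (g * z * g⁻¹) * (g * x * g⁻¹) := by rw [← hxz, ← hzx]; group
      _ = ((e : G) * rep cz * (e : G)⁻¹) *
            ((e : G) * (xrep cz ⟨ConjClasses.mk x', hx'r⟩ : G) * (e : G)⁻¹) := by
          rw [hec, he', hg]
      _ = _ := by group
  calc Nat.card (piClasses (insert r π) G)
      = Nat.card (Set.range ι) :=
        (Nat.card_range_of_injective Subtype.val_injective).symm
    _ ≤ Nat.card (Set.range Φ) := Nat.card_mono (Set.finite_range _) hcover
    _ ≤ Nat.card D := Finite.card_range_le _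
    _ = ∑ c : piClasses π G, Nat.card (pClasses r (Subgroup.centralizer ({rep c} : Set G))) :=
        Nat.card_sigma
    _ ≤ ∑ _c : piClasses π G, r ^ (Nat.card G).factorization r := by
        refine Finset.sum_le_sum fun c _ => ?_
        obtain ⟨P⟩ := (inferInstance : Nonempty (Sylow r (Subgroup.centralizer ({rep c} : Set G))))
        refine (card_pClasses_le P).trans (P.card_eq_multiplicity.le.trans ?_)
        exact Nat.pow_le_pow_right hr.pos ((Nat.factorization_le_iff_dvd Nat.card_pos.ne'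
          Nat.card_pos.ne').2 (Subgroup.card_subgroup_dvd_card _) r)
    _ = _ := by rw [Finset.sum_const, Finset.card_univ, smul_eq_mul, ← Nat.card_eq_fintype_card]

/-- Classes of π-elements do not grow when passing to a normal subgroup containing them. -/
theorem card_piClasses_le_subgroup [Finite G] (π : Finset ℕ) (K : Subgroup G) [K.Normal]
    (h : ∀ r ∈ π, ¬ r ∣ K.index) : Nat.card (piClasses π G) ≤ Nat.card (piClasses π K) := by
  classical
  let f : piClasses π K → piClasses π G := fun c => ⟨ConjClasses.map K.subtype c.1, by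
    obtain ⟨x, hx⟩ := ConjClasses.exists_rep c.1
    intro w hw
    rw [← hx, ConjClasses.mem_carrier_iff_mk_eq] at hw
    rw [orderOf_eq_of_isConj (ConjClasses.mk_eq_mk_iff_isConj.1 hw.symm), K.coe_subtype,
      Subgroup.orderOf_coe]
    exact c.2 x (by rw [ConjClasses.mem_carrier_iff_mk_eq, hx])⟩
  refine Nat.card_le_card_of_surjective f fun c => ?_
  obtain ⟨y, hy⟩ := ConjClasses.exists_rep c.1
  have hord := c.2 y (by rw [ConjClasses.mem_carrier_iff_mk_eq, hy])
  have hyK : y ∈ K := by
    rw [← QuotientGroup.eq_one_iff, ← orderOf_eq_one_iff]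
    by_contra hne
    obtain ⟨s, hs, hsd⟩ := Nat.exists_prime_and_dvd hne
    exact h s (hord s hs (hsd.trans (orderOf_map_dvd (QuotientGroup.mk' K) y)))
      (hsd.trans ((_root_.orderOf_dvd_natCard _).trans (dvd_of_eq K.index_eq_card.symm)))
  refine ⟨⟨ConjClasses.mk ⟨y, hyK⟩, fun w hw s hs hd => ?_⟩, Subtype.ext hy⟩
  rw [orderOf_eq_of_isConj (ConjClasses.mk_eq_mk_iff_isConj.1
    (ConjClasses.mem_carrier_iff_mk_eq.1 hw)).symm, Subgroup.orderOf_mk] at hd
  exact hord s hs hd

/-- In a group of odd order, many classes of `r`-elements force `N(R) ≤ C(R)`. -/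
theorem normalizer_le_centralizer_of_odd [Finite G] (hodd : Odd (Nat.card G)) {r : ℕ}
    [Fact r.Prime] (R : Sylow r G)
    (h : Nat.card (R : Subgroup G) < 2 * Nat.card (pClasses r G)) :
    normalizer ((R : Subgroup G) : Set G) ≤ centralizer ((R : Subgroup G) : Set G) := by
  classical
  have hrp := (Fact.out : r.Prime)
  have hcount : ∀ (F : Subgroup (R : Subgroup G)),
      (∀ x : (R : Subgroup G), x ∉ F →
        ∃ g ∈ normalizer ((R : Subgroup G) : Set G), g * (x : G) ≠ x * g) →
      4 * Nat.card F ≤ Nat.card (R : Subgroup G) → False := by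
    intro F hF h4
    have h3 := three_mul_card_le (toPClasses R) (toPClasses_surjective R)
      (F : Set (R : Subgroup G)) (fun x hx => by
      obtain ⟨g, hgN, hx'⟩ := hF x hx
      have hsame : ∀ y : (R : Subgroup G), IsConj (x : G) (y : G) →
          toPClasses R y = toPClasses R x := fun y h =>
        Subtype.ext (ConjClasses.mk_eq_mk_iff_isConj.2 h.symm)
      refine ⟨⟨g * x * g⁻¹, (mem_normalizer_iff.1 hgN x).1 x.2⟩,
        ⟨g * g * x * (g * g)⁻¹, (mem_normalizer_iff.1 (mul_mem hgN hgN) x).1 x.2⟩,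
        fun h => hx' ?_, fun h => hx' ?_, fun h => hx' ?_, hsame _ (isConj_iff.2 ⟨g, rfl⟩),
        hsame _ (isConj_iff.2 ⟨g * g, rfl⟩)⟩
      · exact mul_inv_eq_iff_eq_mul.1 (congrArg Subtype.val h)
      · obtain ⟨o, ho⟩ := hodd.of_dvd_nat (orderOf_dvd_natCard g)
        have h2 : Commute (g * g) (x : G) := mul_inv_eq_iff_eq_mul.1 (congrArg Subtype.val h)
        have h' := h2.pow_left (o + 1)
        rwa [← pow_two, ← pow_mul, show 2 * (o + 1) = orderOf g + 1 by omega, pow_succ,
          pow_orderOf_eq_one, one_mul] at h'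
      · have h' : g * (x : G) * g⁻¹ = g * g * x * (g * g)⁻¹ := congrArg Subtype.val h
        calc g * (x : G) = g⁻¹ * (g * g * x * (g * g)⁻¹) * g * g := by group
          _ = g⁻¹ * (g * x * g⁻¹) * g * g := by rw [h']
          _ = (x : G) * g := by group)
    have h5 : Nat.card ((F : Set (R : Subgroup G))) = Nat.card F := rfl
    omega
  have hodd' : ∀ (F : Subgroup (R : Subgroup G)) (n : ℕ), F.index = r ^ n → 1 ≤ n → 3 ≤ r := by
    intro F n hn hn1
    have h1 : r ∣ Nat.card G :=
      (hn ▸ dvd_pow_self r (by omega)).trans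
        ((Subgroup.index_dvd_card F).trans (card_subgroup_dvd_card _))
    have := hrp.two_le
    rcases eq_or_ne r 2 with rfl | h2
    · exact absurd (hodd.of_dvd_nat h1) (by decide)
    · omega
  -- the Sylow subgroup is abelian
  have hab : ∀ x y : (R : Subgroup G), x * y = y * x := by
    by_contra hne
    set Z := center (R : Subgroup G) with hZ
    obtain ⟨n, hn⟩ := R.isPGroup'.index Z
    have hn1 : 2 ≤ n := by
      by_contra hlt
      have hcyc : IsCyclic ((R : Subgroup G) ⧸ Z) := by
        rcases (show n = 0 ∨ n = 1 by omega) with rfl | rfl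
        · haveI : Subsingleton ((R : Subgroup G) ⧸ Z) :=
            (Nat.card_eq_one_iff_unique.1 (by rw [← index_eq_card, hn, pow_zero])).1
          infer_instance
        · exact isCyclic_of_prime_card (p := r) (by rw [← index_eq_card, hn, pow_one])
      exact hne fun x y => commutative_of_cyclic_center_quotient (QuotientGroup.mk' Z)
        (by rw [QuotientGroup.ker_mk']) x y
    refine hcount Z (fun x hx => ?_) ?_
    · obtain ⟨y, hy⟩ := not_forall.1 (fun h' => hx (mem_center_iff.2 h'))
      exact ⟨y, le_normalizer y.2, fun h' => hy (Subtype.ext h')⟩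
    · have h3 := hodd' Z n hn (by omega)
      rw [← Z.card_mul_index, mul_comm]
      refine Nat.mul_le_mul_left _ ?_
      rw [hn]
      calc 4 ≤ r ^ 2 := by nlinarith
        _ ≤ r ^ n := Nat.pow_le_pow_right hrp.pos hn1
  intro g hgN
  by_contra hgC
  set F : Subgroup (R : Subgroup G) :=
    (centralizer ({g} : Set G)).subgroupOf (R : Subgroup G) with hF
  have hmem : ∀ x : (R : Subgroup G), x ∈ F ↔ g * (x : G) = x * g := fun x => by
    rw [hF, mem_subgroupOf, mem_centralizer_singleton_iff]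
    exact eq_comm
  have hFne : F ≠ ⊤ := fun htop => hgC (mem_centralizer_iff.2 fun x hx =>
    ((hmem ⟨x, hx⟩).1 (htop ▸ mem_top _)).symm)
  obtain ⟨n, hn⟩ := R.isPGroup'.index F
  rcases n with _ | n
  · exact hFne (index_eq_one.1 (by simpa using hn))
  have h3 := hodd' F _ hn (by omega)
  by_cases h4 : 4 ≤ r ^ (n + 1)
  · refine hcount F (fun x hx => ⟨g, hgN, fun h' => hx ((hmem x).2 h')⟩) ?_
    rw [← F.card_mul_index, hn, mul_comm]
    exact Nat.mul_le_mul_left _ h4
  -- index three
  have hidx : F.index = 3 := by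
    have : r ≤ r ^ (n + 1) := Nat.le_self_pow (by omega) r
    omega
  obtain ⟨x, hx⟩ : ∃ x : (R : Subgroup G), x ∉ F := by
    by_contra! hall
    exact hFne (eq_top_iff.2 fun x _ => hall x)
  haveI : F.Normal := ⟨fun a ha b => by rw [hab b a, mul_inv_cancel_right]; exact ha⟩
  have hQ3 : Nat.card ((R : Subgroup G) ⧸ F) = 3 := by rw [← index_eq_card, hidx]
  haveI : Fact (Nat.Prime 3) := ⟨Nat.prime_three⟩
  let σ : (R : Subgroup G) →* (R : Subgroup G) :=
    MonoidHom.mk' (fun a => ⟨g * a * g⁻¹, (mem_normalizer_iff.1 hgN a).1 a.2⟩) fun a b =>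
      Subtype.ext (by simp [mul_assoc])
  have hσF : ∀ a ∈ F, σ a = a := fun a ha => Subtype.ext (mul_inv_eq_iff_eq_mul.2 ((hmem a).1 ha))
  have hσx : σ x ∉ F := fun hf => hx (by
    have h2 : σ x = x := Subtype.ext (by
      have h3 : g * (g * x * g⁻¹) * g⁻¹ = g * x * g⁻¹ := congrArg Subtype.val (hσF _ hf)
      exact mul_left_cancel (mul_right_cancel h3))
    rwa [h2] at hf)
  have hcoset : ∀ a : (R : Subgroup G), a ∉ F → a * x⁻¹ ∈ F ∨ a * x ∈ F := by
    intro a ha
    obtain ⟨i, hi⟩ : ∃ i : ℕ, (x : (R : Subgroup G) ⧸ F) ^ i = a := by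
      have htop := mem_zpowers_of_prime_card (g := (x : (R : Subgroup G) ⧸ F))
        (g' := (a : (R : Subgroup G) ⧸ F)) hQ3 (fun h => hx ((QuotientGroup.eq_one_iff x).1 h))
      exact (mem_powers_iff_mem_zpowers.2 htop)
    have h1 : (x : (R : Subgroup G) ⧸ F) ^ 3 = 1 := by rw [← hQ3, pow_card_eq_one']
    have hmod : (x : (R : Subgroup G) ⧸ F) ^ (i % 3) = a := by
      rw [← hi]
      conv_rhs => rw [← Nat.mod_add_div i 3, pow_add, pow_mul, h1, one_pow, mul_one]
    have hlt := Nat.mod_lt i (show 3 > 0 by omega)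
    interval_cases hj : i % 3
    · rw [pow_zero] at hmod; exact absurd ((QuotientGroup.eq_one_iff a).1 hmod.symm) ha
    · rw [pow_one] at hmod
      left
      rw [← QuotientGroup.eq_one_iff, QuotientGroup.mk_mul, QuotientGroup.mk_inv, ← hmod,
        mul_inv_cancel]
    · right
      rw [← QuotientGroup.eq_one_iff, QuotientGroup.mk_mul, ← hmod, ← pow_succ, h1]
  obtain ⟨f, hfF, hfx⟩ : ∃ f ∈ F, σ x = f * x := by
    rcases hcoset _ hσx with h1 | h1
    · exact ⟨_, h1, (inv_mul_cancel_right _ _).symm⟩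
    · exfalso
      have h3' : σ (σ x * x) = σ x * x := hσF _ h1
      rw [map_mul] at h3'
      have h4' : σ (σ x) = x := by
        rw [hab (σ x) x] at h3'
        exact mul_right_cancel h3'
      have h5 : Commute (g * g) (x : G) := mul_inv_eq_iff_eq_mul.1 (by
        have h6 : g * (g * x * g⁻¹) * g⁻¹ = (x : G) := congrArg Subtype.val h4'
        calc g * g * x * (g * g)⁻¹ = g * (g * x * g⁻¹) * g⁻¹ := by group
          _ = (x : G) := h6)
      obtain ⟨o, ho⟩ := hodd.of_dvd_nat (orderOf_dvd_natCard g)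
      have h' := h5.pow_left (o + 1)
      rw [← pow_two, ← pow_mul, show 2 * (o + 1) = orderOf g + 1 by omega, pow_succ,
        pow_orderOf_eq_one, one_mul] at h'
      exact hx ((hmem x).2 h'.eq)
  have hpow : ∀ j : ℕ, g ^ j * (x : G) * (g ^ j)⁻¹ = (f : G) ^ j * x := by
    intro j
    induction j with
    | zero => simp
    | succ j ih =>
      have hc : g * (f : G) ^ j = (f : G) ^ j * g := (Commute.pow_right ((hmem f).1 hfF) j).eq
      calc g ^ (j + 1) * (x : G) * (g ^ (j + 1))⁻¹ = g * (g ^ j * x * (g ^ j)⁻¹) * g⁻¹ := by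
            rw [pow_succ']; group
        _ = g * (f : G) ^ j * x * g⁻¹ := by rw [ih]; group
        _ = (f : G) ^ j * (g * x * g⁻¹) := by rw [hc]; group
        _ = (f : G) ^ j * ((f : G) * x) := by
            rw [show g * x * g⁻¹ = (f : G) * x from congrArg Subtype.val hfx]
        _ = _ := by rw [pow_succ, mul_assoc]
  set o := orderOf g with ho
  set a := r ^ o.factorization r with ha
  have ho0 : o ≠ 0 := (orderOf_pos g).ne'
  have hv : g ^ (o / a) ∈ (R : Subgroup G) := by
    have h1 : (g ^ (o / a)) ^ a = 1 := by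
      rw [← pow_mul, mul_comm, Nat.ordProj_mul_ordCompl_eq_self o r, ho, pow_orderOf_eq_one]
    obtain ⟨i, -, hi⟩ := (Nat.dvd_prime_pow hrp).1 (orderOf_dvd_of_pow_eq_one h1)
    have h2 := (IsPGroup.of_card (p := r) (G := zpowers (g ^ (o / a))) (n := i)
      (by rw [Nat.card_zpowers, hi])).inf_normalizer_sylow R
    have hin : g ^ (o / a) ∈
        zpowers (g ^ (o / a)) ⊓ normalizer ((R : Subgroup G) : Set G) :=
      ⟨mem_zpowers _, pow_mem hgN _⟩
    exact (h2.le hin).2
  have hfb : f ^ (o / a) = 1 := Subtype.ext (by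
    have h1 := hpow (o / a)
    rw [show g ^ (o / a) * (x : G) = x * g ^ (o / a) from congrArg Subtype.val (hab ⟨_, hv⟩ x),
      mul_inv_cancel_right] at h1
    exact mul_eq_right.1 h1.symm)
  obtain ⟨i, hi⟩ := IsPGroup.iff_orderOf.1 R.isPGroup' f
  have hf1 : orderOf f = 1 := by
    have h1 := orderOf_dvd_of_pow_eq_one hfb
    rw [hi] at h1 ⊢
    exact ((Nat.coprime_ordCompl hrp ho0).pow_left i).eq_one_of_dvd h1
  rw [orderOf_eq_one_iff.1 hf1, one_mul] at hfx
  exact hx ((hmem x).2 (mul_inv_eq_iff_eq_mul.1 (congrArg Subtype.val hfx)))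

/-- Normal complements with abelian quotient, one prime at a time, give a normal π-complement. -/
theorem exists_normal_pi_complement [Finite G] (π : Finset ℕ) (hπ : ∀ r ∈ π, r.Prime)
    (hr : ∀ r ∈ π, ∃ N : Subgroup G, N.Normal ∧ ¬ r ∣ Nat.card N ∧
      N.index = r ^ (Nat.card G).factorization r ∧ commutator G ≤ N) :
    ∃ N : Subgroup G, N.Normal ∧ (∀ r ∈ π, ¬ r ∣ Nat.card N) ∧ commutator G ≤ N ∧
      ∀ s : ℕ, s.Prime → s ∣ N.index → s ∈ π := by
  classical
  have hall : ∀ τ : Finset ℕ, τ ⊆ π → ∃ N : Subgroup G, N.Normal ∧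
      (∀ r ∈ τ, ¬ r ∣ Nat.card N) ∧ commutator G ≤ N ∧
      ∀ s : ℕ, s.Prime → s ∣ N.index → s ∈ τ := by
    intro τ
    induction τ using Finset.induction_on with
    | empty =>
      intro _
      exact ⟨⊤, inferInstance, by simp, le_top, fun s hs hd => by
        rw [Subgroup.index_top] at hd; exact absurd (Nat.dvd_one.1 hd) hs.ne_one⟩
    | insert r τ hrτ ih =>
      intro hsub
      obtain ⟨A, hA, hA1, hA2, hA3⟩ := ih ((Finset.subset_insert r τ).trans hsub)
      obtain ⟨B, hB, hB1, hB2, hB3⟩ := hr r (hsub (Finset.mem_insert_self r τ))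
      haveI := hA; haveI := hB
      refine ⟨A ⊓ B, inferInstance, ?_, le_inf hA2 hB3, ?_⟩
      · intro s hs hd
        rcases Finset.mem_insert.1 hs with rfl | hs
        · exact hB1 (hd.trans (Subgroup.card_dvd_of_le inf_le_right))
        · exact hA1 s hs (hd.trans (Subgroup.card_dvd_of_le inf_le_left))
      · intro s hs hd
        rw [← Subgroup.relIndex_mul_index (inf_le_left : A ⊓ B ≤ A),
          Subgroup.inf_relIndex_left] at hd
        rcases hs.dvd_mul.1 hd with hd | hd
        · have h6 := hd.trans (Subgroup.relIndex_dvd_index_of_normal B A)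
          rw [hB2] at h6
          rw [(Nat.prime_dvd_prime_iff_eq hs (hπ r (hsub (Finset.mem_insert_self r τ)))).1
            (hs.dvd_of_dvd_pow h6)]
          exact Finset.mem_insert_self r τ
        · exact Finset.mem_insert_of_mem (hA3 s hs hd)
  exact hall π subset_rfl

end CfsgLib.FGSA
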