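import Cfsg.Agent.FGSA.ClassSizePrimes
import Cfsg.Agent.FGSA.OddClassCount
import Mathlib.GroupTheory.SchurZassenhaus

/-!
The graph on primes dividing class sizes. Primes with `N(P) ≰ C(P)` ("good") are pairwise
adjacent; the others give a normal subgroup `K` with abelian complement `A`.
-/

set_option autoImplicit false
set_option linter.style.haveILetI false
set_option linter.unusedSectionVars false

namespace CfsgLib.ClassSizeGraph

open Subgroup
open scoped commutatorElement

variable {G : Type*} [Group G]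

/-- Adjacency in the class size graph. -/
def Adj (G : Type*) [Group G] (p q : ℕ) : Prop :=
  ∃ g : G, p * q ∣ (centralizer ({g} : Set G)).index

/-- Vertices of the class size graph. -/
def Vert (G : Type*) [Group G] (p : ℕ) : Prop :=
  p.Prime ∧ ∃ g : G, p ∣ (centralizer ({g} : Set G)).index

theorem Adj.symm {p q : ℕ} (h : Adj G p q) : Adj G q p := by
  obtain ⟨g, hg⟩ := h; exact ⟨g, by rwa [mul_comm]⟩

theorem Adj.vert_right {p q : ℕ} (hq : q.Prime) (h : Adj G p q) : Vert G q := by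
  obtain ⟨g, hg⟩ := h; exact ⟨hq, g, (dvd_mul_left q p).trans hg⟩

theorem adj_of_dvd {p q : ℕ} (hp : p.Prime) (hq : q.Prime) (hpq : p ≠ q) {g : G}
    (h1 : p ∣ (centralizer ({g} : Set G)).index) (h2 : q ∣ (centralizer ({g} : Set G)).index) :
    Adj G p q :=
  ⟨g, ((Nat.coprime_primes hp hq).2 hpq).mul_dvd_of_dvd_of_dvd h1 h2⟩

/-- A subgroup meeting every conjugacy class is the whole group. -/
theorem eq_top_of_forall_conj_mem [Finite G] (H : Subgroup G) (h : ∀ x : G, ∃ g : G, g * x * g⁻¹ ∈ H) :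
    H = ⊤ := by
  classical
  let f : (G ⧸ H) × {h : H // h ≠ 1} → {x : G // x ≠ 1} := fun c =>
    ⟨c.1.out * (c.2.1 : G) * c.1.out⁻¹, fun he => c.2.2 (Subtype.ext (conj_eq_one_iff.1 he))⟩
  have hf : Function.Surjective f := by
    rintro ⟨x, hx⟩
    obtain ⟨g, hg⟩ := h x
    obtain ⟨u, hu⟩ := QuotientGroup.mk_out_eq_mul H g⁻¹
    refine ⟨((g⁻¹ : G), ⟨⟨(u : G)⁻¹ * (g * x * g⁻¹) * u, H.mul_mem (H.mul_mem (H.inv_mem u.2) hg) u.2⟩,
      fun he => hx ?_⟩), Subtype.ext ?_⟩
    · have h1 := congrArg Subtype.val he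
      simp only [OneMemClass.coe_one] at h1
      have h2 : g * x * g⁻¹ = 1 := by
        calc g * x * g⁻¹ = (u : G) * ((u : G)⁻¹ * (g * x * g⁻¹) * u) * (u : G)⁻¹ := by group
          _ = 1 := by rw [h1]; group
      exact conj_eq_one_iff.1 h2
    · simp only [f, hu]
      group
  have h1 := Nat.card_le_card_of_surjective f hf
  haveI := Fintype.ofFinite G
  haveI := Fintype.ofFinite H
  rw [Nat.card_prod, Nat.card_eq_fintype_card (α := {h : H // h ≠ 1}),
    Nat.card_eq_fintype_card (α := {x : G // x ≠ 1}), Fintype.card_subtype_compl,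
    Fintype.card_subtype_compl, Fintype.card_subtype_eq, Fintype.card_subtype_eq,
    ← Nat.card_eq_fintype_card, ← Nat.card_eq_fintype_card, ← Subgroup.index] at h1
  rw [← index_eq_one]
  have h2 := H.index_mul_card
  have h3 : 0 < Nat.card H := Nat.card_pos
  have h4 : 0 < H.index := Nat.pos_of_ne_zero index_ne_zero_of_finite
  have h5 : H.index * (Nat.card H - 1) + H.index = H.index * Nat.card H := by
    rw [← Nat.mul_succ]; congr 1; omega
  omega

section
variable [Finite G]

/-- `p` is bad: the normaliser of a Sylow `p`-subgroup centralises it. -/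
def Bad (G : Type*) [Group G] (p : ℕ) : Prop :=
  ∃ P : Sylow p G, normalizer ((P : Subgroup G) : Set G) ≤ centralizer ((P : Subgroup G) : Set G)

theorem adj_good_good {p q : ℕ} (hp : p.Prime) (hq : q.Prime) (hpq : p ≠ q) (hpb : ¬ Bad G p)
    (hqb : ¬ Bad G q) : Adj G p q := by
  classical
  by_contra hcon
  haveI : Fact p.Prime := ⟨hp⟩
  haveI : Fact q.Prime := ⟨hq⟩
  haveI := Fintype.ofFinite G
  obtain ⟨P⟩ := (inferInstance : Nonempty (Sylow p G))
  obtain ⟨Q⟩ := (inferInstance : Nonempty (Sylow q G))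
  have h1 := CfsgLib.ClassSizePrimes.two_mul_card_good_le_of_not_le P fun h => hpb ⟨P, h⟩
  have h2 := CfsgLib.ClassSizePrimes.two_mul_card_good_le_of_not_le Q fun h => hqb ⟨Q, h⟩
  rw [Nat.card_eq_fintype_card, Nat.card_eq_fintype_card, Fintype.card_subtype] at h1 h2
  set A := Finset.univ.filter (fun x : G => ¬ p ∣ (centralizer ({x} : Set G)).index) with hA
  set B := Finset.univ.filter (fun x : G => ¬ q ∣ (centralizer ({x} : Set G)).index) with hB
  have hu : A ∪ B = Finset.univ := by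
    refine Finset.eq_univ_of_forall fun x => ?_
    rw [Finset.mem_union, hA, hB, Finset.mem_filter, Finset.mem_filter]
    by_cases hx : p ∣ (centralizer ({x} : Set G)).index
    · exact Or.inr ⟨Finset.mem_univ _, fun hx' => hcon (adj_of_dvd hp hq hpq hx hx')⟩
    · exact Or.inl ⟨Finset.mem_univ _, hx⟩
  have htop : centralizer ({(1 : G)} : Set G) = ⊤ := by
    ext; simp [mem_centralizer_singleton_iff]
  have hi : (1 : G) ∈ A ∩ B := by
    simp [hA, hB, htop, hp.ne_one, hq.ne_one]
  have h3 := Finset.card_union_add_card_inter A B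
  rw [hu, Finset.card_univ] at h3
  have h4 := Finset.card_pos.2 ⟨1, hi⟩
  omega

/-- A normal subgroup `K` of order prime to all bad vertices with an abelian complement `A` whose
order involves bad vertices only. -/
structure Split (G : Type*) [Group G] where
  K : Subgroup G
  A : Subgroup G
  normal : K.Normal
  compl : K.IsComplement' A
  comm : ∀ a ∈ A, ∀ b ∈ A, a * b = b * a
  not_dvd : ∀ q : ℕ, Vert G q → Bad G q → ¬ q ∣ Nat.card K
  of_dvd : ∀ q : ℕ, q.Prime → q ∣ Nat.card A → Vert G q ∧ Bad G q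

theorem exists_split : Nonempty (Split G) := by
  classical
  set β := (Nat.card G).primeFactors.filter (fun q => Vert G q ∧ Bad G q) with hβ
  have hr : ∀ r ∈ β, ∃ N : Subgroup G, N.Normal ∧ ¬ r ∣ Nat.card N ∧
      N.index = r ^ (Nat.card G).factorization r ∧ commutator G ≤ N := by
    intro r hrβ
    obtain ⟨hr1, ⟨hrp, -⟩, P, hP⟩ := Finset.mem_filter.1 hrβ
    haveI : Fact r.Prime := ⟨hrp⟩
    have hc := MonoidHom.ker_transferSylow_isComplement' P hP
    have hidx : ((MonoidHom.transferSylow P hP).ker).index = r ^ (Nat.card G).factorization r := by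
      rw [← P.card_eq_multiplicity]; exact hc.symm.index_eq_card
    refine ⟨_, MonoidHom.normal_ker _, ?_, hidx, ?_⟩
    · have h1 : Nat.card (MonoidHom.transferSylow P hP).ker = (P : Subgroup G).index :=
        hc.index_eq_card.symm
      rw [h1]
      exact P.not_dvd_index
    · have hab : IsMulCommutative (P : Subgroup G) := ⟨⟨fun a b => Subtype.ext
        ((mem_centralizer_iff.1 (hP (le_normalizer a.2)) b b.2).symm)⟩⟩
      rw [commutator_def, commutator_le]
      intro a _ b _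
      rw [MonoidHom.mem_ker, map_commutatorElement, commutatorElement_eq_one_iff_mul_comm]
      exact hab.is_comm.comm _ _
  obtain ⟨K, hK, hK1, hK2, hK3⟩ := CfsgLib.FGSA.exists_normal_pi_complement β
    (fun r hr => Nat.prime_of_mem_primeFactors (Finset.filter_subset _ _ hr)) hr
  have hcop : (Nat.card K).Coprime K.index := by
    refine Nat.coprime_of_dvd fun s hs h1 h2 => hK1 s (hK3 s hs h2) h1
  haveI := hK
  obtain ⟨A, hA⟩ := Subgroup.exists_right_complement'_of_coprime hcop
  refine ⟨⟨K, A, hK, hA, fun a ha b hb => ?_, fun q hq hqb => hK1 q ?_, fun q hq hqd => ?_⟩⟩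
  · have h1 : ⁅a, b⁆ ∈ K := hK2 (commutator_mem_commutator (mem_top a) (mem_top b))
    have h2 : ⁅a, b⁆ ∈ A := A.mul_mem (A.mul_mem (A.mul_mem ha hb) (A.inv_mem ha)) (A.inv_mem hb)
    exact commutatorElement_eq_one_iff_mul_comm.1 (disjoint_def.1 hA.disjoint h1 h2)
  · exact Finset.mem_filter.2 ⟨Nat.mem_primeFactors.2 ⟨hq.1,
      hq.2.choose_spec.trans (index_dvd_card _), Nat.card_pos.ne'⟩, hq, hqb⟩
  · have h1 := hK3 q hq (hA.symm.index_eq_card.symm ▸ hqd)
    exact (Finset.mem_filter.1 h1).2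

namespace Split

variable (S : Split G)

theorem exists_mul (g : G) : ∃ k ∈ S.K, ∃ a ∈ S.A, g = k * a := by
  obtain ⟨⟨k, a⟩, h, -⟩ := S.compl.existsUnique g
  exact ⟨k, k.2, a, a.2, h.symm⟩

theorem coprime : (Nat.card S.K).Coprime (Nat.card S.A) :=
  Nat.coprime_of_dvd fun _ hs h1 h2 => S.not_dvd _ (S.of_dvd _ hs h2).1 (S.of_dvd _ hs h2).2 h1

/-- `A` contains a Sylow subgroup for each bad vertex. -/
theorem exists_sylow_le {q : ℕ} [Fact q.Prime] (hq : Vert G q) (hb : Bad G q) :
    ∃ Q : Sylow q G, (Q : Subgroup G) ≤ S.A := by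
  obtain ⟨Q⟩ := (inferInstance : Nonempty (Sylow q S.A))
  have hidx : ¬ q ∣ ((Q : Subgroup S.A).map S.A.subtype).index := by
    rw [index_map_subtype, S.compl.index_eq_card]
    intro hd
    rcases (Fact.out : q.Prime).dvd_mul.1 hd with h1 | h1
    · exact Q.not_dvd_index h1
    · exact S.not_dvd q hq hb h1
  exact ⟨(Q.isPGroup'.map _).toSylow hidx, by rw [IsPGroup.toSylow_coe]; exact map_subtype_le _⟩

/-- An element of `K` with class size prime to `q` is `K`-conjugate into `C(Q)`. -/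
theorem exists_conj_centralizes {q : ℕ} [Fact q.Prime] {Q : Sylow q G} (hQ : (Q : Subgroup G) ≤ S.A)
    {y : G} (hy : ¬ q ∣ (centralizer ({y} : Set G)).index) :
    ∃ k ∈ S.K, k⁻¹ * y * k ∈ centralizer ((Q : Subgroup G) : Set G) := by
  obtain ⟨R, hR⟩ := CfsgLib.ClassSizePrimes.exists_sylow_le_centralizer hy
  obtain ⟨g, hg⟩ := MulAction.exists_smul_eq G Q R
  obtain ⟨k, hk, a, ha, rfl⟩ := S.exists_mul g
  refine ⟨k, hk, mem_centralizer_iff.2 fun u hu => ?_⟩
  have hua : a * u * a⁻¹ = u := by rw [S.comm a ha u (hQ hu), mul_inv_cancel_right]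
  have hmem : k * a * u * (k * a)⁻¹ ∈ (R : Subgroup G) := by rw [← hg]; exact ⟨u, hu, rfl⟩
  have h1 := mem_centralizer_iff.1 hR _ hmem
  have h2 : k * a * u * (k * a)⁻¹ = k * u * k⁻¹ := by
    calc k * a * u * (k * a)⁻¹ = k * (a * u * a⁻¹) * k⁻¹ := by group
      _ = _ := by rw [hua]
  rw [h2] at h1
  calc u * (k⁻¹ * y * k) = k⁻¹ * (k * u * k⁻¹ * y) * k := by group
    _ = k⁻¹ * (y * (k * u * k⁻¹)) * k := by rw [h1]
    _ = k⁻¹ * y * k * u := by group

/-- The Sylow subgroup of a bad vertex does not centralise `K`. -/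
theorem not_le_centralizer {q : ℕ} [Fact q.Prime] (hq : Vert G q) {Q : Sylow q G}
    (hQ : (Q : Subgroup G) ≤ S.A) : ¬ S.K ≤ centralizer ((Q : Subgroup G) : Set G) := by
  intro hle
  obtain ⟨x, hx⟩ := hq.2
  refine Q.not_dvd_index (hx.trans (index_dvd_of_le fun u hu => ?_))
  rw [mem_centralizer_singleton_iff]
  obtain ⟨k, hk, a, ha, rfl⟩ := S.exists_mul x
  have h1 := mem_centralizer_iff.1 (hle hk) u hu
  rw [← mul_assoc, h1, mul_assoc, mul_assoc, S.comm u (hQ hu) a ha]

/-- The size of a `K`-class of an element of `K` divides the class size. -/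
theorem relIndex_dvd (y : G) :
    (centralizer ({y} : Set G)).relIndex S.K ∣ (centralizer ({y} : Set G)).index := by
  haveI := S.normal
  set C := centralizer ({y} : Set G) with hC
  have h1 : C.relIndex S.K * S.K.index = S.K.relIndex C * C.index := by
    have e1 := relIndex_mul_index (inf_le_right : C ⊓ S.K ≤ S.K)
    have e2 := relIndex_mul_index (inf_le_left : C ⊓ S.K ≤ C)
    rw [inf_relIndex_right] at e1
    rw [inf_relIndex_left] at e2
    rw [e1, e2]
  have h2 : (C.relIndex S.K).Coprime (S.K.relIndex C) := by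
    refine (S.coprime.of_dvd (relIndex_dvd_card C S.K) ?_)
    exact (relIndex_dvd_index_of_normal S.K C).trans (dvd_of_eq S.compl.symm.index_eq_card)
  exact h2.dvd_of_dvd_mul_left ⟨S.K.index, h1.symm⟩

/-- If some bad vertex has no good neighbour, then `K` is abelian. -/
theorem comm_of_not_adj {q : ℕ} (hq : Vert G q) (hb : Bad G q)
    (hno : ∀ s : ℕ, Vert G s → ¬ Bad G s → ¬ Adj G q s) :
    ∀ a ∈ S.K, ∀ b ∈ S.K, a * b = b * a := by
  classical
  haveI : Fact q.Prime := ⟨hq.1⟩
  obtain ⟨Q, hQ⟩ := S.exists_sylow_le hq hb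
  by_contra hcon
  set D := (centralizer ((Q : Subgroup G) : Set G)).subgroupOf S.K with hD
  have hstep : ∀ y : S.K, y ∉ center S.K → ∃ k : S.K, k⁻¹ * y * k ∈ D := by
    intro y hy
    by_cases hd : q ∣ (centralizer ({(y : G)} : Set G)).index
    · exfalso
      apply hy
      rw [mem_center_iff]
      intro g
      have h1 : (centralizer ({(y : G)} : Set G)).relIndex S.K = 1 := by
        by_contra hne
        obtain ⟨s, hs, hsd⟩ := Nat.exists_prime_and_dvd hne
        have hsC := hsd.trans (S.relIndex_dvd (y : G))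
        have hsK := hsd.trans (relIndex_dvd_card (centralizer ({(y : G)} : Set G)) S.K)
        have hsv : Vert G s := ⟨hs, _, hsC⟩
        have hsb : ¬ Bad G s := fun h => S.not_dvd s hsv h hsK
        exact hno s hsv hsb (adj_of_dvd hq.1 hs (fun h => hsb (h ▸ hb)) hd hsC)
      exact Subtype.ext (mem_centralizer_singleton_iff.1 (relIndex_eq_one.1 h1 g.2))
    · obtain ⟨k, hk, hk'⟩ := S.exists_conj_centralizes hQ hd
      exact ⟨⟨k, hk⟩, hk'⟩
  have htop : D ⊔ center S.K = ⊤ := by
    refine eq_top_of_forall_conj_mem _ fun y => ?_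
    by_cases hy : y ∈ center S.K
    · exact ⟨1, by simpa using mem_sup_right hy⟩
    · obtain ⟨k, hk⟩ := hstep y hy
      exact ⟨k⁻¹, mem_sup_left (by simpa using hk)⟩
  have hdec : ∀ y : S.K, ∃ d ∈ D, ∃ z ∈ center S.K, d * z = y := fun y =>
    mem_sup_of_normal_right.1 (htop ▸ mem_top y)
  obtain ⟨w, hwD, hwZ⟩ : ∃ w ∈ D, w ∉ center S.K := by
    by_contra hno'
    push Not at hno'
    apply hcon
    intro a ha b hb
    obtain ⟨d, hd, z, hz, hdz⟩ := hdec ⟨a, ha⟩
    have h1 : (⟨a, ha⟩ : S.K) ∈ center S.K := hdz ▸ mul_mem (hno' d hd) hz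
    exact (congrArg Subtype.val (mem_center_iff.1 h1 ⟨b, hb⟩)).symm
  have hZD : center S.K ≤ D := by
    intro z hz
    have hwz : w * z ∉ center S.K := fun h => hwZ (by simpa using mul_mem h (inv_mem hz))
    obtain ⟨k, hk⟩ := hstep (w * z) hwz
    obtain ⟨d, hd, z', hz', rfl⟩ := hdec k
    have hc : ∀ u, u * z = z * u := mem_center_iff.1 hz
    have hc' : ∀ u, u * z' = z' * u := mem_center_iff.1 hz'
    have h1 : (d * z')⁻¹ * (w * z) * (d * z') = d⁻¹ * w * d * z := by
      calc (d * z')⁻¹ * (w * z) * (d * z') = z'⁻¹ * ((d⁻¹ * (w * z) * d) * z') := by group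
        _ = d⁻¹ * (w * z) * d := by rw [hc' (d⁻¹ * (w * z) * d)]; group
        _ = d⁻¹ * w * (z * d) := by group
        _ = d⁻¹ * w * (d * z) := by rw [hc d]
        _ = _ := by group
    rw [h1] at hk
    exact (mul_mem_cancel_left (mul_mem (mul_mem (inv_mem hd) hwD) hd)).1 hk
  refine S.not_le_centralizer hq hQ fun x hx => ?_
  have h1 : (⟨x, hx⟩ : S.K) ∈ D := (sup_le le_rfl hZD : D ⊔ center S.K ≤ D) (htop ▸ mem_top _)
  exact h1

/-- When `K` is abelian, bad vertices are pairwise adjacent. -/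
theorem adj_bad_bad (hK : ∀ a ∈ S.K, ∀ b ∈ S.K, a * b = b * a) {q r : ℕ} (hq : Vert G q)
    (hqb : Bad G q) (hr : Vert G r) (hrb : Bad G r) (hqr : q ≠ r) : Adj G q r := by
  haveI : Fact q.Prime := ⟨hq.1⟩
  haveI : Fact r.Prime := ⟨hr.1⟩
  obtain ⟨Q, hQ⟩ := S.exists_sylow_le hq hqb
  obtain ⟨R, hR⟩ := S.exists_sylow_le hr hrb
  set CQ := centralizer ((Q : Subgroup G) : Set G) with hCQ
  set CR := centralizer ((R : Subgroup G) : Set G) with hCR
  obtain ⟨a, ha, haQ⟩ := SetLike.not_le_iff_exists.1 (S.not_le_centralizer hq hQ)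
  obtain ⟨b, hb, hbR⟩ := SetLike.not_le_iff_exists.1 (S.not_le_centralizer hr hR)
  obtain ⟨y, hy, hyQ, hyR⟩ : ∃ y ∈ S.K, y ∉ CQ ∧ y ∉ CR := by
    by_cases h1 : a ∈ CR
    · by_cases h2 : b ∈ CQ
      · exact ⟨a * b, mul_mem ha hb, fun h => haQ ((mul_mem_cancel_right h2).1 h),
          fun h => hbR ((mul_mem_cancel_left h1).1 h)⟩
      · exact ⟨b, hb, h2, hbR⟩
    · exact ⟨a, ha, haQ, h1⟩
  have key : ∀ {s : ℕ} [Fact s.Prime] {T : Sylow s G}, (T : Subgroup G) ≤ S.A →
      y ∉ centralizer ((T : Subgroup G) : Set G) → s ∣ (centralizer ({y} : Set G)).index := by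
    intro s _ T hT hyT
    by_contra hd
    obtain ⟨k, hk, hk'⟩ := S.exists_conj_centralizes hT hd
    rw [hK k⁻¹ (inv_mem hk) y hy, inv_mul_cancel_right] at hk'
    exact hyT hk'
  exact adj_of_dvd hq.1 hr.1 hqr (key hQ hyQ) (key hR hyR)

end Split

end

end CfsgLib.ClassSizeGraph
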