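import Mathlib.GroupTheory.Transfer
import Mathlib.GroupTheory.SemidirectProduct
import Cfsg.Prelude.Def_Transfer

/-!
A prime `p` without normal `p`-complement divides the class size of at least half the elements.
-/

set_option autoImplicit false
set_option linter.style.haveILetI false

namespace CfsgLib.ClassSizePrimes

open Subgroup

variable {G : Type*} [Group G] [Finite G]

/-- If `p` does not divide the class size, the element centralises some Sylow `p`-subgroup. -/
theorem exists_sylow_le_centralizer {p : ℕ} [Fact p.Prime] {x : G}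
    (h : ¬ p ∣ (centralizer ({x} : Set G)).index) :
    ∃ Q : Sylow p G, x ∈ centralizer ((Q : Subgroup G) : Set G) := by
  obtain ⟨Q⟩ := (inferInstance : Nonempty (Sylow p (centralizer ({x} : Set G))))
  have hidx : ¬ p ∣ ((Q : Subgroup (centralizer ({x} : Set G))).map
      (centralizer ({x} : Set G)).subtype).index := by
    rw [index_map_subtype]
    intro hd
    rcases (Fact.out : p.Prime).dvd_mul.1 hd with h1 | h1
    · exact Q.not_dvd_index h1
    · exact h h1
  refine ⟨(Q.isPGroup'.map _).toSylow hidx, ?_⟩
  rw [IsPGroup.toSylow_coe, mem_centralizer_iff]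
  rintro _ ⟨c, -, rfl⟩
  exact mem_centralizer_singleton_iff.1 c.2

theorem card_good_le {p : ℕ} [Fact p.Prime] (P : Sylow p G) :
    Nat.card {x : G // ¬ p ∣ (centralizer ({x} : Set G)).index} ≤
      Nat.card (Sylow p G) * Nat.card (centralizer ((P : Subgroup G) : Set G)) := by
  classical
  haveI : Fintype (Sylow p G) := Fintype.ofFinite _
  choose Q hQ using fun x : {x : G // ¬ p ∣ (centralizer ({x} : Set G)).index} =>
    exists_sylow_le_centralizer x.2
  let f : {x : G // ¬ p ∣ (centralizer ({x} : Set G)).index} →
      Σ Q : Sylow p G, centralizer ((Q : Subgroup G) : Set G) := fun x => ⟨Q x, ⟨x.1, hQ x⟩⟩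
  have hf : Function.Injective f := fun a b hab =>
    Subtype.ext (congrArg (fun s : Σ Q : Sylow p G, centralizer ((Q : Subgroup G) : Set G) =>
      (s.2 : G)) hab)
  refine (Nat.card_le_card_of_injective f hf).trans (le_of_eq ?_)
  rw [Nat.card_sigma, Finset.sum_eq_card_nsmul (b := Nat.card (centralizer ((P : Subgroup G) : Set G))),
    Finset.card_univ, smul_eq_mul, ← Nat.card_eq_fintype_card]
  intro S _
  obtain ⟨g, hg⟩ := MulAction.exists_smul_eq G P S
  have hS : centralizer ((S : Subgroup G) : Set G) =
      (centralizer ((P : Subgroup G) : Set G)).map (MulAut.conj g).toMonoidHom := by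
    ext x
    rw [← hg]
    simp only [mem_map_equiv, mem_centralizer_iff, MulAut.conj_symm_apply]
    constructor
    · intro hx y hy
      have h1 := hx (g * y * g⁻¹) ⟨y, hy, rfl⟩
      calc y * (g⁻¹ * x * g) = g⁻¹ * (g * y * g⁻¹ * x) * g := by group
        _ = g⁻¹ * (x * (g * y * g⁻¹)) * g := by rw [h1]
        _ = g⁻¹ * x * g * y := by group
    · rintro hx _ ⟨y, hy, rfl⟩
      have h1 := hx y hy
      calc g * y * g⁻¹ * x = g * (y * (g⁻¹ * x * g)) * g⁻¹ := by group
        _ = g * (g⁻¹ * x * g * y) * g⁻¹ := by rw [h1]
        _ = x * (g * y * g⁻¹) := by group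
  rw [hS, card_map_of_injective (MulEquiv.injective _)]

/-- If `N(P) ≰ C(P)`, at most half the elements have class size prime to `p`. -/
theorem two_mul_card_good_le_of_not_le {p : ℕ} [Fact p.Prime] (P : Sylow p G)
    (hne : ¬ normalizer ((P : Subgroup G) : Set G) ≤ centralizer ((P : Subgroup G) : Set G)) :
    2 * Nat.card {x : G // ¬ p ∣ (centralizer ({x} : Set G)).index} ≤ Nat.card G := by
  set N := normalizer ((P : Subgroup G) : Set G) with hN
  set C := centralizer ((P : Subgroup G) : Set G) with hC
  have hle : C ≤ N := centralizer_le_normalizer _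
  have h1 : 1 < C.relIndex N := by
    rcases Nat.lt_trichotomy (C.relIndex N) 1 with h | h | h
    · rw [Nat.lt_one_iff] at h
      exact absurd h (index_ne_zero_of_finite (H := C.subgroupOf N))
    · exact absurd (relIndex_eq_one.1 h) hne
    · exact h
  have h2 : 2 * Nat.card C ≤ Nat.card N := by
    rw [← relIndex_bot_left N, ← relIndex_mul_relIndex ⊥ C N bot_le hle, relIndex_bot_left,
      mul_comm 2]
    exact Nat.mul_le_mul_left _ h1
  calc 2 * Nat.card {x : G // ¬ p ∣ (centralizer ({x} : Set G)).index}
      ≤ 2 * (Nat.card (Sylow p G) * Nat.card C) := Nat.mul_le_mul_left _ (card_good_le P)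
    _ = Nat.card (Sylow p G) * (2 * Nat.card C) := by ring
    _ ≤ Nat.card (Sylow p G) * Nat.card N := Nat.mul_le_mul_left _ h2
    _ = Nat.card G := by
        rw [P.card_eq_index_normalizer]
        exact index_mul_card _

/-- Without a normal `p`-complement, at most half the elements have class size prime to `p`. -/
theorem two_mul_card_good_le {p : ℕ} [Fact p.Prime] (hno : ¬ Cfsg.HasNormalPComplement p G) :
    2 * Nat.card {x : G // ¬ p ∣ (centralizer ({x} : Set G)).index} ≤ Nat.card G := by
  obtain ⟨P⟩ := (inferInstance : Nonempty (Sylow p G))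
  exact two_mul_card_good_le_of_not_le P fun h =>
    hno ⟨P, _, MonoidHom.normal_ker _, MonoidHom.ker_transferSylow_isComplement' P h⟩

theorem half_le_card_bad {p : ℕ} [Fact p.Prime] (hno : ¬ Cfsg.HasNormalPComplement p G) :
    Nat.card G ≤ 2 * Nat.card {x : G // p ∣ (centralizer ({x} : Set G)).index} := by
  classical
  haveI := Fintype.ofFinite G
  have h := two_mul_card_good_le hno
  have h2 : Nat.card {x : G // p ∣ (centralizer ({x} : Set G)).index} +
      Nat.card {x : G // ¬ p ∣ (centralizer ({x} : Set G)).index} = Nat.card G := by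
    rw [← Nat.card_sum, Nat.card_congr (Equiv.sumCompl _)]
  omega

end CfsgLib.ClassSizePrimes
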