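import Mathlib.GroupTheory.Nilpotent
import Mathlib.Data.Finset.Card

/-!
# Minimal covers by nilpotent subgroups: exchange argument (slice A)
-/

set_option autoImplicit false

namespace CfsgLib.FGSA

variable {G : Type*} [Group G]

/-- A subgroup `A` is a member of some nilpotent cover. A nilpotent minimal cover cannot have
two different members inside one proper subgroup. -/
lemma false_of_nilpotent_cover {M : Subgroup G} (hM : M ≠ ⊤) (t t' : G)
    (ht : ∀ A : Subgroup G, Group.IsNilpotent A → t ∈ A → A ≤ M)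
    (ht' : ∀ A : Subgroup G, Group.IsNilpotent A → t' ∈ A → A ≤ M)
    (hne : ∀ A : Subgroup G, Group.IsNilpotent A → t ∈ A → t' ∉ A)
    (𝓐 : Finset (Subgroup G))
    (h : ((∀ A ∈ 𝓐, A ≠ ⊤) ∧ (∀ g : G, ∃ A ∈ 𝓐, g ∈ A)) ∧
      (∀ 𝓑 : Finset (Subgroup G), (∀ A ∈ 𝓑, A ≠ ⊤) ∧ (∀ g : G, ∃ A ∈ 𝓑, g ∈ A) →
        𝓐.card ≤ 𝓑.card) ∧ (∀ A ∈ 𝓐, Group.IsNilpotent ↥A)) : False := by
  classical
  obtain ⟨⟨hproper, hcov⟩, hmin, hnil⟩ := h
  obtain ⟨A, hA, htA⟩ := hcov t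
  obtain ⟨A', hA', htA'⟩ := hcov t'
  have hAA' : A' ≠ A := fun he => hne A (hnil A hA) htA (he ▸ htA')
  have h1 := hmin (insert M ((𝓐.erase A).erase A')) ⟨fun B hB => ?_, fun g => ?_⟩
  · have h2 : ((𝓐.erase A).erase A').card + 1 = (𝓐.erase A).card :=
      Finset.card_erase_add_one (Finset.mem_erase.2 ⟨hAA', hA'⟩)
    have h3 : (𝓐.erase A).card + 1 = 𝓐.card := Finset.card_erase_add_one hA
    have h4 := Finset.card_insert_le M ((𝓐.erase A).erase A')
    omega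
  · rcases Finset.mem_insert.1 hB with rfl | hB
    · exact hM
    · exact hproper B (Finset.mem_of_mem_erase (Finset.mem_of_mem_erase hB))
  · obtain ⟨B, hB, hgB⟩ := hcov g
    by_cases hBA : B = A
    · exact ⟨M, Finset.mem_insert_self _ _, ht A (hnil A hA) htA (hBA ▸ hgB)⟩
    by_cases hBA' : B = A'
    · exact ⟨M, Finset.mem_insert_self _ _, ht' A' (hnil A' hA') htA' (hBA' ▸ hgB)⟩
    exact ⟨B, Finset.mem_insert_of_mem (Finset.mem_erase.2 ⟨hBA', Finset.mem_erase.2 ⟨hBA, hB⟩⟩),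
      hgB⟩

/-- A nontrivial nilpotent subgroup has a nontrivial element commuting with all its elements. -/
lemma exists_ne_one_commute_of_nilpotent {A : Subgroup G} (hA : Group.IsNilpotent A) {t : G}
    (ht : t ∈ A) (ht1 : t ≠ 1) : ∃ z ∈ A, z ≠ 1 ∧ ∀ a ∈ A, a * z = z * a := by
  haveI := hA
  haveI : Nontrivial A := ⟨⟨⟨t, ht⟩, 1, fun h => ht1 (congrArg Subtype.val h)⟩⟩
  obtain ⟨z, hz, hz1⟩ := Subgroup.bot_or_exists_ne_one (Subgroup.center A)
    |>.resolve_left (Group.IsNilpotent.center_ne_bot _)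
  exact ⟨z, z.2, fun h => hz1 (Subtype.ext h), fun a ha =>
    congrArg Subtype.val (Subgroup.mem_center_iff.1 hz ⟨a, ha⟩)⟩

end CfsgLib.FGSA
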