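import Cfsg.Agent.FGSA.Cover
import Mathlib.GroupTheory.Perm.Fin
import Mathlib.GroupTheory.SpecificGroups.Alternating

/-!
Nilpotent minimal covers of symmetric and alternating groups do not exist.
-/

set_option autoImplicit false

namespace CfsgLib.FGSA.CoverAlt

open Equiv Equiv.Perm

variable {n m : ℕ} {e : Fin n}

theorem apply_lt (he : e.val + 1 = m) {i : Fin n} (hi : i.val + 1 < m) :
    (Fin.cycleRange e i : ℕ) = i.val + 1 := Fin.coe_cycleRange_of_lt (Fin.lt_def.2 (by omega))

theorem apply_last (he : e.val + 1 = m) {i : Fin n} (hi : i.val + 1 = m) :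
    (Fin.cycleRange e i : ℕ) = 0 := by
  haveI : NeZero n := ⟨by have := i.2; omega⟩
  rw [Fin.cycleRange_of_eq (Fin.ext (by omega))]
  rfl

theorem apply_top (he : e.val + 1 = m) {i : Fin n} (hi : m ≤ i.val) : Fin.cycleRange e i = i :=
  Fin.cycleRange_of_gt (Fin.lt_def.2 (by omega))

theorem fixed_iff (he : e.val + 1 = m) (hm : 2 ≤ m) (i : Fin n) :
    Fin.cycleRange e i = i ↔ m ≤ i.val := by
  refine ⟨fun h => ?_, apply_top he⟩
  by_contra hlt
  have hv := congrArg Fin.val h
  by_cases h1 : i.val + 1 = m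
  · rw [apply_last he h1] at hv; omega
  · rw [apply_lt he (i := i) (by omega)] at hv; omega

theorem preserves (he : e.val + 1 = m) (hm : 2 ≤ m) {c : Perm (Fin n)}
    (hc : c * Fin.cycleRange e = Fin.cycleRange e * c) (i : Fin n) :
    m ≤ (c i).val ↔ m ≤ i.val := by
  rw [← fixed_iff he hm, ← fixed_iff he hm]
  have h : Fin.cycleRange e (c i) = c (Fin.cycleRange e i) :=
    (congrArg (fun f : Perm (Fin n) => f i) hc).symm
  rw [h]
  exact c.injective.eq_iff

/-- An element commuting with the cycle and fixing one of its points fixes all of them. -/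
theorem fix_all (he : e.val + 1 = m) (hm : 2 ≤ m) {c : Perm (Fin n)}
    (hc : c * Fin.cycleRange e = Fin.cycleRange e * c) {i₀ : Fin n} (hi₀ : i₀.val < m)
    (hf : c i₀ = i₀) (i : Fin n) (hi : i.val < m) : c i = i := by
  have step : ∀ j : Fin n, c j = j → c (Fin.cycleRange e j) = Fin.cycleRange e j := fun j hj =>
    (congrArg (fun f : Perm (Fin n) => f j) hc).trans (congrArg (Fin.cycleRange e) hj)
  have up : ∀ (d : ℕ) (j : Fin n), j.val + d < m → c j = j → ∀ k : Fin n, k.val = j.val + d → c k = k := by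
    intro d
    induction d with
    | zero => intro j _ hj k hk; rw [Fin.ext (show k.val = j.val by omega)]; exact hj
    | succ d ih =>
      intro j hd hj k hk
      exact ih (Fin.cycleRange e j) (by rw [apply_lt he (i := j) (by omega)]; omega) (step j hj) k
        (by rw [apply_lt he (i := j) (by omega)]; omega)
  have hlast : c e = e := up (m - 1 - i₀.val) i₀ (by omega) hf e (by omega)
  have hz := step e hlast
  exact up i.val _ (by rw [apply_last he he]; omega) hz i (by rw [apply_last he he]; omega)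

/-- A subgroup of permutations preserving the top points. -/
def topStab (n m : ℕ) : Subgroup (Perm (Fin n)) where
  carrier := {g | ∀ i, m ≤ (g i).val ↔ m ≤ i.val}
  mul_mem' := fun {a b} ha hb i => (ha (b i)).trans (hb i)
  one_mem' := fun _ => Iff.rfl
  inv_mem' := fun {a} ha i => by
    have := ha (a⁻¹ i)
    rw [show a (a⁻¹ i) = i from a.apply_symm_apply i] at this
    exact this.symm

variable {G : Type*} [Group G]

/-- The exchange argument with two long cycles on the same support. -/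
theorem false_of_cover (ι : G →* Perm (Fin n)) (hι : Function.Injective ι)
    (halt : alternatingGroup (Fin n) ≤ ι.range) (he : e.val + 1 = m) (hm : 4 ≤ m) (hmn : m < n)
    (hsign : sign (Fin.cycleRange e) = 1 ∨ ι.range = ⊤)
    (htop : ∀ g : G, (∀ i : Fin n, i.val < m → ι g i = i) → g = 1)
    (h : ∃ 𝓐 : Finset (Subgroup G), ((∀ A ∈ 𝓐, A ≠ ⊤) ∧ (∀ g : G, ∃ A ∈ 𝓐, g ∈ A)) ∧
      (∀ 𝓑 : Finset (Subgroup G), (∀ A ∈ 𝓑, A ≠ ⊤) ∧ (∀ g : G, ∃ A ∈ 𝓑, g ∈ A) →
        𝓐.card ≤ 𝓑.card) ∧ (∀ A ∈ 𝓐, Group.IsNilpotent ↥A)) : False := by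
  obtain ⟨𝓐, h𝓐⟩ := h
  set i0 : Fin n := ⟨0, by omega⟩
  set i1 : Fin n := ⟨1, by omega⟩
  set i2 : Fin n := ⟨2, by omega⟩
  set it : Fin n := ⟨m, hmn⟩
  set T := Fin.cycleRange e with hT
  set τ := swap i0 i1 with hτ
  have hmem : ∀ g : Perm (Fin n), sign g = sign T → g ∈ ι.range := fun g hg => by
    rcases hsign with h1 | h1
    · exact halt (by rw [mem_alternatingGroup, hg, hT, h1])
    · rw [h1]; trivial
  obtain ⟨t, ht⟩ := hmem T rfl
  obtain ⟨t', ht'⟩ := hmem (τ * T * τ) (by
    rw [map_mul, map_mul, mul_comm (sign τ), mul_assoc, ← map_mul sign τ τ, hτ, swap_mul_self,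
      map_one, mul_one])
  set M := (topStab n m).comap ι with hMdef
  have hM : M ≠ ⊤ := by
    intro e1
    obtain ⟨g, hg⟩ := halt (show swap i0 it * swap i0 i1 ∈ alternatingGroup (Fin n) by
      rw [mem_alternatingGroup, map_mul, sign_swap, sign_swap]
      · rfl
      · exact Fin.ne_of_val_ne (by simp [i0, i1])
      · exact Fin.ne_of_val_ne (by simp [i0, it]; omega))
    have h1 : g ∈ M := e1 ▸ Subgroup.mem_top g
    have h2 := (h1 i1)
    rw [hg, Perm.mul_apply, swap_apply_right, swap_apply_left] at h2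
    have := h2.1 (le_refl m)
    simp only [i1] at this
    omega
  have hτtop : ∀ i : Fin n, m ≤ (τ i).val ↔ m ≤ i.val := fun i => by
    rcases eq_or_ne i i0 with rfl | h0
    · rw [hτ, swap_apply_left]; simp [i0, i1]; omega
    rcases eq_or_ne i i1 with rfl | h1
    · rw [hτ, swap_apply_right]; simp [i0, i1]; omega
    rw [hτ, swap_apply_of_ne_of_ne h0 h1]
  have key : ∀ (z : G), (ι z) * T = T * ι z → z ≠ 1 → ∀ i : Fin n, ι z i = i ↔ m ≤ i.val := by
    intro z hz hz1 i
    constructor
    · intro hi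
      by_contra hlt
      exact hz1 (htop z (fix_all he (by omega) hz (not_le.1 hlt) hi))
    · intro hi
      by_contra hne
      -- the top points moved by `z`
      have hj : ∀ j : ℕ, z * t ^ j = t ^ j * z := fun j => by
        have : Commute z t := hι (by rw [map_mul, map_mul, ht]; exact hz)
        exact (this.pow_right j).eq
      have hlow : (ι z i0).val < m := by
        by_contra hge
        have := (preserves he (by omega) hz i0).1 (not_lt.1 hge)
        simp only [i0] at this
        omega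
      have hpow : ∀ (j : ℕ) (k : Fin n), k.val = j → j < m → (ι (t ^ j)) i0 = k := by
        intro j
        induction j with
        | zero => intro k hk _; rw [pow_zero, map_one, Perm.one_apply]; exact Fin.ext (by simp [i0, hk])
        | succ j ih =>
          intro k hk hjm
          rw [pow_succ', map_mul, Perm.mul_apply, ih ⟨j, by omega⟩ rfl (by omega), ht]
          exact Fin.ext (by rw [apply_lt he (i := ⟨j, by omega⟩) (by simp; omega), hk])
      have hw : z⁻¹ * t ^ (ι z i0).val = 1 := by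
        refine htop _ (fix_all he (by omega) ?_ (i₀ := i0) (by simp [i0]; omega) ?_)
        · show _ * T = T * _
          rw [← ht, ← map_mul, ← map_mul]
          refine congrArg ι (((?_ : Commute z t).inv_left.mul_left ((Commute.refl t).pow_left _)).eq)
          exact hι (by rw [map_mul, map_mul, ht]; exact hz)
        · rw [map_mul, Perm.mul_apply, hpow _ (ι z i0) rfl hlow, map_inv]
          exact (ι z).symm_apply_apply i0
      rw [inv_mul_eq_one] at hw
      apply hne
      rw [hw, map_pow, ht]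
      exact Perm.pow_apply_eq_self_of_apply_eq_self (apply_top he hi) _
  have hstab : ∀ (z a : G), a * z = z * a → (∀ i : Fin n, ι z i = i ↔ m ≤ i.val) → a ∈ M := by
    intro z a haz hz i
    rw [← hz, ← hz]
    have h1 : ι z (ι a i) = ι a (ι z i) := by
      rw [← Perm.mul_apply, ← Perm.mul_apply, ← map_mul, ← map_mul, haz]
    rw [h1]
    exact (ι a).injective.eq_iff
  have hconj : ∀ z : G, (ι z) * (τ * T * τ) = τ * T * τ * ι z →
      (τ * ι z * τ) * T = T * (τ * ι z * τ) := by
    intro z hz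
    have h2 := congrArg (fun g => τ * g * τ) hz
    simp only [mul_assoc, hτ, swap_mul_self, mul_one] at h2 ⊢
    rw [swap_mul_self_mul] at h2
    exact h2
  have key' : ∀ (z : G), (ι z) * (τ * T * τ) = τ * T * τ * ι z → z ≠ 1 →
      ∀ i : Fin n, ι z i = i ↔ m ≤ i.val := by
    intro z hz hz1 i
    obtain ⟨z', hz'⟩ : τ * ι z * τ ∈ ι.range := by
      rcases hsign with h1 | h1
      · by_cases he1 : sign (ι z) = 1
        · exact halt (by
            rw [mem_alternatingGroup, map_mul, map_mul, he1, mul_one, ← map_mul, hτ, swap_mul_self,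
              map_one])
        · have hz0 : ι z ∈ ι.range := ⟨z, rfl⟩
          by_cases hR : τ ∈ ι.range
          · exact mul_mem (mul_mem hR hz0) hR
          · exfalso
            refine hR ?_
            have h2 : τ * (ι z)⁻¹ ∈ alternatingGroup (Fin n) := by
              rw [mem_alternatingGroup, map_mul, map_inv, (Int.units_eq_one_or _).resolve_left he1, hτ,
                sign_swap (Fin.ne_of_val_ne (by simp [i0, i1]))]
              rfl
            simpa using mul_mem (halt h2) hz0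
      · rw [h1]; trivial
    have h1 := key z' (by rw [hz']; exact hconj z hz) (fun e1 => hz1 (hι (by
      rw [e1, map_one] at hz'
      have h4 := congrArg (fun g => τ * g * τ) hz'
      simp only [mul_assoc, hτ, swap_mul_self, mul_one, swap_mul_self_mul] at h4
      rw [map_one]
      exact h4.symm))) (τ i)
    rw [hz', hτtop i, Perm.mul_apply, Perm.mul_apply, hτ, swap_apply_self, ← hτ] at h1
    exact τ.injective.eq_iff.symm.trans h1
  have hcomm : ∀ (A : Subgroup G), Group.IsNilpotent A → ∀ s ∈ A, ∀ S : Perm (Fin n), ι s = S → s ≠ 1 →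
      (∀ z, ι z * S = S * ι z → z ≠ 1 → ∀ i : Fin n, ι z i = i ↔ m ≤ i.val) → A ≤ M := by
    intro A hA s hs S hS hs1 hk a ha
    obtain ⟨z, hzA, hz1, hz⟩ := exists_ne_one_commute_of_nilpotent hA hs hs1
    exact hstab z a (hz a ha) (hk z (by rw [← hS, ← map_mul, ← map_mul, ← hz s hs]) hz1)
  have hT1 : ∀ i : Fin n, i.val < m → T i ≠ i := fun i hi h1 => by
    have := (fixed_iff he (by omega) i).1 h1
    omega
  have ht1 : t ≠ 1 := fun e1 => hT1 i0 (by simp [i0]; omega) (by rw [← ht, e1, map_one]; rfl)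
  have ht'1 : t' ≠ 1 := fun e1 => hT1 i1 (by simp [i1]; omega) (by
    have h1 : τ (T (τ i0)) = i0 := by
      rw [show τ (T (τ i0)) = (τ * T * τ) i0 from rfl, ← ht', e1, map_one]; rfl
    rw [hτ, swap_apply_left, ← hτ] at h1
    refine τ.injective ?_
    rw [h1, hτ, swap_apply_right])
  refine false_of_nilpotent_cover hM t t' (fun A hA hs => hcomm A hA t hs T ht ht1 key)
    (fun A hA hs => hcomm A hA t' hs _ ht' ht'1 key') (fun A hA hs hs' => ?_) 𝓐 h𝓐
  obtain ⟨z, hzA, hz1, hz⟩ := exists_ne_one_commute_of_nilpotent hA hs ht1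
  set c := ι z
  have hc : c * T = T * c := by rw [← ht, ← map_mul, ← map_mul, hz t hs]
  have hc' : c * (τ * T * τ) = τ * T * τ * c := by rw [← ht', ← map_mul, ← map_mul, hz t' hs']
  -- `c` commutes with `w = T τ T⁻¹ τ`, whose support is `{0, 1, 2}`
  have hcinv : c * T⁻¹ = T⁻¹ * c := (show Commute c T from hc).inv_right.eq
  set w := T * (τ * T * τ)⁻¹
  have hcw : c * w = w * c :=
    ((show Commute c T from hc).mul_right (show Commute c (τ * T * τ) from hc').inv_right).eq
  have hT0 : T i0 = i1 := Fin.ext (apply_lt he (by simp [i0]; omega))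
  have hT1' : T i1 = i2 := Fin.ext (apply_lt he (by simp [i1]; omega))
  have hw : ∀ i : Fin n, w i = swap i1 i2 (τ i) := fun i => by
    show T (((τ * T * τ)⁻¹ : Perm (Fin n)) i) = _
    have hs : swap i1 i2 = T * τ * T⁻¹ := by rw [hτ, ← swap_apply_apply, hT0, hT1']
    have hi : τ⁻¹ = τ := by rw [hτ, swap_inv]
    rw [hs, mul_inv_rev, mul_inv_rev, hi]
    rfl
  have hsupp : ∀ i : Fin n, w i ≠ i ↔ i.val ≤ 2 := by
    intro i
    rw [hw]
    have h01 : i0 ≠ i1 := Fin.ne_of_val_ne (by simp [i0, i1])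
    have h02 : i0 ≠ i2 := Fin.ne_of_val_ne (by simp [i0, i2])
    have h12 : i1 ≠ i2 := Fin.ne_of_val_ne (by simp [i1, i2])
    rcases eq_or_ne i i0 with rfl | h0
    · rw [hτ, swap_apply_left, swap_apply_left]; simp [h02.symm, i0]
    rcases eq_or_ne i i1 with rfl | h1
    · rw [hτ, swap_apply_right, swap_apply_of_ne_of_ne h01 h02]; simp [h01, i1]
    rw [hτ, swap_apply_of_ne_of_ne h0 h1]
    rcases eq_or_ne i i2 with rfl | h2
    · rw [swap_apply_right]; simp [h12, i2]
    rw [swap_apply_of_ne_of_ne h1 h2]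
    have : i.val ≠ 0 ∧ i.val ≠ 1 ∧ i.val ≠ 2 :=
      ⟨fun e1 => h0 (Fin.ext e1), fun e1 => h1 (Fin.ext e1), fun e1 => h2 (Fin.ext e1)⟩
    simp
    omega
  have hpres : ∀ i : Fin n, i.val ≤ 2 → (c i).val ≤ 2 := fun i hi => by
    rw [← hsupp] at hi ⊢
    intro e1
    refine hi (c.injective ?_)
    rw [← Perm.mul_apply, hcw]
    exact e1
  have happ : ∀ i, c (T i) = T (c i) := fun i => congrArg (fun f : Perm (Fin n) => f i) hc
  obtain hk0 | hk1 | hk2 : (c i0).val = 0 ∨ (c i0).val = 1 ∨ (c i0).val = 2 := by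
    have := hpres i0 (by simp [i0]); omega
  · exact hz1 (htop z (fix_all he (by omega) hc (i₀ := i0) (by simp [i0]; omega) (Fin.ext hk0)))
  · have e1 : (c i1).val = 2 := by rw [← hT0, happ, apply_lt he (i := c i0) (by omega), hk1]
    have e2 : (c i2).val = 3 := by rw [← hT1', happ, apply_lt he (i := c i1) (by omega), e1]
    have := hpres i2 (by simp [i2]); omega
  · have e1 : (c i1).val = 3 := by rw [← hT0, happ, apply_lt he (i := c i0) (by omega), hk2]
    have := hpres i1 (by simp [i1]); omega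

/-- Two elements of order three with self-centralising cyclic subgroups inside a proper subgroup. -/
theorem false_of_small (M : Subgroup G) (hM : M ≠ ⊤) (t t' : G) (ht1 : t ≠ 1) (ht'1 : t' ≠ 1)
    (htM : t ∈ M) (ht'M : t' ∈ M) (hne : t' ∉ ({1, t, t * t} : Set G))
    (hz : ∀ z a : G, z * t = t * z → z ≠ 1 → a * z = z * a → a ∈ ({1, t, t * t} : Set G))
    (hz' : ∀ z a : G, z * t' = t' * z → z ≠ 1 → a * z = z * a → a ∈ ({1, t', t' * t'} : Set G))
    (h : ∃ 𝓐 : Finset (Subgroup G), ((∀ A ∈ 𝓐, A ≠ ⊤) ∧ (∀ g : G, ∃ A ∈ 𝓐, g ∈ A)) ∧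
      (∀ 𝓑 : Finset (Subgroup G), (∀ A ∈ 𝓑, A ≠ ⊤) ∧ (∀ g : G, ∃ A ∈ 𝓑, g ∈ A) →
        𝓐.card ≤ 𝓑.card) ∧ (∀ A ∈ 𝓐, Group.IsNilpotent ↥A)) : False := by
  obtain ⟨𝓐, h𝓐⟩ := h
  have key : ∀ s : G, s ∈ M → s ≠ 1 →
      (∀ z a : G, z * s = s * z → z ≠ 1 → a * z = z * a → a ∈ ({1, s, s * s} : Set G)) →
      ∀ A : Subgroup G, Group.IsNilpotent A → s ∈ A → A ≤ M := by
    intro s hsM hs1 hk A hA hs a ha
    obtain ⟨z, -, hz1, hz⟩ := exists_ne_one_commute_of_nilpotent hA hs hs1
    rcases hk z a (hz s hs).symm hz1 (hz a ha) with rfl | rfl | rfl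
    exacts [one_mem M, hsM, mul_mem hsM hsM]
  refine false_of_nilpotent_cover hM t t' (key t htM ht1 hz) (key t' ht'M ht'1 hz')
    (fun A hA hs hs' => ?_) 𝓐 h𝓐
  obtain ⟨z, -, hz1, hc⟩ := exists_ne_one_commute_of_nilpotent hA hs ht1
  exact hne (hz z t' (hc t hs).symm hz1 (hc t' hs'))

end CfsgLib.FGSA.CoverAlt
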