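import Mathlib
import Cfsg.Agent.FGSA.Nilpotent

/-!
# Lines fixed by nilpotent subgroups of PGL containing unipotent elements (slice A)
-/

set_option autoImplicit false

namespace CfsgLib.FGSA.PGLFix

open Matrix

variable {n : ℕ} {F : Type*} [Field F]

local notation "PQ" => GL (Fin n) F ⧸ Subgroup.center (GL (Fin n) F)
local notation "π" => (QuotientGroup.mk' (Subgroup.center (GL (Fin n) F)))

/-- The matrices fixing the line of `v`. -/
def lineStab (v : Fin n → F) : Subgroup (GL (Fin n) F) where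
  carrier := {g | ∃ c : Fˣ, (g : Matrix (Fin n) (Fin n) F) *ᵥ v = (c : F) • v}
  one_mem' := ⟨1, by simp⟩
  mul_mem' := by
    rintro a b ⟨c, hc⟩ ⟨d, hd⟩
    exact ⟨c * d, by rw [Units.val_mul, ← Matrix.mulVec_mulVec, hd, Matrix.mulVec_smul, hc, smul_smul,
      Units.val_mul, mul_comm]⟩
  inv_mem' := by
    rintro a ⟨c, hc⟩
    refine ⟨c⁻¹, ?_⟩
    have h := congrArg (fun w => (c⁻¹ : Fˣ) • ((a⁻¹ : GL (Fin n) F) : Matrix (Fin n) (Fin n) F) *ᵥ w) hc
    simp only [Matrix.mulVec_mulVec, Units.inv_mul, Matrix.one_mulVec, Matrix.mulVec_smul, Units.smul_def,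
      smul_smul, one_smul] at h
    exact h.symm

/-- The subgroup of PGL fixing the line of `v`. -/
def stabLine (v : Fin n → F) : Subgroup PQ := (lineStab v).map π

lemma center_le_lineStab [NeZero n] (v : Fin n → F) :
    Subgroup.center (GL (Fin n) F) ≤ lineStab v := by
  intro z hz
  rw [GeneralLinearGroup.center_eq_range_scalar] at hz
  obtain ⟨u, rfl⟩ := hz
  refine ⟨u, ?_⟩
  simp [Matrix.mulVec, funext_iff, Matrix.diagonal, dotProduct, Finset.sum_ite_eq]

lemma mk_mem_stabLine [NeZero n] {v : Fin n → F} {g : GL (Fin n) F} :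
    π g ∈ stabLine v ↔ g ∈ lineStab v := by
  constructor
  · rintro ⟨h, hh, heq⟩
    rw [QuotientGroup.mk'_eq_mk'] at heq
    obtain ⟨z, hz, rfl⟩ := heq
    exact mul_mem hh (center_le_lineStab v hz)
  · intro h; exact ⟨g, h, rfl⟩

lemma mem_lineStab_of_mulVec {v : Fin n → F} (hv : v ≠ 0) {g : GL (Fin n) F} {c : F}
    (h : (g : Matrix (Fin n) (Fin n) F) *ᵥ v = c • v) : g ∈ lineStab v := by
  have hc : c ≠ 0 := by
    rintro rfl
    apply hv
    have h' := congrArg (fun w => ((g⁻¹ : GL (Fin n) F) : Matrix (Fin n) (Fin n) F) *ᵥ w) h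
    simpa [Matrix.mulVec_mulVec] using h'
  exact ⟨Units.mk0 c hc, h⟩

lemma center_eq_smul_one [NeZero n] {z : GL (Fin n) F} (hz : z ∈ Subgroup.center (GL (Fin n) F)) :
    ∃ c : F, c ≠ 0 ∧ (z : Matrix (Fin n) (Fin n) F) = c • 1 := by
  rw [GeneralLinearGroup.center_eq_range_scalar] at hz
  obtain ⟨u, rfl⟩ := hz
  exact ⟨u, u.ne_zero, by ext i j; simp [Matrix.one_apply, Matrix.diagonal]⟩

lemma mulVec_ne_zero {v : Fin n → F} (hv : v ≠ 0) (g : GL (Fin n) F) :
    (g : Matrix (Fin n) (Fin n) F) *ᵥ v ≠ 0 := by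
  intro h
  apply hv
  have h' := congrArg (fun w => ((g⁻¹ : GL (Fin n) F) : Matrix (Fin n) (Fin n) F) *ᵥ w) h
  simpa [Matrix.mulVec_mulVec] using h'

variable (p : ℕ) [Fact p.Prime] [CharP F p]

omit [Fact p.Prime] [CharP F p] in
lemma pow_eq_one_of_charP (hp : p.Prime) [CharP F p] {x : F} {k : ℕ} (h : x ^ p ^ k = 1) : x = 1 := by
  haveI : Fact p.Prime := ⟨hp⟩
  have h2 : iterateFrobenius F p k x = iterateFrobenius F p k 1 := by
    rw [iterateFrobenius_def, iterateFrobenius_def, h, one_pow]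
  exact (iterateFrobenius F p k).injective h2

lemma eigen_eq_one_of_pGroup {S : Subgroup (GL (Fin n) F)} (hS : IsPGroup p S) {g : GL (Fin n) F}
    (hg : g ∈ S) {v : Fin n → F} (hv : v ≠ 0) {c : F}
    (h : (g : Matrix (Fin n) (Fin n) F) *ᵥ v = c • v) : c = 1 := by
  obtain ⟨k, hk⟩ := hS ⟨g, hg⟩
  have hk' : g ^ p ^ k = 1 := by simpa using congrArg Subtype.val hk
  have hpow : ∀ m : ℕ, ((g ^ m : GL (Fin n) F) : Matrix (Fin n) (Fin n) F) *ᵥ v = c ^ m • v := by
    intro m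
    induction m with
    | zero => simp
    | succ m ih =>
      rw [pow_succ, Units.val_mul, ← Matrix.mulVec_mulVec, h, Matrix.mulVec_smul, ih, smul_smul,
        pow_succ, mul_comm]
  have h1 := hpow (p ^ k)
  rw [hk', Units.val_one, Matrix.one_mulVec] at h1
  have h2 : (c ^ p ^ k - 1) • v = 0 := by rw [sub_smul, one_smul, ← h1, sub_self]
  rcases smul_eq_zero.1 h2 with h3 | h3
  · exact pow_eq_one_of_charP p Fact.out (sub_eq_zero.1 h3)
  · exact absurd h3 hv

variable [Fintype F]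

lemma dvd_card_vec [NeZero n] : p ∣ Nat.card (Fin n → F) := by
  obtain ⟨m, hm, hcard⟩ := FiniteField.card F p
  rw [Nat.card_fun, Nat.card_eq_fintype_card (α := F), hcard]
  refine dvd_pow (dvd_pow_self p m.pos.ne') ?_
  simp [NeZero.ne n]

/-- A `p`-group of matrices in characteristic `p` fixes a nonzero vector. -/
lemma exists_fixed [NeZero n] {S : Subgroup (GL (Fin n) F)} (hS : IsPGroup p S) :
    ∃ v : Fin n → F, v ≠ 0 ∧ ∀ s ∈ S, (s : Matrix (Fin n) (Fin n) F) *ᵥ v = v := by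
  letI : MulAction S (Fin n → F) :=
    { smul := fun s v => ((s : GL (Fin n) F) : Matrix (Fin n) (Fin n) F) *ᵥ v
      one_smul := fun v => by
        show ((1 : GL (Fin n) F) : Matrix (Fin n) (Fin n) F) *ᵥ v = v
        simp
      mul_smul := fun s t v => by
        show ((s.1 * t.1 : GL (Fin n) F) : Matrix (Fin n) (Fin n) F) *ᵥ v = _
        rw [Units.val_mul, ← Matrix.mulVec_mulVec]; rfl }
  obtain ⟨v, hv, hv0⟩ := hS.exists_fixed_point_of_prime_dvd_card_of_fixed_point (Fin n → F)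
    (dvd_card_vec p) (a := (0 : Fin n → F)) (fun s => Matrix.mulVec_zero _)
  exact ⟨v, hv0.symm, fun s hs => hv ⟨s, hs⟩⟩

/-- A `p`-group of matrices in characteristic `p` fixes a nonzero row vector. -/
lemma exists_fixed_row [NeZero n] {S : Subgroup (GL (Fin n) F)} (hS : IsPGroup p S) :
    ∃ v : Fin n → F, v ≠ 0 ∧ ∀ s ∈ S, v ᵥ* (s : Matrix (Fin n) (Fin n) F) = v := by
  letI : MulAction S (Fin n → F) :=
    { smul := fun s v => v ᵥ* ((s⁻¹ : GL (Fin n) F) : Matrix (Fin n) (Fin n) F)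
      one_smul := fun v => by
        show v ᵥ* (((1 : GL (Fin n) F)⁻¹ : GL (Fin n) F) : Matrix (Fin n) (Fin n) F) = v
        simp
      mul_smul := fun s t v => by
        show v ᵥ* (((s.1 * t.1)⁻¹ : GL (Fin n) F) : Matrix (Fin n) (Fin n) F) = _
        rw [_root_.mul_inv_rev, Units.val_mul, ← Matrix.vecMul_vecMul]; rfl }
  obtain ⟨v, hv, hv0⟩ := hS.exists_fixed_point_of_prime_dvd_card_of_fixed_point (Fin n → F)
    (dvd_card_vec p) (a := (0 : Fin n → F)) (fun s => Matrix.zero_vecMul _)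
  refine ⟨v, hv0.symm, fun s hs => ?_⟩
  have h := hv ⟨s⁻¹, S.inv_mem hs⟩
  change v ᵥ* (((s⁻¹ : GL (Fin n) F)⁻¹ : GL (Fin n) F) : Matrix (Fin n) (Fin n) F) = v at h
  rwa [inv_inv] at h

/-- A `p`-subgroup of PGL lifts to a `p`-subgroup of GL containing all its `p`-elements' `p`-lifts. -/
lemma exists_lift [NeZero n] (P : Subgroup PQ) (hP : IsPGroup p P) :
    ∃ S : Subgroup (GL (Fin n) F), IsPGroup p S ∧ (∀ x ∈ P, ∃ s ∈ S, π s = x) ∧
      ∀ g : GL (Fin n) F, π g ∈ P → (∃ k, orderOf g = p ^ k) → g ∈ S := by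
  set K := P.comap π with hK
  obtain ⟨S⟩ := (inferInstance : Nonempty (Sylow p K))
  let f : K →* P := (MonoidHom.comp π K.subtype).codRestrict P fun g => g.2
  have hf : Function.Surjective f := by
    rintro ⟨x, hx⟩
    obtain ⟨g, rfl⟩ := QuotientGroup.mk'_surjective _ x
    exact ⟨⟨g, hx⟩, rfl⟩
  have htop : (S : Subgroup K).map f = ⊤ :=
    ((S.mapSurjective hf).is_maximal' (Q := ⊤) (hP.of_equiv Subgroup.topEquiv.symm) le_top).symm
  have hsurj : ∀ x ∈ P, ∃ s ∈ (S : Subgroup K).map K.subtype, π s = x := by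
    intro x hx
    have hx' : (⟨x, hx⟩ : P) ∈ (S : Subgroup K).map f := htop ▸ Subgroup.mem_top _
    obtain ⟨s, hs, hsx⟩ := hx'
    exact ⟨_, ⟨s, hs, rfl⟩, congrArg Subtype.val hsx⟩
  refine ⟨_, S.isPGroup'.map _, hsurj, ?_⟩
  rintro g hg ⟨k, hk⟩
  obtain ⟨s, hs, hsg⟩ := hsurj _ hg
  obtain ⟨j, hj⟩ := (S.isPGroup'.map K.subtype) ⟨s, hs⟩
  have hj' : s ^ p ^ j = 1 := by simpa using congrArg Subtype.val hj
  rw [QuotientGroup.mk'_eq_mk'] at hsg
  obtain ⟨z, hz, rfl⟩ := hsg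
  have hcomm : Commute s z := Subgroup.mem_center_iff.1 hz s
  obtain ⟨c, hc, hzc⟩ := center_eq_smul_one hz
  have h1 : (s * z) ^ (p ^ k * p ^ j) = 1 := by rw [pow_mul, ← hk, pow_orderOf_eq_one, one_pow]
  have h2 : s ^ (p ^ k * p ^ j) = 1 := by rw [mul_comm, pow_mul, hj', one_pow]
  rw [hcomm.mul_pow, h2, one_mul, ← pow_add] at h1
  have h3 : (c ^ p ^ (k + j)) • (1 : Matrix (Fin n) (Fin n) F) = 1 := by
    have := congrArg (fun u : GL (Fin n) F => (u : Matrix (Fin n) (Fin n) F)) h1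
    simpa [Units.val_pow_eq_pow_val, hzc, smul_pow] using this
  have h4 : c = 1 := pow_eq_one_of_charP p Fact.out (k := k + j) (by
    have := congrFun (congrFun h3 0) 0
    simpa using this)
  have h5 : z = 1 := Units.ext (by rw [hzc, h4, one_smul, Units.val_one])
  rw [h5, mul_one]
  exact hs

/-- Nilpotent subgroups containing a `p`-element whose fixed space is a line fix that line. -/
theorem nilpotent_le_stabLine [NeZero n] {T : GL (Fin n) F} (hT : ∃ k, orderOf T = p ^ k)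
    {e : Fin n → F} (he : e ≠ 0)
    (hTe : (T : Matrix (Fin n) (Fin n) F) *ᵥ e = e)
    (hfix : ∀ v, (T : Matrix (Fin n) (Fin n) F) *ᵥ v = v → ∃ c : F, v = c • e)
    (A : Subgroup PQ) (hA : Group.IsNilpotent A) (hTA : π T ∈ A) : A ≤ stabLine e := by
  classical
  obtain ⟨k, hk⟩ := hT
  have hTd : orderOf (π T) ∣ p ^ k := hk ▸ orderOf_map_dvd π T
  apply CfsgLib.FGSA.le_of_prime_power_mem
  rintro r hr a ha ⟨j, hj⟩
  by_cases hrp : r = p
  · subst hrp
    obtain ⟨P, hPA, hP, hPmem⟩ := CfsgLib.FGSA.exists_pPart hA r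
    obtain ⟨i, -, hi⟩ := (Nat.dvd_prime_pow hr).1 hTd
    have hTP : π T ∈ P := hPmem _ hTA ⟨i, hi⟩
    obtain ⟨S, hS, hsurj, hlift⟩ := exists_lift r P hP
    have hTS : T ∈ S := hlift T hTP ⟨k, hk⟩
    obtain ⟨v, hv0, hv⟩ := exists_fixed r hS
    obtain ⟨c, rfl⟩ := hfix v (hv T hTS)
    have hc : c ≠ 0 := fun h => hv0 (by rw [h, zero_smul])
    obtain ⟨s, hs, rfl⟩ := hsurj a (hPmem a ha ⟨j, hj⟩)
    rw [mk_mem_stabLine]
    refine mem_lineStab_of_mulVec he (c := 1) ?_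
    have := hv s hs
    rw [Matrix.mulVec_smul] at this
    rw [one_smul]
    exact smul_right_injective _ hc this
  · haveI := hA
    have hcop : (orderOf (⟨a, ha⟩ : A)).Coprime (orderOf (⟨π T, hTA⟩ : A)) := by
      rw [← Subgroup.orderOf_coe, ← Subgroup.orderOf_coe]
      exact Nat.Coprime.coprime_dvd_right hTd
        (hj ▸ ((Nat.coprime_primes hr (Fact.out : p.Prime)).2 hrp).pow j k)
    have hcm : π T * a = a * π T :=
      congrArg Subtype.val (commute_of_coprime_orderOf _ _ hcop).eq.symm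
    obtain ⟨g, rfl⟩ := QuotientGroup.mk'_surjective _ a
    rw [mk_mem_stabLine]
    rw [← map_mul, ← map_mul, QuotientGroup.mk'_eq_mk'] at hcm
    obtain ⟨z, hz, hzeq⟩ := hcm
    obtain ⟨c, hc, hzc⟩ := center_eq_smul_one hz
    have hmat : c • ((T : Matrix (Fin n) (Fin n) F) * (g : Matrix (Fin n) (Fin n) F)) =
        (g : Matrix (Fin n) (Fin n) F) * (T : Matrix (Fin n) (Fin n) F) := by
      rw [← Units.val_mul g T, ← hzeq, Units.val_mul, Units.val_mul, hzc, Matrix.mul_smul,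
        Matrix.mul_one]
    have hge := congrArg (fun M => M *ᵥ e) hmat
    simp only [Matrix.smul_mulVec, ← Matrix.mulVec_mulVec, hTe] at hge
    have hge' : (T : Matrix (Fin n) (Fin n) F) *ᵥ ((g : Matrix (Fin n) (Fin n) F) *ᵥ e) =
        c⁻¹ • ((g : Matrix (Fin n) (Fin n) F) *ᵥ e) := by
      conv_rhs => rw [← hge, smul_smul, inv_mul_cancel₀ hc, one_smul]
    have hc1 : c⁻¹ = 1 := eigen_eq_one_of_pGroup p
      (S := Subgroup.zpowers T) (IsPGroup.of_card (n := k) (by rw [Nat.card_zpowers, hk]))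
      (Subgroup.mem_zpowers T) (mulVec_ne_zero he g) hge'
    rw [hc1, one_smul] at hge'
    obtain ⟨d, hd⟩ := hfix _ hge'
    exact mem_lineStab_of_mulVec he hd

end CfsgLib.FGSA.PGLFix
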