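import Mathlib
import Cfsg.Agent.FGSA.Basic
import Cfsg.Agent.FGSA.Cover
import Cfsg.Agent.FGSA.PGLFix

/-!
# No nilpotent minimal cover for groups between PSL_2 and PGL_2 (slice A)
-/

set_option autoImplicit false

namespace CfsgLib.FGSA.PGLFix

open Matrix

variable {F : Type*} [Field F]

local notation "PQ2" => GL (Fin 2) F ⧸ Subgroup.center (GL (Fin 2) F)
local notation "π₂" => (QuotientGroup.mk' (Subgroup.center (GL (Fin 2) F)))
local notation "M2" => Matrix (Fin 2) (Fin 2) F

lemma mul_self_two (S : M2) : S * S = S.trace • S - S.det • (1 : M2) := by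
  ext i j
  fin_cases i <;> fin_cases j <;>
    simp [Matrix.mul_apply, Fin.sum_univ_two, Matrix.trace_fin_two, Matrix.det_fin_two] <;> ring

lemma exists_smul_of_commute {x g : GL (Fin 2) F} (h : π₂ x * π₂ g = π₂ g * π₂ x) :
    ∃ c : F, c ≠ 0 ∧ c • ((x : M2) * (g : M2)) = (g : M2) * (x : M2) := by
  rw [← map_mul, ← map_mul, QuotientGroup.mk'_eq_mk'] at h
  obtain ⟨z, hz, hzeq⟩ := h
  obtain ⟨c, hc, hzc⟩ := center_eq_smul_one hz
  refine ⟨c, hc, ?_⟩
  rw [← Units.val_mul g x, ← hzeq, Units.val_mul, Units.val_mul, hzc, Matrix.mul_smul, Matrix.mul_one]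

/-- The commutant of a diagonal matrix modulo scalars. -/
lemma commute_diag_cases {x g : GL (Fin 2) F} {a b : F} (hx : (x : M2) = Matrix.diagonal ![a, b])
    (ha : a ≠ 0) (hb : b ≠ 0) (hab : a ≠ b) (h : π₂ x * π₂ g = π₂ g * π₂ x) :
    ((g : M2) 0 1 = 0 ∧ (g : M2) 1 0 = 0) ∨
      ((g : M2) 0 0 = 0 ∧ (g : M2) 1 1 = 0 ∧ a ^ 2 = b ^ 2) := by
  obtain ⟨c, hc0, hc⟩ := exists_smul_of_commute h
  have e : ∀ i j, c * (![a, b] i * (g : M2) i j) = (g : M2) i j * ![a, b] j := by
    intro i j
    have := congrFun (congrFun hc i) j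
    rwa [Matrix.smul_apply, hx, Matrix.diagonal_mul, Matrix.mul_diagonal, smul_eq_mul] at this
  have e00 := e 0 0; have e01 := e 0 1; have e10 := e 1 0; have e11 := e 1 1
  simp only [Matrix.cons_val_zero, Matrix.cons_val_one] at e00 e01 e10 e11
  have hdet : (g : M2).det ≠ 0 := (Matrix.isUnit_iff_isUnit_det _).1 g.isUnit |>.ne_zero
  rw [Matrix.det_fin_two] at hdet
  by_cases hc1 : c = 1
  · subst hc1
    refine Or.inl ⟨?_, ?_⟩
    · have : (a - b) * (g : M2) 0 1 = 0 := by linear_combination e01
      exact (mul_eq_zero.1 this).resolve_left (sub_ne_zero.2 hab)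
    · have : (b - a) * (g : M2) 1 0 = 0 := by linear_combination e10
      exact (mul_eq_zero.1 this).resolve_left (sub_ne_zero.2 hab.symm)
  · have h00 : (g : M2) 0 0 = 0 := by
      have : ((c - 1) * a) * (g : M2) 0 0 = 0 := by linear_combination e00
      exact (mul_eq_zero.1 this).resolve_left (mul_ne_zero (sub_ne_zero.2 hc1) ha)
    have h11 : (g : M2) 1 1 = 0 := by
      have : ((c - 1) * b) * (g : M2) 1 1 = 0 := by linear_combination e11
      exact (mul_eq_zero.1 this).resolve_left (mul_ne_zero (sub_ne_zero.2 hc1) hb)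
    rw [h00, h11, zero_mul, zero_sub, neg_ne_zero] at hdet
    refine Or.inr ⟨h00, h11, ?_⟩
    have : c * ((a ^ 2 - b ^ 2) * ((g : M2) 0 1 * (g : M2) 1 0)) = 0 := by
      linear_combination (a * (g : M2) 1 0) * e01 - (b * (g : M2) 0 1) * e10
    exact sub_eq_zero.1 ((mul_eq_zero.1 ((mul_eq_zero.1 this).resolve_left hc0)).resolve_right hdet)

lemma mem_lineStab_zero_of_entry {g : GL (Fin 2) F} (h : (g : M2) 1 0 = 0) :
    g ∈ lineStab ![(1 : F), 0] := by
  refine mem_lineStab_of_mulVec (c := (g : M2) 0 0) (fun h' => one_ne_zero (congrFun h' 0)) ?_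
  ext i
  fin_cases i <;> simp [Matrix.mulVec, dotProduct, Fin.sum_univ_two, h]

/-- A matrix fixes no line. -/
def NoFixedLine (x : PQ2) : Prop := ∀ v : Fin 2 → F, v ≠ 0 → x ∉ stabLine v

lemma not_scalar_of_noFixedLine {S : GL (Fin 2) F} (hS : NoFixedLine (π₂ S)) (c : F) :
    (S : M2) ≠ c • 1 := by
  intro h
  apply hS ![1, 0] (fun h' => one_ne_zero (congrFun h' 0))
  rw [mk_mem_stabLine]
  exact mem_lineStab_of_mulVec (c := c) (fun h' => one_ne_zero (congrFun h' 0))
    (by rw [h, Matrix.smul_mulVec, Matrix.one_mulVec])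

lemma noFixedLine_sq {S : GL (Fin 2) F} (hS : NoFixedLine (π₂ S)) {c : F}
    (h : (S : M2) * (S : M2) = c • 1) : ¬ IsSquare c ∧ (S : M2).det = -c := by
  constructor
  · rintro ⟨s, rfl⟩
    set v : Fin 2 → F := ![1, 0] with hv
    have hv0 : v ≠ 0 := fun h' => one_ne_zero (congrFun h' 0)
    by_cases hw : (S : M2) *ᵥ v + s • v = 0
    · apply hS v hv0
      rw [mk_mem_stabLine]
      refine mem_lineStab_of_mulVec hv0 (c := -s) ?_
      rw [neg_smul]; exact eq_neg_of_add_eq_zero_left hw
    · apply hS _ hw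
      rw [mk_mem_stabLine]
      refine mem_lineStab_of_mulVec hw (c := s) ?_
      rw [Matrix.mulVec_add, Matrix.mulVec_mulVec, h, Matrix.smul_mulVec, Matrix.one_mulVec,
        Matrix.mulVec_smul, smul_add, smul_smul, add_comm]
  · have h2 := mul_self_two (S : M2)
    rw [h] at h2
    by_cases ht : (S : M2).trace = 0
    · rw [ht, zero_smul, zero_sub, ← neg_smul] at h2
      have := congrFun (congrFun h2 0) 0
      simp only [Matrix.smul_apply, Matrix.one_apply_eq, smul_eq_mul, mul_one] at this
      rw [this, neg_neg]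
    · exfalso
      apply not_scalar_of_noFixedLine hS (((S : M2).trace)⁻¹ * (c + (S : M2).det))
      have h3 : (S : M2).trace • (S : M2) = (c + (S : M2).det) • (1 : M2) := by
        rw [add_smul, h2]; abel
      rw [← smul_smul, ← h3, smul_smul, inv_mul_cancel₀ ht, one_smul]

lemma sq_eq_one_of_sq_fix {s : PQ2} (hs : NoFixedLine s) {v : Fin 2 → F} (hv : v ≠ 0)
    (h : s * s ∈ stabLine v) : s * s = 1 := by
  obtain ⟨S, rfl⟩ := QuotientGroup.mk'_surjective _ s
  rw [← map_mul, mk_mem_stabLine] at h
  obtain ⟨c, hc⟩ := h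
  rw [Units.val_mul, mul_self_two, Matrix.sub_mulVec, Matrix.smul_mulVec, Matrix.smul_mulVec,
    Matrix.one_mulVec, sub_eq_iff_eq_add, ← add_smul] at hc
  by_cases ht : (S : M2).trace = 0
  · rw [← map_mul, QuotientGroup.mk'_apply, QuotientGroup.eq_one_iff,
      GeneralLinearGroup.mem_center_iff_val_mem_range_scalar]
    refine ⟨-(S : M2).det, ?_⟩
    rw [Units.val_mul, mul_self_two, ht, zero_smul, zero_sub, ← neg_smul, Matrix.smul_one_eq_diagonal]
    rfl
  · exfalso
    apply hs v hv
    rw [mk_mem_stabLine]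
    refine mem_lineStab_of_mulVec hv (c := ((S : M2).trace)⁻¹ * ((c : F) + (S : M2).det)) ?_
    rw [← smul_smul, ← hc, smul_smul, inv_mul_cancel₀ ht, one_smul]

variable [Fintype F]

/-- In characteristic not two with `-1` a square, `2`-elements without fixed lines are involutions. -/
lemma sq_eq_one_of_two_pow (hneg : IsSquare (-1 : F)) :
    ∀ (j : ℕ) (g : PQ2), g ^ 2 ^ j = 1 → NoFixedLine g → g * g = 1 := by
  intro j
  induction j with
  | zero =>
    intro g hg hfix
    rw [pow_zero, pow_one] at hg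
    subst hg
    exact absurd (one_mem _) (hfix ![1, 0] (fun h' => one_ne_zero (congrFun h' 0)))
  | succ j ih =>
    intro g hg hfix
    by_cases h : NoFixedLine (g * g)
    · have h2 := ih (g * g) (by rw [← pow_two, ← pow_mul, ← pow_succ']; exact hg) h
      exfalso
      obtain ⟨U, rfl⟩ := QuotientGroup.mk'_surjective _ g
      rw [← map_mul] at h h2
      rw [← map_mul, QuotientGroup.mk'_apply, QuotientGroup.eq_one_iff] at h2
      obtain ⟨c, -, hc⟩ := center_eq_smul_one h2
      rw [Units.val_mul] at hc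
      obtain ⟨hns, hdet⟩ := noFixedLine_sq h hc
      apply hns
      rw [Units.val_mul, Matrix.det_mul] at hdet
      obtain ⟨i, hi⟩ := hneg
      exact ⟨i * (U : M2).det, by linear_combination hdet + ((U : M2).det ^ 2) * hi⟩
    · unfold NoFixedLine at h
      push Not at h
      obtain ⟨v, hv, hmem⟩ := h
      exact sq_eq_one_of_sq_fix hfix hv hmem

/-- Representatives of the points of the projective line. -/
def pt : Option F → (Fin 2 → F)
  | none => ![1, 0]
  | some a => ![a, 1]

/-- A matrix sending the first point to the given one. -/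
def ptW : Option F → GL (Fin 2) F
  | none => 1
  | some a => Matrix.GeneralLinearGroup.mkOfDetNeZero !![a, 1; 1, 0] (by simp [Matrix.det_fin_two])

lemma ptW_mulVec (P : Option F) : (ptW P : M2) *ᵥ ![1, 0] = pt P := by
  cases P with
  | none => simp [ptW, pt]
  | some a =>
    ext i
    fin_cases i <;>
      simp [ptW, pt, Matrix.GeneralLinearGroup.mkOfDetNeZero, Matrix.mulVec, dotProduct, Fin.sum_univ_two]

lemma pt_ne_zero (P : Option F) : pt P ≠ 0 := by
  cases P with
  | none => exact fun h => one_ne_zero (congrFun h 0)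
  | some a => exact fun h => one_ne_zero (congrFun h 1)

lemma exists_pt {v : Fin 2 → F} (hv : v ≠ 0) : ∃ P, ∃ c : F, c ≠ 0 ∧ v = c • pt P := by
  by_cases h : v 1 = 0
  · have h0 : v 0 ≠ 0 := fun h0 => hv (by ext i; fin_cases i <;> assumption)
    exact ⟨none, v 0, h0, by ext i; fin_cases i <;> simp [pt, h]⟩
  · exact ⟨some (v 0 / v 1), v 1, h, by ext i; fin_cases i <;> simp [pt, mul_div_cancel₀ _ h]⟩

lemma pt_injective {P P' : Option F} {c : F} (h : pt P' = c • pt P) : P' = P := by
  cases P with
  | none =>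
    cases P' with
    | none => rfl
    | some a => have := congrFun h 1; simp [pt] at this
  | some b =>
    cases P' with
    | none =>
      have h1 := congrFun h 1; have h0 := congrFun h 0
      simp [pt] at h1 h0
      rw [← h1, zero_mul] at h0
      exact absurd h0 one_ne_zero
    | some a =>
      have h1 := congrFun h 1; have h0 := congrFun h 0
      simp [pt] at h1 h0
      rw [← h1, one_mul] at h0
      rw [h0]

lemma stabLine_of_smul {v w : Fin 2 → F} {c : F} (hc : c ≠ 0) (hw : w ≠ 0) (h : v = c • w)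
    {x : PQ2} (hx : x ∈ stabLine v) : x ∈ stabLine w := by
  obtain ⟨g, rfl⟩ := QuotientGroup.mk'_surjective _ x
  rw [mk_mem_stabLine] at hx ⊢
  obtain ⟨d, hd⟩ := hx
  refine mem_lineStab_of_mulVec hw (c := (d : F)) ?_
  rw [h, Matrix.mulVec_smul, smul_comm] at hd
  exact smul_right_injective _ hc hd

/-- Groups between `PSL_2` and `PGL_2`, at least four field elements, have no nilpotent minimal cover. -/
theorem no_nilpotent_minimal_cover_two (hq : 4 ≤ Fintype.card F) (G : Subgroup PQ2)
    (hG : ∀ g : GL (Fin 2) F, (g : M2).det = 1 → π₂ g ∈ G)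
    (𝓐 : Finset (Subgroup ↥G))
    (h : ((∀ A ∈ 𝓐, A ≠ ⊤) ∧ (∀ g : ↥G, ∃ A ∈ 𝓐, g ∈ A)) ∧
      (∀ 𝓑 : Finset (Subgroup ↥G), (∀ A ∈ 𝓑, A ≠ ⊤) ∧ (∀ g : ↥G, ∃ A ∈ 𝓑, g ∈ A) →
        𝓐.card ≤ 𝓑.card) ∧ (∀ A ∈ 𝓐, Group.IsNilpotent ↥A)) : False := by
  classical
  obtain ⟨p, hpF⟩ := CharP.exists F
  obtain ⟨m, hp, hcard⟩ := FiniteField.card F p
  haveI : Fact p.Prime := ⟨hp⟩
  haveI := hpF
  set T₀ : GL (Fin 2) F := Matrix.GeneralLinearGroup.mkOfDetNeZero !![1, 1; 0, 1]
    (by simp [Matrix.det_fin_two]) with hT₀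
  have hT₀v : (T₀ : M2) = !![1, 1; 0, 1] := rfl
  have hT₀pow : ∀ i : ℕ, ((T₀ : M2)) ^ i = !![1, (i : F); 0, 1] := by
    intro i
    induction i with
    | zero => ext a b; fin_cases a <;> fin_cases b <;> simp
    | succ i ih =>
      rw [pow_succ, ih, hT₀v]
      ext a b; fin_cases a <;> fin_cases b <;> simp [Matrix.mul_apply, Fin.sum_univ_two] <;> ring
  have hT₀p : T₀ ^ p = 1 := by
    apply Units.ext
    rw [Units.val_pow_eq_pow_val, hT₀pow, CharP.cast_eq_zero, Units.val_one]
    ext a b; fin_cases a <;> fin_cases b <;> simp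
  let TP : Option F → GL (Fin 2) F := fun P => ptW P * T₀ * (ptW P)⁻¹
  have hTPp : ∀ P, ∃ i, orderOf (TP P) = p ^ i := by
    intro P
    have h1 : orderOf (TP P) = orderOf T₀ := MulEquiv.orderOf_eq (MulAut.conj (ptW P)) T₀
    obtain ⟨i, -, hi⟩ := (Nat.dvd_prime_pow hp).1
      ((pow_one p).symm ▸ orderOf_dvd_of_pow_eq_one hT₀p : orderOf T₀ ∣ p ^ 1)
    exact ⟨i, h1.trans hi⟩
  have hTPdet : ∀ P, (TP P : M2).det = 1 := by
    intro P
    have h1 : ((ptW P : GL (Fin 2) F) : M2) * (((ptW P)⁻¹ : GL (Fin 2) F) : M2) = 1 := Units.mul_inv _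
    show ((ptW P * T₀ * (ptW P)⁻¹ : GL (Fin 2) F) : M2).det = 1
    rw [Units.val_mul, Units.val_mul, Matrix.det_mul, Matrix.det_mul, mul_right_comm, ← Matrix.det_mul,
      h1, Matrix.det_one, one_mul, hT₀v]
    simp [Matrix.det_fin_two]
  have hinv : ∀ (P : Option F) (v : Fin 2 → F),
      ((ptW P : GL (Fin 2) F) : M2) *ᵥ ((((ptW P)⁻¹ : GL (Fin 2) F) : M2) *ᵥ v) = v := fun P v => by
    rw [Matrix.mulVec_mulVec, Units.mul_inv, Matrix.one_mulVec]
  have hinv' : ∀ (P : Option F) (v : Fin 2 → F),
      (((ptW P)⁻¹ : GL (Fin 2) F) : M2) *ᵥ (((ptW P : GL (Fin 2) F) : M2) *ᵥ v) = v := fun P v => by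
    rw [Matrix.mulVec_mulVec, Units.inv_mul, Matrix.one_mulVec]
  have hTPv : ∀ P v, (TP P : M2) *ᵥ v =
      (ptW P : M2) *ᵥ ((T₀ : M2) *ᵥ ((((ptW P)⁻¹ : GL (Fin 2) F) : M2) *ᵥ v)) := fun P v => by
    show ((ptW P * T₀ * (ptW P)⁻¹ : GL (Fin 2) F) : M2) *ᵥ v = _
    rw [Units.val_mul, Units.val_mul, Matrix.mulVec_mulVec, Matrix.mulVec_mulVec, Matrix.mul_assoc]
  have hTPe : ∀ P, (TP P : M2) *ᵥ pt P = pt P := by
    intro P
    rw [hTPv, ← ptW_mulVec, hinv']
    congr 1
    rw [hT₀v]; ext i; fin_cases i <;> simp [Matrix.mulVec, dotProduct, Fin.sum_univ_two]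
  have hTPfix : ∀ P v, (TP P : M2) *ᵥ v = v → ∃ c : F, v = c • pt P := by
    intro P v hv
    rw [hTPv] at hv
    have h1 := congrArg (fun w => (((ptW P)⁻¹ : GL (Fin 2) F) : M2) *ᵥ w) hv
    simp only [hinv'] at h1
    set w := (((ptW P)⁻¹ : GL (Fin 2) F) : M2) *ᵥ v with hw
    have h2 := congrFun h1 0
    rw [hT₀v] at h2
    simp [Matrix.mulVec, dotProduct, Fin.sum_univ_two] at h2
    refine ⟨w 0, ?_⟩
    rw [← ptW_mulVec, ← Matrix.mulVec_smul, show w 0 • ![(1 : F), 0] = w by
      ext i; fin_cases i <;> simp [h2], hw, hinv]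
  let M : Option F → Subgroup G := fun P => (stabLine (pt P)).comap G.subtype
  have hA' : ∀ A : Subgroup G, Group.IsNilpotent A → Group.IsNilpotent ↥(A.map G.subtype) :=
    fun A hA => (Group.isNilpotent_congr (A.equivMapOfInjective _ G.subtype_injective)).1 hA
  let t : Option F → G := fun P => ⟨π₂ (TP P), hG _ (hTPdet P)⟩
  have hle : ∀ P (A : Subgroup G), Group.IsNilpotent A → t P ∈ A → A ≤ M P := by
    intro P A hA hPA a ha
    exact nilpotent_le_stabLine p (hTPp P) (pt_ne_zero P) (hTPe P) (hTPfix P) _ (hA' A hA)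
      (Subgroup.mem_map_of_mem G.subtype hPA) (Subgroup.mem_map_of_mem G.subtype ha)
  have hMne : ∀ P, M P ≠ ⊤ := by
    intro P htop
    let X₀ : GL (Fin 2) F := Matrix.GeneralLinearGroup.mkOfDetNeZero !![1, 0; 1, 1]
      (by simp [Matrix.det_fin_two])
    let X : GL (Fin 2) F := ptW P * X₀ * (ptW P)⁻¹
    have hXdet : (X : M2).det = 1 := by
      have h1 : ((ptW P : GL (Fin 2) F) : M2) * (((ptW P)⁻¹ : GL (Fin 2) F) : M2) = 1 := Units.mul_inv _
      show ((ptW P * X₀ * (ptW P)⁻¹ : GL (Fin 2) F) : M2).det = 1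
      rw [Units.val_mul, Units.val_mul, Matrix.det_mul, Matrix.det_mul, mul_right_comm, ← Matrix.det_mul,
        h1, Matrix.det_one, one_mul]
      simp [X₀, Matrix.GeneralLinearGroup.mkOfDetNeZero, Matrix.det_fin_two]
    have hmem : (⟨π₂ X, hG _ hXdet⟩ : G) ∈ M P := htop ▸ Subgroup.mem_top _
    have hs : π₂ X ∈ stabLine (pt P) := hmem
    rw [mk_mem_stabLine] at hs
    obtain ⟨c, hc⟩ := hs
    have h1 := congrArg (fun w => (((ptW P)⁻¹ : GL (Fin 2) F) : M2) *ᵥ w) hc
    simp only [X, Units.val_mul, ← Matrix.mulVec_mulVec, Matrix.mulVec_smul] at h1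
    rw [← ptW_mulVec, hinv', hinv'] at h1
    have h2 := congrFun h1 1
    simp [X₀, Matrix.GeneralLinearGroup.mkOfDetNeZero, Matrix.mulVec, dotProduct, Fin.sum_univ_two] at h2
  by_cases hodd : ∃ r : ℕ, r.Prime ∧ r ≠ 2 ∧ r ∣ Fintype.card F - 1
  · -- an odd prime divides `q - 1`
    obtain ⟨r, hr, hr2, hrd⟩ := hodd
    haveI : Fact r.Prime := ⟨hr⟩
    obtain ⟨l, hl⟩ := exists_prime_orderOf_dvd_card' (G := Fˣ) r
      (by rw [Nat.card_eq_fintype_card, Fintype.card_units]; exact hrd)
    let D : GL (Fin 2) F := Matrix.GeneralLinearGroup.mkOfDetNeZero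
      (Matrix.diagonal ![(l : F), (l⁻¹ : Fˣ)]) (by simp [Matrix.det_fin_two])
    have hDv : (D : M2) = Matrix.diagonal ![(l : F), ((l⁻¹ : Fˣ) : F)] := rfl
    have hl4 : (l : F) ^ 2 ≠ ((l⁻¹ : Fˣ) : F) ^ 2 := by
      intro he
      rw [← Units.val_pow_eq_pow_val, ← Units.val_pow_eq_pow_val, Units.val_inj, inv_pow,
        eq_inv_iff_mul_eq_one, ← pow_add] at he
      have hd : r ∣ 2 ^ 2 := by rw [← hl]; exact orderOf_dvd_of_pow_eq_one he
      exact hr2 ((Nat.prime_dvd_prime_iff_eq hr Nat.prime_two).1 (hr.dvd_of_dvd_pow hd))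
    have hlne : (l : F) ≠ ((l⁻¹ : Fˣ) : F) := fun he => hl4 (by rw [he])
    have hDpow : D ^ r = 1 := by
      have h1 : l ^ r = 1 := hl ▸ pow_orderOf_eq_one l
      apply Units.ext
      rw [Units.val_pow_eq_pow_val, hDv, Matrix.diagonal_pow, Units.val_one, ← Matrix.diagonal_one]
      congr 1
      funext i
      fin_cases i <;> simp [← Units.val_pow_eq_pow_val, h1, inv_pow]
    have hDdet : (D : M2).det = 1 := by rw [hDv]; simp [Matrix.det_fin_two]
    let d : G := ⟨π₂ D, hG D hDdet⟩
    have hd1 : π₂ D ≠ 1 := by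
      intro he
      rw [QuotientGroup.mk'_apply, QuotientGroup.eq_one_iff] at he
      obtain ⟨c, -, hc⟩ := center_eq_smul_one he
      have h00 := congrFun (congrFun hc 0) 0
      have h11 := congrFun (congrFun hc 1) 1
      simp [hDv] at h00 h11
      exact hlne (h00.trans (by rw [← h11]; simp))
    have hdr : orderOf (π₂ D) = r :=
      orderOf_eq_prime (by rw [← map_pow, hDpow, map_one]) hd1
    have hdM : ∀ A : Subgroup G, Group.IsNilpotent A → d ∈ A →
        A ≤ M none ∧ ∀ a ∈ A, ∀ g : GL (Fin 2) F, π₂ g = (a : PQ2) →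
          (g : M2) 0 1 = 0 ∧ (g : M2) 1 0 = 0 := by
      intro A hA hdA
      set A₁ := A.map G.subtype with hA₁
      have hdA₁ : π₂ D ∈ A₁ := Subgroup.mem_map_of_mem G.subtype hdA
      obtain ⟨R, hRA, hR, hRmem⟩ := CfsgLib.FGSA.exists_pPart (hA' A hA) r
      have hdR : π₂ D ∈ R := hRmem _ hdA₁ ⟨1, by rw [hdr, pow_one]⟩
      obtain ⟨z, hzR, hz1, hzc⟩ := CfsgLib.FGSA.exists_ne_one_commute_of_nilpotent hR.isNilpotent hdR hd1
      obtain ⟨Z, hZ⟩ := QuotientGroup.mk'_surjective _ z
      subst hZ
      have hZd : (Z : M2) 0 1 = 0 ∧ (Z : M2) 1 0 = 0 := by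
        rcases commute_diag_cases hDv l.ne_zero (l⁻¹).ne_zero hlne (hzc _ hdR) with h | ⟨-, -, h⟩
        · exact h
        · exact absurd h hl4
      have hZv : (Z : M2) = Matrix.diagonal ![(Z : M2) 0 0, (Z : M2) 1 1] := by
        ext i j; fin_cases i <;> fin_cases j <;> simp [hZd.1, hZd.2]
      have hdetZ : (Z : M2) 0 0 * (Z : M2) 1 1 ≠ 0 := by
        have h1 := ((Matrix.isUnit_iff_isUnit_det _).1 Z.isUnit).ne_zero
        rw [Matrix.det_fin_two, hZd.1, zero_mul, sub_zero] at h1
        exact h1
      have hZne : (Z : M2) 0 0 ≠ (Z : M2) 1 1 := by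
        intro he
        apply hz1
        rw [QuotientGroup.mk'_apply, QuotientGroup.eq_one_iff,
          GeneralLinearGroup.mem_center_iff_val_mem_range_scalar]
        refine ⟨(Z : M2) 0 0, ?_⟩
        conv_rhs => rw [hZv]
        ext i j; fin_cases i <;> fin_cases j <;> simp [he]
      have hZ2 : ((Z : M2) 0 0) ^ 2 ≠ ((Z : M2) 1 1) ^ 2 := by
        intro he
        obtain ⟨i, hi⟩ := hR ⟨π₂ Z, hzR⟩
        have hi' : π₂ (Z ^ r ^ i) = 1 := by
          rw [map_pow]; simpa using congrArg Subtype.val hi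
        rw [QuotientGroup.mk'_apply, QuotientGroup.eq_one_iff] at hi'
        obtain ⟨c, -, hc⟩ := center_eq_smul_one hi'
        rw [Units.val_pow_eq_pow_val, hZv, Matrix.diagonal_pow] at hc
        have h00 := congrFun (congrFun hc 0) 0
        have h11 := congrFun (congrFun hc 1) 1
        simp at h00 h11
        obtain ⟨o, ho⟩ : Odd (r ^ i) := (hr.odd_of_ne_two hr2).pow
        rw [ho, pow_succ, pow_mul, he] at h00
        rw [ho, pow_succ, pow_mul, ← h00] at h11
        exact hZne (mul_left_cancel₀ (pow_ne_zero _ (pow_ne_zero _ (mul_ne_zero_iff.1 hdetZ).2)) h11).symm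
      have hdiag : ∀ g : GL (Fin 2) F, π₂ g ∈ A₁ → (∀ q k, q.Prime → orderOf (π₂ g) = q ^ k →
          (g : M2) 0 1 = 0 ∧ (g : M2) 1 0 = 0) := by
        intro g hg q k hq hgk
        by_cases hqr : q = r
        · subst hqr
          rcases commute_diag_cases hZv (mul_ne_zero_iff.1 hdetZ).1 (mul_ne_zero_iff.1 hdetZ).2 hZne
            (hzc _ (hRmem _ hg ⟨k, hgk⟩)).symm with h | ⟨-, -, h⟩
          · exact h
          · exact absurd h hZ2
        · haveI := hA' A hA
          have hcop : (orderOf (⟨π₂ D, hdA₁⟩ : A₁)).Coprime (orderOf (⟨π₂ g, hg⟩ : A₁)) := by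
            rw [← Subgroup.orderOf_coe, ← Subgroup.orderOf_coe, hgk, hdr]
            exact ((Nat.coprime_primes hr hq).2 (Ne.symm hqr)).pow_right k
          rcases commute_diag_cases hDv l.ne_zero (l⁻¹).ne_zero hlne
            (congrArg Subtype.val (commute_of_coprime_orderOf _ _ hcop).eq) with h | ⟨-, -, h⟩
          · exact h
          · exact absurd h hl4
      have hboth : A₁ ≤ stabLine ![1, 0] ⊓ stabLine ![0, 1] := by
        apply CfsgLib.FGSA.le_of_prime_power_mem
        rintro q hq a ha ⟨k, hk⟩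
        obtain ⟨g, rfl⟩ := QuotientGroup.mk'_surjective _ a
        obtain ⟨h01, h10⟩ := hdiag g ha q k hq hk
        refine ⟨mk_mem_stabLine.2 (mem_lineStab_zero_of_entry h10), mk_mem_stabLine.2 ?_⟩
        refine mem_lineStab_of_mulVec (c := (g : M2) 1 1) (fun h' => one_ne_zero (congrFun h' 1)) ?_
        ext i; fin_cases i <;> simp [Matrix.mulVec, dotProduct, Fin.sum_univ_two, h01]
      refine ⟨fun a ha => (hboth (Subgroup.mem_map_of_mem _ ha)).1, fun a ha g hg => ?_⟩
      have hmem := hboth (Subgroup.mem_map_of_mem G.subtype ha)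
      rw [Subgroup.mem_inf, Subgroup.subtype_apply, ← hg, mk_mem_stabLine, mk_mem_stabLine] at hmem
      obtain ⟨⟨c, hc⟩, ⟨c', hc'⟩⟩ := hmem
      have h1 := congrFun hc 1
      have h2 := congrFun hc' 0
      simp [Matrix.mulVec, dotProduct, Fin.sum_univ_two] at h1 h2
      exact ⟨h2, h1⟩
    refine CfsgLib.FGSA.false_of_nilpotent_cover (hMne none) (t none) d (hle none)
      (fun A hA hdA => (hdM A hA hdA).1) ?_ 𝓐 h
    intro A hA ht hd
    have h1 := ((hdM A hA hd).2 _ ht (TP none) rfl).1
    simp [TP, ptW, hT₀v] at h1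
  · -- `q - 1` is a power of two
    push Not at hodd
    obtain ⟨⟨hproper, hcov⟩, hmin, hnil⟩ := h
    set q := Fintype.card F with hqdef
    obtain ⟨j, hj⟩ : ∃ j, q - 1 = 2 ^ j :=
      ⟨_, Nat.eq_prime_pow_of_unique_prime_dvd (by omega)
        (fun {d} hd hdd => by_contra fun hne => hodd d hd hne hdd)⟩
    have hj2 : 2 ≤ j := by
      by_contra hc
      have : 2 ^ j ≤ 2 ^ 1 := Nat.pow_le_pow_right two_pos (by omega)
      omega
    have hq4 : q % 4 = 1 := by
      have : (4 : ℕ) ∣ 2 ^ j := (by norm_num : (4 : ℕ) = 2 ^ 2) ▸ pow_dvd_pow 2 hj2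
      omega
    have hneg : IsSquare (-1 : F) := FiniteField.isSquare_neg_one_iff.2 (by omega)
    have hp2 : p ≠ 2 := by
      rintro rfl
      rw [hcard] at hq4
      have : 2 ∣ 2 ^ (m : ℕ) := dvd_pow_self 2 m.pos.ne'
      omega
    obtain ⟨l, hl⟩ := hneg
    have hl0 : l ≠ 0 := fun he => by simp [he] at hl
    have hlne : l ≠ -l := by
      intro he
      have : (2 : F) * l = 0 := by linear_combination he
      rcases mul_eq_zero.1 this with h2 | h2
      · exact hp2 ((Nat.prime_dvd_prime_iff_eq hp Nat.prime_two).1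
          ((CharP.cast_eq_zero_iff F p 2).1 h2))
      · exact hl0 h2
    let D : GL (Fin 2) F := Matrix.GeneralLinearGroup.mkOfDetNeZero (Matrix.diagonal ![l, -l])
      (by simp [Matrix.det_fin_two, hl0])
    have hDv : (D : M2) = Matrix.diagonal ![l, -l] := rfl
    have hDdet : (D : M2).det = 1 := by
      rw [hDv]; simp [Matrix.det_fin_two]; exact hl ▸ neg_neg (1 : F)
    let d : G := ⟨π₂ D, hG D hDdet⟩
    obtain ⟨Ad, hAd, hdAd⟩ := hcov d
    have hd2 : π₂ D ^ 2 = 1 := by
      rw [← map_pow, QuotientGroup.mk'_apply, QuotientGroup.eq_one_iff,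
        GeneralLinearGroup.mem_center_iff_val_mem_range_scalar]
      refine ⟨-1, ?_⟩
      rw [Units.val_pow_eq_pow_val, hDv, Matrix.diagonal_pow, hl]
      ext a b; fin_cases a <;> fin_cases b <;> simp [sq]
    have h2grp : IsPGroup 2 Ad := by
      apply CfsgLib.FGSA.isPGroup_of_prime_orderOf_eq
      intro a ha
      by_contra hne
      haveI := hnil Ad hAd
      have hdord : orderOf (⟨d, hdAd⟩ : Ad) ∣ 2 := by
        rw [← Subgroup.orderOf_coe, ← Subgroup.orderOf_coe]
        exact orderOf_dvd_of_pow_eq_one hd2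
      have hcop : (orderOf (⟨d, hdAd⟩ : Ad)).Coprime (orderOf a) :=
        ((Nat.coprime_primes Nat.prime_two ha).2 (Ne.symm hne)).coprime_dvd_left hdord
      have hcm := congrArg (fun x : Ad => ((x : G) : PQ2)) (commute_of_coprime_orderOf _ _ hcop).eq
      obtain ⟨g, hg⟩ := QuotientGroup.mk'_surjective _ ((a : G) : PQ2)
      simp only [Subgroup.coe_mul, ← hg] at hcm
      have hord : orderOf (π₂ g) = orderOf a := by rw [hg, Subgroup.orderOf_coe, Subgroup.orderOf_coe]
      rcases commute_diag_cases hDv hl0 (neg_ne_zero.2 hl0) hlne hcm with ⟨h01, h10⟩ | ⟨h00, h11, -⟩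
      · have hgv : (g : M2) = Matrix.diagonal ![(g : M2) 0 0, (g : M2) 1 1] := by
          ext i k; fin_cases i <;> fin_cases k <;> simp [h01, h10]
        have hdet : (g : M2) 0 0 * (g : M2) 1 1 ≠ 0 := by
          have h1 := ((Matrix.isUnit_iff_isUnit_det _).1 g.isUnit).ne_zero
          rw [Matrix.det_fin_two, h01, zero_mul, sub_zero] at h1
          exact h1
        have hpow : (π₂ g) ^ (q - 1) = 1 := by
          rw [← map_pow, show g ^ (q - 1) = 1 from ?_, map_one]
          apply Units.ext
          rw [Units.val_pow_eq_pow_val, hgv, Matrix.diagonal_pow, Units.val_one, ← Matrix.diagonal_one]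
          congr 1
          funext i
          fin_cases i
          · simp [hqdef, FiniteField.pow_card_sub_one_eq_one _ (mul_ne_zero_iff.1 hdet).1]
          · simp [hqdef, FiniteField.pow_card_sub_one_eq_one _ (mul_ne_zero_iff.1 hdet).2]
        have hd1 := orderOf_dvd_of_pow_eq_one hpow
        rw [hord, hj] at hd1
        exact hne ((Nat.prime_dvd_prime_iff_eq ha Nat.prime_two).1 (ha.dvd_of_dvd_pow hd1))
      · have hpow : (π₂ g) ^ 2 = 1 := by
          rw [← map_pow, QuotientGroup.mk'_apply, QuotientGroup.eq_one_iff,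
            GeneralLinearGroup.mem_center_iff_val_mem_range_scalar]
          refine ⟨(g : M2) 0 1 * (g : M2) 1 0, ?_⟩
          rw [Units.val_pow_eq_pow_val, sq]
          ext i k; fin_cases i <;> fin_cases k <;>
            simp [Matrix.mul_apply, Fin.sum_univ_two, h00, h11] <;> ring
        have hd1 := orderOf_dvd_of_pow_eq_one hpow
        rw [hord] at hd1
        exact hne ((Nat.prime_dvd_prime_iff_eq ha Nat.prime_two).1 hd1)
    choose AP hAP htAP using fun P => hcov (t P)
    have hAPinj : Function.Injective AP := by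
      intro P P' he
      have hmem : π₂ (TP P) ∈ stabLine (pt P') :=
        hle P' (AP P') (hnil _ (hAP P')) (htAP P') (he ▸ htAP P)
      rw [mk_mem_stabLine] at hmem
      obtain ⟨c, hc⟩ := hmem
      obtain ⟨i, hi⟩ := hTPp P
      have hc1 : (c : F) = 1 := eigen_eq_one_of_pGroup p (S := Subgroup.zpowers (TP P))
        (IsPGroup.of_card (n := i) (by rw [Nat.card_zpowers, hi]))
        (Subgroup.mem_zpowers _) (pt_ne_zero P') hc
      rw [hc1, one_smul] at hc
      obtain ⟨c', hc'⟩ := hTPfix P _ hc
      exact (pt_injective hc').symm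
    have hAdne : ∀ P, AP P ≠ Ad := by
      intro P he
      have hm : t P ∈ Ad := he ▸ htAP P
      have hne : π₂ (TP P) ≠ 1 := by
        intro h1
        rw [QuotientGroup.mk'_apply, QuotientGroup.eq_one_iff] at h1
        obtain ⟨c, -, hc⟩ := center_eq_smul_one h1
        have hz : ∀ v, (TP P : M2) *ᵥ v = c • v := fun v => by
          rw [hc, Matrix.smul_mulVec, Matrix.one_mulVec]
        have h2 := hz (pt P)
        rw [hTPe] at h2
        have hc1 : c = 1 := by
          have h3 : (c - 1) • pt P = 0 := by rw [sub_smul, one_smul, ← h2, sub_self]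
          exact sub_eq_zero.1 ((smul_eq_zero.1 h3).resolve_right (pt_ne_zero P))
        rcases P with _ | a
        · obtain ⟨c', hc'⟩ := hTPfix none (pt (some 0)) (by rw [hz, hc1, one_smul])
          exact absurd (pt_injective hc') (by simp)
        · obtain ⟨c', hc'⟩ := hTPfix (some a) (pt none) (by rw [hz, hc1, one_smul])
          exact absurd (pt_injective hc') (by simp)
      obtain ⟨i, hi⟩ := hTPp P
      obtain ⟨k, hk⟩ := IsPGroup.iff_orderOf.1 h2grp ⟨t P, hm⟩
      have h1 : orderOf (π₂ (TP P)) = 2 ^ k := by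
        rw [← hk, ← Subgroup.orderOf_coe, ← Subgroup.orderOf_coe]
      have h2 : orderOf (π₂ (TP P)) ∣ p ^ i := hi ▸ orderOf_map_dvd _ _
      rw [h1] at h2
      rw [ne_eq, ← orderOf_eq_one_iff, h1] at hne
      exact hne (Nat.eq_one_of_dvd_coprimes
        (((Nat.coprime_primes Nat.prime_two hp).2 (Ne.symm hp2)).pow k i) dvd_rfl h2)
    let R : Finset (Subgroup G) := insert Ad (Finset.univ.image AP)
    have hRcard : R.card = q + 2 := by
      rw [Finset.card_insert_of_notMem (by
        simp only [Finset.mem_image, Finset.mem_univ, true_and, not_exists]; exact hAdne),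
        Finset.card_image_of_injective _ hAPinj, Finset.card_univ, Fintype.card_option]
    have hRsub : R ⊆ 𝓐 := by
      intro A hA
      rcases Finset.mem_insert.1 hA with rfl | hA
      · exact hAd
      · obtain ⟨P, -, rfl⟩ := Finset.mem_image.1 hA; exact hAP P
    have hfixed : ∀ g : G, ¬ NoFixedLine (g : PQ2) → ∃ P, g ∈ M P := by
      intro g hg
      unfold NoFixedLine at hg
      push Not at hg
      obtain ⟨v, hv, hgv⟩ := hg
      obtain ⟨P, c, hc, hvP⟩ := exists_pt hv
      exact ⟨P, stabLine_of_smul hc (pt_ne_zero P) hvP hgv⟩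
    have hbound := hmin ((𝓐 \ R) ∪ Finset.univ.image M) ⟨fun B hB => ?_, fun g => ?_⟩
    · have h1 := Finset.card_union_le (𝓐 \ R) (Finset.univ.image M)
      have h2 : (Finset.univ.image M).card ≤ q + 1 :=
        Finset.card_image_le.trans_eq (by rw [Finset.card_univ, Fintype.card_option])
      have h3 := Finset.card_sdiff_add_card_eq_card hRsub
      omega
    · rcases Finset.mem_union.1 hB with hB | hB
      · exact hproper B (Finset.mem_sdiff.1 hB).1
      · obtain ⟨P, -, rfl⟩ := Finset.mem_image.1 hB; exact hMne P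
    · by_cases hg : NoFixedLine (g : PQ2)
      · obtain ⟨A, hA, hgA⟩ := hcov g
        by_cases hAR : A ∈ R
        · rcases Finset.mem_insert.1 hAR with rfl | hAR
          · -- `g` is an involution without fixed line; use a larger cyclic group containing it
            obtain ⟨k, hk⟩ := IsPGroup.iff_orderOf.1 h2grp ⟨g, hgA⟩
            have hgk : (g : PQ2) ^ 2 ^ k = 1 := by
              rw [← hk, ← Subgroup.orderOf_coe, ← Subgroup.orderOf_coe, pow_orderOf_eq_one]
            have hgg := sq_eq_one_of_two_pow ⟨l, hl⟩ k _ hgk hg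
            obtain ⟨S, hS⟩ := QuotientGroup.mk'_surjective _ (g : PQ2)
            rw [← hS, ← map_mul, QuotientGroup.mk'_apply, QuotientGroup.eq_one_iff] at hgg
            obtain ⟨c, hc0, hc⟩ := center_eq_smul_one hgg
            rw [Units.val_mul] at hc
            rw [← hS] at hg
            obtain ⟨hns, -⟩ := noFixedLine_sq hg hc
            have hnorm : ∀ a b : F, (a, b) ≠ 0 → a * a - b * b * c ≠ 0 := by
              intro a b hab he
              by_cases hb : b = 0
              · subst hb
                simp at he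
                exact hab (by rw [he]; rfl)
              · exact hns ⟨a / b, by field_simp; linear_combination -he⟩
            let emb : {x : F × F // x ≠ 0} → GL (Fin 2) F := fun x =>
              ⟨x.1.1 • 1 + x.1.2 • (S : M2),
                (x.1.1 * x.1.1 - x.1.2 * x.1.2 * c)⁻¹ • (x.1.1 • 1 - x.1.2 • (S : M2)),
                by
                  rw [Matrix.mul_smul, show (x.1.1 • 1 + x.1.2 • (S : M2)) * (x.1.1 • 1 - x.1.2 • (S : M2)) =
                    (x.1.1 * x.1.1 - x.1.2 * x.1.2 * c) • (1 : M2) by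
                    simp only [add_mul, mul_sub, Matrix.smul_mul, Matrix.mul_smul, hc, smul_smul,
                      Matrix.one_mul, Matrix.mul_one, sub_smul]
                    module,
                    smul_smul, inv_mul_cancel₀ (hnorm _ _ x.2), one_smul],
                by
                  rw [Matrix.smul_mul, show (x.1.1 • 1 - x.1.2 • (S : M2)) * (x.1.1 • 1 + x.1.2 • (S : M2)) =
                    (x.1.1 * x.1.1 - x.1.2 * x.1.2 * c) • (1 : M2) by
                    simp only [sub_mul, mul_add, Matrix.smul_mul, Matrix.mul_smul, hc, smul_smul,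
                      Matrix.one_mul, Matrix.mul_one, sub_smul]
                    module,
                    smul_smul, inv_mul_cancel₀ (hnorm _ _ x.2), one_smul]⟩
            have hmulf : ∀ x y : {x : F × F // x ≠ 0}, ∃ z, emb x * emb y = emb z := by
              intro x y
              refine ⟨⟨(x.1.1 * y.1.1 + x.1.2 * y.1.2 * c, x.1.1 * y.1.2 + x.1.2 * y.1.1), fun he => ?_⟩,
                Units.ext ?_⟩
              · have e1 := congrArg Prod.fst he
                have e2 := congrArg Prod.snd he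
                simp at e1 e2
                exact mul_ne_zero (hnorm _ _ x.2) (hnorm _ _ y.2) (by
                  linear_combination (x.1.1 * y.1.1 + x.1.2 * y.1.2 * c) * e1 -
                    c * (x.1.1 * y.1.2 + x.1.2 * y.1.1) * e2)
              · show (x.1.1 • 1 + x.1.2 • (S : M2)) * (y.1.1 • 1 + y.1.2 • (S : M2)) = _
                simp only [add_mul, mul_add, Matrix.smul_mul, Matrix.mul_smul, hc, smul_smul,
                  Matrix.one_mul, Matrix.mul_one, emb, add_smul]
                rw [mul_comm y.1.1 x.1.1, mul_comm y.1.1 x.1.2, mul_comm y.1.2 x.1.1]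
                module
            let Hm : Submonoid (GL (Fin 2) F) :=
              { carrier := Set.range emb
                one_mem' := ⟨⟨(1, 0), by simp⟩, Units.ext (by simp [emb])⟩
                mul_mem' := by
                  rintro _ _ ⟨x, rfl⟩ ⟨y, rfl⟩
                  obtain ⟨z, hz⟩ := hmulf x y
                  exact ⟨z, hz.symm⟩ }
            let H : Subgroup (GL (Fin 2) F) :=
              { Hm with
                inv_mem' := fun {x} hx => by
                  have : x⁻¹ ∈ Submonoid.powers x := by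
                    rw [mem_powers_iff_mem_zpowers]
                    exact inv_mem (Subgroup.mem_zpowers x)
                  obtain ⟨n, hn⟩ := this
                  change x⁻¹ ∈ Hm
                  rw [← hn]
                  exact Hm.pow_mem hx n }
            have hinj : Function.Injective emb := by
              intro x y hxy
              have h1 := congrArg (fun u : GL (Fin 2) F => (u : M2)) hxy
              simp only [emb] at h1
              by_cases hb : x.1.2 = y.1.2
              · rw [hb, add_left_inj] at h1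
                have h2 := congrFun (congrFun h1 0) 0
                simp at h2
                exact Subtype.ext (Prod.ext h2 hb)
              · exfalso
                apply not_scalar_of_noFixedLine hg ((x.1.2 - y.1.2)⁻¹ * (y.1.1 - x.1.1))
                rw [← smul_smul, sub_smul, show y.1.1 • (1 : M2) - x.1.1 • 1 =
                  (x.1.2 - y.1.2) • (S : M2) by rw [sub_smul]; linear_combination (norm := module) -h1,
                  smul_smul, inv_mul_cancel₀ (sub_ne_zero.2 hb), one_smul]
            have hHcard : Nat.card H = q ^ 2 - 1 := by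
              show Nat.card (Set.range emb) = _
              rw [Nat.card_range_of_injective hinj, Nat.card_eq_fintype_card, Fintype.card_subtype_compl,
                Fintype.card_prod, Fintype.card_subtype_eq, sq]
            set n' := (q + 1) / 2 with hn'
            obtain ⟨r, hr, hrd⟩ := Nat.exists_prime_and_dvd (show n' ≠ 1 by omega)
            haveI : Fact r.Prime := ⟨hr⟩
            have hr2 : r ≠ 2 := by rintro rfl; omega
            have hrq : ¬ r ∣ q - 1 := by
              rw [hj]
              exact fun hd => hr2 ((Nat.prime_dvd_prime_iff_eq hr Nat.prime_two).1 (hr.dvd_of_dvd_pow hd))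
            have hrH : r ∣ Nat.card H := by
              rw [hHcard]
              have h1 : q ^ 2 - 1 = (q + 1) * (q - 1) := by
                have := Nat.sq_sub_sq q 1; simpa using this
              rw [h1]
              exact Dvd.dvd.mul_right (hrd.trans ⟨2, by omega⟩) _
            obtain ⟨⟨hh, hhH⟩, hho⟩ := exists_prime_orderOf_dvd_card' (G := H) r hrH
            rw [← Subgroup.orderOf_coe] at hho
            simp only at hho
            have hhr : hh ^ r = 1 := hho ▸ pow_orderOf_eq_one hh
            have hcomm : Commute S hh := by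
              obtain ⟨x, rfl⟩ := hhH
              apply Units.ext
              show (S : M2) * (x.1.1 • 1 + x.1.2 • (S : M2)) = (x.1.1 • 1 + x.1.2 • (S : M2)) * (S : M2)
              simp [mul_add, add_mul]
            have hhdet : (hh : M2).det = 1 := by
              set δ := Matrix.GeneralLinearGroup.det hh with hδ
              have h1 : δ ^ r = 1 := by rw [hδ, ← map_pow, hhr, map_one]
              have h2 : δ ^ (q - 1) = 1 := by rw [hqdef, ← Fintype.card_units]; exact pow_card_eq_one
              have h3 : δ = 1 := by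
                rw [← orderOf_eq_one_iff]
                exact Nat.eq_one_of_dvd_coprimes ((hr.coprime_iff_not_dvd).2 hrq)
                  (orderOf_dvd_of_pow_eq_one h1) (orderOf_dvd_of_pow_eq_one h2)
              simpa [hδ] using congrArg (fun u : Fˣ => (u : F)) h3
            have hyne : π₂ hh ≠ 1 := by
              intro he
              rw [QuotientGroup.mk'_apply, QuotientGroup.eq_one_iff] at he
              obtain ⟨z, hz0, hz⟩ := center_eq_smul_one he
              have h1 : hh ^ (q - 1) = 1 := by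
                apply Units.ext
                rw [Units.val_pow_eq_pow_val, hz, smul_pow, one_pow, hqdef,
                  FiniteField.pow_card_sub_one_eq_one _ hz0, one_smul, Units.val_one]
              exact hrq (hho ▸ orderOf_dvd_of_pow_eq_one h1)
            let x : G := g * ⟨π₂ hh, hG hh hhdet⟩
            have hxr : x ^ r = g := by
              apply Subtype.ext
              show ((g : PQ2) * π₂ hh) ^ r = (g : PQ2)
              obtain ⟨o, ho⟩ := hr.odd_of_ne_two hr2
              rw [← hS, ((Commute.map hcomm π₂)).mul_pow, ← map_pow π₂ hh, hhr, map_one, mul_one, ho,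
                pow_succ, pow_mul, show (π₂ S) ^ 2 = 1 by
                  rw [sq, ← map_mul, QuotientGroup.mk'_apply, QuotientGroup.eq_one_iff]; exact hgg,
                one_pow, one_mul]
            obtain ⟨B, hB, hxB⟩ := hcov x
            refine ⟨B, Finset.mem_union_left _ (Finset.mem_sdiff.2 ⟨hB, fun hBR => ?_⟩),
              hxr ▸ B.pow_mem hxB r⟩
            rcases Finset.mem_insert.1 hBR with rfl | hBR
            · -- the member is a `2`-group
              obtain ⟨i, hi⟩ := h2grp ⟨x, hxB⟩
              obtain ⟨i', hi'⟩ := h2grp ⟨g, hgA⟩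
              have hx2 : x ^ 2 ^ i = 1 := by simpa using congrArg Subtype.val hi
              have hg2 : g ^ 2 ^ i' = 1 := by simpa using congrArg Subtype.val hi'
              apply hyne
              have hcomm' : Commute (g : PQ2) (π₂ hh) := hS ▸ Commute.map hcomm π₂
              have h1 : ((g : PQ2) * π₂ hh) ^ (2 ^ i * 2 ^ i') = 1 := by
                have : ((g : PQ2) * π₂ hh) ^ 2 ^ i = 1 := congrArg Subtype.val hx2
                rw [pow_mul, this, one_pow]
              have h2 : (g : PQ2) ^ (2 ^ i * 2 ^ i') = 1 := by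
                have := congrArg (fun u : G => (u : PQ2)) hg2
                simp at this
                rw [mul_comm, pow_mul, this, one_pow]
              rw [hcomm'.mul_pow, h2, one_mul, ← pow_add] at h1
              have h3 : (π₂ hh) ^ r = 1 := by rw [← map_pow, hhr, map_one]
              rw [← orderOf_eq_one_iff]
              exact Nat.eq_one_of_dvd_coprimes
                (((Nat.coprime_primes hr Nat.prime_two).2 hr2).pow_right _)
                (orderOf_dvd_of_pow_eq_one h3) (orderOf_dvd_of_pow_eq_one h1)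
            · obtain ⟨P, -, rfl⟩ := Finset.mem_image.1 hBR
              have hxP : x ∈ M P := hle P _ (hnil _ hB) (htAP P) hxB
              have hgP : g ∈ M P := hxr ▸ (M P).pow_mem hxP r
              rw [hS] at hg
              exact hg _ (pt_ne_zero P) hgP
          · obtain ⟨P, -, rfl⟩ := Finset.mem_image.1 hAR
            exact absurd (hle P _ (hnil _ hA) (htAP P) hgA) (hg _ (pt_ne_zero P))
        · exact ⟨A, Finset.mem_union_left _ (Finset.mem_sdiff.2 ⟨hA, hAR⟩), hgA⟩
      · obtain ⟨P, hP⟩ := hfixed g hg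
        exact ⟨M P, Finset.mem_union_right _ (Finset.mem_image.2 ⟨P, Finset.mem_univ _, rfl⟩), hP⟩

end CfsgLib.FGSA.PGLFix
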