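import Mathlib
import Cfsg.Agent.FGSA.Cover
import Cfsg.Agent.FGSA.PGLFix

/-!
# No nilpotent minimal cover for groups between PSL_n and PGL_n, n at least 3 (slice A)
-/

set_option autoImplicit false

namespace CfsgLib.FGSA.PGLFix

open Matrix

variable {n : ℕ} {F : Type*} [Field F]

/-- The superdiagonal shift matrix. -/
def shiftN (n : ℕ) (F : Type*) [Field F] : Matrix (Fin n) (Fin n) F :=
  Matrix.of fun i j => if j.val = i.val + 1 then 1 else 0

lemma shiftN_pow_apply (k : ℕ) (i j : Fin n) :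
    (shiftN n F ^ k) i j = if j.val = i.val + k then 1 else 0 := by
  induction k generalizing i j with
  | zero => simp [Matrix.one_apply, Fin.ext_iff, eq_comm]
  | succ k ih =>
    rw [pow_succ, Matrix.mul_apply]
    simp only [ih]
    by_cases h : i.val + k < n
    · rw [Finset.sum_eq_single (⟨i.val + k, h⟩ : Fin n)]
      · simp [shiftN, Nat.add_assoc]
      · intro b _ hb
        rw [if_neg (fun hb' => hb (Fin.ext hb')), zero_mul]
      · simp
    · rw [Finset.sum_eq_zero (fun b _ => by rw [if_neg (by omega), zero_mul]), if_neg (by omega)]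

lemma shiftN_pow_eq_zero {k : ℕ} (hk : n ≤ k) : shiftN n F ^ k = 0 := by
  ext i j
  rw [shiftN_pow_apply, if_neg (by omega), Matrix.zero_apply]

lemma shiftN_mulVec (v : Fin n → F) (i : Fin n) :
    (shiftN n F *ᵥ v) i = if h : i.val + 1 < n then v ⟨i.val + 1, h⟩ else 0 := by
  simp only [Matrix.mulVec, dotProduct, shiftN, Matrix.of_apply]
  split_ifs with h
  · rw [Finset.sum_eq_single (⟨i.val + 1, h⟩ : Fin n)]
    · simp
    · intro b _ hb
      rw [if_neg (fun hb' => hb (Fin.ext hb')), zero_mul]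
    · simp
  · exact Finset.sum_eq_zero (fun b _ => by rw [if_neg (by omega), zero_mul])

lemma vecMul_shiftN (v : Fin n → F) (j : Fin n) :
    (v ᵥ* shiftN n F) j = if h : 0 < j.val then v ⟨j.val - 1, by omega⟩ else 0 := by
  simp only [Matrix.vecMul, dotProduct, shiftN, Matrix.of_apply]
  split_ifs with h
  · rw [Finset.sum_eq_single (⟨j.val - 1, by omega⟩ : Fin n)]
    · simp [Nat.sub_add_cancel h]
    · intro b _ hb
      rw [if_neg (fun hb' => hb (Fin.ext (show b.val = j.val - 1 by omega))), mul_zero]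
    · simp
  · exact Finset.sum_eq_zero (fun b _ => by rw [if_neg (by omega), mul_zero])

lemma det_one_add_shiftN : (1 + shiftN n F).det = 1 := by
  rw [Matrix.det_of_upperTriangular]
  · simp [shiftN]
  · intro i j hij
    have : j.val < i.val := hij
    simp [shiftN, Matrix.one_apply_ne (show i ≠ j from fun h => by subst h; omega)]
    omega

variable [Fintype F]

/-- Groups between `PSL_n` and `PGL_n`, `n ≥ 3`, have no nilpotent minimal cover. -/
theorem no_nilpotent_minimal_cover_three_le {k : ℕ}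
    (G : Subgroup (GL (Fin (k + 3)) F ⧸ Subgroup.center (GL (Fin (k + 3)) F)))
    (hG : ∀ g : GL (Fin (k + 3)) F, (g : Matrix (Fin (k + 3)) (Fin (k + 3)) F).det = 1 →
      QuotientGroup.mk' (Subgroup.center (GL (Fin (k + 3)) F)) g ∈ G)
    (𝓐 : Finset (Subgroup ↥G))
    (h : ((∀ A ∈ 𝓐, A ≠ ⊤) ∧ (∀ g : ↥G, ∃ A ∈ 𝓐, g ∈ A)) ∧
      (∀ 𝓑 : Finset (Subgroup ↥G), (∀ A ∈ 𝓑, A ≠ ⊤) ∧ (∀ g : ↥G, ∃ A ∈ 𝓑, g ∈ A) →
        𝓐.card ≤ 𝓑.card) ∧ (∀ A ∈ 𝓐, Group.IsNilpotent ↥A)) : False := by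
  classical
  obtain ⟨p, hpF⟩ := CharP.exists F
  obtain ⟨m, hp, -⟩ := FiniteField.card F p
  haveI : Fact p.Prime := ⟨hp⟩
  haveI := hpF
  set π := QuotientGroup.mk' (Subgroup.center (GL (Fin (k + 3)) F)) with hπ
  set N := shiftN (k + 3) F with hN
  -- the regular unipotent element
  have hdet : (1 + N).det = 1 := det_one_add_shiftN
  let T : GL (Fin (k + 3)) F := Matrix.GeneralLinearGroup.mkOfDetNeZero (1 + N)
    (by rw [hdet]; exact one_ne_zero)
  have hTv : (T : Matrix (Fin (k + 3)) (Fin (k + 3)) F) = 1 + N := rfl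
  have hTp : ∃ i, orderOf T = p ^ i := by
    have hpow : T ^ p ^ (k + 3) = 1 := by
      apply Units.ext
      rw [Units.val_pow_eq_pow_val, hTv, add_pow_char_pow_of_commute _ _ (Commute.one_left N), one_pow,
        shiftN_pow_eq_zero (Nat.lt_pow_self hp.one_lt).le, add_zero, Units.val_one]
    obtain ⟨i, -, hi⟩ := (Nat.dvd_prime_pow hp).1 (orderOf_dvd_of_pow_eq_one hpow)
    exact ⟨i, hi⟩
  set e : Fin (k + 3) → F := Pi.single 0 1 with he
  have he0 : e ≠ 0 := by simp [he]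
  have hfix : ∀ v, (T : Matrix (Fin (k + 3)) (Fin (k + 3)) F) *ᵥ v = v → ∃ c : F, v = c • e := by
    intro v hv
    rw [hTv, Matrix.add_mulVec, Matrix.one_mulVec, add_eq_left] at hv
    refine ⟨v 0, funext fun i => ?_⟩
    by_cases hi : i = 0
    · subst hi; simp [he]
    · have hi' : i.val ≠ 0 := fun h => hi (Fin.ext h)
      have h1 := congrFun hv ⟨i.val - 1, by omega⟩
      rw [shiftN_mulVec, dif_pos (show i.val - 1 + 1 < k + 3 by omega)] at h1
      simp only [Pi.zero_apply] at h1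
      rw [show (⟨i.val - 1 + 1, by omega⟩ : Fin (k + 3)) = i from Fin.ext (show i.val - 1 + 1 = i.val by omega)] at h1
      simp [he, hi, h1]
  have hTe : (T : Matrix (Fin (k + 3)) (Fin (k + 3)) F) *ᵥ e = e := by
    rw [hTv, Matrix.add_mulVec, Matrix.one_mulVec, add_eq_left]
    ext i
    rw [shiftN_mulVec]
    split_ifs with hlt
    · rw [he, Pi.single_eq_of_ne (fun hc => Nat.succ_ne_zero _ (congrArg Fin.val hc))]; rfl
    · rfl
  -- the second element
  let σ : Equiv.Perm (Fin (k + 3)) := Equiv.swap ⟨1, by omega⟩ ⟨k + 2, by omega⟩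
  let P : Matrix (Fin (k + 3)) (Fin (k + 3)) F := σ.permMatrix F
  have hPP : P * P = 1 := by
    rw [← Matrix.permMatrix_mul, Equiv.swap_mul_self, Matrix.permMatrix_one]
  let W : GL (Fin (k + 3)) F := ⟨P, P, hPP, hPP⟩
  have hWe : (W : Matrix (Fin (k + 3)) (Fin (k + 3)) F) *ᵥ e = e := by
    show P *ᵥ e = e
    rw [Matrix.permMatrix_mulVec]
    ext i
    simp only [Function.comp, he]
    by_cases hi : i = 0
    · subst hi
      simp [σ, Equiv.swap_apply_of_ne_of_ne, Fin.ext_iff]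
    · have : σ i ≠ 0 := fun h => hi (by
        have h' : σ (σ i) = σ 0 := congrArg σ h
        rw [Equiv.swap_apply_self] at h'
        rw [h']
        simp [σ, Equiv.swap_apply_of_ne_of_ne, Fin.ext_iff])
      simp [hi, this]
  let T' : GL (Fin (k + 3)) F := W * T * W⁻¹
  have hWW : W⁻¹ = W := rfl
  have hT'e : (T' : Matrix (Fin (k + 3)) (Fin (k + 3)) F) *ᵥ e = e := by
    show ((W * T * W⁻¹ : GL (Fin (k + 3)) F) : Matrix (Fin (k + 3)) (Fin (k + 3)) F) *ᵥ e = e
    rw [hWW, Units.val_mul, Units.val_mul, ← Matrix.mulVec_mulVec, ← Matrix.mulVec_mulVec, hWe, hTe, hWe]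
  have hfix' : ∀ v, (T' : Matrix (Fin (k + 3)) (Fin (k + 3)) F) *ᵥ v = v → ∃ c : F, v = c • e := by
    intro v hv
    have h1 := congrArg (fun w => (W : Matrix (Fin (k + 3)) (Fin (k + 3)) F) *ᵥ w) hv
    simp only [Matrix.mulVec_mulVec, ← Units.val_mul, T', hWW,
      show W * (W * T * W) = T * W by rw [← mul_assoc, ← mul_assoc, show W * W = 1 from Units.ext hPP, one_mul]] at h1
    rw [Units.val_mul, ← Matrix.mulVec_mulVec] at h1
    obtain ⟨c, hc⟩ := hfix _ h1
    refine ⟨c, ?_⟩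
    have h2 := congrArg (fun w => (W : Matrix (Fin (k + 3)) (Fin (k + 3)) F) *ᵥ w) hc
    simp only [Matrix.mulVec_mulVec, Matrix.mulVec_smul, hWe] at h2
    rwa [show (W : Matrix (Fin (k + 3)) (Fin (k + 3)) F) * (W : Matrix (Fin (k + 3)) (Fin (k + 3)) F) = 1 from hPP,
      Matrix.one_mulVec] at h2
  have hT'p : ∃ i, orderOf T' = p ^ i := by
    obtain ⟨i, hi⟩ := hTp
    exact ⟨i, by rw [← hi]; exact MulEquiv.orderOf_eq (MulAut.conj W) T⟩
  have hT'det : (T' : Matrix (Fin (k + 3)) (Fin (k + 3)) F).det = 1 := by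
    show ((W * T * W⁻¹ : GL (Fin (k + 3)) F) : Matrix (Fin (k + 3)) (Fin (k + 3)) F).det = 1
    rw [hWW, Units.val_mul, Units.val_mul, Matrix.det_mul, Matrix.det_mul, hTv, hdet, mul_one,
      ← Matrix.det_mul, show (W : Matrix (Fin (k + 3)) (Fin (k + 3)) F) * (W : Matrix (Fin (k + 3)) (Fin (k + 3)) F) = 1 from hPP,
      Matrix.det_one]
  let t : G := ⟨π T, hG T (by rw [hTv]; exact hdet)⟩
  let t' : G := ⟨π T', hG T' hT'det⟩
  let M : Subgroup G := (stabLine e).comap G.subtype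
  have hle : ∀ A : Subgroup G, Group.IsNilpotent A → ∀ S : GL (Fin (k + 3)) F,
      (∃ i, orderOf S = p ^ i) → (S : Matrix (Fin (k + 3)) (Fin (k + 3)) F) *ᵥ e = e →
      (∀ v, (S : Matrix (Fin (k + 3)) (Fin (k + 3)) F) *ᵥ v = v → ∃ c : F, v = c • e) →
      ∀ hS : π S ∈ G, (⟨π S, hS⟩ : G) ∈ A → A ≤ M := by
    intro A hA S hS1 hS2 hS3 hS hSA a ha
    haveI := hA
    have hA' : Group.IsNilpotent ↥(A.map G.subtype) :=
      (Group.isNilpotent_congr (A.equivMapOfInjective _ G.subtype_injective)).1 hA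
    exact nilpotent_le_stabLine p hS1 he0 hS2 hS3 _ hA' (Subgroup.mem_map_of_mem _ hSA)
      (Subgroup.mem_map_of_mem _ ha)
  refine CfsgLib.FGSA.false_of_nilpotent_cover (M := M) ?_ t t'
    (fun A hA hm => hle A hA T hTp hTe hfix _ hm) (fun A hA hm => hle A hA T' hT'p hT'e hfix' _ hm)
    ?_ 𝓐 h
  · intro htop
    let X : GL (Fin (k + 3)) F := Matrix.GeneralLinearGroup.mkOfDetNeZero
      (Matrix.transvection (1 : Fin (k + 3)) 0 (1 : F))
      (by rw [Matrix.det_transvection_of_ne _ _ (by simp)]; exact one_ne_zero)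
    have hX : π X ∈ G := hG X (Matrix.det_transvection_of_ne _ _ (by simp) _)
    have hXM : (⟨π X, hX⟩ : G) ∈ M := htop ▸ Subgroup.mem_top _
    have hXs : π X ∈ stabLine e := hXM
    rw [mk_mem_stabLine] at hXs
    obtain ⟨c, hc⟩ := hXs
    have h1 := congrFun hc 1
    simp [X, he, Matrix.GeneralLinearGroup.mkOfDetNeZero, Matrix.transvection, Matrix.add_mulVec] at h1
  · intro A hA hm hm'
    have hA' : Group.IsNilpotent ↥(A.map G.subtype) :=
      (Group.isNilpotent_congr (A.equivMapOfInjective _ G.subtype_injective)).1 hA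
    obtain ⟨R, hRA, hR, hRmem⟩ := CfsgLib.FGSA.exists_pPart hA' p
    obtain ⟨S, hS, -, hlift⟩ := exists_lift p R hR
    have hin : ∀ Y : GL (Fin (k + 3)) F, (∃ i, orderOf Y = p ^ i) →
        π Y ∈ A.map G.subtype → Y ∈ S := by
      rintro Y ⟨i, hi⟩ hY
      obtain ⟨j, -, hj⟩ := (Nat.dvd_prime_pow hp).1 (hi ▸ orderOf_map_dvd π Y)
      exact hlift Y (hRmem _ hY ⟨j, hj⟩) ⟨i, hi⟩
    have hTS := hin T hTp (Subgroup.mem_map_of_mem G.subtype hm)
    have hT'S := hin T' hT'p (Subgroup.mem_map_of_mem G.subtype hm')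
    obtain ⟨v, hv0, hv⟩ := exists_fixed_row p hS
    have hrow : ∀ w : Fin (k + 3) → F, w ᵥ* (T : Matrix (Fin (k + 3)) (Fin (k + 3)) F) = w →
        ∀ i : Fin (k + 3), i.val < k + 2 → w i = 0 := by
      intro w hw i hi
      rw [hTv, Matrix.vecMul_add, Matrix.vecMul_one, add_eq_left] at hw
      have h1 := congrFun hw ⟨i.val + 1, by omega⟩
      rw [vecMul_shiftN, dif_pos (Nat.succ_pos i.val)] at h1
      simpa using h1
    have h1 := hrow v (hv T hTS)
    have h2 : (v ᵥ* (W : Matrix (Fin (k + 3)) (Fin (k + 3)) F)) ᵥ* (T : Matrix (Fin (k + 3)) (Fin (k + 3)) F) =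
        v ᵥ* (W : Matrix (Fin (k + 3)) (Fin (k + 3)) F) := by
      have h3 := congrArg (fun w => w ᵥ* (W : Matrix (Fin (k + 3)) (Fin (k + 3)) F)) (hv T' hT'S)
      simp only [Matrix.vecMul_vecMul, ← Units.val_mul, T', hWW,
        show W * T * W * W = W * T by rw [mul_assoc (W * T), show W * W = 1 from Units.ext hPP, mul_one]] at h3
      rwa [Matrix.vecMul_vecMul, ← Units.val_mul]
    have h4 := hrow _ h2 ⟨1, by omega⟩ (show (1 : ℕ) < k + 2 by omega)
    apply hv0
    funext i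
    by_cases hi : i.val < k + 2
    · exact h1 i hi
    · have hi2 : i = ⟨k + 2, by omega⟩ := Fin.ext (show i.val = k + 2 by omega)
      rw [show ((W : Matrix (Fin (k + 3)) (Fin (k + 3)) F)) = P from rfl, Matrix.vecMul_permMatrix] at h4
      simp [σ, Equiv.symm_swap] at h4
      rw [hi2, Pi.zero_apply]
      exact h4

end CfsgLib.FGSA.PGLFix
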