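import Mathlib.GroupTheory.Sylow
import Mathlib.GroupTheory.Nilpotent
import Cfsg.Prelude.Def_Transfer
import Cfsg.Agent.FGSA.Cover
import Cfsg.Agent.FGSA.Nilpotent
import Cfsg.Agent.S3889

/-!
# Abelian Sylow subgroups in groups with a nilpotent minimal cover
-/

set_option autoImplicit false

namespace CfsgLib.CoverSylow

open Subgroup

variable {G : Type*} [Group G] [Finite G] {p : ℕ} [hp : Fact p.Prime]

/-- `𝓐` is a minimal cover all of whose members are nilpotent. -/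
abbrev IsNMC (𝓐 : Finset (Subgroup G)) : Prop :=
  ((∀ A ∈ 𝓐, A ≠ ⊤) ∧ (∀ g : G, ∃ A ∈ 𝓐, g ∈ A)) ∧
    (∀ 𝓑 : Finset (Subgroup G), (∀ A ∈ 𝓑, A ≠ ⊤) ∧ (∀ g : G, ∃ A ∈ 𝓑, g ∈ A) → 𝓐.card ≤ 𝓑.card) ∧
    (∀ A ∈ 𝓐, Group.IsNilpotent ↥A)

omit [Finite G] hp in
/-- At most one member of a minimal cover lies in a given proper subgroup. -/
theorem eq_of_le {𝓐 : Finset (Subgroup G)} (h : IsNMC 𝓐) {M : Subgroup G} (hM : M ≠ ⊤)
    {A B : Subgroup G} (hA : A ∈ 𝓐) (hB : B ∈ 𝓐) (hAM : A ≤ M) (hBM : B ≤ M) : A = B := by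
  classical
  by_contra hne
  have h1 := h.2.1 (insert M ((𝓐.erase A).erase B)) ⟨fun C hC => ?_, fun g => ?_⟩
  · have h2 : ((𝓐.erase A).erase B).card + 1 = (𝓐.erase A).card :=
      Finset.card_erase_add_one (Finset.mem_erase.2 ⟨fun e => hne e.symm, hB⟩)
    have h3 : (𝓐.erase A).card + 1 = 𝓐.card := Finset.card_erase_add_one hA
    have h4 := Finset.card_insert_le M ((𝓐.erase A).erase B)
    omega
  · rcases Finset.mem_insert.1 hC with rfl | hC
    · exact hM
    · exact h.1.1 C (Finset.mem_of_mem_erase (Finset.mem_of_mem_erase hC))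
  · obtain ⟨C, hC, hgC⟩ := h.1.2 g
    by_cases hCA : C = A
    · exact ⟨M, Finset.mem_insert_self _ _, hAM (hCA ▸ hgC)⟩
    by_cases hCB : C = B
    · exact ⟨M, Finset.mem_insert_self _ _, hBM (hCB ▸ hgC)⟩
    exact ⟨C, Finset.mem_insert_of_mem (Finset.mem_erase.2 ⟨hCB, Finset.mem_erase.2 ⟨hCA, hC⟩⟩), hgC⟩

/-- If the Sylow `p`-subgroups are abelian, a nilpotent subgroup centralizes each of its `p`-elements. -/
theorem nilpotent_le_centralizer (P : Sylow p G) (hab : IsMulCommutative ↥(P : Subgroup G))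
    {A : Subgroup G} (hA : Group.IsNilpotent A) {x : G} (hx : x ∈ A) (hxp : ∃ k, orderOf x = p ^ k) :
    A ≤ centralizer ({x} : Set G) := by
  refine CfsgLib.FGSA.le_of_prime_power_mem fun r hr a ha hak => mem_centralizer_singleton_iff.2 ?_
  by_cases hrp : r = p
  · subst hrp
    obtain ⟨S, -, hS, hmem⟩ := CfsgLib.FGSA.exists_pPart hA r
    obtain ⟨Q, hQ⟩ := hS.exists_le_sylow
    obtain ⟨g, hg⟩ := MulAction.exists_smul_eq G P Q
    have hm : ∀ b ∈ S, ∃ c ∈ (P : Subgroup G), g * c * g⁻¹ = b := fun b hb => by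
      have h : b ∈ ((g • P : Sylow r G) : Subgroup G) := hg.symm ▸ hQ hb
      obtain ⟨c, hc, hcb⟩ := h
      exact ⟨c, hc, hcb⟩
    obtain ⟨c, hc, rfl⟩ := hm a (hmem a ha hak)
    obtain ⟨d, hd, rfl⟩ := hm x (hmem x hx hxp)
    have h := congrArg Subtype.val (hab.is_comm.comm ⟨c, hc⟩ ⟨d, hd⟩)
    calc g * c * g⁻¹ * (g * d * g⁻¹) = g * (c * d) * g⁻¹ := by group
      _ = g * (d * c) * g⁻¹ := by rw [show c * d = d * c from h]
      _ = _ := by group
  · haveI := hA
    obtain ⟨i, hi⟩ := hak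
    obtain ⟨k, hk⟩ := hxp
    have h := CfsgLib.FGSA.commute_of_coprime_orderOf (⟨a, ha⟩ : A) ⟨x, hx⟩ (by
      rw [Subgroup.orderOf_mk, Subgroup.orderOf_mk, hi, hk]
      exact Nat.Coprime.pow _ _ ((Nat.coprime_primes hr hp.out).2 hrp))
    exact congrArg Subtype.val h.eq

omit [Finite G] hp in
theorem centralizer_ne_top (hZ : center G = ⊥) {x : G} (hx : x ≠ 1) : centralizer ({x} : Set G) ≠ ⊤ :=
  fun h => hx (mem_bot.1 (hZ ▸ mem_center_iff.2 fun g =>
    mem_centralizer_singleton_iff.1 (show g ∈ centralizer {x} from h ▸ mem_top g)))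

omit hp in
theorem isPElement_of_mem {P : Sylow p G} {x : G} (hx : x ∈ (P : Subgroup G)) [Fact p.Prime] :
    ∃ k, orderOf x = p ^ k := by
  obtain ⟨k, hk⟩ := IsPGroup.iff_orderOf.1 P.2 ⟨x, hx⟩
  exact ⟨k, by rwa [← Subgroup.orderOf_coe] at hk⟩

/-- All members through a nontrivial element of an abelian Sylow subgroup coincide. -/
theorem member_unique (hZ : center G = ⊥) {𝓐 : Finset (Subgroup G)} (h : IsNMC 𝓐) (P : Sylow p G)
    (hab : IsMulCommutative ↥(P : Subgroup G)) {x : G} (hx : x ∈ (P : Subgroup G)) (hx1 : x ≠ 1)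
    {A B : Subgroup G} (hA : A ∈ 𝓐) (hxA : x ∈ A) (hB : B ∈ 𝓐) (hxB : x ∈ B) : A = B :=
  eq_of_le h (centralizer_ne_top hZ hx1) hA hB
    (nilpotent_le_centralizer P hab (h.2.2 A hA) hxA (isPElement_of_mem hx))
    (nilpotent_le_centralizer P hab (h.2.2 B hB) hxB (isPElement_of_mem hx))

/-- An abelian Sylow subgroup is elementary of order `> p` or lies in one member. -/
theorem elementary_or_le (hZ : center G = ⊥) {𝓐 : Finset (Subgroup G)} (h : IsNMC 𝓐) (P : Sylow p G)
    (hab : IsMulCommutative ↥(P : Subgroup G)) :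
    (Cfsg.IsElementaryAbelian p (P : Subgroup G) ∧ ¬ IsCyclic ↥(P : Subgroup G) ∧
      p < Nat.card ↥(P : Subgroup G)) ∨ ∃ A ∈ 𝓐, (P : Subgroup G) ≤ A := by
  by_cases hle : ∃ A ∈ 𝓐, (P : Subgroup G) ≤ A
  · exact Or.inr hle
  left
  push Not at hle
  have hnc : ¬ IsCyclic ↥(P : Subgroup G) := fun hc => by
    obtain ⟨g, hg⟩ := hc.exists_generator
    obtain ⟨A, hA, hgA⟩ := h.1.2 g
    refine hle A hA fun y hy => ?_
    obtain ⟨i, hi⟩ := mem_zpowers_iff.1 (hg ⟨y, hy⟩)
    have h2 : (g : G) ^ i = y := congrArg Subtype.val hi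
    exact h2 ▸ A.zpow_mem hgA i
  letI : CommGroup ↥(P : Subgroup G) :=
    { (inferInstance : Group ↥(P : Subgroup G)) with mul_comm := fun a b => hab.is_comm.comm a b }
  have hexp : (Monoid.exponent ↥(P : Subgroup G)).Prime := by
    refine Cfsg.Agent.S3889.result ((fun A : Subgroup G => A.subgroupOf (P : Subgroup G)) '' (𝓐 : Set (Subgroup G)))
      ?_ ?_ ?_
    · rintro _ ⟨A, hA, rfl⟩ htop
      exact hle A hA (subgroupOf_eq_top.1 htop)
    · intro g
      obtain ⟨A, hA, hgA⟩ := h.1.2 g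
      exact ⟨_, ⟨A, hA, rfl⟩, hgA⟩
    · rintro _ ⟨A, hA, rfl⟩ _ ⟨B, hB, rfl⟩ hne
      refine (eq_bot_iff_forall _).2 fun y hy => ?_
      by_contra hy1
      exact hne (congrArg (fun A : Subgroup G => A.subgroupOf (P : Subgroup G))
        (member_unique hZ h P hab y.2 (fun e => hy1 (Subtype.ext e)) hA hy.1 hB hy.2))
  haveI : Nontrivial ↥(P : Subgroup G) := by
    by_contra hn
    rw [not_nontrivial_iff_subsingleton] at hn
    exact hnc isCyclic_of_subsingleton
  obtain ⟨k, hk⟩ := IsPGroup.iff_card.1 P.2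
  have hep : Monoid.exponent ↥(P : Subgroup G) = p :=
    (Nat.prime_dvd_prime_iff_eq hexp hp.out).1
      (hexp.dvd_of_dvd_pow (hk ▸ Group.exponent_dvd_nat_card))
  refine ⟨⟨hab, fun a ha => ?_⟩, hnc, ?_⟩
  · have := Monoid.pow_exponent_eq_one (⟨a, ha⟩ : (P : Subgroup G))
    rw [hep] at this
    exact congrArg Subtype.val this
  · rcases Nat.lt_or_ge k 2 with h2 | h2
    · exfalso
      rcases Nat.eq_zero_or_pos k with rfl | h0
      · exact (Finite.one_lt_card (α := ↥(P : Subgroup G))).ne' (by rw [hk, pow_zero])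
      · obtain rfl : k = 1 := by omega
        exact hnc (isCyclic_of_prime_card (p := p) (by rw [hk, pow_one]))
    · rw [hk]
      calc p = p ^ 1 := (pow_one p).symm
        _ < p ^ k := Nat.pow_lt_pow_right hp.out.one_lt h2

/-- If the member `A` contains the Sylow subgroup `P`, it is the centralizer of each nontrivial element of `P`. -/
theorem centralizer_eq (hZ : center G = ⊥) {𝓐 : Finset (Subgroup G)} (h : IsNMC 𝓐) (P : Sylow p G)
    (hab : IsMulCommutative ↥(P : Subgroup G)) {A : Subgroup G} (hA : A ∈ 𝓐) (hPA : (P : Subgroup G) ≤ A)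
    {x : G} (hx : x ∈ (P : Subgroup G)) (hx1 : x ≠ 1) : centralizer ({x} : Set G) = A := by
  have hxp := isPElement_of_mem hx
  refine le_antisymm ?_ (nilpotent_le_centralizer P hab (h.2.2 A hA) (hPA hx) hxp)
  -- elements of order prime to `p` centralizing `x` lie in `A`
  have hpr : ∀ t ∈ centralizer ({x} : Set G), (orderOf t).Coprime p → t ∈ A := by
    intro t ht hcop
    have htx : Commute t x := mem_centralizer_singleton_iff.1 ht
    obtain ⟨B, hB, htB⟩ := h.1.2 (t * x)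
    obtain ⟨k, hk⟩ := hxp
    have hc' : (orderOf x).Coprime (orderOf t) := by rw [hk]; exact (hcop.symm).pow_left k
    have hxB : x ∈ B := by
      obtain ⟨m, hm⟩ := exists_pow_eq_self_of_coprime (x := x) (n := orderOf t) hc'.symm
      rw [← hm]
      refine B.pow_mem ?_ m
      have : (t * x) ^ orderOf t = x ^ orderOf t := by rw [htx.mul_pow, pow_orderOf_eq_one, one_mul]
      rw [← this]
      exact B.pow_mem htB _
    obtain rfl := member_unique hZ h P hab hx hx1 hB hxB hA (hPA hx)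
    simpa using B.mul_mem htB (B.inv_mem hxB)
  -- the centralizer is generated by these elements and `P`
  have hPC : (P : Subgroup G) ≤ centralizer ({x} : Set G) :=
    fun y hy => mem_centralizer_singleton_iff.2 (congrArg Subtype.val (hab.is_comm.comm ⟨y, hy⟩ ⟨x, hx⟩))
  set C := centralizer ({x} : Set G)
  intro t ht
  by_contra htA
  obtain ⟨y, hy, hyA⟩ : ∃ y ∈ C, y ∉ A := ⟨t, ht, htA⟩
  let S := A.subgroupOf C
  have hidx1 : ¬ p ∣ S.index := fun hd =>
    P.not_dvd_index (hd.trans ((index_dvd_of_le (show (P : Subgroup G).subgroupOf C ≤ S from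
      fun u hu => hPA hu)).trans (Dvd.intro _ (relIndex_mul_index hPC))))
  have hS : S = ⊤ := by
    by_contra hne
    obtain ⟨q, hq, hqd⟩ := Nat.exists_prime_and_dvd (n := S.index) (fun h1 => hne (index_eq_one.1 h1))
    haveI := Fact.mk hq
    have hqp : q ≠ p := fun e => hidx1 (e ▸ hqd)
    obtain ⟨R⟩ := (inferInstance : Nonempty (Sylow q C))
    have hRS : (R : Subgroup C) ≤ S := fun u hu => by
      obtain ⟨i, hi⟩ := IsPGroup.iff_orderOf.1 R.2 ⟨u, hu⟩
      refine mem_subgroupOf.2 (hpr u u.2 ?_)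
      rw [← Subgroup.orderOf_coe] at hi
      rw [show orderOf (u : G) = orderOf (⟨u, hu⟩ : (R : Subgroup C)).1 from
        (Subgroup.orderOf_coe u), hi]
      exact Nat.Coprime.pow_left i ((Nat.coprime_primes hq hp.out).2 hqp)
    exact R.not_dvd_index (hqd.trans (index_dvd_of_le hRS))
  exact hyA (subgroupOf_eq_top.1 hS hy)

/-- The normalizer of such a Sylow subgroup is the only maximal subgroup above the member. -/
theorem le_normalizer_of_member_le (hZ : center G = ⊥) {𝓐 : Finset (Subgroup G)} (h : IsNMC 𝓐)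
    (P : Sylow p G) (hab : IsMulCommutative ↥(P : Subgroup G)) {A : Subgroup G} (hA : A ∈ 𝓐)
    (hPA : (P : Subgroup G) ≤ A) (hP : (P : Subgroup G) ≠ ⊥) {M : Subgroup G} (hM : M ≠ ⊤) (hAM : A ≤ M) :
    M ≤ normalizer ((P : Subgroup G) : Set G) := by
  obtain ⟨x, hx, hx1⟩ := (bot_or_exists_ne_one _).resolve_left hP
  intro g hg
  by_contra hgN
  set x' := g * x * g⁻¹
  have hx'p : ∃ k, orderOf x' = p ^ k := by
    obtain ⟨k, hk⟩ := isPElement_of_mem hx
    exact ⟨k, by rw [show x' = MulAut.conj g x from rfl, MulEquiv.orderOf_eq, hk]⟩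
  have hC : centralizer ({x} : Set G) = A := centralizer_eq hZ h P hab hA hPA hx hx1
  obtain ⟨B, hB, hx'B⟩ := h.1.2 x'
  have hBM : B ≤ M := by
    intro b hb
    have h1 : Commute b x' :=
      mem_centralizer_singleton_iff.1 (nilpotent_le_centralizer P hab (h.2.2 B hB) hx'B hx'p hb)
    have h2 : g⁻¹ * b * g ∈ A := by
      rw [← hC, mem_centralizer_singleton_iff]
      calc g⁻¹ * b * g * x = g⁻¹ * (b * x') * g := by simp only [x']; group
        _ = g⁻¹ * (x' * b) * g := by rw [h1.eq]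
        _ = x * (g⁻¹ * b * g) := by simp only [x']; group
    have h3 := M.mul_mem (M.mul_mem hg (hAM h2)) (M.inv_mem hg)
    rwa [show g * (g⁻¹ * b * g) * g⁻¹ = b by group] at h3
  obtain rfl := eq_of_le h hM hB hA hBM hAM
  -- so `x'` commutes with `P` and the two centralizers agree
  have hx'P : x' ∈ (P : Subgroup G) := by
    obtain ⟨S, hSB, hSp, hmem⟩ := CfsgLib.FGSA.exists_pPart (h.2.2 B hB) p
    have hPS : (P : Subgroup G) ≤ S := fun y hy => hmem y (hPA hy) (isPElement_of_mem hy)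
    exact (P.3 hSp hPS) ▸ hmem x' hx'B hx'p
  have hx'1 : x' ≠ 1 := fun e => hx1 (conj_eq_one_iff.1 e)
  have hC' : centralizer ({x'} : Set G) = B := centralizer_eq hZ h P hab hA hPA hx'P hx'1
  apply hgN
  have hsub : ((g • P : Sylow p G) : Subgroup G) ≤ B := by
    rw [← hC']
    rintro _ ⟨y, hy, rfl⟩
    refine mem_centralizer_singleton_iff.2 ?_
    show g * y * g⁻¹ * (g * x * g⁻¹) = g * x * g⁻¹ * (g * y * g⁻¹)
    have h4 := congrArg Subtype.val (hab.is_comm.comm ⟨y, hy⟩ ⟨x, hx⟩)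
    calc _ = g * (y * x) * g⁻¹ := by group
      _ = g * (x * y) * g⁻¹ := by rw [show y * x = x * y from h4]
      _ = _ := by group
  obtain ⟨S, hSB, hSp, hmem⟩ := CfsgLib.FGSA.exists_pPart (h.2.2 B hB) p
  have hPS : (P : Subgroup G) ≤ S := fun y hy => hmem y (hPA hy) (isPElement_of_mem hy)
  have hSP : S = P := P.3 hSp hPS
  have hle : ((g • P : Sylow p G) : Subgroup G) ≤ P := fun y hy =>
    hSP ▸ hmem y (hsub hy) (isPElement_of_mem hy)
  refine Sylow.smul_eq_iff_mem_normalizer.1 (Sylow.ext ?_)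
  exact ((g • P).3 P.2 hle).symm

omit hp in
theorem inf_conj_coprime [Fact p.Prime] (hZ : center G = ⊥) {𝓐 : Finset (Subgroup G)} (h : IsNMC 𝓐)
    (P : Sylow p G) (hab : IsMulCommutative ↥(P : Subgroup G)) {A : Subgroup G} (hA : A ∈ 𝓐)
    (hPA : (P : Subgroup G) ≤ A) {g : G} (hg : g ∉ normalizer ((P : Subgroup G) : Set G)) :
    ¬ p ∣ Nat.card ↥(normalizer ((P : Subgroup G) : Set G) ⊓
      (normalizer ((P : Subgroup G) : Set G)).map (MulAut.conj g).toMonoidHom) := by
  intro hd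
  obtain ⟨u, hu⟩ := exists_prime_orderOf_dvd_card' p hd
  rw [← Subgroup.orderOf_coe] at hu
  have hu1 : (u : G) ≠ 1 := fun e => by
    rw [e, orderOf_one] at hu; exact (Fact.out : p.Prime).one_lt.ne hu
  have hzp : IsPGroup p (zpowers (u : G)) :=
    IsPGroup.of_card (n := 1) (by rw [Nat.card_zpowers, hu, pow_one])
  have hmemP : ∀ z ∈ normalizer ((P : Subgroup G) : Set G), IsPGroup p (zpowers z) → z ∈ (P : Subgroup G) :=
    fun z hz hzp => (P.3 (hzp.to_sup_of_normal_right' P.2 (zpowers_le.2 hz)) le_sup_right) ▸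
      mem_sup_left (mem_zpowers z)
  have huP : (u : G) ∈ (P : Subgroup G) := hmemP _ u.2.1 hzp
  obtain ⟨v, hv, hvu⟩ := u.2.2
  have hvP : v ∈ (P : Subgroup G) := hmemP v hv (IsPGroup.of_card (n := 1) (by
    rw [Nat.card_zpowers, pow_one, ← hu, ← hvu]
    exact (MulEquiv.orderOf_eq (MulAut.conj g) v).symm))
  have hC := centralizer_eq hZ h P hab hA hPA huP hu1
  obtain ⟨S, hSB, hSp, hmem⟩ := CfsgLib.FGSA.exists_pPart (h.2.2 A hA) p
  have hPS : (P : Subgroup G) ≤ S := fun y hy => hmem y (hPA hy) (isPElement_of_mem hy)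
  have hSP : S = P := P.3 hSp hPS
  apply hg
  have hsub : ((g • P : Sylow p G) : Subgroup G) ≤ P := by
    intro y hy
    refine hSP ▸ hmem y ?_ (isPElement_of_mem hy)
    obtain ⟨w, hw, rfl⟩ := hy
    rw [← hC, mem_centralizer_singleton_iff, ← hvu]
    show g * w * g⁻¹ * (g * v * g⁻¹) = g * v * g⁻¹ * (g * w * g⁻¹)
    have h4 := congrArg Subtype.val (hab.is_comm.comm ⟨w, hw⟩ ⟨v, hvP⟩)
    calc _ = g * (w * v) * g⁻¹ := by group
      _ = g * (v * w) * g⁻¹ := by rw [show w * v = v * w from h4]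
      _ = _ := by group
  refine Sylow.smul_eq_iff_mem_normalizer.1 (Sylow.ext ?_)
  exact ((g • P).3 P.2 hsub).symm

end CfsgLib.CoverSylow
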