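import Cfsg.Agent.Solvable.ExtraspecialIso
import Cfsg.Agent.CharP.ExtraCount
import Cfsg.Prelude.Def_CaseTheorems
import Mathlib.Data.Fintype.Prod

/-!
The two types of extraspecial 2-groups: number of square roots of 1, rank, and uniqueness.
-/

set_option autoImplicit false
set_option linter.style.haveILetI false
set_option linter.unusedSectionVars false

namespace CfsgLib.ExtraTwoType

open Subgroup CfsgLib.ExtraspecialIso
open scoped commutatorElement

/-- The number of square roots of the identity in `H`. -/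
noncomputable def cnt {E : Type*} [Group E] (H : Subgroup E) : ℕ :=
  Nat.card {h : H // (h : E) ^ 2 = 1}

variable {E : Type*} [Group E] [Finite E]

section
variable (hE : Cfsg.IsExtraspecial 2 E)
include hE

theorem cnt_add_eq {C : Subgroup E} {z : E} (hz : z ∈ center E) (hn : z ≠ 1) :
    cnt C + Nat.card {c : C // (c : E) ^ 2 = z} = Nat.card C := by
  classical
  have e : Nat.card {c : C // (c : E) ^ 2 = z} = Nat.card {c : C // ¬ (c : E) ^ 2 = 1} := by
    refine Nat.card_congr (Equiv.subtypeEquivRight fun c => ⟨fun h h1 => hn (h ▸ h1), fun h => ?_⟩)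
    exact (sq_cases hE hz hn (c : E)).resolve_left h
  rw [e, cnt, ← Nat.card_sum]
  exact Nat.card_congr (Equiv.sumCompl fun c : C => (c : E) ^ 2 = 1)

theorem cnt_pair {H : Subgroup E} {z x y : E} {a : ℕ} (hz : z ∈ center E) (hn : z ≠ 1)
    (P : Pair 2 H z x y a a) :
    (a = 0 → cnt H = Nat.card (rest H x y) + 2 * cnt (rest H x y)) ∧
      (a = 1 → cnt H + 2 * cnt (rest H x y) = 3 * Nat.card (rest H x y)) := by
  haveI : Fact (Nat.Prime 2) := ⟨Nat.prime_two⟩
  classical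
  have hne : ⁅x, y⁆ ≠ 1 := P.hc ▸ hn
  set C := rest H x y
  have hCH : C ≤ H := inf_le_left.trans inf_le_left
  let w : Bool × Bool → E := fun b => cond b.1 x 1 * cond b.2 y 1
  have hw : ∀ b, w b ∈ H := fun b => mul_mem
    (by cases b.1 <;> first | exact one_mem _ | exact P.hx)
    (by cases b.2 <;> first | exact one_mem _ | exact P.hy)
  let φ : C × (Bool × Bool) → H := fun q => ⟨q.1 * w q.2, mul_mem (hCH q.1.2) (hw q.2)⟩
  have hzC : ∀ c ∈ center E, c ∈ C := fun c hc => by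
    refine ⟨⟨?_, center_le_centralizer _ hc⟩, center_le_centralizer _ hc⟩
    obtain ⟨i, rfl⟩ := exists_zpow hE hz hn hc
    refine H.zpow_mem ?_ i
    rw [← P.hc, commutatorElement_def]
    exact mul_mem (mul_mem (mul_mem P.hx P.hy) (inv_mem P.hx)) (inv_mem P.hy)
  have hpar : ∀ (g : E) (i : ℤ), ∃ c ∈ center E, ∃ b : Bool, g ^ i = c * cond b g 1 := by
    intro g i
    have hg2 := CfsgLib.Extraspecial.pow_mem_center hE g
    obtain ⟨t, rfl | rfl⟩ := Int.even_or_odd' i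
    · exact ⟨(g ^ (2 : ℕ)) ^ t, zpow_mem hg2 t, false, by
        rw [zpow_mul]; simp [pow_two]⟩
    · exact ⟨(g ^ (2 : ℕ)) ^ t, zpow_mem hg2 t, true, by
        rw [zpow_add, zpow_mul]; simp [pow_two]⟩
  have hsurj : Function.Surjective φ := by
    rintro ⟨h, hh⟩
    obtain ⟨c, hc, i, j, rfl⟩ := exists_decomp hE P.hx P.hy hne hh
    obtain ⟨d, hd, b1, e1⟩ := hpar x i
    obtain ⟨d', hd', b2, e2⟩ := hpar y j
    refine ⟨(⟨c * d * d', mul_mem (mul_mem hc (hzC _ hd)) (hzC _ hd')⟩, (b1, b2)), Subtype.ext ?_⟩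
    show c * d * d' * (cond b1 x 1 * cond b2 y 1) = c * x ^ i * y ^ j
    rw [e1, e2]
    have := mem_center_iff.1 hd' (cond b1 x 1)
    calc c * d * d' * (cond b1 x 1 * cond b2 y 1) = c * d * (d' * cond b1 x 1) * cond b2 y 1 := by
          simp only [mul_assoc]
      _ = c * (d * cond b1 x 1) * (d' * cond b2 y 1) := by rw [← this]; simp only [mul_assoc]
  have hcard : Nat.card (C × (Bool × Bool)) = Nat.card H := by
    rw [card_rest hE P.hx P.hy hne, Nat.card_prod, Nat.card_prod, Nat.card_eq_fintype_card (α := Bool),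
      Fintype.card_bool]
    ring
  have hbij : Function.Bijective φ := (Nat.bijective_iff_surjective_and_card φ).mpr ⟨hsurj, hcard⟩
  have hsq : ∀ (c : C) (b : Bool × Bool), ((c : E) * w b) ^ 2 = (c : E) ^ 2 * w b ^ 2 := by
    intro c b
    have h1 : Commute (c : E) x := mem_centralizer_singleton_iff.1 c.2.1.2
    have h2 : Commute (c : E) y := mem_centralizer_singleton_iff.1 c.2.2
    exact ((show Commute (c : E) (cond b.1 x 1) by
      cases b.1 <;> first | exact Commute.one_right _ | exact h1).mul_right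
      (show Commute (c : E) (cond b.2 y 1) by
      cases b.2 <;> first | exact Commute.one_right _ | exact h2)).mul_pow 2
  have key : cnt H = ∑ b : Bool × Bool, Nat.card {c : C // (c : E) ^ 2 * w b ^ 2 = 1} := by
    rw [cnt, ← Nat.card_congr (Equiv.subtypeEquiv (Equiv.ofBijective φ hbij)
      (p := fun q : C × (Bool × Bool) => (q.1 : E) ^ 2 * w q.2 ^ 2 = 1) fun q => by
        rw [← hsq]; rfl), ← Nat.card_sigma]
    exact Nat.card_congr ⟨fun q => ⟨q.1.2, q.1.1, q.2⟩, fun q => ⟨(q.2.1, q.1), q.2.2⟩,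
      fun _ => rfl, fun _ => rfl⟩
  have hz2 : z * z = 1 := by rw [← pow_two, ← orderOf_eq hE hz hn, pow_orderOf_eq_one]
  have hzi : ∀ c : C, (c : E) ^ 2 * z = 1 ↔ (c : E) ^ 2 = z := fun c => by
    rw [mul_eq_one_iff_eq_inv, inv_eq_of_mul_eq_one_right hz2]
  have e1 : ∀ b, w b ^ 2 = 1 → Nat.card {c : C // (c : E) ^ 2 * w b ^ 2 = 1} = cnt C := fun b hb =>
    Nat.card_congr (Equiv.subtypeEquivRight fun c => by rw [hb, mul_one])
  have e2 : ∀ b, w b ^ 2 = z →
      Nat.card {c : C // (c : E) ^ 2 * w b ^ 2 = 1} = Nat.card {c : C // (c : E) ^ 2 = z} :=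
    fun b hb => Nat.card_congr (Equiv.subtypeEquivRight fun c => by rw [hb]; exact hzi c)
  have hadd := cnt_add_eq hE (C := C) hz hn
  have hxy := mul_sq hE P.hc
  rw [Fintype.sum_prod_type, Fintype.sum_bool, Fintype.sum_bool, Fintype.sum_bool] at key
  have hff : w (false, false) ^ 2 = 1 := by simp [w]
  have htf : w (true, false) = x := by simp [w]
  have hft : w (false, true) = y := by simp [w]
  have htt : w (true, true) = x * y := rfl
  constructor <;> intro ha <;> subst ha <;>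
    have hxp := P.hxp <;> have hyp := P.hyp
  · rw [pow_zero] at hxp hyp
    rw [e1 _ hff, e1 (true, false) (by rw [htf, hxp]), e1 (false, true) (by rw [hft, hyp]),
      e2 (true, true) (by rw [htt, hxy, hxp, hyp, one_mul, mul_one])] at key
    omega
  · rw [pow_one] at hxp hyp
    rw [e1 _ hff, e2 (true, false) (by rw [htf, hxp]), e2 (false, true) (by rw [hft, hyp]),
      e2 (true, true) (by rw [htt, hxy, hxp, hyp, hz2, mul_one])] at key
    omega

theorem cnt_of_card_two {H : Subgroup E} (h : Nat.card H = 2) : cnt H = 2 := by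
  rw [cnt, Nat.card_congr (Equiv.subtypeUnivEquiv fun c : H => ?_), h]
  have : c ^ Nat.card H = 1 := pow_card_eq_one'
  rw [h] at this
  exact_mod_cast congrArg Subtype.val this

/-- Order, count and a large elementary abelian subgroup. -/
theorem formula {z : E} (hz : z ∈ center E) (hn : z ≠ 1) :
    ∀ (m : ℕ) (H : Subgroup E), Nat.card H ≤ m → Frame H →
      ∃ k : ℕ, Nat.card H = 2 ^ (2 * k + 1) ∧
        ((cnt H = 2 ^ (2 * k) + 2 ^ k ∧ ∃ A : Subgroup E, A ≤ H ∧ (∀ a ∈ A, a ^ 2 = 1) ∧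
            (∀ a ∈ A, ∀ b ∈ A, a * b = b * a) ∧ Nat.card A = 2 ^ (k + 1)) ∨
          (1 ≤ k ∧ cnt H + 2 ^ k = 2 ^ (2 * k) ∧ ∃ A : Subgroup E, A ≤ H ∧ (∀ a ∈ A, a ^ 2 = 1) ∧
            (∀ a ∈ A, ∀ b ∈ A, a * b = b * a) ∧ Nat.card A = 2 ^ k)) := by
  haveI : Fact (Nat.Prime 2) := ⟨Nat.prime_two⟩
  have hcen : ∀ (H : Subgroup E), Frame H → center E ≤ H ∧ (∀ a ∈ center E, a ^ 2 = 1) ∧
      (∀ a ∈ center E, ∀ b ∈ center E, a * b = b * a) ∧ Nat.card (center E) = 2 :=
    fun H hH => ⟨hH.1, fun a ha => by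
      have := congrArg Subtype.val (pow_card_eq_one' (x := (⟨a, ha⟩ : center E)))
      rw [hE.2] at this
      exact this, fun a _ b hb => mem_center_iff.1 hb a, hE.2⟩
  intro m
  induction m with
  | zero => intro H h; exact absurd h (Nat.not_le.2 Nat.card_pos)
  | succ m ih =>
    intro H hm hH
    by_cases h1 : Nat.card H = 2
    · obtain ⟨c1, c2, c3, c4⟩ := hcen H hH
      exact ⟨0, by simpa using h1, Or.inl ⟨by rw [cnt_of_card_two hE h1]; rfl,
        center E, c1, c2, c3, by rw [c4]; rfl⟩⟩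
    obtain ⟨x, y, a, P, ha⟩ := exists_pair_two hE hH h1 hz hn
    have hne : ⁅x, y⁆ ≠ 1 := P.hc ▸ hn
    have hf := frame_rest hE hH P.hx P.hy hne
    have e := card_rest hE P.hx P.hy hne
    have hpos : 0 < Nat.card (rest H x y) := Nat.card_pos
    obtain ⟨k, hk, hcase⟩ := ih _ (by omega) hf
    obtain ⟨h0, h1'⟩ := cnt_pair hE hz hn P
    have hcardk : Nat.card H = 2 ^ (2 * (k + 1) + 1) := by
      rw [e, hk, show 2 * (k + 1) + 1 = 2 * k + 1 + 2 by ring, pow_add]; ring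
    refine ⟨k + 1, hcardk, ?_⟩
    rcases ha with rfl | ⟨rfl, h8⟩
    · have hcnt := h0 rfl
      have hxext : ∀ A : Subgroup E, A ≤ rest H x y → (∀ a ∈ A, a ^ 2 = 1) →
          (∀ a ∈ A, ∀ b ∈ A, a * b = b * a) → ∃ B : Subgroup E, B ≤ H ∧ (∀ a ∈ B, a ^ 2 = 1) ∧
            (∀ a ∈ B, ∀ b ∈ B, a * b = b * a) ∧ Nat.card B = Nat.card A * 2 := by
        intro A hA hA2 hAc
        have hAx : ∀ a ∈ A, Commute a x := fun a ha => mem_centralizer_singleton_iff.1 (hA ha).1.2
        have hx2 : x ^ 2 = 1 := by rw [P.hxp, pow_zero]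
        have hxA : x ∉ A := fun h => hne (commutatorElement_eq_one_iff_mul_comm.2
          (mem_centralizer_singleton_iff.1 (hA h).2))
        have hnorm : zpowers x ≤ normalizer (A : Set E) := zpowers_le.mpr
          (centralizer_le_normalizer _ (mem_centralizer_iff.mpr fun a ha => hAx a ha))
        have hxc : ∀ i j : ℤ, Commute (x ^ i) (x ^ j) := fun i j => (Commute.refl x).zpow_zpow i j
        refine ⟨zpowers x ⊔ A, sup_le (zpowers_le.mpr P.hx) (hA.trans (inf_le_left.trans inf_le_left)),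
          fun b hb => ?_, fun b hb c hc => ?_, ?_⟩
        · obtain ⟨_, ⟨i, rfl⟩, a, ha, rfl⟩ :=
            (CfsgLib.Solvable.mem_sup_of_le_normalizer hnorm).mp hb
          rw [((hAx a ha).zpow_right i).symm.mul_pow, hA2 a ha, mul_one, ← zpow_natCast, ← zpow_mul,
            mul_comm, zpow_mul, zpow_natCast, hx2, one_zpow]
        · obtain ⟨_, ⟨i, rfl⟩, a, ha, rfl⟩ :=
            (CfsgLib.Solvable.mem_sup_of_le_normalizer hnorm).mp hb
          obtain ⟨_, ⟨j, rfl⟩, a', ha', rfl⟩ :=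
            (CfsgLib.Solvable.mem_sup_of_le_normalizer hnorm).mp hc
          exact (((hxc i j).mul_right ((hAx a' ha').zpow_right i).symm).mul_left
            (((hAx a ha).zpow_right j).mul_right (show Commute a a' from hAc a ha a' ha'))).eq
        · rw [CfsgLib.Solvable.card_sup_of_disjoint hnorm, Nat.card_zpowers,
            orderOf_eq_prime hx2 (fun e => hxA (e ▸ one_mem A)), mul_comm]
          rw [eq_bot_iff]
          rintro g ⟨⟨i, rfl⟩, hg⟩
          obtain ⟨t, rfl | rfl⟩ := Int.even_or_odd' i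
          · simp [zpow_mul, hx2]
          · refine absurd ?_ hxA
            rw [SetLike.mem_coe] at hg
            simpa [zpow_add, zpow_mul, zpow_two, ← pow_two, hx2] using hg
      rcases hcase with ⟨hc, A, hA, hA2, hAc, hAcard⟩ | ⟨hk1, hc, A, hA, hA2, hAc, hAcard⟩
      · obtain ⟨B, hB, hB2, hBc, hBcard⟩ := hxext A hA hA2 hAc
        refine Or.inl ⟨?_, B, hB, hB2, hBc, by rw [hBcard, hAcard, ← pow_succ]⟩
        rw [hcnt, hc, hk, show 2 * (k + 1) = 2 * k + 2 by ring, pow_succ 2 (2 * k), pow_add 2 (2 * k) 2,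
          pow_succ 2 k]
        ring
      · obtain ⟨B, hB, hB2, hBc, hBcard⟩ := hxext A hA hA2 hAc
        refine Or.inr ⟨by omega, ?_, B, hB, hB2, hBc, by rw [hBcard, hAcard, ← pow_succ]⟩
        rw [hcnt, hk, show 2 * (k + 1) = 2 * k + 2 by ring, pow_succ 2 (2 * k), pow_add 2 (2 * k) 2,
          pow_succ 2 k, ← hc]
        ring
    · obtain rfl : k = 0 := by
        have : (2 : ℕ) ^ (2 * (k + 1) + 1) = 2 ^ 3 := by rw [← hcardk, h8]; rfl
        have := Nat.pow_right_injective le_rfl this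
        omega
      have hc1 := h1' rfl
      rw [cnt_of_card_two hE hk, hk] at hc1
      obtain ⟨c1, c2, c3, c4⟩ := hcen H hH
      exact Or.inr ⟨by omega, by norm_num; omega, center E, c1, c2, c3, by rw [c4]; rfl⟩

/-- Elementary abelian subgroups are small, and largest ones force the plus count. -/
theorem elementary_bound {n : ℕ} (hcard : Nat.card E = 2 ^ (2 * n + 1)) (A : Subgroup E)
    (hA2 : ∀ a ∈ A, a ^ 2 = 1) (hAc : ∀ a ∈ A, ∀ b ∈ A, a * b = b * a) :
    Nat.card A ≤ 2 ^ (n + 1) ∧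
      (Nat.card A = 2 ^ (n + 1) → 2 * cnt (⊤ : Subgroup E) = 2 ^ (2 * n + 1) + 2 ^ (n + 1)) := by
  haveI : Fact (Nat.Prime 2) := ⟨Nat.prime_two⟩
  classical
  set B := A ⊔ center E
  have hB : ∀ b ∈ B, ∃ a ∈ A, ∃ c ∈ center E, a * c = b := fun b hb => by
    obtain ⟨a, ha, c, hc, e⟩ := mem_sup_of_normal_right.mp hb
    exact ⟨a, ha, c, hc, e⟩
  have hB2 : ∀ b ∈ B, b ^ 2 = 1 := fun b hb => by
    obtain ⟨a, ha, c, hc, rfl⟩ := hB b hb
    have := congrArg Subtype.val (pow_card_eq_one' (x := (⟨c, hc⟩ : center E)))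
    rw [hE.2] at this
    rw [(show Commute a c from mem_center_iff.1 hc a).mul_pow, hA2 a ha, one_mul]
    exact this
  have hBc : ∀ a ∈ B, ∀ b ∈ B, Commute a b := fun a ha b hb => by
    obtain ⟨a₁, h1, c₁, k1, rfl⟩ := hB a ha
    obtain ⟨a₂, h2, c₂, k2, rfl⟩ := hB b hb
    exact ((show Commute a₁ a₂ from hAc a₁ h1 a₂ h2).mul_right (mem_center_iff.1 k2 a₁)).mul_left
      (mem_center_iff.1 k1 _).symm
  have hBC : B ≤ centralizer (B : Set E) := fun b hb => mem_centralizer_iff.2 fun a ha => hBc a ha b hb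
  have h := CfsgLib.ExtraCount.card_mul_card_centralizer_le hE B le_sup_right
  rw [hE.2, hcard, ← pow_succ', show 2 * n + 1 + 1 = (n + 1) + (n + 1) by ring, pow_add] at h
  have hBle : Nat.card B ≤ 2 ^ (n + 1) := by
    by_contra hlt
    have h2 := (Nat.mul_le_mul_left (Nat.card B)
      (Nat.card_le_card_of_injective _ (inclusion_injective hBC))).trans h
    have := Nat.mul_lt_mul_of_lt_of_lt (not_le.1 hlt) (not_le.1 hlt)
    omega
  have hAB : Nat.card A ≤ Nat.card B := Nat.card_le_card_of_injective _ (inclusion_injective le_sup_left)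
  refine ⟨hAB.trans hBle, fun heq => ?_⟩
  have hBcard : Nat.card B = 2 ^ (n + 1) := le_antisymm hBle (heq ▸ hAB)
  have hBeq : centralizer (B : Set E) = B := by
    refine (eq_of_le_of_card_ge hBC ?_).symm
    rw [hBcard] at h ⊢
    exact Nat.le_of_mul_le_mul_left h (pow_pos two_pos _)
  haveI hBn : B.Normal := ⟨fun b hb g => by
    have h1 : g * b * g⁻¹ = ⁅g, b⁆ * b := by simp [commutatorElement_def]
    exact h1 ▸ mul_mem (mem_sup_right (Extraspecial.commutator_mem_center hE g b)) hb⟩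
  obtain ⟨z, hz, hn⟩ := exists_gen hE
  have hexa : ∀ q : E ⧸ B, q ≠ 1 → ∃ a : B, ¬ Commute (q.out) (a : E) := by
    intro q hq
    by_contra hc
    push Not at hc
    refine hq ?_
    rw [← QuotientGroup.out_eq' q, QuotientGroup.eq_one_iff]
    refine hBeq.le ?_
    exact mem_centralizer_iff.2 fun a ha => (hc ⟨a, ha⟩).eq.symm
  choose av hav using hexa
  have hne : ∀ g : E, g ∉ B → ((g : E ⧸ B)) ≠ 1 := fun g hg e => hg ((QuotientGroup.eq_one_iff g).1 e)
  let t : ∀ g : E, g ∉ B → E := fun g hg => g * (av _ (hne g hg) : E)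
  have htB : ∀ g hg, t g hg ∉ B := fun g hg h' => hg (by
    simpa [t] using mul_mem h' (inv_mem (av _ (hne g hg)).2))
  have htt : ∀ g hg, t (t g hg) (htB g hg) = g := by
    intro g hg
    have e : ((t g hg : E) : E ⧸ B) = (g : E ⧸ B) := by
      simp [t]
    have e2 : av _ (hne _ (htB g hg)) = av _ (hne g hg) :=
      (fun q q' h h' (he : q = q') => by subst he; rfl :
        ∀ q q' (h : q ≠ 1) (h' : q' ≠ 1), q = q' → av q h = av q' h') _ _ _ _ e
    show t g hg * (av _ (hne _ (htB g hg)) : E) = g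
    rw [e2]
    show g * _ * _ = g
    rw [mul_assoc, ← pow_two, hB2 _ (av _ (hne g hg)).2, mul_one]
  have htsq : ∀ g hg, (t g hg) ^ 2 = 1 ↔ g ^ 2 ≠ 1 := by
    intro g hg
    have hnc : ¬ Commute g (av _ (hne g hg) : E) := fun hc => hav _ (hne g hg) (by
      have hmem : g⁻¹ * (QuotientGroup.mk g : E ⧸ B).out ∈ B :=
        QuotientGroup.eq.1 (QuotientGroup.out_eq' _).symm
      have := hc.mul_left (hBc _ hmem _ (av _ (hne g hg)).2)
      rwa [mul_inv_cancel_left] at this)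
    have hcm : ⁅g, (av _ (hne g hg) : E)⁆ = z := by
      obtain ⟨i, hi⟩ := exists_zpow hE hz hn (Extraspecial.commutator_mem_center hE g (av _ (hne g hg)))
      have hz2 : z ^ (2 : ℤ) = 1 := by
        rw [show (2 : ℤ) = ((2 : ℕ) : ℤ) from rfl, zpow_natCast, ← orderOf_eq hE hz hn,
          pow_orderOf_eq_one]
      obtain ⟨j, rfl | rfl⟩ := Int.even_or_odd' i
      · rw [zpow_mul, hz2, one_zpow] at hi
        exact absurd (commutatorElement_eq_one_iff_mul_comm.1 hi) hnc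
      · rwa [zpow_add, zpow_mul, hz2, one_zpow, one_mul, zpow_one] at hi
    show (g * _) ^ 2 = 1 ↔ _
    rw [mul_sq hE hcm, hB2 _ (av _ (hne g hg)).2, mul_one]
    have hzz : z * z = 1 := by rw [← pow_two, ← orderOf_eq hE hz hn, pow_orderOf_eq_one]
    rcases sq_cases hE hz hn g with h0 | h0 <;> rw [h0]
    · simp [hn]
    · simp [hn, hzz]
  -- count
  have hcnt : cnt (⊤ : Subgroup E) = Nat.card {g : E // g ^ 2 = 1} :=
    Nat.card_congr (Equiv.subtypeEquiv Subgroup.topEquiv.toEquiv fun g => Iff.rfl)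
  have hswap : Nat.card {g : {g : E // g ∉ B} // g.1 ^ 2 = 1} =
      Nat.card {g : {g : E // g ∉ B} // ¬ g.1 ^ 2 = 1} := by
    let σ : {g : E // g ∉ B} ≃ {g : E // g ∉ B} :=
      ⟨fun g => ⟨t g g.2, htB g g.2⟩, fun g => ⟨t g g.2, htB g g.2⟩,
        fun g => Subtype.ext (htt g g.2), fun g => Subtype.ext (htt g g.2)⟩
    refine Nat.card_congr (Equiv.subtypeEquiv σ fun g => ?_)
    show g.1 ^ 2 = 1 ↔ ¬ (t g g.2) ^ 2 = 1
    rw [htsq _ g.2, ne_eq, not_not]
  have hout : Nat.card {g : E // g ∉ B} + Nat.card B = Nat.card E := by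
    rw [add_comm, ← Nat.card_sum]
    exact Nat.card_congr (Equiv.sumCompl fun g : E => g ∈ B)
  have hsum : Nat.card {g : {g : E // g ∉ B} // g.1 ^ 2 = 1} +
      Nat.card {g : {g : E // g ∉ B} // ¬ g.1 ^ 2 = 1} = Nat.card {g : E // g ∉ B} := by
    rw [← Nat.card_sum]
    exact Nat.card_congr (Equiv.sumCompl fun g : {g : E // g ∉ B} => g.1 ^ 2 = 1)
  have hall : Nat.card {g : E // g ^ 2 = 1} =
      Nat.card B + Nat.card {g : {g : E // g ∉ B} // g.1 ^ 2 = 1} := by
    rw [← Nat.card_congr (Equiv.sumCompl fun g : {g : E // g ^ 2 = 1} => g.1 ∈ B), Nat.card_sum]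
    congr 1
    · exact Nat.card_congr ⟨fun g => ⟨g.1.1, g.2⟩, fun g => ⟨⟨g.1, hB2 g.1 g.2⟩, g.2⟩,
        fun _ => rfl, fun _ => rfl⟩
    · exact Nat.card_congr ⟨fun g => ⟨⟨g.1.1, g.2⟩, g.1.2⟩, fun g => ⟨⟨g.1.1, g.2⟩, g.1.2⟩,
        fun _ => rfl, fun _ => rfl⟩
  rw [hcnt, hall]
  omega

end

/-- Equal counts give isomorphic frames. -/
theorem iso_of_cnt {E2 : Type*} [Group E2] [Finite E2] (hE : Cfsg.IsExtraspecial 2 E)
    (hE2 : Cfsg.IsExtraspecial 2 E2) {z1 : E} {z2 : E2} (hz1 : z1 ∈ center E) (hz2 : z2 ∈ center E2)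
    (hn1 : z1 ≠ 1) (hn2 : z2 ≠ 1) :
    ∀ (m : ℕ) (H1 : Subgroup E) (H2 : Subgroup E2), Nat.card H1 ≤ m → Nat.card H1 = Nat.card H2 →
      cnt H1 = cnt H2 → Frame H1 → Frame H2 → Iso H1 H2 z1 z2 := by
  haveI : Fact (Nat.Prime 2) := ⟨Nat.prime_two⟩
  intro m
  induction m with
  | zero => intro H1 H2 h; exact absurd h (Nat.not_le.2 Nat.card_pos)
  | succ m ih =>
    intro H1 H2 hm h12 hcnt hH1 hH2
    by_cases h1 : Nat.card H1 = 2
    · exact Iso.base hE hE2 hH1 hH2 h1 (h12 ▸ h1) hz1 hz2 hn1 hn2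
    obtain ⟨x1, y1, a1, P1, ha1⟩ := exists_pair_two hE hH1 h1 hz1 hn1
    obtain ⟨x2, y2, a2, P2, ha2⟩ := exists_pair_two hE2 hH2 (h12 ▸ h1) hz2 hn2
    have hne1 : ⁅x1, y1⁆ ≠ 1 := P1.hc ▸ hn1
    have hne2 : ⁅x2, y2⁆ ≠ 1 := P2.hc ▸ hn2
    have f1 := frame_rest hE hH1 P1.hx P1.hy hne1
    have f2 := frame_rest hE2 hH2 P2.hx P2.hy hne2
    have e1 := card_rest hE P1.hx P1.hy hne1
    have e2 := card_rest hE2 P2.hx P2.hy hne2
    obtain ⟨p0, p1⟩ := cnt_pair hE hz1 hn1 P1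
    obtain ⟨q0, q1⟩ := cnt_pair hE2 hz2 hn2 P2
    have hpos : 0 < Nat.card (rest H1 x1 y1) := Nat.card_pos
    obtain ⟨rfl, hc⟩ : a1 = a2 ∧ cnt (rest H1 x1 y1) = cnt (rest H2 x2 y2) := by
      rcases ha1 with rfl | ⟨rfl, h8⟩ <;> rcases ha2 with rfl | ⟨rfl, h8'⟩
      · have := p0 rfl; have := q0 rfl; omega
      · have := p0 rfl; have := q1 rfl
        have := cnt_of_card_two hE2 (H := rest H2 x2 y2) (by omega)
        have := cnt_of_card_two hE (H := rest H1 x1 y1) (by omega)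
        omega
      · have := p1 rfl; have := q0 rfl
        have := cnt_of_card_two hE2 (H := rest H2 x2 y2) (by omega)
        have := cnt_of_card_two hE (H := rest H1 x1 y1) (by omega)
        omega
      · have := p1 rfl; have := q1 rfl; omega
    exact Iso.extend hE hE2 hn1 hn2 hH1 P1 P2 (ih _ _ (by omega) (by omega) hc f1 f2)

theorem cnt_top : cnt (⊤ : Subgroup E) = Nat.card {g : E // g ^ 2 = 1} :=
  Nat.card_congr (Equiv.subtypeEquiv Subgroup.topEquiv.toEquiv fun _ => Iff.rfl)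

theorem classify (hE : Cfsg.IsExtraspecial 2 E) {n : ℕ} (hcard : Nat.card E = 2 ^ (2 * n + 1)) :
    1 ≤ n ∧
    ((cnt (⊤ : Subgroup E) = 2 ^ (2 * n) + 2 ^ n ∧ Cfsg.PRankLE 2 (n + 1) E ∧ ¬ Cfsg.PRankLE 2 n E) ∨
      (cnt (⊤ : Subgroup E) + 2 ^ n = 2 ^ (2 * n) ∧ Cfsg.PRankLE 2 n E ∧ ¬ Cfsg.PRankLE 2 (n - 1) E)) := by
  haveI : Fact (Nat.Prime 2) := ⟨Nat.prime_two⟩
  obtain ⟨m, hm1, hm⟩ := CfsgLib.Extraspecial.card_eq hE
  obtain rfl : m = n := by
    have := Nat.pow_right_injective le_rfl (hm.symm.trans hcard)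
    omega
  obtain ⟨z, hz, hn⟩ := exists_gen hE
  obtain ⟨k, hk, hcase⟩ := formula hE hz hn _ ⊤ le_rfl frame_top
  rw [card_top, hcard] at hk
  obtain rfl : k = m := by
    have := Nat.pow_right_injective le_rfl hk
    omega
  refine ⟨hm1, ?_⟩
  have hup : ∀ A : Subgroup E, IsMulCommutative A → (∀ a ∈ A, a ^ 2 = 1) →
      Nat.card A ≤ 2 ^ (k + 1) ∧
      (Nat.card A = 2 ^ (k + 1) → 2 * cnt (⊤ : Subgroup E) = 2 ^ (2 * k + 1) + 2 ^ (k + 1)) :=
    fun A hA h2 => elementary_bound hE hcard A h2 fun a ha b hb =>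
      congrArg Subtype.val (hA.is_comm.comm ⟨a, ha⟩ ⟨b, hb⟩)
  rcases hcase with ⟨hc, A, -, hA2, hAc, hAcard⟩ | ⟨-, hc, A, -, hA2, hAc, hAcard⟩
  · refine Or.inl ⟨hc, fun B hB h2 => (hup B hB h2).1, fun h => ?_⟩
    have := h A ⟨⟨fun a b => Subtype.ext (hAc a a.2 b b.2)⟩⟩ hA2
    rw [hAcard, Nat.pow_le_pow_iff_right (by norm_num)] at this
    omega
  · refine Or.inr ⟨hc, fun B hB h2 => ?_, fun h => ?_⟩
    · obtain ⟨hle, heq⟩ := hup B hB h2
      obtain ⟨j, hj⟩ := IsPGroup.iff_card.1 (hE.1.1.to_subgroup B)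
      rw [hj, Nat.pow_le_pow_iff_right (by norm_num)] at hle ⊢
      by_contra hlt
      obtain rfl : j = k + 1 := by omega
      have := heq hj
      have : 0 < 2 ^ k := pow_pos two_pos k
      rw [pow_succ 2 (2 * k), pow_succ 2 k] at *
      omega
    · have := h A ⟨⟨fun a b => Subtype.ext (hAc a a.2 b b.2)⟩⟩ hA2
      rw [hAcard, Nat.pow_le_pow_iff_right (by norm_num)] at this
      omega

theorem equiv_of_cnt {E2 : Type*} [Group E2] [Finite E2] (hE : Cfsg.IsExtraspecial 2 E)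
    (hE2 : Cfsg.IsExtraspecial 2 E2) (hcard : Nat.card E = Nat.card E2)
    (hc : cnt (⊤ : Subgroup E) = cnt (⊤ : Subgroup E2)) : Nonempty (E ≃* E2) := by
  haveI : Fact (Nat.Prime 2) := ⟨Nat.prime_two⟩
  obtain ⟨z1, hz1, hn1⟩ := exists_gen hE
  obtain ⟨z2, hz2, hn2⟩ := exists_gen hE2
  exact equiv_of_iso (iso_of_cnt hE hE2 hz1 hz2 hn1 hn2 _ ⊤ ⊤ le_rfl
    (by rw [card_top, card_top, hcard]) hc frame_top frame_top)

end CfsgLib.ExtraTwoType
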