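import Cfsg.Agent.Solvable.Hall
import Mathlib.GroupTheory.Subgroup.Centralizer
import Mathlib.GroupTheory.PGroup

/-!
P. Hall's theorem on the number of Hall subgroups of a finite solvable group.
-/

set_option autoImplicit false
set_option linter.style.haveILetI false
set_option linter.unusedSectionVars false

namespace CfsgLib.HallCount

open Subgroup Pointwise CfsgLib.Solvable CfsgLib.SZ

universe u

section Fixed

variable {G : Type u} [Group G] [Finite G]

/-- The index of the fixed points in an abelian `q`-group acted on by a solvable `q'`-group is a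
product of powers of `q`, each congruent to `1` modulo a prime divisor of the acting group. -/
theorem index_factors (H : Subgroup G) [Group.IsSolvable H] (q : ℕ) [Fact q.Prime]
    (hH : ¬ q ∣ Nat.card H) (n : ℕ) :
    ∀ A : Subgroup G, Nat.card A = n → IsMulCommutative A → IsPGroup q A →
      H ≤ normalizer (A : Set G) →
      ∃ l : List ℕ, (A ⊓ centralizer (H : Set G)).relIndex A = l.prod ∧
        ∀ x ∈ l, (∃ e, x = q ^ e) ∧ x ∣ Nat.card A ∧
          ∃ r : ℕ, r.Prime ∧ r ∣ Nat.card H ∧ x ≡ 1 [MOD r] := by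
  induction n using Nat.strongRecOn with | ind n ih => ?_
  intro A hn hAc hAq hHA
  set F := A ⊓ centralizer (H : Set G) with hF
  by_cases hFA : F = A
  · exact ⟨[], by rw [hFA, relIndex_self]; rfl, by simp⟩
  have hFH : H ≤ normalizer (F : Set G) := by
    intro h hh
    refine mem_normalizer_iff.2 fun x => ?_
    have hA : ∀ y : G, y ∈ A ↔ h * y * h⁻¹ ∈ A := mem_normalizer_iff.1 (hHA hh)
    constructor
    · intro hx
      have e : h * x * h⁻¹ = x := by rw [mem_centralizer_iff.1 hx.2 h hh, mul_inv_cancel_right]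
      rw [e]; exact hx
    · intro hx
      have e : h⁻¹ * (h * x * h⁻¹) * h = h * x * h⁻¹ := by
        rw [mem_centralizer_iff.1 hx.2 h⁻¹ (H.inv_mem hh), inv_mul_cancel_right]
      rw [show h⁻¹ * (h * x * h⁻¹) * h = x by group] at e
      rwa [e]
  obtain ⟨B, hB⟩ := (Set.toFinite
    {B : Subgroup G | F ≤ B ∧ B < A ∧ H ≤ normalizer (B : Set G)}).exists_maximal
    ⟨F, le_rfl, lt_of_le_of_ne inf_le_left hFA, hFH⟩
  obtain ⟨⟨hFB, hBA, hHB⟩, hBmax⟩ := hB
  have hBc : IsMulCommutative B := ⟨⟨fun x y => Subtype.ext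
    (congrArg Subtype.val (hAc.is_comm.comm ⟨x, hBA.le x.2⟩ ⟨y, hBA.le y.2⟩) :)⟩⟩
  obtain ⟨l, hl, hl'⟩ := ih (Nat.card B) (hn ▸ card_lt_of_lt hBA) B rfl hBc (hAq.to_le hBA.le) hHB
  have hFeq : B ⊓ centralizer (H : Set G) = F :=
    le_antisymm (inf_le_inf_right _ hBA.le) (le_inf hFB inf_le_right)
  rw [hFeq] at hl
  refine ⟨B.relIndex A :: l, ?_, ?_⟩
  · rw [List.prod_cons, ← hl, mul_comm]
    exact (relIndex_mul_relIndex F B A hFB hBA.le).symm
  have hdvd : B.relIndex A ∣ Nat.card A := by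
    rw [← relIndex_bot_left, ← relIndex_mul_relIndex ⊥ B A bot_le hBA.le]
    exact Dvd.intro_left _ rfl
  intro x hx
  rcases List.mem_cons.1 hx with rfl | hx
  swap
  · obtain ⟨h1, h2, h3⟩ := hl' x hx
    exact ⟨h1, h2.trans (card_dvd_of_le hBA.le), h3⟩
  refine ⟨?_, hdvd, ?_⟩
  · obtain ⟨j, hj⟩ := IsPGroup.iff_card.1 hAq
    obtain ⟨e, -, he⟩ := (Nat.dvd_prime_pow (Fact.out : q.Prime)).1 (hj ▸ hdvd)
    exact ⟨e, he⟩
  letI : CommGroup A := { (inferInstance : Group A) with mul_comm := fun a b => hAc.is_comm.comm a b }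
  set B' := B.subgroupOf A with hB'
  let c : H →* MulAut A := A.normalizerMonoidHom.comp (inclusion hHA)
  have hc : ∀ (h : H) (a : A), ((c h a : A) : G) = (h : G) * a * (h : G)⁻¹ := fun h a => rfl
  have hcB : ∀ h : H, B'.map (c h).toMonoidHom = B' := fun h => by
    ext a
    constructor
    · rintro ⟨b, hb, rfl⟩
      exact (mem_normalizer_iff.1 (hHB h.2) _).1 hb
    · intro ha
      refine ⟨(c h).symm a, ?_, (c h).apply_symm_apply a⟩
      show ((c h).symm a : G) ∈ B
      refine (mem_normalizer_iff.1 (hHB h.2) _).2 ?_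
      rw [← hc, MulEquiv.apply_symm_apply]
      exact ha
  let ψ : H →* MulAut (A ⧸ B') :=
    { toFun := fun h => QuotientGroup.congr B' B' (c h) (hcB h)
      map_one' := MulEquiv.ext fun w => by
        induction w using QuotientGroup.induction_on with
        | H a =>
          show ((c 1 a : A) : A ⧸ B') = _
          rw [map_one]
          rfl
      map_mul' := fun g h => MulEquiv.ext fun w => by
        induction w using QuotientGroup.induction_on with
        | H a =>
          show ((c (g * h) a : A) : A ⧸ B') = _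
          rw [map_mul]
          rfl }
  have hψ : ∀ (h : H) (a : A), ψ h (a : A ⧸ B') = ((c h a : A) : A ⧸ B') := fun h a => rfl
  by_cases hK : ψ.ker = ⊤
  · exfalso
    refine hBA.ne (le_antisymm hBA.le fun a ha => ?_)
    classical
    haveI := Fintype.ofFinite H
    let b : A := ∏ h : H, c h ⟨a, ha⟩
    have hbF : (b : G) ∈ F := by
      refine ⟨b.2, mem_centralizer_iff.2 fun g hg => ?_⟩
      have e : c ⟨g, hg⟩ b = b := by
        rw [map_prod]
        exact Fintype.prod_equiv (Equiv.mulLeft (⟨g, hg⟩ : H)) _ _ fun h => by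
          show c _ (c h _) = c (_ * h) _
          rw [map_mul]
          rfl
      have := congrArg Subtype.val e
      rw [hc] at this
      exact mul_inv_eq_iff_eq_mul.1 this
    set w : A ⧸ B' := ((⟨a, ha⟩ : A) : A ⧸ B')
    have hw : w ^ Nat.card H = 1 := by
      have h1 : ((b : A) : A ⧸ B') = w ^ Nat.card H := by
        show QuotientGroup.mk' B' b = _
        rw [map_prod, Finset.prod_eq_pow_card (b := w) fun h _ => ?_, Finset.card_univ,
          Nat.card_eq_fintype_card]
        show ψ h w = w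
        rw [MonoidHom.mem_ker.1 (hK ▸ mem_top h : h ∈ ψ.ker)]
        rfl
      rw [← h1]
      exact (QuotientGroup.eq_one_iff b).2 (hFB hbF)
    have hw1 : w = 1 := by
      obtain ⟨k, hk⟩ := (hAq.to_quotient B') w
      have hcop : (Nat.card H).Coprime (q ^ k) :=
        (((Fact.out : q.Prime).coprime_iff_not_dvd.2 hH).symm).pow_right k
      have := Nat.dvd_gcd (orderOf_dvd_of_pow_eq_one hw) (orderOf_dvd_of_pow_eq_one hk)
      rw [hcop.gcd_eq_one, Nat.dvd_one, orderOf_eq_one_iff] at this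
      exact this
    exact (QuotientGroup.eq_one_iff (⟨a, ha⟩ : A)).1 hw1
  haveI : Nontrivial (H ⧸ ψ.ker) := QuotientGroup.nontrivial_iff.2 hK
  obtain ⟨R₀, hR₀n, hR₀1, -, -, -, r, hr, hRr, -⟩ :=
    exists_normal_elementary_le (N := (⊤ : Subgroup (H ⧸ ψ.ker))) top_ne_bot inferInstance
  haveI := hR₀n
  haveI := Fact.mk hr
  set R := R₀.comap (QuotientGroup.mk' ψ.ker)
  set X := R.map ψ
  have hX : IsPGroup r X := by
    rintro ⟨_, y, hy, rfl⟩
    refine ⟨1, Subtype.ext ?_⟩
    rw [pow_one, SubmonoidClass.coe_pow, OneMemClass.coe_one, ← map_pow, ← MonoidHom.mem_ker,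
      ← QuotientGroup.eq_one_iff, QuotientGroup.mk_pow]
    exact hRr _ hy
  have hrH : r ∣ Nat.card H := by
    obtain ⟨⟨w, hw⟩, hw1⟩ := R₀.bot_or_exists_ne_one.resolve_left hR₀1 |>
      fun ⟨w, hw, hw1⟩ => (⟨⟨w, hw⟩, hw1⟩ : ∃ w : R₀, (w : H ⧸ ψ.ker) ≠ 1)
    rw [← orderOf_eq_prime (hRr w hw) hw1]
    exact (orderOf_dvd_natCard w).trans (card_quotient_dvd_card ψ.ker)
  refine ⟨r, hr, hrH, ?_⟩
  have hmod := hX.card_modEq_card_fixedPoints (A ⧸ B')
  rw [show B.relIndex A = Nat.card (A ⧸ B') from rfl]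
  let Fw : Subgroup (A ⧸ B') :=
    { carrier := {w | ∀ x ∈ X, x w = w}
      mul_mem' := fun ha hb x hx => by rw [map_mul, ha x hx, hb x hx]
      one_mem' := fun x _ => map_one x
      inv_mem' := fun ha x hx => by rw [map_inv, ha x hx] }
  set B₁ := (Fw.comap (QuotientGroup.mk' B')).map A.subtype
  have hBB₁ : B ≤ B₁ := fun b hb => by
    refine ⟨⟨b, hBA.le hb⟩, fun x _ => ?_, rfl⟩
    rw [show QuotientGroup.mk' B' (⟨b, hBA.le hb⟩ : A) = 1 from (QuotientGroup.eq_one_iff _).2 hb]
    exact map_one x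
  have hH₁ : ∀ (h : H) (w : A ⧸ B'), w ∈ Fw → ψ h w ∈ Fw := by
    rintro h w hw _ ⟨y, hy, rfl⟩
    have h1 : h⁻¹ * y * h ∈ R := by
      simpa using (inferInstance : R.Normal).conj_mem y hy h⁻¹
    have := hw _ ⟨_, h1, rfl⟩
    conv_rhs => rw [← this]
    rw [← MulAut.mul_apply, ← MulAut.mul_apply, ← map_mul, ← map_mul]
    congr 2
    group
  have hHB₁ : H ≤ normalizer (B₁ : Set G) := by
    intro h hh
    have key : ∀ (g : G) (hg : g ∈ H) (x : G), x ∈ B₁ → g * x * g⁻¹ ∈ B₁ := by
      rintro g hg _ ⟨a, ha, rfl⟩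
      exact ⟨c ⟨g, hg⟩ a, hH₁ ⟨g, hg⟩ _ ha, rfl⟩
    refine mem_normalizer_iff.2 fun x => ⟨key h hh x, fun hx => ?_⟩
    have := key h⁻¹ (H.inv_mem hh) _ hx
    rwa [show h⁻¹ * (h * x * h⁻¹) * h⁻¹⁻¹ = x by group] at this
  have hFw : Fw = ⊥ := by
    rw [eq_bot_iff]
    intro w hw
    induction w using QuotientGroup.induction_on with
    | H a =>
      by_contra ha
      have hlt : ¬ B₁ < A := fun hlt => ha (by
        have := hBmax ⟨hFB.trans hBB₁, hlt, hHB₁⟩ hBB₁ (show (a : G) ∈ B₁ from ⟨a, hw, rfl⟩)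
        exact mem_bot.2 ((QuotientGroup.eq_one_iff a).2 this))
      have hB₁A : B₁ = A := (eq_or_lt_of_le (map_subtype_le _)).resolve_right hlt
      have hall : ∀ v : A ⧸ B', v ∈ Fw := by
        intro v
        induction v using QuotientGroup.induction_on with
        | H d =>
          obtain ⟨d', hd', e⟩ := hB₁A.ge d.2
          rw [Subtype.coe_inj.1 e] at hd'
          exact hd'
      refine hR₀1 (eq_bot_iff.2 fun v hv => ?_)
      induction v using QuotientGroup.induction_on with
      | H y =>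
        refine mem_bot.2 ((QuotientGroup.eq_one_iff y).2 ?_)
        exact MulEquiv.ext fun v => hall v _ ⟨y, hv, rfl⟩
  have hfix : Nat.card (MulAction.fixedPoints X (A ⧸ B')) = 1 := by
    rw [Nat.card_eq_one_iff_unique]
    refine ⟨⟨fun v w => ?_⟩, ⟨⟨1, fun x => map_one (x : MulAut (A ⧸ B'))⟩⟩⟩
    have hone : ∀ v : MulAction.fixedPoints X (A ⧸ B'), (v : A ⧸ B') = 1 := fun v =>
      mem_bot.1 (hFw ▸ (fun x hx => v.2 ⟨x, hx⟩ : (v : A ⧸ B') ∈ Fw))
    exact Subtype.ext ((hone v).trans (hone w).symm)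
  rwa [hfix] at hmod

end Fixed

/-- The property claimed for the number of Hall subgroups. -/
def Good (G : Type u) [Group G] (m c : ℕ) : Prop :=
  ∃ l : List ℕ, c = l.prod ∧ ∀ x ∈ l, (∃ q e : ℕ, q.Prime ∧ x = q ^ e) ∧
    (∃ K L : Subgroup G, K.Normal ∧ L.Normal ∧ K < L ∧
      (∀ M : Subgroup G, M.Normal → K ≤ M → M ≤ L → M = K ∨ M = L) ∧ x ∣ K.relIndex L) ∧
    ∃ q : ℕ, q.Prime ∧ q ∣ m ∧ x ≡ 1 [MOD q]

/-- Chief factors of a quotient give chief factors of the group. -/
theorem Good.lift {G : Type u} [Group G] {N : Subgroup G} [N.Normal] {m m' c : ℕ} (hm : m' ∣ m)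
    (h : Good (G ⧸ N) m' c) : Good G m c := by
  obtain ⟨l, hl, hl'⟩ := h
  refine ⟨l, hl, fun x hx => ?_⟩
  obtain ⟨h1, ⟨K, L, hK, hL, hKL, hmin, hdvd⟩, q, hq, hqm, hmod⟩ := hl' x hx
  set f := QuotientGroup.mk' N
  have hf : Function.Surjective f := QuotientGroup.mk'_surjective N
  refine ⟨h1, ⟨K.comap f, L.comap f, hK.comap f, hL.comap f,
    (comap_lt_comap_of_surjective hf).2 hKL, fun M hM hKM hML => ?_, ?_⟩, q, hq, hqm.trans hm, hmod⟩
  · have hN : f.ker ≤ M := (f.ker_le_comap K).trans hKM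
    have hMeq : (M.map f).comap f = M := comap_map_eq_self hN
    rcases hmin (M.map f) (hM.map f hf)
      (by rw [← map_comap_eq_self_of_surjective hf K]; exact map_mono hKM)
      (map_le_iff_le_comap.2 hML) with e | e
    · exact Or.inl (by rw [← hMeq, e])
    · exact Or.inr (by rw [← hMeq, e])
  · rwa [relIndex_comap, map_comap_eq_self_of_surjective hf]

theorem main (n : ℕ) : ∀ (G : Type u) [Group G] [Finite G] [Group.IsSolvable G], Nat.card G = n →
    ∀ a b : ℕ, Nat.card G = a * b → a.Coprime b → ∀ H : Subgroup G, Nat.card H = a →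
      Good G a (normalizer (H : Set G)).index := by
  induction n using Nat.strongRecOn with | ind n ih => ?_
  rintro G _ _ _ rfl a b hab hcop H hH
  rcases subsingleton_or_nontrivial G with hG | hG
  · exact ⟨[], by
      rw [List.prod_nil, index_eq_one, eq_top_iff]
      intro g _
      rw [Subsingleton.elim g 1]
      exact one_mem _, by simp⟩
  obtain ⟨N, hNn, hN1, -, hNc, hmin, q, hq, -, hNq⟩ :=
    exists_normal_elementary_le (N := (⊤ : Subgroup G)) top_ne_bot inferInstance
  haveI := hNn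
  haveI := Fact.mk hq
  set f := QuotientGroup.mk' N
  have hf : Function.Surjective f := QuotientGroup.mk'_surjective N
  have hker : f.ker = N := QuotientGroup.ker_mk' N
  obtain ⟨j, hj⟩ := IsPGroup.iff_card.1 hNq
  have hQ : Nat.card N * Nat.card (G ⧸ N) = Nat.card G := by
    rw [← index_eq_card, card_mul_index]
  have hsplit := card_sup_mul_card_inf (A := H) (K := N) le_normalizer_of_normal
  have hmap : Nat.card (H.map f) * Nat.card ↥(H ⊓ N) = Nat.card H := by
    rw [← relIndex_ker, hker, ← inf_relIndex_right, inf_comm, mul_comm, ← relIndex_bot_left,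
      ← relIndex_bot_left]
    exact relIndex_mul_relIndex ⊥ (H ⊓ N) H bot_le inf_le_left
  have hdvd : Nat.card ↥(H ⊓ N) ∣ Nat.card N := card_dvd_of_le inf_le_right
  by_cases hqa : q ∣ a
  · -- `N` lies in `H`
    have hNH : N ≤ H := by
      obtain ⟨t, ht⟩ := hdvd
      have hsd : Nat.card ↥(H ⊔ N) = a * t := by
        refine Nat.eq_of_mul_eq_mul_right (Nat.card_pos (α := ↥(H ⊓ N))) ?_
        rw [hsplit, hH, ht]
        ring
      have htb : t ∣ b := by
        have := card_subgroup_dvd_card (H ⊔ N)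
        rw [hsd, hab] at this
        exact Nat.dvd_of_mul_dvd_mul_left (hH ▸ Nat.card_pos) this
      have htq : t ∣ q ^ j := hj ▸ ⟨_, ht.trans (mul_comm _ _)⟩
      have hqb : (q ^ j).Coprime b := (hcop.coprime_dvd_left hqa).pow_left j
      have ht1 : t = 1 := Nat.eq_one_of_dvd_coprimes hqb htq htb
      rw [ht1, mul_one] at ht
      exact (eq_of_le_of_card_le inf_le_right ht.le).symm.le.trans inf_le_left
    have hX : (normalizer (H : Set G)) = (normalizer ((H.map f : Subgroup (G ⧸ N)) : Set (G ⧸ N))).comap f := by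
      have := comap_normalizer_eq_of_surjective (H.map f) hf
      rw [comap_map_eq_self (hker.le.trans hNH)] at this
      exact this.symm
    have hc : Nat.card (H.map f) * Nat.card N = a := by
      rw [inf_eq_right.2 hNH] at hmap
      rw [hmap, hH]
    have hg := ih _ (card_quotient_lt hN1) (G ⧸ N) rfl (Nat.card (H.map f)) b
      (Nat.eq_of_mul_eq_mul_left (Nat.card_pos (α := N)) (by rw [hQ, hab, ← hc]; ring))
      (hcop.coprime_dvd_left ⟨_, hc.symm⟩) (H.map f) rfl
    rw [hX, index_comap_of_surjective _ hf]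
    exact hg.lift ⟨_, hc.symm⟩
  · have hcopN : (Nat.card H).Coprime (Nat.card N) := by
      rw [hH, hj]
      exact ((hq.coprime_iff_not_dvd.2 hqa).symm).pow_right j
    have hinf : H ⊓ N = ⊥ := inf_eq_bot_of_coprime hcopN
    have hqb : q ^ j ∣ b := by
      have := hj ▸ card_subgroup_dvd_card N
      rw [hab] at this
      exact (((hq.coprime_iff_not_dvd.2 hqa)).pow_left j).dvd_of_dvd_mul_left this
    obtain ⟨b', hb'⟩ := hqb
    have hcard : Nat.card (H.map f) = a := by
      rw [hinf, card_bot, mul_one] at hmap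
      rw [hmap, hH]
    have hg := ih _ (card_quotient_lt hN1) (G ⧸ N) rfl a b'
      (Nat.eq_of_mul_eq_mul_left (Nat.card_pos (α := N)) (by rw [hQ, hab, hj, hb']; ring))
      (hcop.coprime_dvd_right ⟨q ^ j, by rw [hb']; ring⟩) (H.map f) hcard
    set NH := normalizer (H : Set G) with hNH
    have hX : (normalizer ((H.map f : Subgroup (G ⧸ N)) : Set (G ⧸ N))).comap f = NH ⊔ N := by
      rw [comap_normalizer_eq_of_surjective _ hf, comap_map_eq, hker]
      refine le_antisymm (fun g hg => ?_) (sup_le (fun g hg => ?_) (le_normalizer.trans' le_sup_right))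
      · have hle : MulAut.conj g • H ≤ H ⊔ N := fun x hx => by
          obtain ⟨h, hh, rfl⟩ := Subgroup.mem_map.1 hx
          exact (mem_normalizer_iff.1 hg h).1 (mem_sup_left hh)
        obtain ⟨k, hk, hkH⟩ := conj_le (A := H) (K := N) (U := MulAut.conj g • H)
          le_normalizer_of_normal hcopN (Or.inr inferInstance) hle (by rwa [card_conj_smul])
        rw [← mul_smul, ← map_mul] at hkH
        have heq : MulAut.conj (k * g) • H = H :=
          eq_of_le_of_card_le hkH (by rw [card_conj_smul])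
        have hkg : k * g ∈ NH := conjAct_pointwise_smul_iff.1 heq
        exact (show g = k⁻¹ * (k * g) by group) ▸
          mul_mem (mem_sup_right (N.inv_mem hk)) (mem_sup_left hkg)
      · refine mem_normalizer_iff.2 fun x => ?_
        have h1 : MulAut.conj g • (H ⊔ N) = H ⊔ N := by
          rw [smul_sup, conj_smul_normal g N, conj_smul_eq_iff_mem_normalizer.2 hg]
        conv_rhs => rw [← h1]
        exact (smul_mem_pointwise_smul_iff (a := MulAut.conj g)).symm
    have hrel : NH.index = (NH ⊔ N).index * (NH ⊓ N).relIndex N := by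
      rw [← relIndex_mul_index (le_sup_left : NH ≤ NH ⊔ N), mul_comm, inf_relIndex_right]
      congr 1
      have h1 := card_sup_mul_card_inf (A := NH) (K := N) le_normalizer_of_normal
      have h2 := relIndex_mul_relIndex ⊥ NH (NH ⊔ N) bot_le le_sup_left
      have h3 := relIndex_mul_relIndex ⊥ (NH ⊓ N) N bot_le inf_le_right
      rw [relIndex_bot_left, relIndex_bot_left] at h2 h3
      rw [← inf_relIndex_right NH N]
      rw [← h2, ← h3] at h1
      refine Nat.eq_of_mul_eq_mul_left (Nat.mul_pos (Nat.card_pos (α := NH))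
        (Nat.card_pos (α := ↥(NH ⊓ N)))) ?_
      rw [mul_right_comm, h1, mul_assoc]
    have hcent : NH ⊓ N = N ⊓ centralizer (H : Set G) := by
      refine le_antisymm (fun x hx => ⟨hx.2, mem_centralizer_iff.2 fun h hh => ?_⟩)
        (fun x hx => ⟨centralizer_le_normalizer _ hx.2, hx.1⟩)
      have h1 : x * h * x⁻¹ * h⁻¹ ∈ H ⊓ N := by
        refine ⟨mul_mem ((mem_normalizer_iff.1 hx.1 h).1 hh) (H.inv_mem hh), ?_⟩
        rw [show x * h * x⁻¹ * h⁻¹ = x * (h * x⁻¹ * h⁻¹) by group]
        exact mul_mem hx.2 (Normal.conj_mem inferInstance _ (N.inv_mem hx.2) h)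
      rw [hinf, mem_bot, mul_inv_eq_one, mul_inv_eq_iff_eq_mul] at h1
      exact h1.symm
    obtain ⟨l, hl, hl'⟩ := index_factors H q (hH ▸ hqa) _ N rfl hNc hNq le_normalizer_of_normal
    obtain ⟨l', hlq, hlq'⟩ := hg.lift (m := a) dvd_rfl
    refine ⟨l' ++ l, ?_, fun x hx => ?_⟩
    · rw [List.prod_append, ← hl, ← hlq, hrel, hcent, ← index_comap_of_surjective _ hf, hX]
    · rcases List.mem_append.1 hx with hx | hx
      · exact hlq' x hx
      · obtain ⟨⟨e, he⟩, hxN, r, hr, hrH, hmod⟩ := hl' x hx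
        exact ⟨⟨q, e, hq, he⟩, ⟨⊥, N, inferInstance, hNn, bot_lt_iff_ne_bot.2 hN1,
          fun M hM _ hMN => hmin M hM hMN, by rwa [relIndex_bot_left]⟩, r, hr, hH ▸ hrH, hmod⟩

theorem count {G : Type u} [Group G] [Finite G] [Group.IsSolvable G] {a b : ℕ}
    (hab : Nat.card G = a * b) (hcop : a.Coprime b) :
    Good G a (Nat.card {H : Subgroup G // Nat.card H = a}) := by
  obtain ⟨H, hH, -⟩ := CfsgLib.Hall.hall hab hcop
  have hcount : Nat.card {K : Subgroup G // Nat.card K = a} = (normalizer (H : Set G)).index := by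
    rw [index_eq_card]
    refine (Nat.card_congr (Equiv.ofBijective (fun x : G ⧸ normalizer (H : Set G) =>
      (⟨MulAut.conj x.out • H, by rw [card_conj_smul, hH]⟩ : {K : Subgroup G // Nat.card K = a}))
      ⟨fun x y h => ?_, fun K => ?_⟩)).symm
    · have h' : MulAut.conj x.out • H = MulAut.conj y.out • H := congrArg Subtype.val h
      rw [← QuotientGroup.out_eq' x, ← QuotientGroup.out_eq' y, QuotientGroup.eq]
      refine conj_smul_eq_iff_mem_normalizer.1 ?_
      rw [conj_smul_mul, ← h', conj_smul_inv_smul]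
    · obtain ⟨g, hg⟩ := CfsgLib.Hall.hall_conj hab hcop hH K.2
      refine ⟨(g : G ⧸ normalizer (H : Set G)), Subtype.ext ?_⟩
      have hmem : g⁻¹ * (g : G ⧸ normalizer (H : Set G)).out ∈ normalizer (H : Set G) :=
        QuotientGroup.eq.1 (QuotientGroup.out_eq' _).symm
      show MulAut.conj _ • H = K.1
      rw [← hg]
      conv_lhs => rw [← mul_inv_cancel_left g (g : G ⧸ normalizer (H : Set G)).out]
      rw [conj_smul_mul, conj_smul_eq_iff_mem_normalizer.2 hmem]
  rw [hcount]
  exact main _ G rfl a b hab hcop H hH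

end CfsgLib.HallCount
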