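import Mathlib.Algebra.Group.End
import Mathlib.GroupTheory.OrderOfElement
import Cfsg.Agent.FGSA.Higman

/-!
# Higman's bound in the shape of the statement, given nilpotency
-/

set_option autoImplicit false

namespace CfsgLib.Higman

theorem conclusion_of_nilpotent {G : Type*} [Group G] [Finite G] {p : ℕ} (hp : p.Prime)
    (α : MulAut G) (hα : orderOf α = p) (hfpf : ∀ g : G, α g = g → g = 1)
    (hnil : Group.IsNilpotent G) :
    (p = 2 → (⊤ : Subgroup G).lowerCentralSeries 1 = ⊥) ∧
      (p = 3 → (⊤ : Subgroup G).lowerCentralSeries 2 = ⊥) ∧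
      (⊤ : Subgroup G).lowerCentralSeries
        (Finset.sum (Finset.range (2 ^ (p - 1) - 1)) (fun i => (p - 1) ^ i)) = ⊥ := by
  haveI := Fact.mk hp
  obtain ⟨h3, hb⟩ := class_le (p := p) α (by rw [← hα]; exact pow_orderOf_eq_one α) hfpf hnil
  rw [LieFamily.bound_eq_sum] at hb
  refine ⟨fun h2 => ?_, h3, hb⟩
  subst h2
  simpa using hb

end CfsgLib.Higman
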