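import Cfsg.Agent.Signalizer.Basic
import Cfsg.Agent.Solvable.Basics
import Cfsg.Agent.LocalB.CharP
import Cfsg.Agent.CharP.FStarAction
import Mathlib.Algebra.Group.Subgroup.Pointwise
import Mathlib.GroupTheory.Nilpotent

/-!
An elementary abelian 2-group acting faithfully on a nilpotent group of odd order separates
independent subgroups of prime order.
-/

set_option autoImplicit false
set_option linter.style.haveILetI false

namespace CfsgLib.InvertedDecomp

open Subgroup
open scoped Pointwise

variable {G : Type*} [Group G] [Finite G]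

/-- An element centralizing the centralizer in a nilpotent group of an element of prime order
coprime to its own centralizes the nilpotent group. -/
theorem centralizes_of_pxq {H : Subgroup G} (hH : Group.IsNilpotent H) {x m : G} {r : ℕ} [hr : Fact r.Prime]
    (hxH : x ∈ H) (hx : orderOf x = r) (hcop : (orderOf m).Coprime (Nat.card H))
    (hmH : m ∈ normalizer (H : Set G)) (hmx : Commute x m)
    (hfix : ∀ y ∈ H, Commute x y → Commute m y) : ∀ y ∈ H, Commute m y := by
  haveI := hH
  suffices h : ∀ q : ℕ, q.Prime → ∀ Q : Sylow q H, ∀ y ∈ (Q : Subgroup H), Commute m (y : G) by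
    intro y hy
    have hle : (centralizer ({m} : Set G)).subgroupOf H = ⊤ := by
      apply Subgroup.eq_top_of_card_eq
      refine Nat.dvd_antisymm (card_subgroup_dvd_card _) ?_
      rw [Nat.dvd_iff_prime_pow_dvd_dvd]
      intro q k hq hd
      haveI : Fact q.Prime := ⟨hq⟩
      obtain ⟨Q⟩ := (inferInstance : Nonempty (Sylow q H))
      have hQ : (Q : Subgroup H) ≤ (centralizer ({m} : Set G)).subgroupOf H := fun z hz =>
        mem_centralizer_singleton_iff.2 (h q hq Q z hz).symm.eq
      exact (Q.pow_dvd_card_of_pow_dvd_card hd).trans (card_dvd_of_le hQ)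
    have hy' : (⟨y, hy⟩ : H) ∈ (centralizer ({m} : Set G)).subgroupOf H := hle ▸ mem_top _
    have hc : y * m = m * y := mem_centralizer_singleton_iff.1 hy'
    exact hc.symm
  intro q hq Q y hy
  haveI : Fact q.Prime := ⟨hq⟩
  by_cases hqr : q = r
  · subst hqr
    set R := (Q : Subgroup H).map H.subtype with hR
    have hxQ : (⟨x, hxH⟩ : H) ∈ (Q : Subgroup H) := by
      have hp : IsPGroup q (zpowers (⟨x, hxH⟩ : H)) := by
        apply IsPGroup.of_card (n := 1)
        rw [Nat.card_zpowers, ← orderOf_coe, hx, pow_one]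
      obtain ⟨Q', hQ'⟩ := hp.exists_le_sylow
      haveI : (Q : Subgroup H).Normal := inferInstance
      haveI := Sylow.unique_of_normal Q inferInstance
      rw [Subsingleton.elim Q Q']
      exact hQ' (mem_zpowers _)
    haveI : (Q : Subgroup H).Characteristic := Sylow.characteristic_of_normal Q inferInstance
    have hN : normalizer (H : Set G) ≤ normalizer (R : Set G) :=
      CfsgLib.FStarAct.normalizer_le_map_char H (Q : Subgroup H)
    refine (LocalB.commute_of_pxq (P := zpowers x) (R := R) (p := q) ?_ (Q.2.map _) ?_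
      (Nat.Coprime.coprime_dvd_right (hx ▸ H.orderOf_dvd_natCard hxH) hcop) (hN hmH) ?_ ?_ (y : G)
      (mem_map_of_mem _ hy))
    · apply IsPGroup.of_card (n := 1)
      rw [Nat.card_zpowers, hx, pow_one]
    · rw [zpowers_le]
      exact le_normalizer (mem_map.2 ⟨_, hxQ, rfl⟩)
    · intro π hπ
      obtain ⟨i, rfl⟩ := mem_zpowers_iff.1 hπ
      exact hmx.zpow_left i
    · intro z hz hzc
      exact hfix z (map_subtype_le _ hz) (hzc x (mem_zpowers x))
  · refine hfix y y.2 ?_
    have hxp : IsPGroup r (zpowers (⟨x, hxH⟩ : H)) := by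
      apply IsPGroup.of_card (n := 1)
      rw [Nat.card_zpowers, ← orderOf_coe, hx, pow_one]
    obtain ⟨R', hR'⟩ := hxp.exists_le_sylow
    have hdis : Disjoint (Q : Subgroup H) (R' : Subgroup H) :=
      IsPGroup.disjoint_of_ne q r hqr _ _ Q.2 R'.2
    have := Subgroup.commute_of_normal_of_disjoint _ _ inferInstance inferInstance hdis y ⟨x, hxH⟩ hy
      (hR' (mem_zpowers _))
    exact (congrArg Subtype.val this.eq).symm

/-- The recursion. -/
theorem decompose {I : Subgroup G} (hI : Cfsg.IsElementaryAbelian 2 I) :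
    ∀ k : ℕ, ∀ H M : Subgroup G, Group.IsNilpotent H → Odd (Nat.card H) → I ≤ normalizer (H : Set G) →
      M ≤ I → M ⊓ centralizer (H : Set G) = ⊥ → Nat.card M = 2 ^ k →
      ∃ f : Fin k → Subgroup G, (∀ i, (Nat.card ↥(f i)).Prime) ∧ (∀ i, f i ≤ H) ∧
        (∀ i, I ≤ normalizer ((f i) : Set G)) ∧
        (∀ i j, i ≠ j → ∀ a ∈ f i, ∀ b ∈ f j, a * b = b * a) ∧
        Nat.card ↥(⨆ i, f i) = ∏ i, Nat.card ↥(f i) ∧
        (∀ y ∈ (⨆ i, f i : Subgroup G), (∀ m ∈ M, Commute m y) → y = 1) ∧
        M ⊓ centralizer ((⨆ i, f i : Subgroup G) : Set G) = ⊥ := by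
  intro k
  induction k with
  | zero =>
    intro H M _ _ _ _ _ hcard
    rw [pow_zero] at hcard
    have hM : M = ⊥ := Subgroup.card_eq_one.1 hcard
    refine ⟨Fin.elim0, fun i => i.elim0, fun i => i.elim0, fun i => i.elim0, fun i => i.elim0, ?_, ?_, ?_⟩
    · simp
    · intro y hy _
      rw [iSup_of_empty, mem_bot] at hy
      exact hy
    · rw [hM, bot_inf_eq]
  | succ k ih =>
    intro H M hH hodd hIH hMI hfaith hcard
    haveI : Fact (Nat.Prime 2) := ⟨Nat.prime_two⟩
    haveI : Fact (Nat.Prime 2) := inferInstance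
    have hsqI : ∀ i ∈ I, i * i = 1 := fun i hi => by rw [← pow_two]; exact hI.2 i hi
    have hnle : ¬ H ≤ centralizer (M : Set G) := by
      intro h
      have h1 : M = ⊥ := by
        rw [← hfaith, eq_comm, inf_eq_left]
        exact le_centralizer_iff.1 h
      rw [h1, card_bot, pow_succ] at hcard
      omega
    obtain ⟨J, hJI, hidx, hJn⟩ : ∃ J : Subgroup G, J ≤ I ∧ J.relIndex I ≤ 2 ∧
        ¬ H ⊓ centralizer (J : Set G) ≤ centralizer (M : Set G) := by
      by_contra h
      simp only [not_exists, not_and, not_not] at h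
      exact hnle (Signalizer.le_of_forall_hyperplane (p := 2) hI hIH
        (fun hd => by rw [Nat.odd_iff] at hodd; omega) h)
    obtain ⟨c, ⟨hcH, hcJ⟩, hcM⟩ := SetLike.not_le_iff_exists.mp hJn
    obtain ⟨a, haM, hac⟩ : ∃ a ∈ M, a * c ≠ c * a := by
      by_contra h
      simp only [not_exists, not_and, not_not] at h
      exact hcM (mem_centralizer_iff.mpr h)
    have haI := hMI haM
    have haJ : a ∉ J := fun h => hac (mem_centralizer_iff.mp hcJ a h)
    have hsup : zpowers a ⊔ J = I := by
      refine eq_of_le_of_card_ge (sup_le (zpowers_le.2 haI) hJI) ?_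
      rw [Signalizer.card_sup_zpowers (p := 2) hI hJI haI haJ]
      calc Nat.card I = J.relIndex I * Nat.card J := by
            rw [← relIndex_bot_left I, ← relIndex_bot_left J, mul_comm,
              relIndex_mul_relIndex _ _ _ bot_le hJI]
        _ ≤ _ := Nat.mul_le_mul_right _ hidx
    have ha2 := hsqI a haI
    have hai : a⁻¹ = a := inv_eq_of_mul_eq_one_right ha2
    have hcomI : ∀ i ∈ I, ∀ j ∈ I, i * j = j * i := fun i hi j hj => by
      have := hI.1
      exact congrArg Subtype.val (mul_comm' (⟨i, hi⟩ : I) ⟨j, hj⟩)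
    have hcover : ∀ i ∈ I, i ∈ J ∨ a * i ∈ J := by
      intro i hi
      have hn : zpowers a ≤ normalizer (J : Set G) := by
        rw [zpowers_le, mem_normalizer_iff]
        intro b
        constructor
        · intro hb; rwa [hcomI a haI b (hJI hb), mul_inv_cancel_right]
        · intro hb
          have hbI : b ∈ I := by
            have := mul_mem (mul_mem (inv_mem haI) (hJI hb)) haI
            simpa [mul_assoc] using this
          rwa [hcomI a haI b hbI, mul_inv_cancel_right] at hb
      rw [← hsup] at hi
      have hi' : i ∈ ((zpowers a : Subgroup G) : Set G) * (J : Set G) := by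
        rw [← Subgroup.coe_mul_of_left_le_normalizer_right _ _ hn]; exact hi
      obtain ⟨z, hz, j, hj, rfl⟩ := Set.mem_mul.1 hi'
      obtain ⟨l, rfl⟩ := mem_zpowers_iff.1 hz
      rcases Int.even_or_odd l with ⟨u, rfl⟩ | ⟨u, rfl⟩
      · left
        rw [← two_mul, zpow_mul, show a ^ (2 : ℤ) = 1 by rw [zpow_two, ha2], one_zpow, one_mul]
        exact hj
      · right
        rw [zpow_add, zpow_mul, show a ^ (2 : ℤ) = 1 by rw [zpow_two, ha2], one_zpow, one_mul, zpow_one,
          ← mul_assoc, ha2, one_mul]
        exact hj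
    set d := c⁻¹ * (a * c * a⁻¹) with hd
    have hdH : d ∈ H := mul_mem (inv_mem hcH) ((mem_normalizer_iff.1 (hIH haI) c).1 hcH)
    have hd1 : d ≠ 1 := fun e => hac (by
      rw [hd, inv_mul_eq_one] at e
      exact (eq_mul_inv_iff_mul_eq.1 e).symm)
    have hdinv : a * d * a⁻¹ = d⁻¹ := by
      calc a * d * a⁻¹ = a * c⁻¹ * a⁻¹ * ((a * a) * c * (a * a)⁻¹) := by rw [hd]; group
        _ = a * c⁻¹ * a⁻¹ * c := by rw [ha2]; group
        _ = d⁻¹ := by rw [hd]; group
    have hdJ : ∀ j ∈ J, Commute j d := fun j hj => by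
      have h1 : Commute j c := mem_centralizer_iff.mp hcJ j hj
      have h2 : Commute j a := hcomI j (hJI hj) a haI
      exact (h1.inv_right).mul_right ((h2.mul_right h1).mul_right h2.inv_right)
    have hod : 1 < orderOf d := by
      have := orderOf_pos d
      have : orderOf d ≠ 1 := fun e => hd1 (orderOf_eq_one_iff.1 e)
      omega
    set r := (orderOf d).minFac with hr
    haveI : Fact r.Prime := ⟨Nat.minFac_prime (by omega)⟩
    set x := d ^ (orderOf d / r) with hx
    have hxr : orderOf x = r := by
      rw [hx, orderOf_pow_of_dvd (Nat.div_pos (Nat.minFac_le (orderOf_pos d)) (Nat.minFac_pos _)).ne'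
        (Nat.div_dvd_of_dvd (Nat.minFac_dvd _)), Nat.div_div_self (Nat.minFac_dvd _) (orderOf_pos d).ne']
    have hxH : x ∈ H := pow_mem hdH _
    have hxinv : a * x * a⁻¹ = x⁻¹ := by rw [hx, ← conj_pow, hdinv, inv_pow]
    have hxJ : ∀ j ∈ J, Commute j x := fun j hj => (hdJ j hj).pow_right _
    have hxnc : ¬ Commute a x := by
      intro h
      rw [h.eq, mul_inv_cancel_right] at hxinv
      have h2 : x ^ 2 = 1 := by rw [pow_two]; nth_rewrite 1 [hxinv]; exact inv_mul_cancel x
      have h3 : r ∣ 2 := hxr ▸ orderOf_dvd_of_pow_eq_one h2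
      have h4 : r ∣ Nat.card H := hxr ▸ H.orderOf_dvd_natCard hxH
      rw [(Nat.prime_dvd_prime_iff_eq Fact.out Nat.prime_two).1 h3] at h4
      rw [Nat.odd_iff] at hodd
      omega
    have hIx : I ≤ normalizer ((zpowers x : Subgroup G) : Set G) := by
      rw [← hsup, sup_le_iff]
      constructor
      · rw [zpowers_le, mem_normalizer_iff_map_conj_eq, MonoidHom.map_zpowers]
        show zpowers (a * x * a⁻¹) = zpowers x
        rw [hxinv, zpowers_inv]
      · intro j hj
        rw [mem_normalizer_iff_map_conj_eq, MonoidHom.map_zpowers]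
        show zpowers (j * x * j⁻¹) = zpowers x
        rw [(hxJ j hj).eq, mul_inv_cancel_right]
    set H' := H ⊓ centralizer ({x} : Set G) with hH'
    set M' := M ⊓ J with hM'
    have hH'n : Group.IsNilpotent H' := by
      haveI := hH
      exact Group.nilpotent_of_mulEquiv (subgroupOfEquivOfLe (inf_le_left : H' ≤ H))
    have hH'o : Odd (Nat.card H') := hodd.of_dvd_nat (card_dvd_of_le inf_le_left)
    have hI' : I ≤ normalizer (H' : Set G) := fun i hi => by
      rw [mem_normalizer_iff]
      intro y
      have hyx : Commute y x ↔ Commute (i * y * i⁻¹) x := by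
        have hc : Commute (i * y * i⁻¹) (i * x * i⁻¹) ↔ Commute y x := by
          constructor
          · intro h
            have := h.map (MulAut.conj i⁻¹).toMonoidHom
            simpa [mul_assoc] using this
          · intro h
            exact h.map (MulAut.conj i).toMonoidHom
        rw [← hc]
        rcases hcover i hi with hj | hj
        · rw [(hxJ i hj).eq, mul_inv_cancel_right]
        · have : i * x * i⁻¹ = x⁻¹ := by
            rw [show i * x * i⁻¹ = a⁻¹ * ((a * i) * x * (a * i)⁻¹) * a by group,
              (hxJ _ hj).eq, mul_inv_cancel_right, hai]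
            nth_rewrite 2 [← hai]
            exact hxinv
          rw [this, Commute.inv_right_iff]
      simp only [hH', Subgroup.mem_inf, mem_centralizer_singleton_iff]
      exact and_congr (mem_normalizer_iff.1 (hIH hi) y) hyx
    have hsupM : zpowers a ⊔ M' = M := by
      refine le_antisymm (sup_le (zpowers_le.2 haM) inf_le_left) fun m hm => ?_
      rcases hcover m (hMI hm) with h | h
      · exact mem_sup_right ⟨hm, h⟩
      · rw [show m = a * (a * m) by rw [← mul_assoc, ha2, one_mul]]
        exact mul_mem_sup (mem_zpowers a) ⟨mul_mem haM hm, h⟩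
    have hM'card : Nat.card M' = 2 ^ k := by
      have := Signalizer.card_sup_zpowers (p := 2) hI (inf_le_left.trans hMI : M' ≤ I) haI
        (fun h => haJ h.2)
      rw [hsupM, hcard, pow_succ'] at this
      try rw [hM'] at this
      try rw [hM']
      omega
    have hfaith' : M' ⊓ centralizer (H' : Set G) = ⊥ := by
      rw [eq_bot_iff]
      rintro m ⟨⟨hmM, hmJ⟩, hmc⟩
      rw [← hfaith]
      refine ⟨hmM, mem_centralizer_iff.2 fun y hy => ?_⟩
      refine (centralizes_of_pxq hH hxH hxr ?_ (hIH (hMI hmM)) (hxJ m hmJ).symm ?_ y hy).symm.eq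
      · refine Nat.Coprime.coprime_dvd_left (orderOf_dvd_of_pow_eq_one (hI.2 m (hMI hmM))) ?_
        exact (Nat.prime_two.coprime_iff_not_dvd).2 (fun hd => by rw [Nat.odd_iff] at hodd; omega)
      · intro z hz hzx
        exact (mem_centralizer_iff.1 hmc z ⟨hz, mem_centralizer_singleton_iff.2 hzx.symm.eq⟩ : _).symm
    obtain ⟨f, hp, hle, hnorm, hcom, hcardf, hfix, hcent⟩ :=
      ih H' M' hH'n hH'o hI' (inf_le_left.trans hMI) hfaith' hM'card
    set A := ⨆ i, f i with hA
    have hAH : A ≤ H' := iSup_le hle
    have hAx : ∀ y ∈ A, Commute x y := fun y hy =>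
      Commute.symm (mem_centralizer_singleton_iff.1 (hAH hy).2)
    have hxN : zpowers x ≤ normalizer (A : Set G) := by
      rw [zpowers_le]
      rw [mem_normalizer_iff]
      intro y
      constructor
      · intro hy; rwa [(hAx y hy).eq, mul_inv_cancel_right]
      · intro hy
        have := hAx _ hy
        have e : y = x⁻¹ * (x * y * x⁻¹) * x := by group
        rw [e, mul_assoc, ← this.eq, ← mul_assoc, inv_mul_cancel, one_mul]
        exact hy
    have hpowfix : ∀ u ∈ zpowers x, ∀ m ∈ M', Commute m u := fun u hu m hm => by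
      obtain ⟨l, rfl⟩ := mem_zpowers_iff.1 hu
      exact (hxJ m hm.2).zpow_right l
    have hdis : zpowers x ⊓ A = ⊥ := by
      rw [eq_bot_iff]
      rintro y ⟨hy, hyA⟩
      exact hfix y hyA (hpowfix y hy)
    have hsupA : (⨆ i, (Fin.cons (zpowers x) f : Fin (k + 1) → Subgroup G) i) = zpowers x ⊔ A := by
      refine le_antisymm (iSup_le fun i => ?_) (sup_le ?_ (iSup_le fun i => ?_))
      · refine Fin.cases ?_ (fun i => ?_) i
        · rw [Fin.cons_zero]; exact le_sup_left
        · rw [Fin.cons_succ]; exact (le_iSup f i).trans le_sup_right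
      · exact le_iSup_of_le 0 (by rw [Fin.cons_zero])
      · exact le_iSup_of_le i.succ (by rw [Fin.cons_succ])
    refine ⟨Fin.cons (zpowers x) f, ?_, ?_, ?_, ?_, ?_, ?_, ?_⟩
    · intro i
      refine Fin.cases ?_ (fun i => ?_) i
      · rw [Fin.cons_zero, Nat.card_zpowers, hxr]; exact Fact.out
      · rw [Fin.cons_succ]; exact hp i
    · intro i
      refine Fin.cases ?_ (fun i => ?_) i
      · rw [Fin.cons_zero, zpowers_le]; exact hxH
      · rw [Fin.cons_succ]; exact (hle i).trans inf_le_left
    · intro i
      refine Fin.cases ?_ (fun i => ?_) i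
      · rw [Fin.cons_zero]; exact hIx
      · rw [Fin.cons_succ]; exact hnorm i
    · intro i j hij
      have key : ∀ u ∈ zpowers x, ∀ b ∈ A, u * b = b * u := fun u hu b hb => by
        obtain ⟨l, rfl⟩ := mem_zpowers_iff.1 hu
        exact ((hAx b hb).zpow_left l).eq
      induction i using Fin.cases with
      | zero =>
        induction j using Fin.cases with
        | zero => exact absurd rfl hij
        | succ j =>
          rw [Fin.cons_zero, Fin.cons_succ]
          exact fun u hu b hb => key u hu b (le_iSup f j hb)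
      | succ i =>
        induction j using Fin.cases with
        | zero =>
          rw [Fin.cons_zero, Fin.cons_succ]
          exact fun b hb u hu => (key u hu b (le_iSup f i hb)).symm
        | succ j =>
          rw [Fin.cons_succ, Fin.cons_succ]
          exact hcom i j (fun e => hij (by rw [e]))
    · rw [hsupA, Solvable.card_sup_of_disjoint hxN hdis, Fin.prod_univ_succ, hcardf]
      simp [Fin.cons_zero, Fin.cons_succ]
    · intro y hy hym
      rw [hsupA] at hy
      have hy' : y ∈ ((zpowers x : Subgroup G) : Set G) * (A : Set G) := by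
        rw [← Subgroup.coe_mul_of_left_le_normalizer_right _ _ hxN]; exact hy
      obtain ⟨u, hu, v, hv, rfl⟩ := Set.mem_mul.1 hy'
      have hv1 : v = 1 := hfix v hv fun m hm => by
        have h1 : Commute m (u * v) := hym m hm.1
        have h2 : Commute m u := hpowfix u hu m hm
        simpa using h2.inv_right.mul_right h1
      rw [hv1, mul_one] at hym ⊢
      by_contra hu1
      apply hxnc
      have hz : zpowers u = zpowers x := by
        refine eq_of_le_of_card_ge (zpowers_le.2 hu) ?_
        have hd : orderOf u ∣ r := by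
          rw [← hxr, ← Nat.card_zpowers x]
          exact (zpowers x).orderOf_dvd_natCard hu
        rcases (Nat.dvd_prime Fact.out).1 hd with h | h
        · exact absurd (orderOf_eq_one_iff.1 h) hu1
        · rw [Nat.card_zpowers, Nat.card_zpowers, hxr, h]
      obtain ⟨l, hl⟩ := mem_zpowers_iff.1 (hz ▸ mem_zpowers x : x ∈ zpowers u)
      rw [← hl]
      exact (hym a haM).zpow_right l
    · rw [hsupA, eq_bot_iff]
      rintro m ⟨hm, hmc⟩
      change m ∈ centralizer _ at hmc
      rw [mem_centralizer_iff] at hmc
      have hmx : Commute x m := hmc x (mem_sup_left (mem_zpowers x))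
      rcases hcover m (hMI hm) with h | h
      · rw [← hcent]
        exact ⟨⟨hm, h⟩, mem_centralizer_iff.2 fun y hy => hmc y (mem_sup_right hy)⟩
      · exfalso
        apply hxnc
        have h1 : Commute (a * m) x := hxJ _ h
        have : a = a * m * m⁻¹ := by group
        rw [this]
        exact h1.mul_left hmx.symm.inv_left

end CfsgLib.InvertedDecomp
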