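import Cfsg.Agent.FGSA.ThompsonNil
import Mathlib.GroupTheory.SemidirectProduct

/-!
Kegel: a finite group with a splitting automorphism of prime order is nilpotent.
-/

set_option autoImplicit false
set_option linter.style.haveILetI false

namespace CfsgLib.KegelSplit

open Subgroup
open scoped Pointwise

universe u

/-- The splitting condition. -/
def IsSplitting {G : Type u} [Group G] (c : MulAut G) (p : ℕ) : Prop :=
  ∀ x : G, ((List.range p).map fun i : ℕ => (c ^ i) x).prod = 1

variable {G : Type u} [Group G]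

theorem IsSplitting.restrict [Finite G] {c : MulAut G} {p : ℕ} (h : IsSplitting c p)
    (H : Subgroup G) (hH : ∀ x ∈ H, c x ∈ H) :
    IsSplitting (ThompsonNil.restrict c H hH) p := by
  intro x
  apply H.subtype_injective
  rw [map_list_prod, List.map_map, map_one]
  rw [← h (x : G)]
  congr 1
  exact List.map_congr_left fun i _ => ThompsonNil.restrict_pow c H hH i x

theorem congr_pow {V : Subgroup G} [V.Normal] (c : MulAut G) (hcV : V.map c.toMonoidHom = V)
    (i : ℕ) (g : G) :
    (QuotientGroup.congr V V c hcV ^ i) (g : G ⧸ V) = ((c ^ i) g : G) := by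
  induction i generalizing g with
  | zero => simp
  | succ i ihi =>
    rw [pow_succ', pow_succ', MulAut.mul_apply, MulAut.mul_apply, ihi]
    rfl

theorem IsSplitting.quotient {c : MulAut G} {p : ℕ} (h : IsSplitting c p) {V : Subgroup G}
    [V.Normal] (hcV : V.map c.toMonoidHom = V) :
    IsSplitting (QuotientGroup.congr V V c hcV) p := by
  intro x
  induction x using QuotientGroup.induction_on with
  | _ g =>
    have := congrArg (QuotientGroup.mk' V) (h g)
    rw [map_list_prod, List.map_map, map_one] at this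
    rw [← this]
    congr 1
    exact List.map_congr_left fun i _ => congr_pow c hcV i g

variable [Finite G]

/-- A minimal invariant abelian normal subgroup of a group with a splitting automorphism of prime
order is central as soon as the acting quotient is a `r'`-group. -/
theorem eq_bot_of_fixed_trivial {c : MulAut G} {p : ℕ} (hp : p.Prime) (hc : c ^ p = 1)
    (h : IsSplitting c p) (V : Subgroup G) [V.Normal] (hVc : ∀ x ∈ V, c x ∈ V)
    (hVcomm : ∀ a ∈ V, ∀ b ∈ V, a * b = b * a)
    (hfix : ∀ v ∈ V, (∀ g : G, g * v = v * g) → v = 1)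
    (hcop : (Nat.card (MulAut.conjNormal (H := V)).range).Coprime (Nat.card V)) :
    V = ⊥ := by
  classical
  letI : CommGroup V :=
    { (inferInstance : Group V) with mul_comm := fun a b => Subtype.ext (hVcomm a a.2 b b.2) }
  let φ : G →* MulAut V := MulAut.conjNormal
  let s : MulAut V := ThompsonNil.restrict c V hVc
  let A := Subgroup.zpowers c
  let a0 : A := ⟨c, mem_zpowers c⟩
  let θ : A →* MulAut G := A.subtype
  have ha0 : a0 ^ p = 1 := Subtype.ext (by rw [Subgroup.coe_pow]; exact hc)
  -- powers of an element outside the group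
  have hpow : ∀ (x : G) (i : ℕ), (⟨x, a0⟩ : G ⋊[θ] A) ^ i =
      ⟨((List.range i).map fun j : ℕ => (c ^ j) x).prod, a0 ^ i⟩ := by
    intro x i
    induction i with
    | zero => rfl
    | succ i ih =>
      rw [pow_succ, ih, SemidirectProduct.ext_iff]
      refine ⟨?_, (pow_succ a0 i).symm⟩
      rw [SemidirectProduct.mul_left, List.range_succ, List.map_append, List.prod_append]
      simp [θ, a0, Subgroup.coe_pow]
  have hyp : ∀ x : G, (⟨x, a0⟩ : G ⋊[θ] A) ^ p = 1 := fun x => by rw [hpow, h, ha0]; rfl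
  have hconj : ∀ (x : G) (v : V),
      SemidirectProduct.inl (((φ x * s) v : V) : G) =
        (⟨x, a0⟩ : G ⋊[θ] A) * SemidirectProduct.inl (v : G) * (⟨x, a0⟩ : G ⋊[θ] A)⁻¹ := by
    intro x v
    rw [eq_mul_inv_iff_mul_eq, SemidirectProduct.ext_iff]
    refine ⟨?_, by simp⟩
    show x * (s v : G) * x⁻¹ * (θ 1) x = x * (θ a0) (v : G)
    rw [map_one, MulAut.one_apply, inv_mul_cancel_right]
    rfl
  have hconjpow : ∀ (x : G) (i : ℕ) (v : V),
      SemidirectProduct.inl ((((φ x * s) ^ i) v : V) : G) =
        (⟨x, a0⟩ : G ⋊[θ] A) ^ i * SemidirectProduct.inl (v : G) *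
          ((⟨x, a0⟩ : G ⋊[θ] A) ^ i)⁻¹ := by
    intro x i
    induction i with
    | zero => intro v; simp
    | succ i ih =>
      intro v
      rw [pow_succ' (φ x * s), MulAut.mul_apply, hconj, ih, pow_succ' (⟨x, a0⟩ : G ⋊[θ] A)]
      group
  have hord : ∀ x : G, (φ x * s) ^ p = 1 := fun x => MulEquiv.ext fun v => by
    have := hconjpow x p v
    rw [hyp, one_mul, inv_one, mul_one] at this
    exact Subtype.ext (SemidirectProduct.inl_injective this)
  have hnorm : ∀ (x : G) (v : V), ∏ i ∈ Finset.range p, ((φ x * s) ^ i) v = 1 := by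
    intro x v
    have key : ∀ n : ℕ, (SemidirectProduct.inl (v : G) * (⟨x, a0⟩ : G ⋊[θ] A)) ^ n =
        SemidirectProduct.inl ((∏ i ∈ Finset.range n, ((φ x * s) ^ i) v : V) : G) *
          (⟨x, a0⟩ : G ⋊[θ] A) ^ n := by
      intro n
      induction n with
      | zero => simp
      | succ n ih =>
        rw [pow_succ, ih, Finset.prod_range_succ, Subgroup.coe_mul, map_mul, hconjpow, pow_succ]
        group
    have h1 : (SemidirectProduct.inl (v : G) * (⟨x, a0⟩ : G ⋊[θ] A)) =
        (⟨(v : G) * x, a0⟩ : G ⋊[θ] A) := by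
      rw [SemidirectProduct.ext_iff]
      simp
    have h2 := key p
    rw [h1, hyp, hyp, mul_one] at h2
    exact Subtype.ext (SemidirectProduct.inl_injective (h2.symm.trans (map_one _).symm))
  -- summing over the acting group
  have hstab : ∀ g ∈ φ.range, ∀ i : ℕ, (g * s) ^ i * (s ^ i)⁻¹ ∈ φ.range := by
    rintro _ ⟨x, rfl⟩ i
    induction i with
    | zero => simp
    | succ i ih =>
      obtain ⟨y, hy⟩ := ih
      refine ⟨x * c y, ?_⟩
      have hs : φ (c y) = s * φ y * s⁻¹ := by
        rw [eq_mul_inv_iff_mul_eq]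
        ext w
        show c y * c (w : G) * (c y)⁻¹ = c (y * (w : G) * y⁻¹)
        rw [map_mul, map_mul, map_inv]
      rw [map_mul, hs, hy, pow_succ' (φ x * s), pow_succ' s]
      group
  haveI := Fintype.ofFinite φ.range
  rw [eq_bot_iff]
  intro v0 hv0
  let v : V := ⟨v0, hv0⟩
  have hfixV : ∀ w : V, (∏ g : φ.range, (g : MulAut V) w) = 1 := by
    intro w
    set z : V := ∏ g : φ.range, (g : MulAut V) w
    refine Subtype.ext (hfix z z.2 fun x => ?_)
    have hz : φ x z = z := by
      simp only [z, map_prod]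
      exact Equiv.prod_comp (Equiv.mulLeft (⟨φ x, x, rfl⟩ : φ.range))
        (fun g : φ.range => (g : MulAut V) w)
    have := congrArg (fun t : V => (t : G)) hz
    exact mul_inv_eq_iff_eq_mul.1 this
  have htotal : ∏ g : φ.range, ∏ i ∈ Finset.range p, (((g : MulAut V) * s) ^ i) v = 1 :=
    Finset.prod_eq_one fun g _ => by
      obtain ⟨x, hx⟩ := g.2
      rw [← hx]; exact hnorm x v
  rw [Finset.prod_comm, Finset.prod_eq_single 0] at htotal
  · simp only [pow_zero, MulAut.one_apply, Finset.prod_const, Finset.card_univ] at htotal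
    rw [← Nat.card_eq_fintype_card] at htotal
    have h3 : v = 1 := (powCoprime (G := V) hcop.symm).injective (by simpa using htotal)
    exact Subgroup.mem_bot.2 (congrArg Subtype.val h3)
  · intro i hi hi0
    rw [Finset.mem_range] at hi
    have hij : Nat.Coprime i p := (hp.coprime_iff_not_dvd.2 fun hd =>
      absurd (Nat.le_of_dvd (Nat.pos_of_ne_zero hi0) hd) (by omega)).symm
    obtain ⟨j, hj⟩ := Nat.exists_mul_mod_eq_one_of_coprime hij hp.one_lt
    let e : φ.range → φ.range := fun g =>
      ⟨((g : MulAut V) * s) ^ i * (s ^ i)⁻¹, hstab g g.2 i⟩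
    have hord' : ∀ g : φ.range, ((g : MulAut V) * s) ^ p = 1 := fun g => by
      obtain ⟨x, hx⟩ := g.2
      rw [← hx]; exact hord x
    have heinj : Function.Injective e := by
      intro g g' hgg
      have h1 : ((g : MulAut V) * s) ^ i = ((g' : MulAut V) * s) ^ i :=
        mul_right_cancel (congrArg Subtype.val hgg)
      have h2 := congrArg (fun t => t ^ j) h1
      simp only [← pow_mul] at h2
      rw [pow_eq_pow_mod _ (hord' g), pow_eq_pow_mod _ (hord' g'), hj.2, pow_one, pow_one] at h2
      exact Subtype.ext (mul_right_cancel h2)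
    have hbij : Function.Bijective e := Finite.injective_iff_bijective.1 heinj
    have hrw : ∀ g : φ.range,
        (((g : MulAut V) * s) ^ i) v = ((e g : φ.range) : MulAut V) ((s ^ i) v) := fun g => by
      show _ = (((g : MulAut V) * s) ^ i * (s ^ i)⁻¹ * s ^ i) v
      rw [inv_mul_cancel_right]
    simp only [hrw]
    exact (Equiv.prod_comp (Equiv.ofBijective e hbij)
      (fun g : φ.range => (g : MulAut V) ((s ^ i) v))).trans (hfixV _)
  · intro h0
    exact absurd (Finset.mem_range.2 hp.pos) h0

/-- The solvable case. -/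
theorem aux_solvable {p : ℕ} (hp : p.Prime) : ∀ (n : ℕ) (G : Type u) [Group G] [Finite G],
    Nat.card G = n → Group.IsSolvable G → ∀ c : MulAut G, c ^ p = 1 → IsSplitting c p →
    Group.IsNilpotent G := by
  intro n
  induction n using Nat.strong_induction_on with
  | _ n ih =>
  intro G _ _ hn hG c hc hsp
  subst hn
  rcases subsingleton_or_nontrivial G with hG1 | hG1
  · infer_instance
  haveI := hG
  obtain ⟨V, r, hr, hV0, hVn, hVc, hVcomm, hVexp, hVmin⟩ := FPFFour.exists_min_invariant hG c
  haveI := hVn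
  haveI := Fact.mk hr
  have hcV : V.map c.toMonoidHom = V := ThompsonNil.map_eq_of_mem c hVc
  have hquot : Group.IsNilpotent (G ⧸ V) :=
    ih _ (Solvable.card_quotient_lt hV0) (G ⧸ V) rfl inferInstance (QuotientGroup.congr V V c hcV)
      (by
        ext x
        induction x using QuotientGroup.induction_on with
        | _ g => rw [congr_pow, hc]; rfl)
      (hsp.quotient hcV)
  suffices hcentral : ∀ v ∈ V, ∀ g : G, g * v = v * g by
    haveI := hquot
    exact Subgroup.isNilpotent_of_ker_le_center (QuotientGroup.mk' V) fun v hv =>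
      Subgroup.mem_center_iff.2 fun g => hcentral v (by rwa [QuotientGroup.ker_mk'] at hv) g
  by_contra hnc
  let φ : G →* MulAut V := MulAut.conjNormal
  have hφV : V ≤ φ.ker := fun x hx => by
    rw [MonoidHom.mem_ker]
    ext w
    show x * (w : G) * x⁻¹ = w
    rw [hVcomm x hx w w.2, mul_inv_cancel_right]
  -- invariant normal subgroups inside `V`
  have hmin : ∀ W : Subgroup G, W ≤ V → W.Normal → (∀ x ∈ W, c x ∈ W) → W = ⊥ ∨ W = V :=
    fun W h1 h2 h3 => hVmin W h1 h2 h3
  have hcenter : ∀ v ∈ V, (∀ g : G, g * v = v * g) → v = 1 := by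
    intro v hv hvc
    rcases hmin (V ⊓ center G) inf_le_left inferInstance (fun x hx => ⟨hVc x hx.1, by
        show c x ∈ center G
        rw [mem_center_iff]
        intro g
        obtain ⟨g', rfl⟩ := c.surjective g
        rw [← map_mul, ← map_mul, mem_center_iff.1 hx.2 g']⟩) with h | h
    · exact mem_bot.1 (h ▸ ⟨hv, mem_center_iff.2 hvc⟩)
    · exact absurd (fun w hw g => mem_center_iff.1 (h.ge hw).2 g) hnc
  refine hV0 (eq_bot_of_fixed_trivial hp hc hsp V hVc hVcomm hcenter ?_)
  -- the acting group is an r'-group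
  have hVp : IsPGroup r V := fun v => ⟨1, Subtype.ext (by
    rw [Subgroup.coe_pow, pow_one]; exact hVexp v v.2)⟩
  obtain ⟨b, hb⟩ := IsPGroup.iff_card.1 hVp
  rw [hb]
  refine Nat.Coprime.pow_right _ ((hr.coprime_iff_not_dvd).2 fun hd => ?_).symm
  haveI := hquot
  haveI : Group.IsNilpotent φ.range :=
    Group.nilpotent_of_surjective (QuotientGroup.lift V φ.rangeRestrict
      (by rwa [MonoidHom.ker_rangeRestrict])) (fun y => by
        obtain ⟨x, rfl⟩ := φ.rangeRestrict_surjective y
        exact ⟨(x : G ⧸ V), rfl⟩)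
  obtain ⟨R⟩ := (inferInstance : Nonempty (Sylow r φ.range))
  haveI hRn : (R : Subgroup φ.range).Normal :=
    Group.isNilpotent_of_finite_tfae.out 0 3 rfl rfl |>.mp ‹_› r ⟨hr⟩ R
  letI : MulDistribMulAction (R : Subgroup φ.range) V :=
    MulDistribMulAction.compHom V (φ.range.subtype.comp (R : Subgroup φ.range).subtype)
  let W : Subgroup G :=
    (FixedPoints.subgroup (R : Subgroup φ.range) V).map V.subtype
  have hW : ∀ x : G, x ∈ W ↔ ∃ hx : x ∈ V, ∀ g ∈ (R : Subgroup φ.range),
      (g : MulAut V) ⟨x, hx⟩ = ⟨x, hx⟩ := by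
    intro x
    constructor
    · rintro ⟨w, hw, rfl⟩
      exact ⟨w.2, fun g hg => hw ⟨g, hg⟩⟩
    · rintro ⟨hx, hfix⟩
      exact ⟨⟨x, hx⟩, fun g => hfix g g.2, rfl⟩
  have hWn : W.Normal := by
    refine ⟨fun x hx g => ?_⟩
    obtain ⟨hxV, hfix⟩ := (hW x).1 hx
    refine (hW _).2 ⟨hVn.conj_mem x hxV g, fun k hk => ?_⟩
    have hk' := hRn.conj_mem k hk (⟨φ g, g, rfl⟩ : φ.range)⁻¹
    have h1 := hfix _ hk'
    rw [inv_inv] at h1
    have h2 := congrArg (φ g) h1
    rw [show (⟨g * x * g⁻¹, hVn.conj_mem x hxV g⟩ : V) = φ g ⟨x, hxV⟩ from rfl]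
    refine Eq.trans ?_ h2
    simp [MulAut.mul_apply]
  have hWc : ∀ x ∈ W, c x ∈ W := by
    intro x hx
    obtain ⟨hxV, hfix⟩ := (hW x).1 hx
    refine (hW _).2 ⟨hVc x hxV, fun k hk => ?_⟩
    -- the automorphism of the range induced by `c`
    let s : MulAut V := ThompsonNil.restrict c V hVc
    have hsφ : ∀ y : G, s⁻¹ * φ y * s = φ (c.symm y) := by
      intro y
      rw [mul_assoc, inv_mul_eq_iff_eq_mul]
      refine MulEquiv.ext fun w => Subtype.ext ?_
      show y * c (w : G) * y⁻¹ = c (c.symm y * (w : G) * (c.symm y)⁻¹)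
      simp [map_mul]
    have hmemR : ∀ t : φ.range, (t : MulAut V) = s⁻¹ * (k : MulAut V) * s →
        t ∈ (R : Subgroup φ.range) := by
      intro t ht
      obtain ⟨m, hm⟩ := R.2 ⟨k, hk⟩
      have hm' : (k : MulAut V) ^ r ^ m = 1 := by
        simpa using congrArg (fun z : (R : Subgroup φ.range) => ((z : φ.range) : MulAut V)) hm
      have htm : t ^ r ^ m = 1 := Subtype.ext (by
        rw [Subgroup.coe_pow, ht]
        have : s⁻¹ * (k : MulAut V) * s = MulAut.conj s⁻¹ (k : MulAut V) := by simp
        rw [this, ← map_pow, hm', map_one]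
        rfl)
      have hz : IsPGroup r (zpowers t) := IsPGroup.of_card_dvd_pow
        (by rw [Nat.card_zpowers]; exact orderOf_dvd_of_pow_eq_one htm)
      obtain ⟨S, hS⟩ := hz.exists_le_sylow
      obtain ⟨a, ha⟩ := MulAction.exists_smul_eq φ.range R S
      rw [← ha, Sylow.smul_eq_of_normal] at hS
      exact hS (mem_zpowers t)
    obtain ⟨y, hy⟩ := k.2
    have h1 := hfix ⟨φ (c.symm y), _, rfl⟩ (hmemR _ (by rw [← hy, hsφ]))
    have h1' : φ (c.symm y) ⟨x, hxV⟩ = ⟨x, hxV⟩ := h1
    apply Subtype.ext
    rw [← hy]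
    show y * c x * y⁻¹ = c x
    have h2 := congrArg (fun t : V => c (t : G)) h1'
    simpa [φ, map_mul] using h2
  rcases hmin W (map_subtype_le _) hWn hWc with h | h
  · -- an r-group fixes a nontrivial element of `V`
    have hrV : r ∣ Nat.card V := by
      haveI : Nontrivial V := V.nontrivial_iff_ne_bot.2 hV0
      obtain ⟨w, hw⟩ := exists_ne (1 : V)
      rw [← orderOf_eq_prime (Subtype.ext (by rw [Subgroup.coe_pow]; exact hVexp w w.2) :
        w ^ r = 1) hw]
      exact orderOf_dvd_natCard w
    obtain ⟨x, -, hx1, hx⟩ := CfsgLib.Coprime.exists_fixed_ne_one_of_isPGroup R.2 (⊤ : Subgroup V)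
      (CfsgLib.Coprime.IsInvariant.top _) (by rwa [Subgroup.card_top])
    exact hx1 (Subtype.ext (mem_bot.1 (h ▸ (⟨x, hx, rfl⟩ : (x : G) ∈ W))))
  · -- so the Sylow subgroup acts trivially
    refine R.ne_bot_of_dvd_card hd (eq_bot_iff.2 fun g hg => mem_bot.2 (Subtype.ext ?_))
    refine MulEquiv.ext fun w => ?_
    obtain ⟨hwV, hfix⟩ := (hW w).1 (h.ge w.2)
    exact hfix g hg

theorem aux {p : ℕ} (hp : p.Prime) : ∀ (n : ℕ) (G : Type u) [Group G] [Finite G],
    Nat.card G = n → ∀ c : MulAut G, c ^ p = 1 → IsSplitting c p → Group.IsNilpotent G := by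
  intro n
  induction n using Nat.strong_induction_on with
  | _ n ih =>
  intro G _ _ hn c hc hsp
  subst hn
  haveI := Fact.mk hp
  have hsub : ∀ H : Subgroup G, H ≠ ⊤ → (∀ x ∈ H, c x ∈ H) → Group.IsNilpotent H :=
    fun H hH h => ih _ (Solvable.card_lt_of_ne_top hH) H rfl (ThompsonNil.restrict c H h)
      (by ext x; rw [ThompsonNil.restrict_pow, hc]; rfl) (hsp.restrict H h)
  refine aux_solvable hp _ G rfl ?_ c hc hsp
  by_cases hpd : p ∣ Nat.card G
  swap
  · -- fixed point free
    have hfpf : ∀ g, c g = g → g = 1 := by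
      intro g hg
      have hi : ∀ i : ℕ, (c ^ i) g = g := by
        intro i
        induction i with
        | zero => rfl
        | succ i ihi => rw [pow_succ', MulAut.mul_apply, ihi, hg]
      have h1 := hsp g
      simp only [hi, List.map_const', List.length_range, List.prod_replicate] at h1
      exact (powCoprime (G := G) ((hp.coprime_iff_not_dvd.2 hpd).symm)).injective
        (by simpa using h1)
    haveI := ThompsonNil.isNilpotent hp c hc hfpf
    infer_instance
  rcases eq_or_ne p 2 with rfl | hp2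
  · refine Group.isSolvable_of_comm fun a b => ?_
    have hinv : ∀ g, c g = g⁻¹ := fun g => by
      have h1 := hsp g
      simp only [List.range_succ, List.range_zero, List.nil_append, List.map_append,
        List.map_cons, List.map_nil, List.prod_append, List.prod_cons, List.prod_nil, pow_zero,
        pow_one, mul_one, MulAut.one_apply] at h1
      exact eq_inv_of_mul_eq_one_right h1
    have h2 := map_mul c a b
    rw [hinv, hinv, hinv, mul_inv_rev] at h2
    have h3 := congrArg (fun t => t⁻¹) h2
    simpa using h3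
  -- an invariant Sylow p-subgroup
  letI : MulAction (zpowers c) (Sylow p G) := MulAction.compHom _ (zpowers c).subtype
  have hA : IsPGroup p (zpowers c) := IsPGroup.of_card_dvd_pow (n := 1)
    (by rw [pow_one, Nat.card_zpowers]; exact orderOf_dvd_of_pow_eq_one hc)
  obtain ⟨Q, hQfix⟩ := hA.nonempty_fixed_point_of_prime_not_dvd_card (α := Sylow p G)
    (not_dvd_card_sylow p G)
  have hQ : ∀ x ∈ (Q : Subgroup G), c x ∈ (Q : Subgroup G) := by
    intro x hx
    have hm : c x ∈ ((c • Q : Sylow p G) : Subgroup G) := smul_mem_pointwise_smul x c _ hx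
    rwa [show c • Q = Q from hQfix ⟨c, mem_zpowers c⟩] at hm
  have K := ZJ.zkind_centerThompsonA.{u} (p := p) hp2
  set Z := Cfsg.centerThompsonAOf (Q : Subgroup G) with hZdef
  have hcZ : Z.map c.toMonoidHom = Z := by
    rw [hZdef, ← K.map G G c.toMonoidHom Q c.injective, ThompsonNil.map_eq_of_mem c hQ]
  have hZ1 : Z ≠ ⊥ := K.ne_bot G _ Q.2 (Q.ne_bot_of_dvd_card hpd)
  by_cases hN : normalizer (Z : Set G) = ⊤
  · haveI hZn : Z.Normal := normalizer_eq_top_iff.mp hN
    haveI : Group.IsNilpotent (G ⧸ Z) :=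
      ih _ (Solvable.card_quotient_lt hZ1) (G ⧸ Z) rfl (QuotientGroup.congr Z Z c hcZ)
        (by
          ext x
          induction x using QuotientGroup.induction_on with
          | _ g => rw [congr_pow, hc]; rfl)
        (hsp.quotient hcZ)
    haveI : Group.IsSolvable Z := Group.isSolvable_of_comm fun a b =>
      Subtype.ext (K.comm G _ a a.2 b b.2)
    exact Group.isSolvable_of_ker_le_range Z.subtype (QuotientGroup.mk' Z)
      (by rw [QuotientGroup.ker_mk', range_subtype])
  · have hNc : ∀ x ∈ normalizer (Z : Set G), c x ∈ normalizer (Z : Set G) := by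
      intro x hx
      have h1 := le_normalizer_map c.toMonoidHom (mem_map_of_mem c.toMonoidHom hx)
      rwa [hcZ] at h1
    haveI := hsub _ hN hNc
    have hG := FGSA.GT.hasNormalPComplement hp2 Q FGSA.GT.npc_of_isNilpotent
    set R := Cfsg.pResidual p G with hRdef
    have hR : R ≠ ⊤ := by
      intro htop
      have h1 := PResidual.hasNormalPComplement_iff.1 hG
      rw [← hRdef, htop, card_top] at h1
      exact hp.one_lt.ne' (Nat.eq_one_of_dvd_coprimes h1 hpd dvd_rfl)
    haveI := hsub R hR fun x hx =>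
      PResidual.map_pResidual_le (p := p) c.toMonoidHom (mem_map_of_mem c.toMonoidHom hx)
    haveI : Group.IsNilpotent (G ⧸ R) := PResidual.isPGroup_quotient_pResidual.isNilpotent
    exact Group.isSolvable_of_ker_le_range R.subtype (QuotientGroup.mk' R)
      (by rw [QuotientGroup.ker_mk', range_subtype])

/-- **Kegel's theorem**. -/
theorem isNilpotent {p : ℕ} (hp : p.Prime) (c : MulAut G) (hc : c ^ p = 1)
    (h : IsSplitting c p) : Group.IsNilpotent G :=
  aux hp (Nat.card G) G rfl c hc h

end CfsgLib.KegelSplit
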