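import Cfsg.Agent.FGSA.MaximalClassPower
import Cfsg.Agent.Solvable.MaximalClass
import Cfsg.Agent.Fusion.MaximalClassEssential
import Cfsg.Agent.Fusion.CubeEssential

/-!
A `p`-group of maximal class has, outside any proper normal subgroup, an element whose centraliser
has order `p ^ 2`: the two-step centralisers repeat with period `p - 1`, so they and one further
maximal subgroup do not cover the group.
-/

set_option autoImplicit false
set_option linter.style.haveILetI false
set_option linter.unusedSectionVars false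

namespace CfsgLib.MaxClassAvoid

open Subgroup CfsgLib.FGSA.MaxClass CfsgLib.FGSA.MaxClassPow
open scoped commutatorElement

universe u

variable {G : Type u} [Group G] [Finite G] {p : ℕ} [hp : Fact p.Prime] {n : ℕ}

theorem lcs_one_le_twoStep (j : ℕ) : lcs G 1 ≤ twoStep G j := fun s hs => mem_twoStep.2 fun g hg => by
  have := commutator_lcs (G := G) 1 j (commutator_mem_commutator hg hs)
  simpa [show j + 1 + 1 = j + 2 by omega] using this

/-- A two-step centraliser has index at most `p`. -/
theorem index_twoStep_le (hG : IsPGroup p G) (hn : Nat.card G = p ^ n) (h2 : 2 ≤ n)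
    (hmax : lcs G (n - 2) ≠ ⊥) {j : ℕ} (hj : 1 ≤ j) (hjn : j + 3 ≤ n) : (twoStep G j).index ≤ p := by
  obtain ⟨g, hg, hg'⟩ := SetLike.not_le_iff_exists.1
    (not_le_succ hG hn h2 hmax (i := j) (by omega))
  set N := lcs G (j + 2) with hN
  set π := QuotientGroup.mk' N
  have hcen : ∀ w ∈ lcs G (j + 1), ∀ y : G, Commute (π w) (π y) := fun w hw y =>
    mk_comm.1 (comm_mem_succ (j + 1) hw y)
  let f : G →* G ⧸ N := MonoidHom.mk' (fun s => π ⁅g, s⁆) fun s t => by
    show π ⁅g, s * t⁆ = π ⁅g, s⁆ * π ⁅g, t⁆
    rw [show ⁅g, s * t⁆ = ⁅g, s⁆ * (s * ⁅g, t⁆ * s⁻¹) by simp only [commutatorElement_def]; group,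
      map_mul, map_mul, map_mul, map_inv, ← (hcen _ (comm_mem_succ j hg t) s).eq,
      mul_inv_cancel_right]
  have hker : f.ker ≤ twoStep G j := fun s hs =>
    mem_twoStep_of_comm hG hn h2 hmax hj (by omega) hg hg' ((QuotientGroup.eq_one_iff _).1 hs)
  have hran : f.range ≤ (lcs G (j + 1)).map π := by
    rintro _ ⟨s, rfl⟩
    exact mem_map_of_mem π (comm_mem_succ j hg s)
  have hcard : Nat.card ↥((lcs G (j + 1)).map π) = p := by
    have h1 := relIndex_mul_relIndex (⊥ : Subgroup G) N (lcs G (j + 1)) bot_le (lcs_anti (by omega))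
    rw [relIndex_bot_left, relIndex_bot_left, ← QuotientGroup.ker_mk' N, relIndex_ker,
      QuotientGroup.ker_mk', card_lcs hG hn hmax (i := j + 1) (by omega) (by omega),
      show Nat.card N = p ^ (n - 1 - (j + 2)) from card_lcs hG hn hmax (i := j + 2) (by omega) (by omega),
      show n - 1 - (j + 1) = (n - 1 - (j + 2)) + 1 by omega, pow_succ] at h1
    exact Nat.eq_of_mul_eq_mul_left (pow_pos hp.out.pos _) h1
  calc (twoStep G j).index ≤ f.ker.index :=
        Nat.le_of_dvd (Nat.pos_of_ne_zero index_ne_zero_of_finite) (index_dvd_of_le hker)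
    _ = Nat.card f.range := index_ker f
    _ ≤ p := hcard ▸ card_le_of_le hran

/-- The two-step centralisers repeat with period `p - 1`. -/
theorem twoStep_shift (hG : IsPGroup p G) (hn : Nat.card G = p ^ n) (hmax : lcs G (n - 2) ≠ ⊥)
    (h3 : 3 ≤ p) {j : ℕ} (hj : 1 ≤ j) (hjn : j + p + 2 ≤ n) :
    twoStep G (j + p - 1) = twoStep G j := by
  have h2 : 2 ≤ n := by omega
  have hle : twoStep G j ≤ twoStep G (j + p - 1) := by
    intro s hs
    obtain ⟨g, hg, hg'⟩ := SetLike.not_le_iff_exists.1
      (not_le_succ hG hn h2 hmax (i := j) (by omega))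
    refine mem_twoStep_of_comm hG hn h2 hmax (w := g ^ p) (by omega) (by omega)
      (pow_mem h3 j hj hG hn (by omega) hmax g hg) ?_ ?_
    · rw [show j + p - 1 + 1 = j + p by omega]
      exact pow_not_mem h3 j hj hG hn (by omega) hmax g hg hg'
    · obtain ⟨hQp, hQn, hQmax⟩ := quotient_max hG hn hmax (m := j + p + 2) (by omega) hjn
      rw [show j + p - 1 + 2 = j + p + 2 - 1 by omega, ← QuotientGroup.eq_one_iff,
        ← QuotientGroup.mk'_apply, map_commutatorElement, map_pow]
      set π := QuotientGroup.mk' (lcs G (j + p + 2 - 1))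
      have hlast : lcs (G ⧸ lcs G (j + p + 2 - 1)) (j + p + 1) = ⊥ :=
        lcs_last hQp hQn (by omega) hQmax (by omega)
      have hkill : ∀ c ∈ lcs (G ⧸ lcs G (j + p + 2 - 1)) (j + 2), c ^ p = 1 := fun c hc => by
        have h1 := pow_mem h3 (j + 2) (by omega) hQp hQn (by omega) hQmax c hc
        rwa [show j + 2 + p - 1 = j + p + 1 by omega, hlast, mem_bot] at h1
      have hcomm : π ⁅g, s⁆ ∈ lcs (G ⧸ lcs G (j + p + 2 - 1)) (j + 2) :=
        mem_lcs_quotient (mem_twoStep.1 hs g hg)
      refine (pow_comm_eq hQp hQn (by omega) hQmax (a := j) (y := π g) (s := π s) (by omega)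
        (mem_lcs_quotient hg) (fun c hc => hkill c (lcs_anti (by omega) hc))).symm.trans ?_
      rw [← map_commutatorElement]
      exact hkill _ hcomm
  refine (Subgroup.eq_of_le_of_card_ge hle ?_).symm
  have h1 := index_twoStep_le hG hn h2 hmax hj (by omega)
  have h4 : (twoStep G (j + p - 1)).index ≠ 1 := fun e =>
    twoStep_ne_top hG hn h2 hmax (j := j + p - 1) (by omega) (index_eq_one.1 e)
  obtain ⟨k, hk⟩ := hG.index (twoStep G (j + p - 1))
  have h5 : p ≤ (twoStep G (j + p - 1)).index := by
    rw [hk] at h4 ⊢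
    exact Nat.le_self_pow (fun e => h4 (by rw [e, pow_zero])) p
  refine Nat.le_of_mul_le_mul_right ?_ hp.out.pos
  calc Nat.card ↥(twoStep G (j + p - 1)) * p
      ≤ Nat.card ↥(twoStep G (j + p - 1)) * (twoStep G (j + p - 1)).index := Nat.mul_le_mul_left _ h5
    _ = Nat.card ↥(twoStep G j) * (twoStep G j).index := by rw [card_mul_index, card_mul_index]
    _ ≤ _ := Nat.mul_le_mul_left _ h1

/-- An element avoiding a proper subgroup and every two-step centraliser. -/
theorem exists_avoid_all (hG : IsPGroup p G) (hn : Nat.card G = p ^ n) (h3n : 3 ≤ n)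
    (hmax : lcs G (n - 2) ≠ ⊥) (h3 : 3 ≤ p) (M : Subgroup G) (hM : M ≠ ⊤) :
    ∃ s : G, s ∉ M ∧ ∀ j, 1 ≤ j → j + 3 ≤ n → s ∉ twoStep G j := by
  set c := min (p - 1) (n - 3) with hc
  obtain ⟨s, hs⟩ : ∃ s : G, ∀ i : Option (Fin c), s ∉ i.elim M (fun k => twoStep G (1 + k)) := by
    by_contra hne
    push Not at hne
    have h := Cfsg.Agent.S4182.result (G := G) p (by
      refine top_le_iff.1 fun g _ => subset_closure ?_
      obtain ⟨e, he⟩ := hG g
      obtain ⟨k, -, hk⟩ := (Nat.dvd_prime_pow hp.out).1 (orderOf_dvd_of_pow_eq_one he)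
      exact ⟨k, hk⟩) (fun i : Option (Fin c) => i.elim M (fun k => twoStep G (1 + k)))
      (fun i => by
        rcases i with _ | k
        · exact hM
        · exact twoStep_ne_top hG hn (by omega) hmax (by omega))
      (fun g _ => hne g)
    rw [Fintype.card_option, Fintype.card_fin] at h
    omega
  refine ⟨s, hs none, fun j => ?_⟩
  induction j using Nat.strong_induction_on with
  | _ j ih =>
  intro hj hjn
  rcases Nat.lt_or_ge j p with h | h
  · have := hs (some ⟨j - 1, by omega⟩)
    simpa [show 1 + (j - 1) = j by omega] using this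
  · have h1 := ih (j - (p - 1)) (by omega) (by omega) (by omega)
    rwa [← twoStep_shift hG hn hmax h3 (by omega) (by omega),
      show j - (p - 1) + p - 1 = j by omega] at h1

theorem lcs_one_eq : lcs G 1 = _root_.commutator G := by
  rw [lcs, Subgroup.lowerCentralSeries_succ, Subgroup.lowerCentralSeries_zero, _root_.commutator_def]

theorem sup_ne_top (hG : IsPGroup p G) {N : Subgroup G} (hN : N ≠ ⊤) : N ⊔ lcs G 1 ≠ ⊤ := by
  intro h
  refine hN (frattini_nongenerating (top_le_iff.1 (h ▸ sup_le_sup_left ?_ N)))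
  rw [lcs_one_eq]
  exact (CfsgLib.PGroupBasic.commutator_pow_le_frattini hG).1

/-- The centraliser of an avoiding element has order at most `p ^ 2`. -/
theorem card_centralizer_le (hG : IsPGroup p G) (hn : Nat.card G = p ^ n) (h3n : 3 ≤ n)
    (hmax : lcs G (n - 2) ≠ ⊥) {s : G} (hs1 : s ∉ lcs G 1)
    (hs : ∀ j, 1 ≤ j → j + 3 ≤ n → s ∉ twoStep G j) :
    Nat.card (centralizer ({s} : Set G)) ≤ p ^ 2 := by
  set C := centralizer ({s} : Set G)
  set A := closure (insert s (lcs G 1 : Set G)) with hA
  have hAtop : A ≠ ⊤ := fun e => not_le_succ hG hn (by omega) hmax (i := 1) (by omega) <| by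
    have := closure_insert_derived_le (x := s) (A := lcs G 1) (N := lcs G (1 + 1))
      (fun a ha => comm_mem_succ 1 ha s) (fun a ha b _ => comm_mem_succ 1 ha b)
    rw [← hA, e] at this
    exact this
  have hCA : C ≤ A := fun t ht => by
    by_contra htA
    refine comm_not_mem_two hG hn h3n hmax hs1 htA ?_
    rw [commutatorElement_eq_one_iff_mul_comm.2 (mem_centralizer_singleton_iff.1 ht).symm]
    exact one_mem _
  have hlA : lcs G 1 ≤ A := fun y hy => subset_closure (Set.mem_insert_of_mem _ hy)
  have hrel : (lcs G 1).relIndex A ≤ p := by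
    have h1 : (lcs G 1).index = p ^ 2 := by
      have := (lcs G 1).index_mul_card
      rw [hn, card_lcs hG hn hmax le_rfl (by omega), show p ^ n = p ^ 2 * p ^ (n - 1 - 1) by
        rw [← pow_add, show 2 + (n - 1 - 1) = n by omega]] at this
      exact Nat.eq_of_mul_eq_mul_right (pow_pos hp.out.pos _) this
    have h2 := relIndex_mul_index hlA
    rw [h1] at h2
    have h3 : p ≤ A.index := by
      obtain ⟨k, hk⟩ := hG.index A
      rw [hk]
      exact Nat.le_self_pow (fun e => hAtop (index_eq_one.1 (by rw [hk, e, pow_zero]))) p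
    refine Nat.le_of_mul_le_mul_right ?_ hp.out.pos
    calc (lcs G 1).relIndex A * p ≤ (lcs G 1).relIndex A * A.index := Nat.mul_le_mul_left _ h3
      _ = p * p := by rw [h2, sq]
  have h1 : Nat.card ↥(lcs G 1 ⊓ C) ≤ p := by
    have hsub : lcs G 1 ⊓ C ≤ lcs G (n - 2) := fun x hx => fix hG hn (by omega) hmax le_rfl
      (fun j hj hjn => hs j hj hjn) hx.1 (mem_centralizer_singleton_iff.1 hx.2)
    refine (card_le_of_le hsub).trans (le_of_eq ?_)
    rw [card_lcs hG hn hmax (i := n - 2) (by omega) (by omega), show n - 1 - (n - 2) = 1 by omega,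
      pow_one]
  calc Nat.card C = Nat.card ↥(lcs G 1 ⊓ C) * (lcs G 1 ⊓ C).relIndex C := by
        rw [← Subgroup.relIndex_bot_left, ← Subgroup.relIndex_bot_left,
          relIndex_mul_relIndex _ _ _ bot_le inf_le_right]
    _ ≤ p * p := Nat.mul_le_mul h1 (by
        rw [inf_relIndex_right]
        refine le_trans ?_ hrel
        exact relIndex_le_of_le_right hCA (by
          exact (by unfold relIndex; exact index_ne_zero_of_finite)))
    _ = p ^ 2 := (sq p).symm

/-- In a `p`-group of maximal class some element outside a given proper normal subgroup has a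
centraliser of order `p ^ 2`. -/
theorem exists_card_centralizer (hG : IsPGroup p G) (hn : Nat.card G = p ^ n) (h3n : 3 ≤ n)
    (hmax : lcs G (n - 2) ≠ ⊥) (N : Subgroup G) (hN : N ≠ ⊤) :
    ∃ s : G, s ∉ N ∧ Nat.card (centralizer ({s} : Set G)) = p ^ 2 := by
  classical
  have hne : ¬ ∀ a b : G, a * b = b * a := fun h => by
    refine not_le_succ hG hn (by omega) hmax (i := 1) (by omega) ?_
    rw [lcs_one_eq, _root_.commutator_def, commutator_le]
    intro a _ b _
    rw [commutatorElement_eq_one_iff_mul_comm.2 (h a b)]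
    exact one_mem _
  have hbig : ∀ s : G, 2 ≤ n → Nat.card (centralizer ({s} : Set G)) ≤ p ^ 2 →
      Nat.card (centralizer ({s} : Set G)) = p ^ 2 := by
    intro s _ hle
    refine le_antisymm hle ?_
    obtain ⟨k, hk⟩ := IsPGroup.iff_card.1 (hG.to_subgroup (centralizer ({s} : Set G)))
    rw [hk]
    refine Nat.pow_le_pow_right hp.out.pos ?_
    haveI : Nontrivial G := by
      rcases subsingleton_or_nontrivial G with h | h
      · exact absurd (fun a b => Subsingleton.elim _ _) hne
      · exact h
    have hZ : 1 < Nat.card (center G) := by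
      haveI := hG.center_nontrivial
      exact Finite.one_lt_card
    have hlt : center G < centralizer ({s} : Set G) := by
      refine lt_of_le_of_ne (fun z hz => mem_centralizer_singleton_iff.2
        (mem_center_iff.1 hz s).symm) fun e => ?_
      have hs : s ∈ center G := e ▸ mem_centralizer_singleton_iff.2 rfl
      have htop : centralizer ({s} : Set G) = ⊤ := top_le_iff.1 fun y _ =>
        mem_centralizer_singleton_iff.2 (mem_center_iff.1 hs y)
      exact hne fun a b => mem_center_iff.1 ((e.trans htop).symm ▸ mem_top b : b ∈ center G) a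
    have h1 := Nat.lt_of_lt_of_le hZ (card_le_of_le hlt.le)
    have h2 : Nat.card (center G) < Nat.card (centralizer ({s} : Set G)) := by
      by_contra h
      exact hlt.ne (eq_of_le_of_card_ge hlt.le (not_lt.1 h))
    obtain ⟨l, hl⟩ := IsPGroup.iff_card.1 (hG.to_subgroup (center G))
    rw [hl] at hZ h2
    rw [hk] at h2
    have h0 : l ≠ 0 := fun e => by rw [e, pow_zero] at hZ; omega
    have := (Nat.pow_lt_pow_iff_right hp.out.one_lt).1 h2
    omega
  rcases hp.out.eq_two_or_odd with rfl | hodd
  · -- a cyclic subgroup of index two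
    have hcl : Group.nilpotencyClass G = n - 1 := by
      haveI := hG.isNilpotent
      have h1 : Group.nilpotencyClass G ≤ n - 1 := Subgroup.lowerCentralSeries_eq_bot_iff_nilpotencyClass_le.1
        (lcs_last hG hn (by omega) hmax le_rfl)
      have h2 : ¬ Group.nilpotencyClass G ≤ n - 2 := fun h =>
        hmax (Subgroup.lowerCentralSeries_eq_bot_iff_nilpotencyClass_le.2 h)
      omega
    obtain ⟨A, hA, hAi⟩ := CfsgLib.MaximalClass.cyclic_index_two n h3n hn
      (CfsgLib.MaximalClass.index_commutator_of_class h3n hn hcl)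
    have hAtop : A ≠ ⊤ := fun e => by simp [e] at hAi
    obtain ⟨s, hsN, hsA⟩ : ∃ s : G, s ∉ N ∧ s ∉ A := by
      by_contra! h
      obtain ⟨a, ha⟩ := not_forall.1 (fun e => hN (eq_top_iff.2 fun x _ => e x))
      obtain ⟨b, hb⟩ := not_forall.1 (fun e => hAtop (eq_top_iff.2 fun x _ => e x))
      have hb' : b ∈ N := by_contra fun hb' => hb (h b hb')
      exact hb ((mul_mem_cancel_left (h a ha)).1 (h (a * b) fun hm => ha
        ((mul_mem_cancel_right hb').1 hm)))
    refine ⟨s, hsN, hbig s (by omega) ?_⟩
    haveI := hA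
    have hle : A ⊓ centralizer ({s} : Set G) ≤ center G := by
      intro a ha
      refine mem_center_iff.2 fun g => ?_
      have hc : ∀ x ∈ A, x * a = a * x := fun x hx =>
        congrArg Subtype.val ((IsCyclic.commGroup (α := A)).mul_comm ⟨x, hx⟩ ⟨a, ha.1⟩)
      have hsa : a * s = s * a := mem_centralizer_singleton_iff.1 ha.2
      have hmem : s * g ∈ A ∨ g ∈ A := by
        by_contra h
        push Not at h
        exact h.1 ((mul_mem_iff_of_index_two hAi).2 ⟨fun e => absurd e hsA, fun e => absurd e h.2⟩)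
      rcases hmem with h | h
      · have h' := hc _ h
        have : s * (g * a) = s * (a * g) := by rw [← mul_assoc, h', ← mul_assoc, hsa, mul_assoc]
        exact mul_left_cancel this
      · exact hc g h
    have hZ : Nat.card (center G) ≤ 2 := by
      by_cases h4 : 4 ≤ n
      · exact ((CfsgLib.Fusion.MaximalClass.card_upper hG hn h4 hmax).1).le
      · exact (CfsgLib.Fusion.cube_frattini (Q := G) (p := 2) (by rw [hn]; congr 1; omega) hne).2.1.le
    calc Nat.card (centralizer ({s} : Set G))
        = Nat.card ↥(A ⊓ centralizer ({s} : Set G)) *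
          (A ⊓ centralizer ({s} : Set G)).relIndex (centralizer ({s} : Set G)) := by
          rw [← Subgroup.relIndex_bot_left, ← Subgroup.relIndex_bot_left,
            relIndex_mul_relIndex _ _ _ bot_le inf_le_right]
      _ ≤ 2 * 2 := Nat.mul_le_mul ((card_le_of_le hle).trans hZ) (by
          rw [inf_relIndex_right, ← hAi, ← relIndex_top_right]
          exact relIndex_le_of_le_right le_top (by unfold relIndex; exact index_ne_zero_of_finite))
      _ = 2 ^ 2 := by norm_num
  · have h3 : 3 ≤ p := by have := hp.out.two_le; omega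
    obtain ⟨s, hsM, hs⟩ := exists_avoid_all hG hn h3n hmax h3 _ (sup_ne_top hG hN)
    exact ⟨s, fun h => hsM (mem_sup_left h), hbig s (by omega)
      (card_centralizer_le hG hn h3n hmax (fun h => hsM (mem_sup_right h)) hs)⟩

end CfsgLib.MaxClassAvoid
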