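import Mathlib
import Cfsg.Agent.SeriesComm.Basic

/-!
The Zassenhaus identity behind the Engel condition in groups of exponent `p`: if an element `s`
normalises a subgroup `M` of class less than `p` and the products of `p` consecutive conjugates
vanish, then the corresponding iterated commutator is trivial.  The proof uses that in the
subgroup of `ℕ → M` generated by the sequences `t ↦ σ^k (y ^ t)` the dilations `t ↦ e * t`
scale the lower central factors by the powers of `e`.
-/

set_option autoImplicit false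
set_option linter.style.haveILetI false

namespace CfsgLib.FGSA.PowerSum

open Subgroup
open scoped commutatorElement

variable {G : Type*} [Group G]

/-- The difference `v⁻¹ * σ v` for conjugation `σ` by `s`. -/
def dl (s v : G) : G := v⁻¹ * (s * v * s⁻¹)

theorem dl_eq (s v : G) : dl s v = ⁅v⁻¹, s⁆ := by
  simp [dl, commutatorElement_def, mul_assoc]

theorem dl_mul_self (s v : G) : dl s v * s = v⁻¹ * s * v⁻¹⁻¹ := by
  simp [dl, mul_assoc]

/-- The product of `m` consecutive conjugates. -/
def orbitProd (s v : G) : ℕ → G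
  | 0 => 1
  | m + 1 => v * (s * orbitProd s v m * s⁻¹)

theorem orbitProd_mul (s v : G) : ∀ m, orbitProd s v m * s ^ m = (v * s) ^ m
  | 0 => by simp [orbitProd]
  | m + 1 => by
    rw [pow_succ' (v * s), ← orbitProd_mul s v m]
    simp [orbitProd, pow_succ', mul_assoc]

theorem commutator_pow_left {H : Type*} [Group H] {a b : H} (h : Commute ⁅a, b⁆ a) :
    ∀ m : ℕ, ⁅a ^ m, b⁆ = ⁅a, b⁆ ^ m := by
  intro m
  have h1 : Commute (b * a⁻¹ * b⁻¹) a := by
    have e : b * a⁻¹ * b⁻¹ = a⁻¹ * ⁅a, b⁆ := by simp [commutatorElement_def, mul_assoc]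
    rw [e]; exact (Commute.refl a).inv_left.mul_left h
  calc ⁅a ^ m, b⁆ = a ^ m * (b * a⁻¹ * b⁻¹) ^ m := by
        rw [conj_pow, inv_pow, commutatorElement_def]; group
    _ = (a * (b * a⁻¹ * b⁻¹)) ^ m := (h1.symm.mul_pow m).symm
    _ = ⁅a, b⁆ ^ m := by simp [commutatorElement_def, mul_assoc]

theorem commutator_pow_right {H : Type*} [Group H] {a b : H} (h : Commute ⁅a, b⁆ b) (m : ℕ) :
    ⁅a, b ^ m⁆ = ⁅a, b⁆ ^ m := by
  have h' : Commute ⁅b, a⁆ b := by rw [← commutatorElement_inv a b]; exact h.inv_left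
  rw [← commutatorElement_inv (b ^ m) a, commutator_pow_left h' m, ← inv_pow,
    commutatorElement_inv]

section Scale

variable {D : Type*} [Group D]

/-- The lower central series. -/
abbrev gam (D : Type*) [Group D] (r : ℕ) : Subgroup D := (⊤ : Subgroup D).lowerCentralSeries r

theorem lcs_comm_le : ∀ r : ℕ, ⁅gam D r, gam D 1⁆ ≤ gam D (r + 2) := by
  intro r
  haveI := CfsgLib.SeriesComm.lowerCentralSeries_normal (⊤ : Subgroup D) (r + 2)
  haveI : ∀ i, ((⊤ : Subgroup D).lowerCentralSeries i).Normal := fun i => inferInstance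
  show ⁅(⊤ : Subgroup D).lowerCentralSeries r, (⊤ : Subgroup D).lowerCentralSeries 1⁆ ≤ _
  rw [Subgroup.commutator_comm, show (1 : ℕ) = 0 + 1 from rfl, Subgroup.lowerCentralSeries_succ,
    Subgroup.lowerCentralSeries_zero]
  refine CfsgLib.SeriesComm.rotate_le ?_ ?_
  · refine (Subgroup.commutator_mono (le_of_eq (Subgroup.commutator_comm _ _)) le_rfl).trans ?_
    exact le_rfl
  · exact le_rfl

/-- A homomorphism raising generators to the power `e` scales the `r`-th factor by `e ^ (r+1)`. -/
theorem lcs_scale (φ : D →* D) (e : ℕ) {T : Set D} (hT : closure T = ⊤)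
    (hφ : ∀ x ∈ T, φ x = x ^ e) : ∀ r : ℕ, ∀ h ∈ gam D r,
      QuotientGroup.mk' (gam D (r + 1)) (φ h) = QuotientGroup.mk' (gam D (r + 1)) h ^ e ^ (r + 1) := by
  have hcen : ∀ (r : ℕ) (a : D), a ∈ gam D r → ∀ g : D,
      Commute (QuotientGroup.mk' (gam D (r + 1)) a) (QuotientGroup.mk' (gam D (r + 1)) g) := by
    intro r a ha g
    refine commutatorElement_eq_one_iff_mul_comm.1 ?_
    rw [← map_commutatorElement]
    exact (QuotientGroup.eq_one_iff _).2 (commutator_mem_commutator ha (mem_top g))
  have h0 : ∀ x : D, QuotientGroup.mk' (gam D 1) (φ x) = QuotientGroup.mk' (gam D 1) x ^ e := by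
    intro x
    have hh : x ∈ closure T := hT ▸ mem_top x
    induction hh using Subgroup.closure_induction with
    | mem x hx => rw [hφ x hx, map_pow]
    | one => rw [map_one φ, map_one, one_pow]
    | mul x y _ _ hx hy =>
      rw [map_mul φ, map_mul, hx, hy, map_mul, (hcen 0 x (mem_top x : x ∈ gam D 0) y).mul_pow]
    | inv x _ hx => rw [map_inv φ, map_inv, hx, map_inv, inv_pow]
  intro r
  induction r with
  | zero =>
    intro h _
    rw [zero_add, pow_one]
    exact h0 h
  | succ r ih =>
    set π := QuotientGroup.mk' (gam D (r + 1 + 1)) with hπ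
    let S : Subgroup D :=
      { carrier := {h | h ∈ gam D (r + 1) ∧ π (φ h) = π h ^ e ^ (r + 1 + 1)}
        one_mem' := ⟨one_mem _, by rw [map_one φ, map_one, one_pow]⟩
        mul_mem' := fun {x y} hx hy => ⟨mul_mem hx.1 hy.1, by
          rw [map_mul φ, map_mul, hx.2, hy.2, map_mul, (hcen (r + 1) x hx.1 y).mul_pow]⟩
        inv_mem' := fun {x} hx => ⟨inv_mem hx.1, by
          rw [map_inv φ, map_inv, hx.2, map_inv, inv_pow]⟩ }
    have hle : gam D (r + 1) ≤ S := by
      refine commutator_le.2 fun a ha g hg => ⟨commutator_mem_commutator ha hg, ?_⟩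
      set w := (a ^ e ^ (r + 1))⁻¹ * φ a with hw
      set w' := (g ^ e)⁻¹ * φ g with hw'
      have hwm : w ∈ gam D (r + 1) := by
        refine QuotientGroup.eq.1 ?_
        have := ih a ha
        simp only [QuotientGroup.mk'_apply] at this
        rw [this, ← QuotientGroup.mk_pow]
      have hw'm : w' ∈ gam D 1 := by
        refine QuotientGroup.eq.1 ?_
        have := h0 g
        simp only [QuotientGroup.mk'_apply] at this
        rw [this, ← QuotientGroup.mk_pow]
      have hA : π (φ a) = π a ^ e ^ (r + 1) * π w := by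
        rw [← map_pow, ← map_mul, hw, mul_inv_cancel_left]
      have hB : π (φ g) = π g ^ e * π w' := by
        rw [← map_pow, ← map_mul, hw', mul_inv_cancel_left]
      have hW : ∀ x : D, Commute (π w) (π x) := hcen (r + 1) w hwm
      have hC : ∀ x : D, Commute ⁅π a, π g⁆ (π x) := fun x => by
        rw [← map_commutatorElement]
        exact hcen (r + 1) _ (commutator_mem_commutator ha hg) x
      have hW' : Commute (π w') (π a) := by
        refine (commutatorElement_eq_one_iff_mul_comm.1 ?_).symm
        rw [← map_commutatorElement]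
        exact (QuotientGroup.eq_one_iff _).2 (lcs_comm_le r (commutator_mem_commutator ha hw'm))
      set A := π a with hAdef
      set B := π g with hBdef
      set E := e ^ (r + 1)
      rw [map_commutatorElement φ, map_commutatorElement π, map_commutatorElement π, hA, hB,
        ← hAdef, ← hBdef]
      have h1 : ⁅A ^ E * π w, B ^ e * π w'⁆ = ⁅A ^ E, B ^ e * π w'⁆ := by
        have hc : Commute (π w) (B ^ e * π w') := by
          rw [hBdef, ← map_pow, ← map_mul]; exact hW _
        rw [commutatorElement_def, commutatorElement_def, mul_inv_rev]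
        calc A ^ E * π w * (B ^ e * π w') * ((π w)⁻¹ * (A ^ E)⁻¹) * (B ^ e * π w')⁻¹
            = A ^ E * (π w * (B ^ e * π w') * (π w)⁻¹) * (A ^ E)⁻¹ * (B ^ e * π w')⁻¹ := by group
          _ = _ := by rw [hc.eq, mul_inv_cancel_right]
      have h2 : ⁅A ^ E, B ^ e * π w'⁆ = ⁅A ^ E, B ^ e⁆ := by
        have hc : Commute (π w') (A ^ E)⁻¹ := (hW'.pow_right E).inv_right
        rw [commutatorElement_def, commutatorElement_def, mul_inv_rev]
        calc A ^ E * (B ^ e * π w') * (A ^ E)⁻¹ * ((π w')⁻¹ * (B ^ e)⁻¹)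
            = A ^ E * B ^ e * (π w' * (A ^ E)⁻¹ * (π w')⁻¹) * (B ^ e)⁻¹ := by group
          _ = _ := by rw [hc.eq, mul_inv_cancel_right]
      rw [h1, h2]
      have h3 : ⁅A, B ^ e⁆ = ⁅A, B⁆ ^ e := commutator_pow_right (hC g) e
      rw [commutator_pow_left (by rw [h3]; exact (hC a).pow_left e) E, h3, ← pow_mul,
        pow_succ' e (r + 1)]
    exact fun h hh => (hle hh).2

/-- An element of the derived subgroup scaled by `e` itself is trivial. -/
theorem eq_one_of_scale {p : ℕ} [hp : Fact p.Prime] (φ : D →* D) (e : ℕ) {T : Set D}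
    (hT : closure T = ⊤) (hφ : ∀ x ∈ T, φ x = x ^ e)
    (he : ∀ r, 1 ≤ r → r + 1 < p → ¬ e ^ (r + 1) ≡ e [MOD p])
    (hbot : gam D (p - 1) = ⊥) {L : D} (hL : L ∈ gam D 1) (hLe : φ L = L ^ e) (hLp : L ^ p = 1) : L = 1 := by
  have key : ∀ r, r + 1 ≤ p → L ∈ gam D (r) := by
    intro r
    induction r with
    | zero => exact fun _ => mem_top L
    | succ r ih =>
      intro hr
      rcases Nat.eq_zero_or_pos r with rfl | hr0
      · exact hL
      have hr' := ih (by omega)
      have h1 := lcs_scale φ e hT hφ r L hr'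
      rw [hLe, map_pow] at h1
      set x := QuotientGroup.mk' ((⊤ : Subgroup D).lowerCentralSeries (r + 1)) L with hx
      have hxp : x ^ p = 1 := by rw [hx, ← map_pow, hLp, map_one]
      refine (QuotientGroup.eq_one_iff L).1 (?_ : x = 1)
      rcases (Nat.dvd_prime hp.out).1 (orderOf_dvd_of_pow_eq_one hxp) with h | h
      · exact orderOf_eq_one_iff.1 h
      · exact absurd (h ▸ (pow_eq_pow_iff_modEq.1 h1).symm) (he r hr0 (by omega))
  have := key (p - 1) (by have := hp.out.two_le; omega)
  rw [show gam D (p - 1) = ⊥ from hbot, mem_bot] at this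
  exact this

end Scale

/-- A primitive exponent: no power between the second and the `(p-1)`-st is congruent to it. -/
theorem exists_exponent (p : ℕ) [hp : Fact p.Prime] :
    ∃ e : ℕ, ∀ r, 1 ≤ r → r + 1 < p → ¬ e ^ (r + 1) ≡ e [MOD p] := by
  obtain ⟨u, hu⟩ := IsCyclic.exists_ofOrder_eq_natCard (α := (ZMod p)ˣ)
  refine ⟨(u : ZMod p).val, fun r hr hrp h => ?_⟩
  have h1 := (ZMod.natCast_eq_natCast_iff _ _ p).2 h
  rw [Nat.cast_pow, ZMod.natCast_val, ZMod.cast_id] at h1
  have h2 : u ^ (r + 1) = u := Units.ext (by push_cast; exact h1)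
  have h3 : u ^ r = 1 := by
    have : u ^ r * u = 1 * u := by rw [one_mul, ← pow_succ, h2]
    exact mul_right_cancel this
  have h4 := orderOf_dvd_of_pow_eq_one h3
  rw [hu, Nat.card_eq_fintype_card, ZMod.card_units] at h4
  have := Nat.le_of_dvd hr h4
  omega

/-- If `p` consecutive conjugates of `dl^[q] (y ^ t)` multiply to `1` and the intermediate terms
have order dividing `p`, then the last iterated commutator is trivial. -/
theorem iterate_eq_one {p : ℕ} [hp : Fact p.Prime] (s : G) (M : Subgroup G)
    (hs : ∀ m ∈ M, s * m * s⁻¹ ∈ M) (hcl : M.lowerCentralSeries (p - 1) = ⊥) {y : G} (hy : y ∈ M)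
    (q : ℕ) {W : G} (hWp : W ^ p = 1)
    (hsum : ∀ t : ℕ, ((dl s)^[q] (y ^ t) * s) ^ p = s ^ p)
    (hpow : ∀ t j : ℕ, j + 1 < p → ((dl s)^[q + j] (y ^ t)) ^ p = 1)
    (hW : ∀ t : ℕ, (dl s)^[q + (p - 1)] (y ^ t) = W ^ t) : W = 1 := by
  classical
  obtain ⟨e, he⟩ := exists_exponent p
  -- conjugation on sequences
  let σ : (ℕ → ↥M) →* (ℕ → ↥M) :=
    { toFun := fun f t => ⟨s * f t * s⁻¹, hs _ (f t).2⟩
      map_one' := by funext t; apply Subtype.ext; simp
      map_mul' := fun f g => by funext t; apply Subtype.ext; simp [mul_assoc] }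
  let Y : ℕ → ↥M := fun t => (⟨y, hy⟩ : ↥M) ^ t
  let orb : ℕ → ℕ → ↥M := fun k => σ^[k] Y
  set D : Subgroup (ℕ → ↥M) := closure (Set.range orb) with hD
  have hYD : Y ∈ D := subset_closure ⟨0, rfl⟩
  have hσD : ∀ f ∈ D, σ f ∈ D := by
    intro f hf
    have : D.map σ ≤ D := by
      rw [hD, MonoidHom.map_closure]
      refine closure_mono ?_
      rintro _ ⟨_, ⟨k, rfl⟩, rfl⟩
      exact ⟨k + 1, Function.iterate_succ_apply' σ k Y⟩
    exact this (mem_map_of_mem σ hf)
  let σD : ↥D →* ↥D :=
    { toFun := fun f => ⟨σ f.1, hσD f.1 f.2⟩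
      map_one' := Subtype.ext (map_one σ)
      map_mul' := fun f g => Subtype.ext (map_mul σ f.1 g.1) }
  -- dilation
  let dil : (ℕ → ↥M) →* (ℕ → ↥M) :=
    { toFun := fun f t => f (e * t)
      map_one' := rfl
      map_mul' := fun _ _ => rfl }
  have horb : ∀ k, dil (orb k) = orb k ^ e := by
    intro k
    induction k with
    | zero =>
      funext t
      show Y (e * t) = Y t ^ e
      simp only [Y]
      rw [← pow_mul, mul_comm]
    | succ k ih =>
      have e1 : orb (k + 1) = σ (orb k) := Function.iterate_succ_apply' σ k Y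
      rw [e1, ← map_pow, ← ih]
      rfl
  have hdilD : ∀ f ∈ D, dil f ∈ D := by
    intro f hf
    have : D.map dil ≤ D := by
      rw [hD, MonoidHom.map_closure, closure_le]
      rintro _ ⟨_, ⟨k, rfl⟩, rfl⟩
      rw [horb]
      exact pow_mem (subset_closure (Set.mem_range_self k)) _
    exact this (mem_map_of_mem dil hf)
  let φ : ↥D →* ↥D :=
    { toFun := fun f => ⟨dil f.1, hdilD f.1 f.2⟩
      map_one' := Subtype.ext (map_one dil)
      map_mul' := fun f g => Subtype.ext (map_mul dil f.1 g.1) }
  -- evaluation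
  let ψ : ℕ → ↥D →* G := fun t => M.subtype.comp ((Pi.evalMonoidHom (fun _ => ↥M) t).comp D.subtype)
  have hext : ∀ a b : ↥D, (∀ t, ψ t a = ψ t b) → a = b := fun a b h =>
    Subtype.ext (funext fun t => Subtype.ext (h t))
  have hψσ : ∀ t f, ψ t (σD f) = s * ψ t f * s⁻¹ := fun t f => rfl
  let dlD : ↥D → ↥D := fun f => f⁻¹ * σD f
  have hψdl : ∀ t f, ψ t (dlD f) = dl s (ψ t f) := by
    intro t f
    simp only [dlD, map_mul, map_inv, hψσ, dl]
  let Y0 : ↥D := ⟨Y, hYD⟩
  have hψY : ∀ t, ψ t Y0 = y ^ t := fun t => by simp [ψ, Y0, Y]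
  have hψit : ∀ j t, ψ t (dlD^[j] Y0) = (dl s)^[j] (y ^ t) := by
    intro j
    induction j with
    | zero => exact hψY
    | succ j ih => intro t; rw [Function.iterate_succ_apply', Function.iterate_succ_apply', hψdl, ih]
  -- the abelianization
  let π : ↥D →* Abelianization ↥D := Abelianization.of
  let S : Additive (Abelianization ↥D) →+ Additive (Abelianization ↥D) :=
    MonoidHom.toAdditive (Abelianization.map σD)
  let N : Additive (Abelianization ↥D) →+ Additive (Abelianization ↥D) := S - AddMonoidHom.id _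
  let a : ↥D → Additive (Abelianization ↥D) := fun f => Additive.ofMul (π f)
  have haS : ∀ f, a (σD f) = S (a f) := fun f => by
    show Additive.ofMul (π (σD f)) = Additive.ofMul (Abelianization.map σD (π f))
    rw [Abelianization.map_of]
  have haN : ∀ f, a (dlD f) = N (a f) := fun f => by
    simp only [N, AddMonoidHom.sub_apply, AddMonoidHom.id_apply, ← haS]
    simp only [a, dlD, map_mul, map_inv, ofMul_mul, ofMul_inv]
    abel
  have haNit : ∀ j f, a (dlD^[j] f) = N^[j] (a f) := by
    intro j f
    induction j with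
    | zero => rfl
    | succ j ih => rw [Function.iterate_succ_apply', Function.iterate_succ_apply', haN, ih]
  set V := dlD^[q] Y0 with hV
  let op : ℕ → ↥D := fun m => Nat.rec 1 (fun _ z => V * σD z) m
  have hψop : ∀ m t, ψ t (op m) = orbitProd s ((dl s)^[q] (y ^ t)) m := by
    intro m
    induction m with
    | zero => intro t; exact map_one _
    | succ m ih =>
      intro t
      show ψ t (V * σD (op m)) = _
      rw [map_mul, hψσ, ih, hV, hψit]
      rfl
  have hop : op p = 1 := hext _ _ fun t => by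
    rw [map_one, hψop]
    exact mul_right_cancel (b := s ^ p) (by rw [orbitProd_mul, hsum, one_mul])
  have haop : ∀ m, a (op m) = ∑ j ∈ Finset.range m, m.choose (j + 1) • N^[j] (a V) := by
    intro m
    induction m with
    | zero => simp [a, op]
    | succ m ih =>
      have e1 : a (op (m + 1)) = a V + S (a (op m)) := by
        show a (V * σD (op m)) = _
        rw [← haS]
        simp only [a, map_mul, ofMul_mul]
      have eS : ∀ z, S z = z + N z := fun z => by
        simp only [N, AddMonoidHom.sub_apply, AddMonoidHom.id_apply]; abel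
      rw [e1, eS, ih, map_sum]
      simp only [map_nsmul, ← Function.iterate_succ_apply']
      rw [Finset.sum_congr rfl fun j (_ : j ∈ Finset.range (m + 1)) =>
        (by rw [Nat.choose_succ_succ, add_smul] : (m + 1).choose (j + 1) • N^[j] (a V) =
          m.choose j • N^[j] (a V) + m.choose (j + 1) • N^[j] (a V)),
        Finset.sum_add_distrib, Finset.sum_range_succ' (fun j => m.choose j • N^[j] (a V)),
        Finset.sum_range_succ (fun j => m.choose (j + 1) • N^[j] (a V))]
      simp only [Nat.choose_zero_right, one_smul, Function.iterate_zero_apply,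
        Nat.choose_succ_self, zero_smul, add_zero, Nat.succ_eq_add_one]
      abel
  have hkill : ∀ j, j + 1 < p → p • N^[j] (a V) = 0 := by
    intro j hj
    have h1 : (dlD^[j] V) ^ p = 1 := hext _ _ fun t => by
      rw [map_pow, map_one, hV, ← Function.iterate_add_apply, hψit, add_comm j q]
      exact hpow t j hj
    rw [← haNit]
    show p • Additive.ofMul (π _) = 0
    rw [← ofMul_pow, ← map_pow, h1, map_one, ofMul_one]
  have hp1 : p - 1 + 1 = p := Nat.sub_add_cancel hp.out.one_lt.le
  have hzero : N^[p - 1] (a V) = 0 := by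
    have h1 := haop p
    rw [hop] at h1
    conv_rhs at h1 => rw [← hp1]
    rw [Finset.sum_range_succ, hp1, Nat.choose_self, one_smul,
      Finset.sum_eq_zero fun j hj => by
        obtain ⟨c, hc⟩ := hp.out.dvd_choose_self (k := j + 1) (by omega)
          (by have := Finset.mem_range.1 hj; omega)
        rw [hc, mul_comm, mul_smul, hkill j (by have := Finset.mem_range.1 hj; omega), smul_zero],
      zero_add] at h1
    rw [← h1]
    simp [a]
  set L := dlD^[q + (p - 1)] Y0 with hLdef
  have hLval : ∀ t, ψ t L = W ^ t := fun t => by rw [hLdef, hψit, hW]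
  have hLc : L ∈ (⊤ : Subgroup ↥D).lowerCentralSeries 1 := by
    rw [Subgroup.top_lowerCentralSeries_one, ← Abelianization.ker_of, MonoidHom.mem_ker]
    have h2 : a L = 0 := by
      rw [hLdef, add_comm, Function.iterate_add_apply, ← hV, haNit, hzero]
    exact Additive.ofMul.injective h2
  have hT : closure (D.subtype ⁻¹' Set.range orb) = ⊤ := by
    rw [hD]; exact closure_closure_coe_preimage
  have hbot : (⊤ : Subgroup ↥D).lowerCentralSeries (p - 1) = ⊥ := by
    rw [eq_bot_iff]
    intro h hh
    rw [mem_bot]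
    refine hext _ _ fun t => ?_
    rw [map_one, ← mem_bot, ← hcl]
    have h1 := mem_map_of_mem (ψ t) hh
    rw [Subgroup.map_lowerCentralSeries] at h1
    refine Subgroup.lowerCentralSeries_mono (p - 1) ?_ h1
    rintro _ ⟨f, -, rfl⟩
    exact SetLike.coe_mem _
  have hL1 : L = 1 := by
    refine eq_one_of_scale (p := p) φ e hT (fun x hx => ?_) he hbot hLc ?_ ?_
    · obtain ⟨k, hk⟩ := hx
      refine Subtype.ext ?_
      show dil x.1 = ((x ^ e : ↥D) : ℕ → ↥M)
      rw [SubmonoidClass.coe_pow, show x.1 = orb k from hk.symm, horb]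
    · refine hext _ _ fun t => ?_
      rw [map_pow, hLval, show ψ t (φ L) = ψ (e * t) L from rfl, hLval, ← pow_mul, mul_comm]
    · refine hext _ _ fun t => ?_
      rw [map_pow, hLval, map_one, ← pow_mul, mul_comm, pow_mul, hWp, one_pow]
  have := hLval 1
  rw [hL1, map_one, pow_one] at this
  exact this.symm

end CfsgLib.FGSA.PowerSum
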