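import Cfsg.Agent.FGSA.MaximalClassSection
import Cfsg.Agent.FGSA.PowerSum

/-!
The power structure of `p`-groups of maximal class, `p` odd: for `i ≥ 1` the map `x ↦ x ^ p`
shifts the level in the lower central series by exactly `p - 1`.
-/

set_option autoImplicit false
set_option linter.style.haveILetI false
set_option linter.unusedSectionVars false
set_option maxHeartbeats 800000

namespace CfsgLib.FGSA.MaxClassPow

open Subgroup CfsgLib.FGSA.MaxClass CfsgLib.FGSA.PowerSum
open scoped commutatorElement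

universe u

variable {G : Type u} [Group G]

theorem lcs_anti {a b : ℕ} (h : a ≤ b) : lcs G b ≤ lcs G a :=
  (⊤ : Subgroup G).lowerCentralSeries_antitone h

theorem mk_comm {N : Subgroup G} [N.Normal] {a b : G} :
    ⁅a, b⁆ ∈ N ↔ Commute (a : G ⧸ N) (b : G ⧸ N) := by
  rw [← QuotientGroup.eq_one_iff, ← QuotientGroup.mk'_apply, map_commutatorElement,
    commutatorElement_eq_one_iff_mul_comm]
  rfl

theorem mem_lcs_quotient {N : Subgroup G} [N.Normal] {i : ℕ} {x : G} (hx : x ∈ lcs G i) :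
    (x : G ⧸ N) ∈ lcs (G ⧸ N) i := by
  have h := mem_map_of_mem (QuotientGroup.mk' N) hx
  unfold lcs at h ⊢
  rw [Subgroup.map_lowerCentralSeries,
    Subgroup.map_top_of_surjective _ (QuotientGroup.mk'_surjective _)] at h
  exact h

theorem dl_mem {j : ℕ} (s : G) {v : G} (hv : v ∈ lcs G j) : dl s v ∈ lcs G (j + 1) := by
  rw [dl_eq]; exact comm_mem_succ j (inv_mem hv) s

theorem dl_iter_mem (s y : G) : ∀ j, (dl s)^[j] y ∈ lcs G j
  | 0 => mem_top y
  | j + 1 => by rw [Function.iterate_succ_apply']; exact dl_mem s (dl_iter_mem s y j)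

/-- The iterated differences are multilinear modulo the next term. -/
theorem dl_iter_pow (s y : G) (t : ℕ) : ∀ j,
    (((dl s)^[j] y) ^ t)⁻¹ * (dl s)^[j] (y ^ t) ∈ lcs G (j + 1) := by
  intro j
  induction j with
  | zero => simp
  | succ j ih =>
    rw [Function.iterate_succ_apply', Function.iterate_succ_apply']
    set v := (dl s)^[j] y with hv
    set u := (dl s)^[j] (y ^ t) with hu
    set π := QuotientGroup.mk' (lcs G (j + 1 + 1)) with hπ
    refine QuotientGroup.eq.1 ?_
    show π (dl s v ^ t) = π (dl s u)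
    have hcen : ∀ w ∈ lcs G (j + 1), ∀ g : G, Commute (π w) (π g) := fun w hw g =>
      mk_comm.1 (comm_mem_succ (j + 1) hw g)
    set e := (v ^ t)⁻¹ * u with he
    have hue : π u = π v ^ t * π e := by rw [← map_pow, ← map_mul, he, mul_inv_cancel_left]
    set c := dl s v with hc
    have hσ : π s * π v * (π s)⁻¹ = π v * π c := by
      rw [← map_mul, ← map_inv π s, ← map_mul, ← map_mul, hc, dl, mul_inv_cancel_left]
    have hcv : Commute (π v) (π c) := (hcen c (dl_mem s (dl_iter_mem s y j)) v).symm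
    have hes : π s * π e * (π s)⁻¹ = π e := by
      rw [← (hcen e ih s).eq, mul_inv_cancel_right]
    calc π (c ^ t) = π c ^ t := map_pow π c t
      _ = (π e)⁻¹ * π c ^ t * π e := by
          rw [mul_assoc, ((hcen c (dl_mem s (dl_iter_mem s y j)) e).pow_left t).eq,
            inv_mul_cancel_left]
      _ = (π e)⁻¹ * (π v ^ t)⁻¹ * ((π v * π c) ^ t * π e) := by
          rw [hcv.mul_pow]; group
      _ = (π v ^ t * π e)⁻¹ * ((π s * π v * (π s)⁻¹) ^ t * (π s * π e * (π s)⁻¹)) := by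
          rw [hσ, hes, mul_inv_rev]
      _ = (π u)⁻¹ * (π s * π u * (π s)⁻¹) := by rw [hue, conj_pow]; group
      _ = π (dl s u) := by simp only [dl, map_mul, map_inv]

theorem closure_insert_derived_le {x : G} {A N : Subgroup G} [N.Normal]
    (h1 : ∀ a ∈ A, ⁅a, x⁆ ∈ N) (h2 : ∀ a ∈ A, ∀ b ∈ A, ⁅a, b⁆ ∈ N) :
    ⁅closure (insert x (A : Set G)), closure (insert x (A : Set G))⁆ ≤ N := by
  have hcomm : IsMulCommutative ((closure (insert x (A : Set G))).map (QuotientGroup.mk' N)) := by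
    rw [MonoidHom.map_closure]
    refine Subgroup.isMulCommutative_closure ?_
    rintro _ ⟨u, hu, rfl⟩ _ ⟨v, hv, rfl⟩
    rcases hu with rfl | hu
    · rcases hv with rfl | hv
      · rfl
      · exact (mk_comm.1 (h1 v hv)).symm
    · rcases hv with rfl | hv
      · exact mk_comm.1 (h1 u hu)
      · exact mk_comm.1 (h2 u hu v hv)
  refine commutator_le.2 fun u hu v hv => mk_comm.2 ?_
  exact congrArg Subtype.val (hcomm.is_comm.comm ⟨_, mem_map_of_mem (QuotientGroup.mk' N) hu⟩
    ⟨_, mem_map_of_mem (QuotientGroup.mk' N) hv⟩)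

theorem lcs_of_derived {M : Subgroup G} {c : ℕ} (h : ⁅M, M⁆ ≤ lcs G c) :
    ∀ k, M.lowerCentralSeries (k + 1) ≤ lcs G (c + k)
  | 0 => h
  | k + 1 => commutator_mono (lcs_of_derived h k) le_top

theorem pow_law_of_bot {p : ℕ} [hp : Fact p.Prime] [Finite G] (hG : IsPGroup p G) {M : Subgroup G}
    (h : M.lowerCentralSeries (p - 1) = ⊥) : Regular.PowLaw p 1 M := by
  have hcl : (⊤ : Subgroup M).lowerCentralSeries (p - 1) = ⊥ := by
    refine (Subgroup.map_eq_bot_iff_of_injective _ M.subtype_injective).1 ?_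
    rw [Subgroup.top_subtype_lowerCentralSeries, h]
  exact fun a b => (Regular.isRegular_of_class_lt (hG.to_subgroup M) hcl).2 a b 1

/-- Multiplicativity of `p`-th powers in a subgroup of class less than `p`. -/
theorem pow_mul_eq {p : ℕ} [hp : Fact p.Prime] [Finite G] (hG : IsPGroup p G) {M : Subgroup G}
    (h : M.lowerCentralSeries (p - 1) = ⊥) (hexp : ∀ c ∈ ⁅M, M⁆, c ^ p = 1) {a b : G} (ha : a ∈ M)
    (hb : b ∈ M) : (a * b) ^ p = a ^ p * b ^ p := by
  obtain ⟨c, hc, e⟩ := (pow_law_of_bot hG h).exists_in (H := ⊤) (mem_top (⟨a, ha⟩ : M))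
    (mem_top (⟨b, hb⟩ : M))
  have h0 : ∀ z : ↥M, z ∈ ⁅(⊤ : Subgroup ↥M), (⊤ : Subgroup ↥M)⁆ → z ^ p ^ 1 = 1 := fun z hz => by
    have h1 := mem_map_of_mem M.subtype hz
    rw [Subgroup.map_commutator, ← MonoidHom.range_eq_map, Subgroup.range_subtype] at h1
    apply Subtype.ext
    rw [pow_one, SubgroupClass.coe_pow, OneMemClass.coe_one]
    exact hexp _ h1
  rw [Regular.powerClosure_eq_bot h0, mem_bot] at hc
  rw [hc, mul_one] at e
  simpa using congrArg Subtype.val e

/-- Products of elements of order dividing `p` in a subgroup of class less than `p`. -/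
theorem torsion_prod {p : ℕ} [hp : Fact p.Prime] [Finite G] (hG : IsPGroup p G) {M : Subgroup G}
    (h : M.lowerCentralSeries (p - 1) = ⊥) {a b : G} (ha : a ∈ M) (hb : b ∈ M) (ha' : a ^ p = 1)
    (hb' : b ^ p = 1) : (a * b) ^ p = 1 := by
  have := Regular.torsion_mul (hG.to_subgroup M) (pow_law_of_bot hG h) (a := ⟨a, ha⟩) (b := ⟨b, hb⟩)
    (Subtype.ext (by simpa using ha')) (Subtype.ext (by simpa using hb'))
  simpa using congrArg Subtype.val this

variable [Finite G] {p : ℕ} [hp : Fact p.Prime] {n : ℕ}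

theorem mem_twoStep_of_comm (hG : IsPGroup p G) (hn : Nat.card G = p ^ n) (h2 : 2 ≤ n)
    (hmax : lcs G (n - 2) ≠ ⊥) {j : ℕ} (hj : 1 ≤ j) (hjn : j + 2 ≤ n) {w s : G}
    (hw : w ∈ lcs G j) (hw' : w ∉ lcs G (j + 1)) (h : ⁅w, s⁆ ∈ lcs G (j + 2)) :
    s ∈ twoStep G j := by
  refine mem_twoStep.2 fun g hg => mk_comm.2 ?_
  have hK := eq_of_succ_lt hG hn h2 hmax (i := j) hj (by omega)
    (K := (centralizer ({(s : G ⧸ lcs G (j + 2))} : Set (G ⧸ lcs G (j + 2)))).comap
      (QuotientGroup.mk' (lcs G (j + 2))))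
    (fun y hy => mem_centralizer_singleton_iff.2 (mk_comm.1 (comm_mem_succ (j + 1) hy s)).eq)
    (mem_centralizer_singleton_iff.2 (mk_comm.1 h).eq) hw hw' hg
  exact mem_centralizer_singleton_iff.1 hK

theorem not_mem_lcs_of_avoid (hG : IsPGroup p G) (hn : Nat.card G = p ^ n) (h2 : 2 ≤ n)
    (hmax : lcs G (n - 2) ≠ ⊥) {j : ℕ} (hj : 1 ≤ j) (hjn : j + 2 ≤ n) {s v : G}
    (hs : s ∉ twoStep G j) (hv : v ∈ lcs G j) (hv' : v ∉ lcs G (j + 1)) :
    ⁅v, s⁆ ∉ lcs G (j + 2) := fun h => hs (mem_twoStep_of_comm hG hn h2 hmax hj hjn hv hv' h)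

theorem dl_iter_exact (hG : IsPGroup p G) (hn : Nat.card G = p ^ n) (h2 : 2 ≤ n)
    (hmax : lcs G (n - 2) ≠ ⊥) {s y : G} (h1 : dl s y ∉ lcs G 2)
    (hs : ∀ j, 1 ≤ j → j + 3 ≤ n → s ∉ twoStep G j) :
    ∀ j, j + 3 ≤ n → (dl s)^[j + 1] y ∉ lcs G (j + 2) := by
  intro j
  induction j with
  | zero => exact fun _ => h1
  | succ j ih =>
    intro hj
    rw [Function.iterate_succ_apply', dl_eq]
    exact not_mem_lcs_of_avoid hG hn h2 hmax (j := j + 1) (by omega) (by omega) (hs _ (by omega)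
      (by omega)) (inv_mem (dl_iter_mem s y (j + 1))) (fun h => ih (by omega) (by simpa using inv_mem h))

/-- Two elements generating modulo the derived subgroup do not commute modulo the next term. -/
theorem comm_not_mem_two (hG : IsPGroup p G) (hn : Nat.card G = p ^ n) (h3 : 3 ≤ n)
    (hmax : lcs G (n - 2) ≠ ⊥) {x x' : G} (hx : x ∉ lcs G 1)
    (hx' : x' ∉ closure (insert x (lcs G 1 : Set G))) : ⁅x, x'⁆ ∉ lcs G 2 := by
  intro hc
  set A := closure (insert x (lcs G 1 : Set G)) with hA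
  set B := closure (insert x' (A : Set G)) with hB
  have hγA : lcs G 1 < A := by
    refine lt_of_le_of_ne (fun y hy => subset_closure (Set.mem_insert_of_mem _ hy)) fun e => hx ?_
    rw [e]; exact subset_closure (Set.mem_insert _ _)
  have hAB : A < B := by
    refine lt_of_le_of_ne (fun y hy => subset_closure (Set.mem_insert_of_mem _ hy)) fun e => hx' ?_
    rw [e]; exact subset_closure (Set.mem_insert _ _)
  have hBtop : B = ⊤ := by
    refine Subgroup.eq_of_le_of_card_ge le_top ?_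
    rw [Subgroup.card_top, hn]
    calc p ^ n = p * (p * p ^ (n - 1 - 1)) := by
          rw [← pow_succ', ← pow_succ', show n - 1 - 1 + 1 + 1 = n by omega]
      _ = p * (p * Nat.card (lcs G 1)) := by rw [card_lcs hG hn hmax le_rfl (by omega)]
      _ ≤ p * Nat.card A :=
          Nat.mul_le_mul_left _ (CfsgLib.Uniserial.mul_card_le (hG.to_subgroup ⊤) le_top hγA)
      _ ≤ Nat.card B := CfsgLib.Uniserial.mul_card_le (hG.to_subgroup ⊤) le_top hAB
  refine not_le_succ hG hn (by omega) hmax (i := 1) (by omega) ?_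
  have hγ : ∀ a ∈ lcs G 1, ∀ g : G, ⁅a, g⁆ ∈ lcs G 2 := fun a ha g => comm_mem_succ 1 ha g
  have hA' : ∀ a ∈ A, ⁅a, x'⁆ ∈ lcs G 2 := by
    intro a ha
    have hle : A ≤ (centralizer ({(x' : G ⧸ lcs G 2)} : Set (G ⧸ lcs G 2))).comap
        (QuotientGroup.mk' (lcs G 2)) := by
      rw [hA, closure_le]
      rintro y (rfl | hy)
      · exact mem_centralizer_singleton_iff.2 (mk_comm.1 hc).eq
      · exact mem_centralizer_singleton_iff.2 (mk_comm.1 (hγ y hy x')).eq
    exact mk_comm.2 (mem_centralizer_singleton_iff.1 (hle ha))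
  have hAA : ∀ a ∈ A, ∀ b ∈ A, ⁅a, b⁆ ∈ lcs G 2 := fun a ha b hb =>
    closure_insert_derived_le (fun a ha => hγ a ha x) (fun a ha b _ => hγ a ha b)
      (commutator_mem_commutator ha hb)
  have h := closure_insert_derived_le hA' hAA
  rw [← hB, hBtop] at h
  exact h

/-- `p`-th powers of avoiding elements lie in the last term. -/
theorem pow_mem_last_of_avoid (hG : IsPGroup p G) (hn : Nat.card G = p ^ n) (h3 : 3 ≤ p) (hpn : p ≤ n)
    (hmax : lcs G (n - 2) ≠ ⊥) {x : G} (hx : ∀ j, p - 2 ≤ j → j + 3 ≤ n → x ∉ twoStep G j) :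
    x ^ p ∈ lcs G (n - 2) := by
  obtain ⟨hQp, hQn, hQmax⟩ := quotient_max hG hn hmax (m := p) (by omega) hpn
  refine fix hG hn (by omega) hmax (a := p - 2) (by omega) hx ?_ ((Commute.refl x).pow_left p)
  exact mem_of_quotient (N := lcs G (p - 1)) (i := p - 2) (lcs_anti (by omega))
    (by rw [QuotientGroup.mk_pow]; exact pow_mem_last p hQp hQn (by omega) le_rfl hQmax _)

/-- The first level: in order `p ^ (p + 1)` the derived subgroup has exponent `p`. -/
theorem pow_one_base (hG : IsPGroup p G) (hn : Nat.card G = p ^ (p + 1)) (h3 : 3 ≤ p)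
    (hmax : lcs G (p + 1 - 2) ≠ ⊥) {z : G} (hz : z ∈ lcs G 1) : z ^ p = 1 := by
  have h2 : 2 ≤ p + 1 := by omega
  obtain ⟨s, hs⟩ := exists_avoid hG hn h2 hmax 1 (p - 2) (by omega) (by omega)
  have hs' : ∀ j, 1 ≤ j → j + 3 ≤ p + 1 → s ∉ twoStep G j := fun j hj hj' => hs j hj (by omega)
  have hspow := pow_mem_last_of_avoid hG hn h3 (by omega) hmax (x := s)
    (fun j hj hj' => hs' j (by omega) hj')
  have hbot : lcs G p = ⊥ := lcs_last hG hn h2 hmax (by omega)
  set M : G → Subgroup G := fun x => closure (insert x (lcs G 1 : Set G)) with hM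
  have hxM : ∀ x, x ∈ M x := fun x => subset_closure (Set.mem_insert _ _)
  have hγM : ∀ x, lcs G 1 ≤ M x := fun x y hy => subset_closure (Set.mem_insert_of_mem _ hy)
  have hMd : ∀ x, ⁅M x, M x⁆ ≤ lcs G 2 := fun x =>
    closure_insert_derived_le (fun a ha => comm_mem_succ 1 ha x) fun a ha b _ => comm_mem_succ 1 ha b
  have hMb : ∀ x, (M x).lowerCentralSeries (p - 1) = ⊥ := fun x => by
    rw [show p - 1 = p - 2 + 1 by omega, eq_bot_iff]
    exact (lcs_of_derived (hMd x) (p - 2)).trans (by rw [show 2 + (p - 2) = p by omega, hbot])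
  -- the second term has exponent `p`
  have hexp : ∀ w ∈ lcs G 2, w ^ p = 1 := by
    intro w hw
    obtain ⟨g, hg, rfl⟩ := surj hG hn h2 hmax (a := 1) le_rfl (by omega) hs' (y := w) hw
    have h := (Regular.commute_pow_iff (hG.to_subgroup (M s)) (pow_law_of_bot hG (hMb s))
      ⟨s, hxM s⟩ (⟨g, hγM s hg⟩ : M s)⁻¹).1
      (Subtype.ext (by simpa using last_central hG hn h2 hmax hspow g⁻¹))
    have h' : (s⁻¹ * g * s * g⁻¹) ^ p = 1 := by simpa using congrArg Subtype.val h
    rw [show ⁅g, s⁆ = s * (s⁻¹ * g * s * g⁻¹) * s⁻¹ by rw [commutatorElement_def]; group,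
      conj_pow, h', mul_one, mul_inv_cancel]
  -- an element with central power outside `M s`
  have hMs : M s ≠ ⊤ := fun e => not_le_succ hG hn h2 hmax (i := 1) (by omega) (by
    have := hMd s; rw [e] at this; exact this)
  obtain ⟨y, hyM, hyt⟩ : ∃ y, y ∉ M s ∧ y ∉ twoStep G (p - 2) := by
    obtain ⟨a, -, ha⟩ := SetLike.exists_of_lt (lt_top_iff_ne_top.2 hMs)
    obtain ⟨b, -, hb⟩ := SetLike.exists_of_lt
      (lt_top_iff_ne_top.2 (twoStep_ne_top hG hn h2 hmax (j := p - 2) (by omega)))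
    by_cases ha' : a ∈ twoStep G (p - 2)
    · by_cases hb' : b ∈ M s
      · exact ⟨a * b, fun h => ha (by simpa using mul_mem h (inv_mem hb')),
          fun h => hb (by simpa using mul_mem (inv_mem ha') h)⟩
      · exact ⟨b, hb', hb⟩
    · exact ⟨a, ha, ha'⟩
  have hypow := pow_mem_last_of_avoid hG hn h3 (by omega) hmax (x := y)
    (fun j hj hj' => (show j = p - 2 by omega) ▸ hyt)
  set u := ⁅y, s⁆ with hu
  have hu1 : u ∈ lcs G 1 := comm_mem_succ 0 (mem_top y) s
  have hu2 : u ∉ lcs G 2 := by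
    rw [hu, ← commutatorElement_inv, inv_mem_iff]
    refine comm_not_mem_two hG hn (by omega) hmax (fun h => ?_) hyM
    exact hs 1 le_rfl (by omega) (mem_twoStep.2 fun g hg =>
      commutator_lcs 1 1 (commutator_mem_commutator hg h))
  have hup : u ^ p = 1 := by
    have hb : y⁻¹ * u ∈ M y := mul_mem (inv_mem (hxM y)) (hγM y hu1)
    have e := pow_mul_eq hG (hMb y) (fun c hc => hexp c (hMd y hc)) (hxM y) hb
    rw [mul_inv_cancel_left] at e
    rw [e, show y⁻¹ * u = s * y⁻¹ * s⁻¹ by rw [hu, commutatorElement_def]; group, conj_pow, inv_pow]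
    have hc := last_central hG hn h2 hmax (inv_mem hypow) s
    rw [← hc]; group
  have hT : lcs G 1 ≤ (Regular.torsion (hG.to_subgroup (M s)) (pow_law_of_bot hG (hMb s))).map
      (M s).subtype := by
    refine eq_of_succ_lt hG hn h2 hmax (i := 1) le_rfl (by omega) (fun w hw => ?_)
      ⟨⟨u, hγM s hu1⟩, Subtype.ext (by simpa using hup), rfl⟩ hu1 hu2
    exact ⟨⟨w, hγM s (lcs_anti (by omega) hw)⟩, Subtype.ext (by simpa using hexp w hw), rfl⟩
  obtain ⟨w, hw, rfl⟩ := hT hz
  simpa using congrArg Subtype.val (show w ^ p ^ 1 = 1 from hw)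

/-- The commutator identity: `⁅y, s⁆ ^ p = ⁅y ^ p, s⁆`. -/
theorem pow_comm_eq (hG : IsPGroup p G) (hn : Nat.card G = p ^ n) (h2 : 2 ≤ n)
    (hmax : lcs G (n - 2) ≠ ⊥) {a : ℕ} (ha : n - 1 ≤ 2 * a + p) {y s : G} (hy : y ∈ lcs G a)
    (hexp : ∀ c ∈ lcs G (2 * a + 2), c ^ p = 1) : ⁅y, s⁆ ^ p = ⁅y ^ p, s⁆ := by
  set z := ⁅y, s⁆ with hz
  have hp2 := hp.out.two_le
  set K := closure (insert y (zpowers z : Set G)) with hK
  have hyK : y ∈ K := subset_closure (Set.mem_insert _ _)
  have hzK : z ∈ K := subset_closure (Set.mem_insert_of_mem _ (mem_zpowers z))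
  have hd : ⁅K, K⁆ ≤ lcs G (2 * a + 2) := by
    refine closure_insert_derived_le (fun c hc => ?_) fun c hc d hd => ?_
    · have hc' : c ∈ lcs G (a + 1) := zpowers_le.2 (comm_mem_succ a hy s) hc
      exact lcs_anti (by omega) (commutator_lcs a (a + 1) (commutator_mem_commutator hc' hy))
    · obtain ⟨i, rfl⟩ := mem_zpowers_iff.1 hc
      obtain ⟨j, rfl⟩ := mem_zpowers_iff.1 hd
      rw [commutatorElement_eq_one_iff_mul_comm.2 (Commute.zpow_zpow (Commute.refl z) i j).eq]
      exact one_mem _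
  have hb : K.lowerCentralSeries (p - 1) = ⊥ := by
    rw [show p - 1 = p - 2 + 1 by omega, eq_bot_iff]
    exact (lcs_of_derived hd (p - 2)).trans (lcs_last hG hn h2 hmax (by omega)).le
  have e := pow_mul_eq hG hb (fun c hc => hexp c (hd hc)) hyK (mul_mem (inv_mem hyK) hzK)
  rw [mul_inv_cancel_left] at e
  rw [e, show y⁻¹ * z = s * y⁻¹ * s⁻¹ by rw [hz, commutatorElement_def]; group, conj_pow, inv_pow,
    commutatorElement_def]
  group

/-- Powers of the `j`-th term drop at least `p - 1` levels. -/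
theorem pow_mem (h3 : 3 ≤ p) : ∀ j, 1 ≤ j → ∀ {G : Type u} [Group G] [Finite G] {n : ℕ},
    IsPGroup p G → Nat.card G = p ^ n → j + p ≤ n → lcs G (n - 2) ≠ ⊥ →
    ∀ z ∈ lcs G j, z ^ p ∈ lcs G (j + p - 1) := by
  intro j hj
  induction j, hj using Nat.le_induction with
  | base =>
    intro G _ _ n hG hn hjn hmax z hz
    obtain ⟨hQp, hQn, hQmax⟩ := quotient_max hG hn hmax (m := p + 1) (by omega) (by omega)
    rw [show 1 + p - 1 = p + 1 - 1 by omega, ← QuotientGroup.eq_one_iff, QuotientGroup.mk_pow]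
    exact pow_one_base hQp hQn h3 hQmax (mem_lcs_quotient hz)
  | succ j hj ih =>
    intro G _ _ n hG hn hjn hmax z hz
    obtain ⟨hQp, hQn, hQmax⟩ := quotient_max hG hn hmax (m := j + 1 + p) (by omega) (by omega)
    rw [← QuotientGroup.eq_one_iff, QuotientGroup.mk_pow]
    generalize (z : G ⧸ lcs G (j + 1 + p - 1)) = w, mem_lcs_quotient (N := lcs G (j + 1 + p - 1)) hz
      = hw
    clear hz z
    revert w
    set Q := G ⧸ lcs G (j + 1 + p - 1)
    have h2 : 2 ≤ j + 1 + p := by omega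
    obtain ⟨s, hs⟩ := exists_avoid hQp hQn h2 hQmax j (p - 1) (by omega) (by omega)
    have key : ∀ d k, j + 1 ≤ k → j + p ≤ k + d → ∀ w ∈ lcs Q k, w ^ p = 1 := by
      intro d
      induction d with
      | zero =>
        intro k _ hk w hw
        have : w ∈ (⊥ : Subgroup Q) := by
          rw [← lcs_last hQp hQn h2 hQmax (j := k) (by omega)]; exact hw
        rw [mem_bot.1 this, one_pow]
      | succ d ihd =>
        intro k hk hkd w hw
        rcases Nat.lt_or_ge k (j + p) with hlt | hge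
        · obtain ⟨a, rfl⟩ : ∃ a, k = a + 1 := ⟨k - 1, by omega⟩
          obtain ⟨y, hy, rfl⟩ := surj hQp hQn h2 hQmax (a := a) (by omega) (by omega)
            (fun i hi hi' => hs i (by omega) (by omega)) hw
          rw [pow_comm_eq hQp hQn h2 hQmax (a := a) (by omega) hy
            (fun c hc => ihd (2 * a + 2) (by omega) (by omega) c hc)]
          have h1 := ih hQp hQn (by omega) hQmax y (lcs_anti (by omega) hy)
          exact commutatorElement_eq_one_iff_mul_comm.2
            (last_central hQp hQn h2 hQmax (lcs_anti (by omega) h1) s)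
        · have : w ∈ (⊥ : Subgroup Q) := by
            rw [← lcs_last hQp hQn h2 hQmax (j := k) (by omega)]; exact hw
          rw [mem_bot.1 this, one_pow]
    exact fun w hw => key (j + p) (j + 1) le_rfl (by omega) w hw

/-- The first level is shifted exactly. -/
theorem pow_ne_one_base (hG : IsPGroup p G) (hn : Nat.card G = p ^ (p + 2)) (h3 : 3 ≤ p)
    (hmax : lcs G (p + 2 - 2) ≠ ⊥) {z : G} (hz : z ∈ lcs G 1) (hz' : z ∉ lcs G 2) : z ^ p ≠ 1 := by
  intro hzp
  have h2 : 2 ≤ p + 2 := by omega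
  have hbot : lcs G (p + 1) = ⊥ := lcs_last hG hn h2 hmax (by omega)
  have hexp2 : ∀ w ∈ lcs G 2, w ^ p = 1 := fun w hw => by
    have := pow_mem h3 2 (by omega) hG hn (by omega) hmax w hw
    rwa [show 2 + p - 1 = p + 1 by omega, hbot, mem_bot] at this
  obtain ⟨s, hs⟩ := exists_avoid hG hn h2 hmax 1 (p - 1) (by omega) (by omega)
  have hs' : ∀ j, 1 ≤ j → j + 3 ≤ p + 2 → s ∉ twoStep G j := fun j hj hj' => hs j hj (by omega)
  have hspow := pow_mem_last_of_avoid hG hn h3 (by omega) hmax (x := s)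
    (fun j hj hj' => hs' j (by omega) hj')
  -- an element of the first two-step centraliser outside the derived subgroup
  obtain ⟨y, hy1, hy2⟩ : ∃ y, y ∈ twoStep G 1 ∧ y ∉ lcs G 1 := by
    classical
    obtain ⟨hQp, hQn, hQmax⟩ := quotient_max hG hn hmax (m := 4) (by omega) (by omega)
    have hQ2 : Nat.card (lcs (G ⧸ lcs G (4 - 1)) 2) = p := by
      rw [card_lcs hQp hQn hQmax (by omega) (by omega)]; exact pow_one p
    let f : G ⧸ lcs G 1 → ↥(lcs (G ⧸ lcs G (4 - 1)) 2) := fun x =>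
      ⟨((⁅z, x.out⁆ : G) : G ⧸ lcs G (4 - 1)), mem_lcs_quotient (comm_mem_succ 1 hz _)⟩
    have hG1 : Nat.card (G ⧸ lcs G 1) = p ^ 2 := (quotient_max hG hn hmax (m := 2) le_rfl (by omega)).2.1
    obtain ⟨x₁, x₂, hne, hf⟩ : ∃ x₁ x₂, x₁ ≠ x₂ ∧ f x₁ = f x₂ := by
      by_contra! hinj
      have h := Nat.card_le_card_of_injective f fun a b e => by
        by_contra hab; exact hinj a b hab e
      rw [hG1, hQ2] at h
      nlinarith [hp.out.two_le]
    refine ⟨x₁.out⁻¹ * x₂.out, ?_, fun hmem => hne ?_⟩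
    · refine mem_twoStep_of_comm hG hn h2 hmax le_rfl (by omega) hz hz' ?_
      have he : ((⁅z, x₁.out⁆ : G) : G ⧸ lcs G (4 - 1)) = ((⁅z, x₂.out⁆ : G) : G ⧸ lcs G (4 - 1)) :=
        congrArg Subtype.val hf
      refine mk_comm.2 ?_
      simp only [← QuotientGroup.mk'_apply (lcs G (4 - 1)), map_commutatorElement,
        commutatorElement_def] at he
      show ((z : G) : G ⧸ lcs G 3) * ((x₁.out⁻¹ * x₂.out : G) : G ⧸ lcs G 3) = _ * _
      simp only [QuotientGroup.mk_mul, QuotientGroup.mk_inv]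
      simp only [QuotientGroup.mk'_apply] at he
      set Z := ((z : G) : G ⧸ lcs G 3)
      set A := ((x₁.out : G) : G ⧸ lcs G 3)
      set B := ((x₂.out : G) : G ⧸ lcs G 3)
      have he' : Z * A * Z⁻¹ * A⁻¹ = Z * B * Z⁻¹ * B⁻¹ := he
      calc Z * (A⁻¹ * B) = (Z * A * Z⁻¹)⁻¹ * (Z * B * Z⁻¹) * Z := by group
        _ = (Z * A * Z⁻¹)⁻¹ * (Z * A * Z⁻¹ * A⁻¹ * B) * Z := by rw [he']; group
        _ = A⁻¹ * B * Z := by group
    · rw [← QuotientGroup.out_eq' x₁, ← QuotientGroup.out_eq' x₂]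
      exact QuotientGroup.eq.2 hmem
  set M := closure (insert y (lcs G 1 : Set G)) with hM
  have hyM : y ∈ M := subset_closure (Set.mem_insert _ _)
  have hγM : lcs G 1 ≤ M := fun x hx => subset_closure (Set.mem_insert_of_mem _ hx)
  have hMd : ⁅M, M⁆ ≤ lcs G 3 :=
    closure_insert_derived_le (fun a ha => mem_twoStep.1 hy1 a ha)
      fun a ha b hb => commutator_lcs 1 1 (commutator_mem_commutator ha hb)
  have hMb : M.lowerCentralSeries (p - 1) = ⊥ := by
    rw [show p - 1 = p - 2 + 1 by omega, eq_bot_iff]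
    exact (lcs_of_derived hMd (p - 2)).trans (by rw [show 3 + (p - 2) = p + 1 by omega, hbot])
  have hexp : ∀ w ∈ lcs G 1, w ^ p = 1 := by
    intro w hw
    have hT := eq_of_succ_lt hG hn h2 hmax (i := 1) le_rfl (by omega)
      (K := (Regular.torsion (hG.to_subgroup M) (pow_law_of_bot hG hMb)).map M.subtype)
      (fun v hv => ⟨⟨v, hγM (lcs_anti (by omega) hv)⟩, Subtype.ext (by simpa using hexp2 v hv), rfl⟩)
      ⟨⟨z, hγM hz⟩, Subtype.ext (by simpa using hzp), rfl⟩ hz hz'
    obtain ⟨v, hv, rfl⟩ := hT hw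
    simpa using congrArg Subtype.val (show v ^ p ^ 1 = 1 from hv)
  have hsM : s ∉ M := fun h => hs 1 le_rfl (by omega) (by
    have hle : M ≤ twoStep G 1 := by
      rw [hM, closure_le]
      rintro x (rfl | hx)
      · exact hy1
      · exact mem_twoStep.2 fun g hg => commutator_lcs 1 1 (commutator_mem_commutator hg hx)
    exact hle h)
  have hd1 : dl s y ∉ lcs G 2 := by
    rw [dl_eq]
    refine comm_not_mem_two hG hn (by omega) hmax (fun h => hy2 (by simpa using inv_mem h)) ?_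
    intro h
    refine hsM ((closure_le M).2 ?_ h)
    rintro x (rfl | hx)
    · exact inv_mem hyM
    · exact hγM hx
  set W := (dl s)^[p] y with hW
  have hWne : W ≠ 1 := by
    have := dl_iter_exact hG hn h2 hmax hd1 hs' (p - 1) (by omega)
    rw [show p - 1 + 1 = p by omega, ← hW, show p - 1 + 2 = p + 1 by omega] at this
    exact fun h => this (h ▸ one_mem _)
  refine hWne (iterate_eq_one (p := p) s M (fun m hm => ?_) hMb hyM 1 ?_ (fun t => ?_)
    (fun t j hj => ?_) fun t => ?_)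
  · have h1 : ⁅s, m⁆ ∈ M := hγM (comm_mem_succ 0 (mem_top s) m)
    simpa [commutatorElement_def] using mul_mem h1 hm
  · exact hexp W (lcs_anti (by omega) (dl_iter_mem s y p))
  · rw [Function.iterate_one, dl_mul_self, conj_pow]
    rw [inv_inv, mul_assoc, last_central hG hn h2 hmax hspow, inv_mul_cancel_left]
  · exact hexp _ (lcs_anti (by omega) (dl_iter_mem s (y ^ t) (1 + j)))
  · have h := dl_iter_pow s y t p
    rw [hbot, mem_bot, inv_mul_eq_one] at h
    rw [show 1 + (p - 1) = p by omega]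
    exact h.symm

/-- Powers shift the level exactly. -/
theorem pow_not_mem (h3 : 3 ≤ p) : ∀ j, 1 ≤ j → ∀ {G : Type u} [Group G] [Finite G] {n : ℕ},
    IsPGroup p G → Nat.card G = p ^ n → j + p + 1 ≤ n → lcs G (n - 2) ≠ ⊥ →
    ∀ z ∈ lcs G j, z ∉ lcs G (j + 1) → z ^ p ∉ lcs G (j + p) := by
  intro j hj
  induction j, hj using Nat.le_induction with
  | base =>
    intro G _ _ n hG hn hjn hmax z hz hz'
    obtain ⟨hQp, hQn, hQmax⟩ := quotient_max hG hn hmax (m := p + 2) (by omega) (by omega)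
    rw [show 1 + p = p + 2 - 1 by omega, ← QuotientGroup.eq_one_iff, QuotientGroup.mk_pow]
    exact pow_ne_one_base hQp hQn h3 hQmax (mem_lcs_quotient hz) fun h =>
      hz' (mem_of_quotient (lcs_anti (by omega)) h)
  | succ j hj ih =>
    intro G _ _ n hG hn hjn hmax z hz hz'
    obtain ⟨hQp, hQn, hQmax⟩ := quotient_max hG hn hmax (m := j + 2 + p) (by omega) (by omega)
    rw [show j + 1 + p = j + 2 + p - 1 by omega, ← QuotientGroup.eq_one_iff, QuotientGroup.mk_pow]
    have hzq := mem_lcs_quotient (N := lcs G (j + 2 + p - 1)) hz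
    have hzq' : (z : G ⧸ lcs G (j + 2 + p - 1)) ∉ lcs (G ⧸ lcs G (j + 2 + p - 1)) (j + 1 + 1) :=
      fun h => hz' (mem_of_quotient (lcs_anti (by omega)) h)
    generalize (z : G ⧸ lcs G (j + 2 + p - 1)) = w at hzq hzq'
    have h2 : 2 ≤ j + 2 + p := by omega
    obtain ⟨s, hs⟩ := exists_avoid hQp hQn h2 hQmax j p le_rfl (by omega)
    obtain ⟨y, hy, rfl⟩ := surj hQp hQn h2 hQmax (a := j) hj (by omega)
      (fun i hi hi' => hs i hi (by omega)) hzq
    intro h
    have hy' : y ∉ lcs (G ⧸ lcs G (j + 2 + p - 1)) (j + 1) := fun h' => hzq' (comm_mem_succ _ h' s)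
    have hexp : ∀ c ∈ lcs (G ⧸ lcs G (j + 2 + p - 1)) (2 * j + 2), c ^ p = 1 := fun c hc => by
      have h1 := pow_mem h3 (j + 2) (by omega) hQp hQn (by omega) hQmax c (lcs_anti (by omega) hc)
      rwa [lcs_last hQp hQn h2 hQmax (j := j + 2 + p - 1) (by omega), mem_bot] at h1
    rw [pow_comm_eq hQp hQn h2 hQmax (a := j) (by omega) hy hexp] at h
    refine not_mem_lcs_of_avoid hQp hQn h2 hQmax (j := j + p - 1) (by omega) (by omega)
      (hs _ (by omega) (by omega)) (pow_mem h3 j hj hQp hQn (by omega) hQmax y hy) ?_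
      (h ▸ one_mem _)
    rw [show j + p - 1 + 1 = j + p by omega]
    exact ih hQp hQn (by omega) hQmax y hy hy'

/-- A group of maximal class of order `p ^ (p + 1)` does not have exponent `p`. -/
theorem exists_pow_ne_one (hG : IsPGroup p G) (hn : Nat.card G = p ^ (p + 1)) (h3 : 3 ≤ p)
    (hmax : lcs G (p + 1 - 2) ≠ ⊥) : ∃ g : G, g ^ p ≠ 1 := by
  by_contra! hexp
  have h2 : 2 ≤ p + 1 := by omega
  have hbot : lcs G p = ⊥ := lcs_last hG hn h2 hmax (by omega)
  obtain ⟨s, hs⟩ := exists_avoid hG hn h2 hmax 1 (p - 2) (by omega) (by omega)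
  have hs' : ∀ j, 1 ≤ j → j + 3 ≤ p + 1 → s ∉ twoStep G j := fun j hj hj' => hs j hj (by omega)
  have hMd : ∀ x, ⁅closure (insert x (lcs G 1 : Set G)), closure (insert x (lcs G 1 : Set G))⁆ ≤
      lcs G 2 := fun x =>
    closure_insert_derived_le (fun a ha => comm_mem_succ 1 ha x) fun a ha b _ => comm_mem_succ 1 ha b
  obtain ⟨y, -, hys⟩ := SetLike.exists_of_lt (lt_top_iff_ne_top.2
    (fun e => not_le_succ hG hn h2 hmax (i := 1) (by omega) (by
      have := hMd s; rw [e] at this; exact this) :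
    closure (insert s (lcs G 1 : Set G)) ≠ ⊤))
  have hd1 : dl s y ∉ lcs G 2 := by
    rw [dl_eq, ← commutatorElement_inv, inv_mem_iff]
    refine comm_not_mem_two hG hn (by omega) hmax (fun h => ?_) fun h => hys (by simpa using inv_mem h)
    exact hs 1 le_rfl (by omega) (mem_twoStep.2 fun g hg =>
      commutator_lcs 1 1 (commutator_mem_commutator hg h))
  set M := closure (insert y (lcs G 1 : Set G)) with hM
  have hMb : M.lowerCentralSeries (p - 1) = ⊥ := by
    rw [show p - 1 = p - 2 + 1 by omega, eq_bot_iff]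
    exact (lcs_of_derived (hMd y) (p - 2)).trans (by rw [show 2 + (p - 2) = p by omega, hbot])
  have hWne := dl_iter_exact hG hn h2 hmax hd1 hs' (p - 2) (by omega)
  rw [show p - 2 + 1 = p - 1 by omega] at hWne
  refine hWne ?_
  have hW1 : (dl s)^[p - 1] y = 1 := by
    refine iterate_eq_one (p := p) s M (fun m hm => ?_) hMb (subset_closure (Set.mem_insert _ _)) 0
      (hexp _) (fun t => by rw [hexp, hexp]) (fun t j _ => hexp _) fun t => ?_
    · have h1 : ⁅s, m⁆ ∈ M := subset_closure (Set.mem_insert_of_mem _ (comm_mem_succ 0 (mem_top s) m))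
      simpa [commutatorElement_def] using mul_mem h1 hm
    · have h := dl_iter_pow s y t (p - 1)
      rw [show p - 1 + 1 = p by omega, hbot, mem_bot, inv_mul_eq_one] at h
      rw [Nat.zero_add]
      exact h.symm
  rw [hW1]
  exact one_mem _

end CfsgLib.FGSA.MaxClassPow
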