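import Cfsg.Agent.Solvable.Glauberman
import Cfsg.Agent.PLocal.PConstrained
import Mathlib.GroupTheory.SpecificGroups.Cyclic

/-!
Groups in which every maximal subgroup has a normal `p`-complement or prime index.
-/

set_option autoImplicit false
set_option linter.style.haveILetI false
set_option linter.unusedSectionVars false

namespace CfsgLib.MaxPNilpotent

open Subgroup Pointwise CfsgLib.Solvable CfsgLib.SZ

universe u

/-- Every element of `B` has a power of `p`-power exponent in `A`. -/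
def PStep (p : ℕ) {G : Type*} [Group G] (A B : Subgroup G) : Prop :=
  ∀ x ∈ B, ∃ k : ℕ, x ^ p ^ k ∈ A

/-- Every element of `B` has a power of exponent prime to `p` in `A`. -/
def QStep (p : ℕ) {G : Type*} [Group G] (A B : Subgroup G) : Prop :=
  ∀ x ∈ B, ∃ m : ℕ, ¬ p ∣ m ∧ x ^ m ∈ A

/-- A normal series with factors `p'`, `p`, `p'`, `p`. -/
def Chain (p : ℕ) (G : Type*) [Group G] : Prop :=
  ∃ A B C : Subgroup G, A.Normal ∧ B.Normal ∧ C.Normal ∧ A ≤ B ∧ B ≤ C ∧
    QStep p ⊥ A ∧ PStep p A B ∧ QStep p B C ∧ PStep p C ⊤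

/-- The hypothesis on maximal subgroups. -/
def Hyp (p : ℕ) (G : Type*) [Group G] : Prop :=
  ∀ M : Subgroup G, IsCoatom M →
    (∃ K : Subgroup ↥M, K.Normal ∧ ¬ p ∣ Nat.card K ∧ ∃ k : ℕ, K.index = p ^ k) ∨ (M.index).Prime

variable {p : ℕ} [hp : Fact p.Prime] {G H H' : Type*} [Group G] [Group H] [Group H']

theorem not_dvd_mul {m n : ℕ} (hm : ¬ p ∣ m) (hn : ¬ p ∣ n) : ¬ p ∣ m * n := fun h =>
  (hp.out.dvd_mul.1 h).elim hm hn

theorem QStep.trans {A B C : Subgroup G} (h1 : QStep p A B) (h2 : QStep p B C) : QStep p A C := by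
  intro x hx
  obtain ⟨m, hm, hx'⟩ := h2 x hx
  obtain ⟨n, hn, hx''⟩ := h1 _ hx'
  exact ⟨m * n, not_dvd_mul hm hn, by rwa [pow_mul]⟩

theorem QStep.refl (A : Subgroup G) : QStep p A A :=
  fun x hx => ⟨1, hp.out.not_dvd_one, by rwa [pow_one]⟩

theorem PStep.refl (A : Subgroup G) : PStep p A A := fun x hx => ⟨0, by simpa using hx⟩

theorem QStep.comap {A B : Subgroup H} (f : G →* H) (h : QStep p A B) :
    QStep p (A.comap f) (B.comap f) := fun x hx => by
  obtain ⟨m, hm, hx'⟩ := h _ hx
  exact ⟨m, hm, by show f (x ^ m) ∈ A; rwa [map_pow]⟩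

theorem PStep.comap {A B : Subgroup H} (f : G →* H) (h : PStep p A B) :
    PStep p (A.comap f) (B.comap f) := fun x hx => by
  obtain ⟨k, hx'⟩ := h _ hx
  exact ⟨k, by show f (x ^ p ^ k) ∈ A; rwa [map_pow]⟩

theorem PStep.inf {A B A' B' : Subgroup G} (h : PStep p A B) (h' : PStep p A' B') :
    PStep p (A ⊓ A') (B ⊓ B') := fun x hx => by
  obtain ⟨k, hk⟩ := h x hx.1
  obtain ⟨l, hl⟩ := h' x hx.2
  exact ⟨k + l, by rw [pow_add, pow_mul]; exact pow_mem hk _,
    by rw [pow_add, mul_comm, pow_mul]; exact pow_mem hl _⟩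

theorem QStep.inf {A B A' B' : Subgroup G} (h : QStep p A B) (h' : QStep p A' B') :
    QStep p (A ⊓ A') (B ⊓ B') := fun x hx => by
  obtain ⟨k, hk, hk'⟩ := h x hx.1
  obtain ⟨l, hl, hl'⟩ := h' x hx.2
  exact ⟨k * l, not_dvd_mul hk hl, by rw [pow_mul]; exact pow_mem hk' _,
    by rw [mul_comm, pow_mul]; exact pow_mem hl' _⟩

/-- A chain in a quotient by a `p'`-subgroup lifts. -/
theorem Chain.lift (f : G →* H) (hq : QStep p (⊥ : Subgroup G) f.ker) (h : Chain p H) : Chain p G := by
  obtain ⟨A, B, C, hA, hB, hC, hAB, hBC, s1, s2, s3, s4⟩ := h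
  refine ⟨A.comap f, B.comap f, C.comap f, hA.comap f, hB.comap f, hC.comap f, comap_mono hAB,
    comap_mono hBC, ?_, s2.comap f, s3.comap f, ?_⟩
  · have := s1.comap f
    rw [MonoidHom.comap_bot] at this
    exact hq.trans this
  · simpa using s4.comap f

/-- Chains pass to subdirect products. -/
theorem Chain.pair (f : G →* H) (f' : G →* H') (hinj : f.ker ⊓ f'.ker = ⊥) (h : Chain p H)
    (h' : Chain p H') : Chain p G := by
  obtain ⟨A, B, C, hA, hB, hC, hAB, hBC, s1, s2, s3, s4⟩ := h
  obtain ⟨A', B', C', hA', hB', hC', hAB', hBC', t1, t2, t3, t4⟩ := h'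
  haveI := hA.comap f; haveI := hB.comap f; haveI := hC.comap f
  haveI := hA'.comap f'; haveI := hB'.comap f'; haveI := hC'.comap f'
  refine ⟨A.comap f ⊓ A'.comap f', B.comap f ⊓ B'.comap f', C.comap f ⊓ C'.comap f', inferInstance,
    inferInstance, inferInstance, inf_le_inf (comap_mono hAB) (comap_mono hAB'),
    inf_le_inf (comap_mono hBC) (comap_mono hBC'), ?_, (s2.comap f).inf (t2.comap f'),
    (s3.comap f).inf (t3.comap f'), ?_⟩
  · have := (s1.comap f).inf (t1.comap f')
    rwa [MonoidHom.comap_bot, MonoidHom.comap_bot, hinj] at this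
  · simpa using (s4.comap f).inf (t4.comap f')

theorem qStep_of_card [Finite G] (A : Subgroup G) (h : ¬ p ∣ Nat.card A) : QStep p ⊥ A :=
  fun x hx => ⟨Nat.card A, h, mem_bot.2 (congrArg Subtype.val (pow_card_eq_one' (x := (⟨x, hx⟩ : A))))⟩

theorem pStep_of_isPGroup {A : Subgroup G} (h : IsPGroup p A) : PStep p ⊥ A := fun x hx => by
  obtain ⟨k, hk⟩ := h ⟨x, hx⟩
  exact ⟨k, mem_bot.2 (congrArg Subtype.val hk)⟩

theorem Hyp.map (f : G →* H) (hf : Function.Surjective f) (h : Hyp p G) : Hyp p H := by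
  intro M hM
  rcases h _ (Subgroup.isCoatom_comap_of_surjective hf hM) with ⟨K, hK, hKp, k, hk⟩ | hpr
  · let g : ↥(M.comap f) →* ↥M :=
      (f.comp (M.comap f).subtype).codRestrict M fun x => x.2
    have hg : Function.Surjective g := fun y => by
      obtain ⟨x, hx⟩ := hf y
      exact ⟨⟨x, by show f x ∈ M; rw [hx]; exact y.2⟩, Subtype.ext hx⟩
    refine Or.inl ⟨K.map g, hK.map g hg, fun hd => hKp (hd.trans (card_map_dvd _ _)), ?_⟩
    have hdvd : (K.map g).index ∣ K.index := index_map_dvd _ hg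
    rw [hk] at hdvd
    obtain ⟨j, -, hj⟩ := (Nat.dvd_prime_pow hp.out).1 hdvd
    exact ⟨j, hj⟩
  · rw [index_comap_of_surjective _ hf] at hpr
    exact Or.inr hpr

/-- The main theorem. -/
theorem chain_of_hyp (n : ℕ) : ∀ (G : Type u) [Group G] [Finite G], Nat.card G = n →
    (Group.IsSolvable G ∨ Cfsg.IsPSolvable p G) → Hyp p G → Chain p G := by
  induction n using Nat.strongRecOn with | ind n ih => ?_
  rintro G _ _ rfl hs hyp
  rcases subsingleton_or_nontrivial G with hG | hG
  · exact ⟨⊥, ⊥, ⊥, inferInstance, inferInstance, inferInstance, le_rfl, le_rfl, QStep.refl _,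
      PStep.refl _, QStep.refl _, fun x _ => ⟨0, by rw [Subsingleton.elim x 1]; simp⟩⟩
  have hquot : ∀ K : Subgroup G, [K.Normal] → K ≠ ⊥ → Chain p (G ⧸ K) := by
    intro K _ hK
    refine ih _ (card_quotient_lt hK) (G ⧸ K) rfl ?_
      (hyp.map _ (QuotientGroup.mk'_surjective K))
    rcases hs with hs | hs
    · haveI := hs
      exact Or.inl inferInstance
    · exact Or.inr (PConstrained.isPSolvable_map _ (QuotientGroup.mk'_surjective K) hs)
  by_cases hex : ∃ K : Subgroup G, K.Normal ∧ K ≠ ⊥ ∧ ¬ p ∣ Nat.card K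
  · obtain ⟨K, hKn, hK1, hKp⟩ := hex
    exact (hquot K hK1).lift (QuotientGroup.mk' K)
      (by rw [QuotientGroup.ker_mk']; exact qStep_of_card K hKp)
  push Not at hex
  obtain ⟨P, hPn, hP1, hPp⟩ : ∃ P : Subgroup G, P.Normal ∧ P ≠ ⊥ ∧ IsPGroup p P := by
    rcases hs with hs | hs
    · haveI : (⊤ : Subgroup G).Normal := inferInstance
      haveI := hs
      obtain ⟨M, hMn, hM1, -, -, -, q, hq, -, hMq⟩ :=
        exists_normal_elementary_le (N := (⊤ : Subgroup G)) top_ne_bot inferInstance
      have hd := hex M hMn hM1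
      haveI := Fact.mk hq
      obtain ⟨j, hj⟩ := IsPGroup.iff_card.1 hMq
      rw [hj] at hd
      obtain rfl : p = q := (Nat.prime_dvd_prime_iff_eq hp.out hq).1 (hp.out.dvd_of_dvd_pow hd)
      exact ⟨M, hMn, hM1, hMq⟩
    · rcases PConstrained.exists_core_ne_bot hs with h | h
      · exact ⟨_, (pCore_spec p).1, h, isPGroup_pCore p⟩
      · exact absurd (hex _ (pPrimeCore_spec p).1 h)
          (fun hd => hp.out.ne_one (Nat.eq_one_of_dvd_coprimes (coprime_card_pPrimeCore p) hd dvd_rfl))
  haveI := hPn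
  obtain ⟨N, hNn, hN1, hNP, hmin⟩ := exists_minimal_normal_le hP1
  haveI := hNn
  have hNp : IsPGroup p N := hPp.to_le hNP
  have hNc : IsMulCommutative N := by
    haveI : Group.IsNilpotent N := hNp.isNilpotent
    exact (minimal_normal_elementary hN1 hmin inferInstance).1
  by_cases hfr : ∃ M : Subgroup G, IsCoatom M ∧ ¬ N ≤ M
  · obtain ⟨M, hM, hNM⟩ := hfr
    have hMN : M ⊔ N = ⊤ := hM.2 _ (lt_of_le_of_ne le_sup_left fun e => hNM (e ▸ le_sup_right))
    have hinf : M ⊓ N = ⊥ := by
      refine (hmin _ ?_ inf_le_right).resolve_right fun e => hNM (e ▸ inf_le_left)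
      refine ⟨fun x hx g => ?_⟩
      obtain ⟨m, hm, a, ha, rfl⟩ := (mem_sup_of_le_normalizer (A := M) (K := N)
        le_normalizer_of_normal).1 (show g ∈ M ⊔ N by rw [hMN]; trivial)
      have e : a * x * a⁻¹ = x := by
        have := congrArg Subtype.val (hNc.is_comm.comm ⟨a, ha⟩ ⟨x, hx.2⟩)
        rw [show a * x = x * a from this, mul_inv_cancel_right]
      rw [show m * a * x * (m * a)⁻¹ = m * (a * x * a⁻¹) * m⁻¹ by group, e]
      exact ⟨mul_mem (mul_mem hm hx.1) (M.inv_mem hm), Normal.conj_mem inferInstance x hx.2 m⟩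
    have hrep : ∀ g : G, ∃ m : M, ((m : G) : G ⧸ N) = (g : G ⧸ N) := fun g => by
      obtain ⟨m, hm, a, ha, rfl⟩ := (mem_sup_of_le_normalizer (A := M) (K := N)
        le_normalizer_of_normal).1 (show g ∈ M ⊔ N by rw [hMN]; trivial)
      exact ⟨⟨m, hm⟩, (QuotientGroup.mk_mul_of_mem m ha).symm⟩
    rcases hyp M hM with ⟨K, hK, hKp, k, hk⟩ | hpr
    · -- a `p`-nilpotent complement
      let f : ↥M →* G ⧸ N := (QuotientGroup.mk' N).comp M.subtype
      have hf : Function.Surjective f := fun q => by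
        induction q using QuotientGroup.induction_on with
        | H g => obtain ⟨m, hm⟩ := hrep g; exact ⟨m, hm⟩
      haveI := hK
      haveI : (K.map f).Normal := hK.map f hf
      refine ⟨⊥, N, (K.map f).comap (QuotientGroup.mk' N), inferInstance, hNn, inferInstance,
        bot_le, fun x hx => ?_, QStep.refl _, pStep_of_isPGroup hNp, fun x hx => ?_, fun x _ => ?_⟩
      · show QuotientGroup.mk' N x ∈ K.map f
        rw [show QuotientGroup.mk' N x = 1 from (QuotientGroup.eq_one_iff x).2 hx]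
        exact one_mem _
      · obtain ⟨c, hc, hcx⟩ := hx
        refine ⟨Nat.card K, hKp, (QuotientGroup.eq_one_iff _).1 ?_⟩
        show QuotientGroup.mk' N (x ^ Nat.card K) = 1
        rw [map_pow, ← hcx, ← map_pow,
          show c ^ Nat.card K = 1 from congrArg Subtype.val (pow_card_eq_one' (x := (⟨c, hc⟩ : K))),
          map_one]
      · obtain ⟨m, hm⟩ := hrep x
        refine ⟨k, m ^ p ^ k, hk ▸ pow_index_mem K m, ?_⟩
        show f (m ^ p ^ k) = QuotientGroup.mk' N (x ^ p ^ k)
        rw [map_pow, map_pow]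
        exact congrArg (· ^ p ^ k) hm
    · -- `N` has order `p`
      have hidx : M.index = Nat.card N := by
        have h1 := card_sup_mul_card_inf (A := M) (K := N) le_normalizer_of_normal
        rw [hMN, hinf, card_top, card_bot, mul_one, ← M.card_mul_index] at h1
        exact Nat.eq_of_mul_eq_mul_left Nat.card_pos h1
      obtain ⟨j, hj⟩ := IsPGroup.iff_card.1 hNp
      rw [hidx] at hpr
      have hNcard : Nat.card N = p := by
        rw [hj] at hpr ⊢
        rw [hpr.eq_one_of_pow, pow_one]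
      set C := M ⊓ centralizer (N : Set G) with hC
      have hCn : C.Normal := by
        refine ⟨fun x hx g => ?_⟩
        obtain ⟨m, hm, a, ha, rfl⟩ := (mem_sup_of_le_normalizer (A := M) (K := N)
          le_normalizer_of_normal).1 (show g ∈ M ⊔ N by rw [hMN]; trivial)
        have e : a * x * a⁻¹ = x := by
          rw [show a * x = x * a from (mem_centralizer_iff.1 hx.2 a ha), mul_inv_cancel_right]
        rw [show m * a * x * (m * a)⁻¹ = m * (a * x * a⁻¹) * m⁻¹ by group, e]
        exact ⟨mul_mem (mul_mem hm hx.1) (M.inv_mem hm),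
          (Normal.conj_mem inferInstance x hx.2 m)⟩
      by_cases hC1 : C = ⊥
      · refine ⟨⊥, N, ⊤, inferInstance, hNn, inferInstance, bot_le, le_top, QStep.refl _,
          pStep_of_isPGroup hNp, fun x _ => ?_, PStep.refl _⟩
        refine ⟨Nat.card M, fun hd => ?_, (QuotientGroup.eq_one_iff _).1 ?_⟩
        · obtain ⟨⟨m, hmM⟩, hm⟩ := exists_prime_orderOf_dvd_card' p hd
          replace hm : orderOf m = p := by rw [← Subgroup.orderOf_coe] at hm; exact hm
          have hdis : zpowers m ⊓ N = ⊥ :=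
            le_bot_iff.1 ((inf_le_inf_right N (zpowers_le.2 hmM)).trans hinf.le)
          have hsq : Nat.card ↥(zpowers m ⊔ N) = p ^ 2 := by
            rw [card_sup_of_disjoint le_normalizer_of_normal hdis, Nat.card_zpowers, hm, hNcard,
              pow_two]
          have hcomm := IsPGroup.commutative_of_card_eq_prime_sq hsq
          have hmC : m ∈ C := ⟨hmM, mem_centralizer_iff.2 fun a ha => congrArg Subtype.val
            (hcomm ⟨a, mem_sup_right ha⟩ ⟨m, mem_sup_left (mem_zpowers m)⟩)⟩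
          rw [hC1, mem_bot] at hmC
          rw [hmC, orderOf_one] at hm
          exact hp.out.one_lt.ne hm
        · obtain ⟨m, hm⟩ := hrep x
          rw [QuotientGroup.mk_pow, ← hm, ← QuotientGroup.mk_pow, ← SubmonoidClass.coe_pow,
            pow_card_eq_one']
          rfl
      · haveI := hCn
        exact (hquot N hN1).pair (QuotientGroup.mk' N) (QuotientGroup.mk' C)
          (by rw [QuotientGroup.ker_mk', QuotientGroup.ker_mk', eq_bot_iff, ← hinf]
              exact fun x hx => ⟨hx.2.1, hx.1⟩) (hquot C hC1)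
  · -- `N` lies in every maximal subgroup
    push Not at hfr
    obtain ⟨A0, B0, C0, hA0, hB0, hC0, hAB, hBC, s1, s2, s3, s4⟩ := hquot N hN1
    suffices hA : A0 = ⊥ by
      subst hA
      refine ⟨⊥, B0.comap (QuotientGroup.mk' N), C0.comap (QuotientGroup.mk' N), inferInstance,
        hB0.comap _, hC0.comap _, bot_le, comap_mono hBC, QStep.refl _, fun x hx => ?_,
        s3.comap _, ?_⟩
      · obtain ⟨k, hk⟩ := s2.comap (QuotientGroup.mk' N) x hx
        rw [MonoidHom.comap_bot, QuotientGroup.ker_mk'] at hk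
        obtain ⟨l, hl⟩ := pStep_of_isPGroup hNp _ hk
        exact ⟨k + l, by rwa [pow_add, pow_mul]⟩
      · simpa using s4.comap (QuotientGroup.mk' N)
    by_contra hA
    set A := A0.comap (QuotientGroup.mk' N) with hAdef
    haveI : A.Normal := hA0.comap _
    have hNA : N ≤ A := fun x hx => by
      show QuotientGroup.mk' N x ∈ A0
      rw [show QuotientGroup.mk' N x = 1 from (QuotientGroup.eq_one_iff x).2 hx]
      exact one_mem _
    have hA0p : (Nat.card A0).Coprime p := by
      rw [Nat.coprime_comm, hp.out.coprime_iff_not_dvd]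
      intro hd
      obtain ⟨⟨x, hxA⟩, hx⟩ := exists_prime_orderOf_dvd_card' p hd
      obtain ⟨m, hm, hxm⟩ := s1 x hxA
      rw [← orderOf_coe] at hx
      rw [mem_bot] at hxm
      exact hm (hx ▸ orderOf_dvd_of_pow_eq_one hxm)
    have hAi : (N.subgroupOf A).index = Nat.card A0 := by
      have h1 : Nat.card N * N.relIndex A = Nat.card A := by
        rw [← relIndex_bot_left, ← relIndex_bot_left]
        exact relIndex_mul_relIndex ⊥ N A bot_le hNA
      have h2 : Nat.card A = Nat.card N * Nat.card A0 := by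
        conv_rhs => rw [← map_comap_eq_self_of_surjective (QuotientGroup.mk'_surjective N) A0,
          ← relIndex_ker, QuotientGroup.ker_mk']
        exact h1.symm
      exact Nat.eq_of_mul_eq_mul_left Nat.card_pos (h1.trans h2)
    obtain ⟨j, hj⟩ := IsPGroup.iff_card.1 hNp
    have hNsub : Nat.card (N.subgroupOf A) = p ^ j := by
      rw [Nat.card_congr (subgroupOfEquivOfLe hNA).toEquiv, hj]
    obtain ⟨Q, hQ⟩ := exists_right_complement'_of_coprime (N := N.subgroupOf A)
      (by rw [hAi, hNsub]; exact hA0p.symm.pow_left j)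
    set R := Q.map A.subtype
    have hRc : Nat.card R = Nat.card A0 := by
      rw [Nat.card_congr (Q.equivMapOfInjective A.subtype A.subtype_injective).symm.toEquiv,
        ← hQ.symm.index_eq_card, hAi]
    have hcop : (Nat.card R).Coprime (Nat.card N) := by rw [hRc, hj]; exact hA0p.pow_right j
    have hRA : R ⊔ N = A := by
      refine eq_of_le_of_card_le (sup_le (map_subtype_le Q) hNA) (le_of_eq ?_)
      rw [card_sup_of_disjoint le_normalizer_of_normal (inf_eq_bot_of_coprime hcop),
        ← (N.subgroupOf A).card_mul_index, hAi, hRc, hNsub, hj, mul_comm]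
    have hgen : normalizer (R : Set G) ⊔ N = ⊤ := by
      rw [eq_top_iff]
      intro g _
      have hle : MulAut.conj g • R ≤ R ⊔ N := by
        rw [hRA]
        intro x hx
        obtain ⟨r, hr, rfl⟩ := Subgroup.mem_map.1 hx
        exact Normal.conj_mem inferInstance r (hRA.le (mem_sup_left hr)) g
      obtain ⟨k, hk, hkR⟩ := conj_le (A := R) (K := N) (U := MulAut.conj g • R)
        le_normalizer_of_normal hcop
        (Or.inr (haveI : Group.IsNilpotent N := hNp.isNilpotent; inferInstance)) hle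
        (by rwa [card_conj_smul])
      rw [← mul_smul, ← map_mul] at hkR
      have heq : MulAut.conj (k * g) • R = R :=
        eq_of_le_of_card_le hkR (by rw [card_conj_smul])
      have hkg : k * g ∈ normalizer (R : Set G) := conjAct_pointwise_smul_iff.1 heq
      exact (show g = k⁻¹ * (k * g) by group) ▸
        mul_mem (mem_sup_right (inv_mem hk)) (mem_sup_left hkg)
    have hnorm : normalizer (R : Set G) = ⊤ := by
      by_contra hne
      obtain ⟨M, hM, hRM⟩ := (eq_top_or_exists_le_coatom (normalizer (R : Set G))).resolve_left hne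
      exact hM.1 (top_le_iff.1 (hgen ▸ sup_le hRM (hfr M hM)))
    have hRn : R.Normal := normalizer_eq_top_iff.1 hnorm
    have hR1 : R ≠ ⊥ := fun e => hA (card_eq_one.1 (by rw [← hRc, e, card_bot]))
    refine hp.out.not_dvd_one (?_ : p ∣ 1)
    rw [← hA0p.gcd_eq_one, ← hRc]
    exact Nat.dvd_gcd (hex R hRn hR1) dvd_rfl

theorem card_of_chain [Finite G] (h : Chain p G) :
    ∃ A B C : Subgroup G, A.Normal ∧ B.Normal ∧ C.Normal ∧ A ≤ B ∧ B ≤ C ∧ ¬ p ∣ Nat.card A ∧
      (∃ k : ℕ, A.relIndex B = p ^ k) ∧ ¬ p ∣ B.relIndex C ∧ ∃ k : ℕ, C.index = p ^ k := by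
  obtain ⟨A, B, C, hA, hB, hC, hAB, hBC, s1, s2, s3, s4⟩ := h
  haveI := hA; haveI := hB; haveI := hC
  have pstep : ∀ X Y : Subgroup G, [X.Normal] → PStep p X Y → ∃ k : ℕ, X.relIndex Y = p ^ k := by
    intro X Y _ hs
    have : IsPGroup p (Y ⧸ X.subgroupOf Y) := fun q => by
      induction q using QuotientGroup.induction_on with
      | H x =>
        obtain ⟨k, hk⟩ := hs x x.2
        exact ⟨k, by rw [← QuotientGroup.mk_pow, QuotientGroup.eq_one_iff]; exact hk⟩
    exact IsPGroup.iff_card.1 this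
  have qstep : ∀ X Y : Subgroup G, [X.Normal] → QStep p X Y → ¬ p ∣ X.relIndex Y := by
    intro X Y _ hs hd
    obtain ⟨q, hq⟩ := exists_prime_orderOf_dvd_card' (G := Y ⧸ X.subgroupOf Y) p hd
    induction q using QuotientGroup.induction_on with
    | H x =>
      obtain ⟨m, hm, hxm⟩ := hs x x.2
      refine hm (hq ▸ orderOf_dvd_of_pow_eq_one ?_)
      rw [← QuotientGroup.mk_pow, QuotientGroup.eq_one_iff]
      exact hxm
  refine ⟨A, B, C, hA, hB, hC, hAB, hBC, ?_, pstep A B s2, qstep B C s3, ?_⟩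
  · rw [← relIndex_bot_left]
    exact qstep ⊥ A s1
  · rw [← relIndex_top_right]
    exact pstep C ⊤ s4

end CfsgLib.MaxPNilpotent
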