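import Cfsg.Agent.FGSA.RankTwoOdd
import Cfsg.Prelude.Def_OddOrderLocal

/-!
Metacyclic `p`-groups, `p` odd: powers, class sizes and the abelian subgroups.
-/

set_option autoImplicit false
set_option linter.style.haveILetI false
set_option linter.unusedSectionVars false

namespace CfsgLib.FGSA.Metacyclic

open Subgroup CfsgLib.FGSA.Huppert
open scoped commutatorElement

universe u

/-- A `p`-group with at most `p ^ 2` elements of order `p` and cyclic derived subgroup. -/
structure Good (p : ℕ) (G : Type u) [Group G] : Prop where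
  isP : IsPGroup p G
  small : SmallOmega p G
  cyc : IsCyclic (commutator G)

variable {G : Type u} [Group G] [Finite G] {p : ℕ} [hp : Fact p.Prime]

theorem good_of_metacyclic (hp2 : p ≠ 2) (hG : IsPGroup p G) (hm : Cfsg.IsMetacyclic G) : Good p G := by
  classical
  obtain ⟨N, hNn, hN, hQ⟩ := hm
  refine ⟨hG, ?_, ?_⟩
  · by_cases hcyc : IsCyclic G
    · haveI := Fintype.ofFinite G
      have hle : ∀ x ∈ Cfsg.omegaOne p (⊤ : Subgroup G), x ^ p = 1 := by
        intro x hx
        letI : CommGroup G := IsCyclic.commGroup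
        unfold Cfsg.omegaOne at hx
        induction hx using closure_induction with
        | mem y hy => exact hy.2
        | one => exact one_pow p
        | mul a b _ _ ha hb => rw [mul_pow, ha, hb, one_mul]
        | inv a _ ha => rw [inv_pow, ha, inv_one]
      obtain ⟨c, hc⟩ := IsCyclic.exists_ofOrder_eq_natCard (α := Cfsg.omegaOne p (⊤ : Subgroup G))
      refine le_trans ?_ (Nat.le_self_pow two_ne_zero p)
      rw [← hc]
      exact orderOf_le_of_pow_eq_one hp.out.pos (Subtype.ext (hle c c.2))
    · obtain ⟨A, hAe, hA2, hall⟩ := CfsgLib.OddPGroup.omega_metacyclic hp2 hG hcyc N hN hQ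
      exact (card_le_of_le ((closure_le _).2 fun x hx => hall x hx.2)).trans hA2.le
  · haveI := hQ
    have hle : commutator G ≤ N :=
      Normal.quotient_commutative_iff_commutator_le.1 ⟨⟨(IsCyclic.commGroup (α := G ⧸ N)).mul_comm⟩⟩
    exact isCyclic_of_injective (Subgroup.inclusion hle) (Subgroup.inclusion_injective hle)

theorem map_commutator_subtype (H : Subgroup G) : (commutator H).map H.subtype = ⁅H, H⁆ :=
  Subgroup.map_subtype_commutator H

theorem Good.subgroup (h : Good p G) (H : Subgroup G) : Good p H := by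
  refine ⟨h.isP.to_subgroup H, h.small.subgroup H, ?_⟩
  haveI := h.cyc
  have hle : (commutator H).map H.subtype ≤ commutator G := by
    rw [map_commutator_subtype, _root_.commutator_def]
    exact commutator_mono le_top le_top
  exact isCyclic_of_injective
    ((Subgroup.inclusion hle).comp ((commutator H).equivMapOfInjective _ H.subtype_injective).toMonoidHom)
    ((Subgroup.inclusion_injective hle).comp (MulEquiv.injective _))

theorem relIndex_le_index' (H K : Subgroup G) : H.relIndex K ≤ H.index := by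
  rw [← relIndex_top_right]
  exact relIndex_le_of_le_right le_top (by rw [relIndex_top_right]; exact index_ne_zero_of_finite)

variable (hp2 : p ≠ 2) (hG : Good p G)
include hp2 hG

theorem Good.law (m : ℕ) : Regular.PowLaw p m G := fun a b =>
  (isRegular_of_cyclic_commutator hp2 hG.isP hG.cyc).2 a b m

theorem Good.index_powers_le : (Cfsg.powerClosure p 1 (⊤ : Subgroup G)).index ≤ p ^ 2 := by
  set P := Cfsg.powerClosure p 1 (⊤ : Subgroup G) with hP
  refine Nat.le_of_mul_le_mul_left ?_ (Nat.card_pos (α := P))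
  rw [P.card_mul_index]
  have hle := card_le_of_fibre (⊤ : Subgroup G) P (Cfsg.omegaOne p (⊤ : Subgroup G))
    (fun x _ => pow_mem_top_powerClosure x) fun a _ b _ e => subset_closure
      ⟨mem_top _, by simpa using (Regular.pow_eq_iff hG.isP (hG.law hp2 1) a b).1 (by simpa using e)⟩
  rw [card_top] at hle
  exact hle.trans (Nat.mul_le_mul_left _ hG.small)

omit hp2 hG in
/-- The elements of the derived subgroup killed by `p ^ m`. -/
def torsionDerived (G : Type u) [Group G] [IsCyclic (commutator G)] (p m : ℕ) : Subgroup G :=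
  letI : CommGroup (commutator G) := IsCyclic.commGroup
  ((powMonoidHom (p ^ m) : commutator G →* commutator G).ker).map (commutator G).subtype

omit hp2 hG in
theorem mem_torsionDerived [IsCyclic (commutator G)] {m : ℕ} {x : G} :
    x ∈ torsionDerived G p m ↔ x ∈ commutator G ∧ x ^ p ^ m = 1 := by
  letI : CommGroup (commutator G) := IsCyclic.commGroup
  constructor
  · rintro ⟨y, hy, rfl⟩
    exact ⟨y.2, congrArg Subtype.val (MonoidHom.mem_ker.1 hy)⟩
  · rintro ⟨h1, h2⟩
    exact ⟨⟨x, h1⟩, MonoidHom.mem_ker.2 (Subtype.ext h2), rfl⟩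

omit hp2 hG in
theorem card_torsionDerived_le [IsCyclic (commutator G)] (m : ℕ) :
    Nat.card (torsionDerived G p m) ≤ p ^ m := by
  letI : CommGroup (commutator G) := IsCyclic.commGroup
  rw [torsionDerived, card_map_of_injective (commutator G).subtype_injective]
  obtain ⟨c, hc⟩ := IsCyclic.exists_ofOrder_eq_natCard
    (α := (powMonoidHom (p ^ m) : commutator G →* commutator G).ker)
  rw [← hc]
  exact orderOf_le_of_pow_eq_one (pow_pos hp.out.pos m) (Subtype.ext (MonoidHom.mem_ker.1 c.2))

omit hp2 hG in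
theorem torsionDerived_normal [IsCyclic (commutator G)] (m : ℕ) : (torsionDerived G p m).Normal :=
  ⟨fun x hx g => mem_torsionDerived.2 ⟨(inferInstance : (commutator G).Normal).conj_mem x
    (mem_torsionDerived.1 hx).1 g, by rw [conj_pow, (mem_torsionDerived.1 hx).2, mul_one, mul_inv_cancel]⟩⟩

theorem Good.commute_pow_iff (m : ℕ) (a b : G) :
    Commute (a ^ p ^ m) b ↔ (a⁻¹ * b⁻¹ * a * b) ^ p ^ m = 1 :=
  Regular.commute_pow_iff hG.isP (hG.law hp2 m) a b

theorem Good.commute_pow_symm (m : ℕ) (a b : G) : Commute (a ^ p ^ m) b ↔ Commute a (b ^ p ^ m) := by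
  rw [hG.commute_pow_iff hp2, Commute.symm_iff (a := a), hG.commute_pow_iff hp2,
    show b⁻¹ * a⁻¹ * b * a = (a⁻¹ * b⁻¹ * a * b)⁻¹ by group, inv_pow, inv_eq_one]

theorem Good.commutator_pow_eq_one_iff (m : ℕ) (a b : G) :
    ⁅a, b⁆ ^ p ^ m = 1 ↔ Commute (a ^ p ^ m) b := by
  rw [show ⁅a, b⁆ = a⁻¹⁻¹ * b⁻¹⁻¹ * a⁻¹ * b⁻¹ by simp [commutatorElement_def], ← hG.commute_pow_iff hp2,
    inv_pow, Commute.inv_left_iff, Commute.inv_right_iff]

/-- The size of a conjugacy class. -/
theorem Good.index_centralizer_le_iff (x : G) (m : ℕ) :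
    (centralizer ({x} : Set G)).index ≤ p ^ m ↔ x ^ p ^ m ∈ center G := by
  haveI := hG.cyc
  set C := centralizer ({x} : Set G) with hC
  constructor
  · intro h
    refine mem_center_iff.2 fun b => ?_
    suffices hb : b ^ p ^ m ∈ C from ((hG.commute_pow_symm hp2 m x b).2
      (mem_centralizer_singleton_iff.1 hb).symm).eq.symm
    haveI : (C.subgroupOf (zpowers b)).Normal := ⟨fun a ha g => by
      rw [mul_comm' g a, mul_inv_cancel_right]; exact ha⟩
    set j := (C.subgroupOf (zpowers b)).index with hj
    have hjle : j ≤ p ^ m := le_trans (relIndex_le_index' C (zpowers b)) h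
    obtain ⟨i, hi⟩ := (hG.isP.to_subgroup (zpowers b)).index (C.subgroupOf (zpowers b))
    have hmem := Subgroup.pow_index_mem (C.subgroupOf (zpowers b)) ⟨b, mem_zpowers b⟩
    rw [hi, mem_subgroupOf, Subgroup.coe_pow] at hmem
    rw [← hj] at hi
    rw [hi] at hjle
    have him := (Nat.pow_le_pow_iff_right hp.out.one_lt).1 hjle
    rw [show p ^ m = p ^ i * p ^ (m - i) by rw [← pow_add, Nat.add_sub_cancel' him], pow_mul]
    exact pow_mem hmem _
  · intro h
    refine le_trans ?_ (card_torsionDerived_le (G := G) (p := p) m)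
    rw [index_eq_card]
    refine Nat.card_le_card_of_injective
      (fun q : G ⧸ C => (⟨⁅q.out, x⁆, mem_torsionDerived.2 ⟨commutator_mem_commutator (mem_top _) (mem_top _), by
        rw [hG.commutator_pow_eq_one_iff hp2, hG.commute_pow_symm hp2]
        exact mem_center_iff.1 h _⟩⟩ : torsionDerived G p m)) ?_
    intro a b e
    have e' := congrArg Subtype.val e
    simp only [commutatorElement_def, mul_left_inj] at e'
    rw [← a.out_eq', ← b.out_eq']
    refine QuotientGroup.eq.2 (mem_centralizer_singleton_iff.2 ?_)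
    calc a.out⁻¹ * b.out * x = a.out⁻¹ * (b.out * x * b.out⁻¹) * b.out := by group
      _ = _ := by rw [← e']; group

omit hp2 in
/-- The order of the derived subgroup as a prime power. -/
theorem Good.exists_card_derived : ∃ n, Nat.card (commutator G) = p ^ n :=
  IsPGroup.iff_card.1 (hG.isP.to_subgroup _)

theorem Good.pow_mem_center {n : ℕ} (hn : Nat.card (commutator G) = p ^ n) (x : G) : x ^ p ^ n ∈ center G := by
  refine mem_center_iff.2 fun g => ((hG.commutator_pow_eq_one_iff hp2 n x g).1 ?_).eq.symm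
  rw [← hn]
  exact congrArg Subtype.val
    (pow_card_eq_one' (x := (⟨⁅x, g⁆, commutator_mem_commutator (mem_top x) (mem_top g)⟩ : commutator G)))

theorem Good.frattini_eq : frattini G = Cfsg.powerClosure p 1 (⊤ : Subgroup G) := by
  haveI := powerClosure_normal (p := p) 1 (⊤ : Subgroup G)
  refine le_antisymm ?_ ?_
  · refine CfsgLib.PGroupBasic.frattini_le_of_elementary (p := p) _ ?_ fun x => pow_mem_top_powerClosure x
    obtain ⟨k, hk⟩ := hG.isP.index (Cfsg.powerClosure p 1 (⊤ : Subgroup G))
    have hi := hG.index_powers_le hp2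
    rw [hk] at hi
    exact Normal.quotient_commutative_iff_commutator_le.1 ⟨⟨commutative_le_sq (p := p)
      (by rw [← index_eq_card, hk]) ((Nat.pow_le_pow_iff_right hp.out.one_lt).1 hi)⟩⟩
  · rw [Cfsg.powerClosure, closure_le]
    rintro _ ⟨x, -, rfl⟩
    simpa using (CfsgLib.PGroupBasic.commutator_pow_le_frattini hG.isP).2 x

/-- An element outside the Frattini subgroup extends to a pair of generators. -/
theorem Good.exists_partner {g : G} (hg : g ∉ frattini G) :
    ∃ h : G, closure ({g, h} : Set G) = ⊤ := by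
  set F := frattini G with hF
  set S := zpowers g ⊔ F with hS
  have hgle : ∀ h : G, zpowers h ⊔ S = ⊤ → closure ({g, h} : Set G) = ⊤ := by
    intro h htop
    refine frattini_nongenerating (top_unique (htop.ge.trans ?_))
    exact sup_le (le_sup_of_le_left (zpowers_le.2 (subset_closure (by simp))))
      (sup_le (le_sup_of_le_left (zpowers_le.2 (subset_closure (by simp)))) le_sup_right)
  by_cases hSt : S = ⊤
  · exact ⟨g, hgle g (by rw [hSt, sup_top_eq])⟩
  obtain ⟨h, -, hh⟩ := SetLike.exists_of_lt (lt_top_iff_ne_top.2 hSt)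
  refine ⟨h, hgle h (eq_top_of_card_eq _ (le_antisymm (card_le_card_group _) ?_))⟩
  have h1 : F < S := lt_of_le_of_ne le_sup_right fun e => hg (e ▸ mem_sup_left (mem_zpowers g))
  have h2 : S < zpowers h ⊔ S :=
    lt_of_le_of_ne le_sup_right fun e => hh (e ▸ mem_sup_left (mem_zpowers h))
  calc Nat.card G = Nat.card F * F.index := F.card_mul_index.symm
    _ ≤ Nat.card F * p ^ 2 := Nat.mul_le_mul_left _ (by
      rw [hF, hG.frattini_eq hp2]; exact hG.index_powers_le hp2)
    _ = p * (p * Nat.card F) := by ring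
    _ ≤ p * Nat.card S := Nat.mul_le_mul_left _ (card_mul_le_of_lt hG.isP h1)
    _ ≤ _ := card_mul_le_of_lt hG.isP h2

omit hp2 hG in
theorem commutator_le_of_generators {T : Subgroup G} [T.Normal] (S : Set G) (hS : closure S = ⊤)
    (h : ∀ a ∈ S, ∀ b ∈ S, ⁅a, b⁆ ∈ T) : commutator G ≤ T := by
  refine Normal.quotient_commutative_iff_commutator_le.1 ⟨⟨fun u v => ?_⟩⟩
  obtain ⟨u, rfl⟩ := QuotientGroup.mk'_surjective T u
  obtain ⟨v, rfl⟩ := QuotientGroup.mk'_surjective T v
  set σ := QuotientGroup.mk' T
  have hgen' : closure (σ '' S) = ⊤ := by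
    rw [← MonoidHom.map_closure, hS, map_top_of_surjective _ (QuotientGroup.mk'_surjective _)]
  haveI := Subgroup.isMulCommutative_closure (k := σ '' S) (by
    rintro _ ⟨s, hs, rfl⟩ _ ⟨r, hr, rfl⟩
    exact commutatorElement_eq_one_iff_mul_comm.1 (by
      rw [← map_commutatorElement]; exact (QuotientGroup.eq_one_iff _).2 (h s hs r hr)))
  exact congrArg Subtype.val (mul_comm' (⟨_, hgen' ▸ mem_top (σ u)⟩ : closure (σ '' S))
    ⟨_, hgen' ▸ mem_top (σ v)⟩)

theorem Good.derived_le_of_not_mem {g : G} (hg : g ∉ frattini G) {m : ℕ} (h : g ^ p ^ m ∈ center G) :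
    Nat.card (commutator G) ≤ p ^ m := by
  haveI := hG.cyc
  haveI := torsionDerived_normal (G := G) (p := p) m
  obtain ⟨k, hk⟩ := hG.exists_partner hp2 hg
  refine le_trans (card_le_of_le ?_) (card_torsionDerived_le (G := G) (p := p) m)
  refine commutator_le_of_generators _ hk fun a ha b hb =>
    mem_torsionDerived.2 ⟨commutator_mem_commutator (mem_top a) (mem_top b), ?_⟩
  rcases ha with rfl | rfl <;> rcases hb with rfl | rfl
  · rw [commutatorElement_self, one_pow]
  · exact (hG.commutator_pow_eq_one_iff hp2 m _ _).2 (mem_center_iff.1 h _).symm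
  · rw [hG.commutator_pow_eq_one_iff hp2, hG.commute_pow_symm hp2]
    exact mem_center_iff.1 h _
  · rw [commutatorElement_self, one_pow]

/-- The subgroup of `p ^ s`-th powers. -/
theorem Good.mem_powers_iff {n : ℕ} (hn : Nat.card (commutator G) = p ^ n) {s : ℕ} (hs : s ≤ n) (x : G) :
    x ∈ Cfsg.powerClosure p s (⊤ : Subgroup G) ↔ x ^ p ^ (n - s) ∈ center G := by
  have hmem : ∀ s x, x ∈ Cfsg.powerClosure p s (⊤ : Subgroup G) ↔ ∃ y, x = y ^ p ^ s := fun s x => by
    rw [Regular.mem_powerClosure_iff hG.isP (hG.law hp2 s)]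
    simp
  rw [hmem]
  constructor
  · rintro ⟨y, rfl⟩
    rw [← pow_mul, ← pow_add, Nat.add_sub_cancel' hs]
    exact hG.pow_mem_center hp2 hn y
  · induction s generalizing x with
    | zero => exact fun _ => ⟨x, by rw [pow_zero, pow_one]⟩
    | succ s ih =>
      intro h
      have hxF : x ∈ frattini G := by
        by_contra hx
        have := hG.derived_le_of_not_mem hp2 hx h
        rw [hn] at this
        have := (Nat.pow_le_pow_iff_right hp.out.one_lt).1 this
        omega
      rw [hG.frattini_eq hp2, hmem] at hxF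
      obtain ⟨y, rfl⟩ := hxF
      obtain ⟨z, rfl⟩ := ih (by omega) y (by
        rw [← pow_mul, pow_one, ← pow_succ'] at h
        rwa [show n - s = n - (s + 1) + 1 by omega])
      exact ⟨z, by rw [← pow_mul, pow_one, ← pow_succ]⟩

theorem Good.powers_eq_center {n : ℕ} (hn : Nat.card (commutator G) = p ^ n) :
    Cfsg.powerClosure p n (⊤ : Subgroup G) = center G := by
  ext x
  rw [hG.mem_powers_iff hp2 hn le_rfl, Nat.sub_self, pow_zero, pow_one]

theorem Good.not_mem_frattini_data {n : ℕ} (hn : Nat.card (commutator G) = p ^ n) {g : G}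
    (hg : g ∉ frattini G) : (centralizer ({g} : Set G)).index = p ^ n ∧
      zpowers g ⊔ center G = centralizer ({g} : Set G) ∧ (center G).index = p ^ (2 * n) := by
  haveI := hG.cyc
  set C := centralizer ({g} : Set G) with hC
  have hile := (hG.index_centralizer_le_iff hp2 g n).2 (hG.pow_mem_center hp2 hn g)
  obtain ⟨j, hj⟩ := hG.isP.index C
  have hjn : n ≤ j := by
    have h := hG.derived_le_of_not_mem hp2 hg ((hG.index_centralizer_le_iff hp2 g j).1 hj.le)
    rw [hn] at h
    exact (Nat.pow_le_pow_iff_right hp.out.one_lt).1 h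
  have hidx : C.index = p ^ n := le_antisymm hile (hj ▸ Nat.pow_le_pow_right hp.out.pos hjn)
  set Z := center G with hZ
  have hZC : Z ≤ C := fun z hz => mem_centralizer_singleton_iff.2 (mem_center_iff.1 hz g).symm
  have hgC : zpowers g ≤ C := zpowers_le.2 (mem_centralizer_singleton_iff.2 rfl)
  have hord : orderOf (g : G ⧸ Z) = p ^ n := by
    rcases n with _ | i
    · rw [pow_zero, orderOf_eq_one_iff, QuotientGroup.eq_one_iff]
      simpa using hG.pow_mem_center hp2 hn g
    refine orderOf_eq_prime_pow (fun e => ?_) ?_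
    · rw [← QuotientGroup.mk_pow, QuotientGroup.eq_one_iff] at e
      have h := hG.derived_le_of_not_mem hp2 hg e
      rw [hn] at h
      have := (Nat.pow_le_pow_iff_right hp.out.one_lt).1 h
      omega
    · rw [← QuotientGroup.mk_pow, QuotientGroup.eq_one_iff]
      exact hG.pow_mem_center hp2 hn g
  have hsup : p ^ n * Nat.card Z = Nat.card ↥(zpowers g ⊔ Z) := by
    have e := relIndex_mul_relIndex ⊥ Z (zpowers g ⊔ Z) bot_le le_sup_right
    rw [relIndex_bot_left, relIndex_bot_left] at e
    rw [← e, mul_comm, ← hord, ← Nat.card_zpowers]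
    congr 1
    have hrel : Z.relIndex (zpowers g ⊔ Z) = Nat.card ((zpowers g ⊔ Z).map (QuotientGroup.mk' Z)) := by
      rw [← relIndex_ker, QuotientGroup.ker_mk']
    rw [hrel, Subgroup.map_sup, MonoidHom.map_zpowers, QuotientGroup.map_mk'_self, sup_bot_eq]
    rfl
  obtain ⟨h, hh⟩ := hG.exists_partner hp2 hg
  have hrelle : Z.relIndex C ≤ p ^ n := by
    refine le_trans ?_ ((hG.index_centralizer_le_iff hp2 h n).2 (hG.pow_mem_center hp2 hn h))
    have hinf : centralizer ({h} : Set G) ⊓ C ≤ Z := fun x hx => by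
      refine mem_center_iff.2 fun y => ?_
      have hle : (⊤ : Subgroup G) ≤ centralizer ({x} : Set G) := by
        rw [← hh, closure_le]
        rintro w (rfl | rfl)
        · exact mem_centralizer_singleton_iff.2 (mem_centralizer_singleton_iff.1 hx.2).symm
        · exact mem_centralizer_singleton_iff.2 (mem_centralizer_singleton_iff.1 hx.1).symm
      exact mem_centralizer_singleton_iff.1 (hle (mem_top y))
    calc Z.relIndex C ≤ (centralizer ({h} : Set G) ⊓ C).relIndex C :=
          relIndex_le_of_le_left hinf (by rw [relIndex]; exact index_ne_zero_of_finite)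
      _ = (centralizer ({h} : Set G)).relIndex C := inf_relIndex_right _ _
      _ ≤ _ := relIndex_le_index' _ _
  have eC := relIndex_mul_relIndex ⊥ Z C bot_le hZC
  rw [relIndex_bot_left, relIndex_bot_left] at eC
  have hCle : Nat.card C ≤ Nat.card ↥(zpowers g ⊔ Z) := by
    rw [← eC, ← hsup, mul_comm]
    exact Nat.mul_le_mul_right _ hrelle
  have hCeq : zpowers g ⊔ Z = C := eq_of_le_of_card_ge (sup_le hgC hZC) hCle
  refine ⟨hidx, hCeq, ?_⟩
  have e1 := Z.card_mul_index
  rw [← C.card_mul_index, hidx, ← hCeq, ← hsup, mul_comm (p ^ n) (Nat.card Z), mul_assoc, ← pow_add] at e1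
  rw [two_mul]
  exact Nat.eq_of_mul_eq_mul_left Nat.card_pos e1

theorem Good.exists_not_mem_frattini (hne : (commutator G) ≠ ⊥) : ∃ g : G, g ∉ frattini G := by
  have hnt : frattini G ≠ ⊤ := fun e => by
    have htop : (⊥ : Subgroup G) = ⊤ := frattini_nongenerating (by rw [e, bot_sup_eq])
    exact hne (le_bot_iff.1 (htop ▸ le_top))
  obtain ⟨g, -, hg⟩ := SetLike.exists_of_lt (lt_top_iff_ne_top.2 hnt)
  exact ⟨g, hg⟩

theorem Good.index_center {n : ℕ} (hn : Nat.card (commutator G) = p ^ n) :
    (center G).index = p ^ (2 * n) := by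
  rcases n with _ | i
  · rw [pow_zero] at hn
    rw [mul_zero, pow_zero, index_eq_one, eq_top_iff]
    intro x _
    refine mem_center_iff.2 fun g => commutatorElement_eq_one_iff_mul_comm.1 ?_
    rw [← mem_bot, ← card_eq_one.1 hn]
    exact commutator_mem_commutator (mem_top g) (mem_top x)
  · obtain ⟨g, hg⟩ := hG.exists_not_mem_frattini hp2 (fun e => by
      rw [e, card_bot] at hn
      exact absurd (Nat.one_lt_pow (Nat.succ_ne_zero i) hp.out.one_lt) (by rw [← hn]; exact lt_irrefl 1))
    exact (hG.not_mem_frattini_data hp2 hn hg).2.2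

theorem Good.isMulCommutative_centralizer {n : ℕ} (hn : Nat.card (commutator G) = p ^ n) {g : G}
    (hg : g ∉ frattini G) : IsMulCommutative (centralizer ({g} : Set G)) := by
  rw [← (hG.not_mem_frattini_data hp2 hn hg).2.1, zpowers_eq_closure, ← closure_eq (center G),
    ← Subgroup.closure_union]
  refine Subgroup.isMulCommutative_closure ?_
  rintro a (ha | ha) b (hb | hb)
  · rw [Set.mem_singleton_iff.1 ha, Set.mem_singleton_iff.1 hb]
  · exact (mem_center_iff.1 hb a)
  · exact (mem_center_iff.1 ha b).symm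
  · exact mem_center_iff.1 hb a

/-! ### The measure `|R| |C(R)|` -/

theorem Good.measure_mono : ∀ (N : ℕ) (R R₁ : Subgroup G), Nat.card R₁ ≤ N → R ≤ R₁ →
    Nat.card R * Nat.card (centralizer (R : Set G)) ≤ Nat.card R₁ * Nat.card (centralizer (R₁ : Set G)) := by
  intro N
  induction N with
  | zero => intro R R₁ h; exact absurd h (Nat.not_le.2 Nat.card_pos)
  | succ N ih =>
    intro R R₁ hN hle
    by_cases heq : R = R₁
    · rw [heq]
    haveI := hG.cyc
    have hne : R.subgroupOf R₁ ≠ ⊤ := fun e => heq (le_antisymm hle (subgroupOf_eq_top.1 e))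
    obtain ⟨M', hM', hRM'⟩ := (eq_top_or_exists_le_coatom _).resolve_left hne
    obtain ⟨hMn, hMi⟩ := CfsgLib.PGroupBasic.coatom_normal_index (hG.isP.to_subgroup R₁) hM'
    set M := M'.map R₁.subtype with hM
    have hRM : R ≤ M := fun r hr => ⟨⟨r, hle hr⟩, hRM' (mem_subgroupOf.2 hr), rfl⟩
    have hcard : Nat.card R₁ = p * Nat.card M := by
      rw [hM, card_map_of_injective R₁.subtype_injective, ← hMi, mul_comm, M'.card_mul_index]
    have hMlt : Nat.card M < Nat.card R₁ := by
      rw [hcard]; exact lt_mul_of_one_lt_left Nat.card_pos hp.out.one_lt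
    refine (ih R M (by omega) hRM).trans ?_
    obtain ⟨r, -, hr⟩ := SetLike.exists_of_lt (lt_top_iff_ne_top.2 hM'.1)
    have hMR₁ : M ≤ R₁ := map_subtype_le M'
    have hrp : (r : G) ^ p ∈ M := ⟨r ^ p, by
      haveI := hMn
      have := Subgroup.pow_index_mem M' r
      rwa [hMi] at this, rfl⟩
    have hgen : R₁ ≤ M ⊔ zpowers (r : G) := by
      refine (eq_of_le_of_card_ge (sup_le hMR₁ (zpowers_le.2 r.2)) ?_).ge
      rw [hcard]
      refine card_mul_le_of_lt hG.isP (lt_of_le_of_ne le_sup_left fun e => ?_)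
      obtain ⟨w, hw, hwe⟩ : (r : G) ∈ M := e ▸ mem_sup_right (mem_zpowers _)
      exact hr (R₁.subtype_injective hwe ▸ hw)
    set C := centralizer (M : Set G) with hC
    have hCle : centralizer (R₁ : Set G) ≤ C := centralizer_le hMR₁
    have hrel : (centralizer (R₁ : Set G)).relIndex C ≤ p := by
      refine le_trans ?_ ((card_torsionDerived_le (G := G) (p := p) 1).trans (pow_one p).le)
      rw [relIndex, index_eq_card]
      set D := (centralizer (R₁ : Set G)).subgroupOf C
      refine Nat.card_le_card_of_injective (fun q : C ⧸ D => (⟨⁅(q.out : G), (r : G)⁆,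
        mem_torsionDerived.2 ⟨commutator_mem_commutator (mem_top _) (mem_top _), by
          rw [hG.commutator_pow_eq_one_iff hp2, hG.commute_pow_symm hp2, pow_one]
          exact (mem_centralizer_iff.1 q.out.2 _ hrp).symm⟩⟩ : torsionDerived G p 1)) ?_
      intro a b e
      have e' := congrArg Subtype.val e
      simp only [commutatorElement_def, mul_left_inj] at e'
      rw [← a.out_eq', ← b.out_eq']
      refine QuotientGroup.eq.2 (mem_subgroupOf.2 ?_)
      set w : G := ((a.out⁻¹ * b.out : C) : G) with hw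
      have hwr : w * r = r * w := by
        rw [hw, Subgroup.coe_mul, InvMemClass.coe_inv]
        calc (a.out : G)⁻¹ * b.out * r = (a.out : G)⁻¹ * ((b.out : G) * r * (b.out : G)⁻¹) * b.out := by group
          _ = _ := by rw [← e']; group
      refine mem_centralizer_iff.2 fun x hx => ?_
      have hxle : M ⊔ zpowers (r : G) ≤ centralizer ({w} : Set G) :=
        sup_le (fun y hy => mem_centralizer_singleton_iff.2
          (mem_centralizer_iff.1 (a.out⁻¹ * b.out).2 y hy))
          (zpowers_le.2 (mem_centralizer_singleton_iff.2 hwr.symm))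
      exact mem_centralizer_singleton_iff.1 (hxle (hgen hx))
    have e := relIndex_mul_relIndex ⊥ (centralizer (R₁ : Set G)) C bot_le hCle
    rw [relIndex_bot_left, relIndex_bot_left] at e
    calc Nat.card M * Nat.card C
        = Nat.card M * (Nat.card (centralizer (R₁ : Set G)) * (centralizer (R₁ : Set G)).relIndex C) := by
          rw [e]
      _ ≤ Nat.card M * (Nat.card (centralizer (R₁ : Set G)) * p) :=
          Nat.mul_le_mul_left _ (Nat.mul_le_mul_left _ hrel)
      _ = _ := by rw [hcard]; ring

theorem Good.measure_le (R : Subgroup G) :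
    Nat.card R * Nat.card (centralizer (R : Set G)) ≤ Nat.card G * Nat.card (center G) := by
  have h := hG.measure_mono hp2 _ R ⊤ le_rfl le_top
  rwa [card_top, coe_top, centralizer_univ] at h

theorem Good.measure_eq_iff (R : Subgroup G) :
    Nat.card R * Nat.card (centralizer (R : Set G)) = Nat.card G * Nat.card (center G) ↔ center G ≤ R := by
  constructor
  · intro h
    by_contra hle
    have hc : centralizer ((R ⊔ center G : Subgroup G) : Set G) = centralizer (R : Set G) :=
      le_antisymm (centralizer_le (SetLike.coe_subset_coe.2 le_sup_left)) (le_centralizer_iff.1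
        (sup_le (le_centralizer_iff.1 le_rfl) (fun z hz => mem_centralizer_iff.2
          fun x _ => mem_center_iff.1 hz x)))
    have h1 := hG.measure_le hp2 (R ⊔ center G)
    rw [hc, ← h] at h1
    exact absurd (CfsgLib.Solvable.card_lt_of_lt (lt_of_le_of_ne (le_sup_left : R ≤ R ⊔ center G) fun e => hle (le_sup_right.trans e.ge)))
      (not_lt.2 (Nat.le_of_mul_le_mul_right h1 Nat.card_pos))
  · intro h
    refine le_antisymm (hG.measure_le hp2 R) ?_
    have h1 := hG.measure_mono hp2 _ (center G) R le_rfl h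
    have hc : centralizer ((center G : Subgroup G) : Set G) = ⊤ := eq_top_iff.2 fun x _ =>
      mem_centralizer_iff.2 fun z hz => (mem_center_iff.1 hz x).symm
    rwa [hc, card_top, mul_comm (Nat.card (center G))] at h1

theorem Good.centralizer_centralizer {R : Subgroup G} (hR : center G ≤ R) :
    centralizer (centralizer (R : Set G) : Set G) = R := by
  have hle : R ≤ centralizer (centralizer (R : Set G) : Set G) := le_centralizer_iff.1 le_rfl
  have h1 := (hG.measure_eq_iff hp2 R).2 hR
  have h2 := (hG.measure_eq_iff hp2 (centralizer (R : Set G))).2 fun z hz =>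
    mem_centralizer_iff.2 fun x _ => mem_center_iff.1 hz x
  rw [← h1, mul_comm (Nat.card R)] at h2
  exact (eq_of_le_of_card_ge hle (Nat.eq_of_mul_eq_mul_left Nat.card_pos h2).le).symm

/-! ### The orders of the power subgroups -/

theorem Good.card_powers {n : ℕ} (hn : Nat.card (commutator G) = p ^ n) {s : ℕ} (hs : s ≤ n) :
    Nat.card (Cfsg.powerClosure p s (⊤ : Subgroup G)) = Nat.card (center G) * p ^ (2 * (n - s)) := by
  set P := fun s => Cfsg.powerClosure p s (⊤ : Subgroup G) with hP
  set z := Nat.card (center G) with hz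
  have hmem : ∀ s x, x ∈ P s ↔ ∃ y, x = y ^ p ^ s := fun s x => by
    show x ∈ Cfsg.powerClosure p s (⊤ : Subgroup G) ↔ _
    rw [Regular.mem_powerClosure_iff hG.isP (hG.law hp2 s)]
    simp
  have hup : ∀ d s, s + d = n → Nat.card (P s) ≤ z * p ^ (2 * d) := by
    intro d
    induction d with
    | zero =>
      intro s hs'
      obtain rfl : s = n := by omega
      rw [mul_zero, pow_zero, mul_one]
      exact (card_le_of_le (hG.powers_eq_center hp2 hn).le)
    | succ d ih =>
      intro s hs'
      refine le_trans (card_le_of_fibre (p := p) (P s) (P (s + 1)) (Cfsg.omegaOne p (⊤ : Subgroup G)) (fun x hx => ?_)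
        fun a _ b _ e => ?_) ?_
      · obtain ⟨y, rfl⟩ := (hmem s x).1 hx
        rw [← pow_mul, ← pow_succ]
        exact (hmem _ _).2 ⟨y, rfl⟩
      · exact subset_closure ⟨mem_top _, by
          simpa using (Regular.pow_eq_iff hG.isP (hG.law hp2 1) a b).1 (by simpa using e)⟩
      · refine (Nat.mul_le_mul (ih (s + 1) (by omega)) hG.small).trans (le_of_eq ?_)
        rw [mul_assoc, ← pow_add, mul_add 2 d 1]
  have hcen : centralizer (P s : Set G) = P (n - s) := by
    ext x
    show x ∈ centralizer (P s : Set G) ↔ x ∈ Cfsg.powerClosure p (n - s) (⊤ : Subgroup G)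
    rw [hG.mem_powers_iff hp2 hn (Nat.sub_le n s), Nat.sub_sub_self hs, mem_center_iff, mem_centralizer_iff]
    constructor
    · intro h y
      exact ((hG.commute_pow_symm hp2 s x y).2 (h _ ((hmem s _).2 ⟨y, rfl⟩)).symm).eq.symm
    · intro h w hw
      obtain ⟨y, rfl⟩ := (hmem s w).1 hw
      exact ((hG.commute_pow_symm hp2 s x y).1 (h y).symm).eq.symm
  have hcz : center G ≤ P s := fun x hx => by
    show x ∈ Cfsg.powerClosure p s (⊤ : Subgroup G)
    rw [hG.mem_powers_iff hp2 hn hs]
    exact pow_mem hx _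
  have h := (hG.measure_eq_iff hp2 (P s)).2 hcz
  rw [hcen, ← (center G).card_mul_index, hG.index_center hp2 hn] at h
  refine le_antisymm (hup (n - s) s (by omega)) ?_
  have h2 := hup s (n - s) (by omega)
  refine Nat.le_of_mul_le_mul_right ?_ (Nat.mul_pos (Nat.card_pos (α := center G)) (pow_pos hp.out.pos (2 * s)))
  calc z * p ^ (2 * (n - s)) * (z * p ^ (2 * s)) = z * p ^ (2 * n) * z := by
        rw [show 2 * n = 2 * (n - s) + 2 * s by omega, pow_add]; ring
    _ = Nat.card (P s) * Nat.card (P (n - s)) := h.symm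
    _ ≤ _ := Nat.mul_le_mul_left _ h2

/-! ### Abelian and nonabelian subgroups -/

theorem Good.maximal_derived {n : ℕ} (hn : Nat.card (commutator G) = p ^ (n + 1)) {M : Subgroup G}
    (hM : IsCoatom M) : Nat.card ↥⁅M, M⁆ = p ^ n := by
  haveI := hG.cyc
  haveI := torsionDerived_normal (G := G) (p := p) n
  obtain ⟨hMn, hMi⟩ := CfsgLib.PGroupBasic.coatom_normal_index hG.isP hM
  set F := frattini G with hF
  have hFM : F ≤ M := frattini_le_coatom hM
  have hFi : Nat.card F * p ^ 2 = Nat.card G := by
    rw [hF, hG.frattini_eq hp2, hG.card_powers hp2 hn (by omega), ← (center G).card_mul_index,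
      hG.index_center hp2 hn, mul_assoc, ← pow_add]
    congr 2
  obtain ⟨g, hgM, hgF⟩ : ∃ g ∈ M, g ∉ F := by
    refine SetLike.exists_of_lt (lt_of_le_of_ne hFM fun e => ?_)
    have h2 := M.card_mul_index
    rw [hMi, ← hFi, e, pow_two] at h2
    have h3 := Nat.eq_of_mul_eq_mul_left Nat.card_pos h2
    exact absurd h3 (ne_of_lt (lt_mul_of_one_lt_left hp.out.pos hp.out.one_lt))
  have hMgen : M ≤ zpowers g ⊔ F := by
    refine (eq_of_le_of_card_ge (sup_le (zpowers_le.2 hgM) hFM) ?_).ge
    refine Nat.le_of_mul_le_mul_right ?_ hp.out.pos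
    have h2 := M.card_mul_index
    rw [hMi] at h2
    rw [h2, ← hFi, pow_two, ← mul_assoc]
    refine Nat.mul_le_mul_right _ ?_
    rw [mul_comm]
    exact card_mul_le_of_lt hG.isP (lt_of_le_of_ne le_sup_right fun e => hgF (e ▸ mem_sup_left (mem_zpowers g)))
  have hT : ⁅M, M⁆ ≤ torsionDerived G p n := by
    set σ := QuotientGroup.mk' (torsionDerived G p n)
    have hFc : ∀ f ∈ F, σ f ∈ centralizer ((⊤ : Subgroup (G ⧸ torsionDerived G p n)) : Set _) := by
      intro f hf
      refine mem_centralizer_iff.2 fun q _ => ?_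
      obtain ⟨y, rfl⟩ := QuotientGroup.mk'_surjective _ q
      refine commutatorElement_eq_one_iff_mul_comm.1 ?_
      rw [← map_commutatorElement]
      refine (QuotientGroup.eq_one_iff _).2 (mem_torsionDerived.2
        ⟨commutator_mem_commutator (mem_top _) (mem_top _), ?_⟩)
      rw [hF, hG.frattini_eq hp2, hG.mem_powers_iff hp2 hn (by omega), Nat.add_sub_cancel] at hf
      rw [hG.commutator_pow_eq_one_iff hp2, hG.commute_pow_symm hp2]
      exact mem_center_iff.1 hf y
    have hle : M.map σ ≤ zpowers (σ g) ⊔ centralizer ((⊤ : Subgroup (G ⧸ torsionDerived G p n)) : Set _) := by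
      refine (map_mono hMgen).trans ?_
      rw [Subgroup.map_sup, MonoidHom.map_zpowers]
      exact sup_le le_sup_left ((show F.map σ ≤ centralizer _ from Subgroup.map_le_iff_le_comap.2 fun f hf => hFc f hf).trans le_sup_right)
    have hab : IsMulCommutative ↥(zpowers (σ g) ⊔ centralizer ((⊤ : Subgroup (G ⧸ torsionDerived G p n)) : Set _)) := by
      rw [zpowers_eq_closure, ← closure_eq (centralizer _), ← Subgroup.closure_union]
      refine Subgroup.isMulCommutative_closure ?_
      rintro a (ha | ha) b (hb | hb)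
      · rw [Set.mem_singleton_iff.1 ha, Set.mem_singleton_iff.1 hb]
      · exact mem_centralizer_iff.1 hb a (mem_top a)
      · exact (mem_centralizer_iff.1 ha b (mem_top b)).symm
      · exact mem_centralizer_iff.1 hb a (mem_top a)
    refine commutator_le.2 fun a ha b hb => (QuotientGroup.eq_one_iff _).1 ?_
    show σ ⁅a, b⁆ = 1
    rw [map_commutatorElement]
    exact commutatorElement_eq_one_iff_mul_comm.2 (congrArg Subtype.val
      (mul_comm' (⟨σ a, hle (mem_map_of_mem σ ha)⟩ : ↥(zpowers (σ g) ⊔ _)) ⟨σ b, hle (mem_map_of_mem σ hb)⟩))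
  refine le_antisymm ((card_le_of_le hT).trans (card_torsionDerived_le n)) ?_
  obtain ⟨h, hh⟩ := hG.exists_partner hp2 hgF
  obtain ⟨j, hj⟩ := IsPGroup.iff_card.1 (hG.isP.to_subgroup ⁅M, M⁆)
  rw [hj]
  refine Nat.pow_le_pow_right hp.out.pos ?_
  have hhM : h ^ p ∈ M := hFM ((CfsgLib.PGroupBasic.commutator_pow_le_frattini hG.isP).2 h)
  have h1 : ⁅g, h ^ p⁆ ^ p ^ j = 1 := by
    rw [← hj]
    exact congrArg Subtype.val
      (pow_card_eq_one' (x := (⟨⁅g, h ^ p⁆, commutator_mem_commutator hgM hhM⟩ : ↥⁅M, M⁆)))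
  rw [hG.commutator_pow_eq_one_iff hp2, hG.commute_pow_symm hp2, ← pow_mul, ← pow_succ'] at h1
  have hcz : h ^ p ^ (j + 1) ∈ center G := by
    refine mem_center_iff.2 fun y => ?_
    have hle : (⊤ : Subgroup G) ≤ centralizer ({h ^ p ^ (j + 1)} : Set G) := by
      rw [← hh, closure_le]
      rintro w (rfl | rfl)
      · exact mem_centralizer_singleton_iff.2 h1.eq
      · exact mem_centralizer_singleton_iff.2 ((Commute.refl w).pow_right _).eq
    exact mem_centralizer_singleton_iff.1 (hle (mem_top y))
  have hhF : h ∉ F := by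
    intro hhF
    have hle : (⊤ : Subgroup G) ≤ zpowers g ⊔ F := by
      rw [← hh, closure_le]
      rintro w (rfl | rfl)
      · exact mem_sup_left (mem_zpowers _)
      · exact mem_sup_right hhF
    exact hM.1 (top_unique (hle.trans (sup_le (zpowers_le.2 hgM) hFM)))
  have h2 := hG.derived_le_of_not_mem hp2 hhF hcz
  rw [hn] at h2
  have := (Nat.pow_le_pow_iff_right hp.out.one_lt).1 h2
  omega

omit hp2 hG hp [Finite G] in
theorem card_derived_subgroupOf {L M : Subgroup G} (h : L ≤ M) :
    Nat.card ↥⁅L.subgroupOf M, L.subgroupOf M⁆ = Nat.card ↥⁅L, L⁆ := by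
  rw [← card_map_of_injective M.subtype_injective, map_commutator, map_subgroupOf_eq_of_le h]

omit hp2 hG hp [Finite G] in
theorem derived_eq_bot_iff (L : Subgroup G) : ⁅L, L⁆ = ⊥ ↔ IsMulCommutative L := by
  rw [← le_bot_iff, commutator_le]
  constructor
  · exact fun h => ⟨⟨fun a b => Subtype.ext (commutatorElement_eq_one_iff_mul_comm.1
      (mem_bot.1 (h a a.2 b b.2)))⟩⟩
  · intro h a ha b hb
    exact mem_bot.2 (commutatorElement_eq_one_iff_mul_comm.2
      (congrArg Subtype.val (mul_comm' (⟨a, ha⟩ : L) ⟨b, hb⟩)))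

end CfsgLib.FGSA.Metacyclic

namespace CfsgLib.FGSA.Metacyclic

open Subgroup CfsgLib.FGSA.Huppert
open scoped commutatorElement

universe u

/-- Nonabelian subgroups have full abelianization, abelian ones are no larger. -/
theorem subgroup_measure {p : ℕ} [hp : Fact p.Prime] (hp2 : p ≠ 2) : ∀ (N : ℕ) {G : Type u} [Group G]
    [Finite G], Nat.card G ≤ N → Good p G → ∀ L : Subgroup G,
      (¬ IsMulCommutative L → Nat.card L * Nat.card (commutator G) = Nat.card G * Nat.card ↥⁅L, L⁆) ∧
      (IsMulCommutative L → Nat.card L * Nat.card (commutator G) ≤ Nat.card G) ∧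
      (Maximal (fun K : Subgroup G => IsMulCommutative K) L →
        Nat.card L * Nat.card (commutator G) = Nat.card G) := by
  intro N
  induction N with
  | zero => intro G _ _ h; exact absurd h (Nat.not_le.2 Nat.card_pos)
  | succ N ih =>
    intro G _ _ hN hG L
    obtain ⟨k, hk⟩ := hG.exists_card_derived
    rcases k with _ | n
    · have hb : commutator G = ⊥ := card_eq_one.1 (by rw [hk, pow_zero])
      have hab : ∀ K : Subgroup G, IsMulCommutative K := fun K => (derived_eq_bot_iff K).1
        (le_bot_iff.1 ((commutator_mono le_top le_top).trans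
          (by rw [← _root_.commutator_def, hb])))
      refine ⟨fun h => absurd (hab L) h, fun _ => ?_, fun hmax => ?_⟩
      · rw [hk, pow_zero, mul_one]; exact card_le_card_group L
      · rw [hk, pow_zero, mul_one, top_unique (hmax.2 (hab ⊤) le_top : (⊤ : Subgroup G) ≤ L), card_top]
    have hnab : ¬ IsMulCommutative (⊤ : Subgroup G) := fun h => by
      rw [← derived_eq_bot_iff, ← _root_.commutator_def] at h
      rw [h, card_bot] at hk
      exact absurd (Nat.one_lt_pow n.succ_ne_zero hp.out.one_lt) (by rw [← hk]; exact lt_irrefl 1)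
    by_cases hL : L = ⊤
    · subst hL
      refine ⟨fun _ => by rw [card_top, ← _root_.commutator_def], fun h => absurd h hnab,
        fun h => absurd h.1 hnab⟩
    obtain ⟨M, hM, hLM⟩ := (eq_top_or_exists_le_coatom L).resolve_left hL
    obtain ⟨hMn, hMi⟩ := CfsgLib.PGroupBasic.coatom_normal_index hG.isP hM
    have hMc : Nat.card M * p = Nat.card G := by rw [← hMi, M.card_mul_index]
    have hMN : Nat.card M ≤ N := by
      have : Nat.card M < Nat.card G := by
        rw [← hMc]; exact lt_mul_of_one_lt_right Nat.card_pos hp.out.one_lt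
      omega
    have hMD : Nat.card (commutator M) = p ^ n := by
      rw [← hG.maximal_derived hp2 hk hM, ← map_commutator_subtype,
        card_map_of_injective M.subtype_injective]
    obtain ⟨h1, h2, h3⟩ := ih hMN (hG.subgroup M) (L.subgroupOf M)
    rw [Nat.card_congr (subgroupOfEquivOfLe hLM).toEquiv, hMD] at h1 h2 h3
    have hiff : IsMulCommutative (L.subgroupOf M) ↔ IsMulCommutative L := by
      rw [← derived_eq_bot_iff, ← derived_eq_bot_iff, ← card_eq_one, ← card_eq_one,
        card_derived_subgroupOf hLM]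
    rw [hk, pow_succ, ← mul_assoc, ← hMc]
    refine ⟨fun h => ?_, fun h => ?_, fun hmax => ?_⟩
    · have e := h1 (hiff.not.2 h)
      rw [card_derived_subgroupOf hLM] at e
      rw [e]; ring
    · exact Nat.mul_le_mul_right _ (h2 (hiff.2 h))
    · rw [h3 ⟨hiff.2 hmax.1, fun K hK hle => ?_⟩]
      have hKab : IsMulCommutative (K.map M.subtype) := by
        haveI : IsMulCommutative K := hK
        infer_instance
      have hge : K.map M.subtype ≤ L := hmax.2 hKab fun l hl => ⟨⟨l, hLM hl⟩, hle (mem_subgroupOf.2 hl), rfl⟩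
      exact fun x hx => mem_subgroupOf.2 (hge ⟨x, hx, rfl⟩)

/-- A cyclic complement to a cyclic subgroup of largest order. -/
theorem exists_cyclic_factor {p : ℕ} [hp : Fact p.Prime] (hp2 : p ≠ 2) : ∀ (N : ℕ) {G : Type u} [Group G]
    [Finite G], Nat.card G ≤ N → Good p G → ∀ h : G, (∀ x : G, orderOf x ≤ orderOf h) →
      ∃ v : G, zpowers h ⊓ zpowers v = ⊥ ∧ orderOf h * orderOf v = Nat.card G := by
  intro N
  induction N with
  | zero => intro G _ _ h; exact absurd h (Nat.not_le.2 Nat.card_pos)
  | succ N ih =>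
    intro G _ _ hN hG h hmax
    by_cases htop : zpowers h = ⊤
    · refine ⟨1, by rw [zpowers_one_eq_bot, inf_bot_eq], ?_⟩
      rw [orderOf_one, mul_one, ← Nat.card_zpowers, htop, card_top]
    obtain ⟨e, he⟩ := IsPGroup.iff_orderOf.1 hG.isP h
    have he1 : 1 ≤ e := by
      by_contra h0
      obtain ⟨x, -, hx⟩ := SetLike.exists_of_lt (lt_top_iff_ne_top.2 htop)
      have := hmax x
      rw [he, show e = 0 by omega, pow_zero] at this
      have hx1 : orderOf x = 1 := le_antisymm this (orderOf_pos x)
      exact hx (by rw [orderOf_eq_one_iff.1 hx1]; exact one_mem _)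
    obtain ⟨e, rfl⟩ : ∃ e', e = e' + 1 := ⟨e - 1, by omega⟩
    have hexp : ∀ x : G, x ^ p ^ (e + 1) = 1 := by
      intro x
      obtain ⟨i, hi⟩ := IsPGroup.iff_orderOf.1 hG.isP x
      have := hmax x
      rw [he, hi] at this
      exact orderOf_dvd_iff_pow_eq_one.1 (hi ▸ pow_dvd_pow p ((Nat.pow_le_pow_iff_right hp.out.one_lt).1 this))
    have law := hG.law hp2
    set U := Cfsg.omegaOne p (⊤ : Subgroup G) with hU
    have hUle : U ≤ Regular.torsion hG.isP (law 1) := (closure_le _).2 fun x hx =>
      show x ^ p ^ 1 = 1 by rw [pow_one]; exact hx.2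
    have hUe : ∀ x ∈ U, x ^ p = 1 := fun x hx => by
      have : x ^ p ^ 1 = 1 := hUle hx
      rwa [pow_one] at this
    have hUmem : ∀ x : G, x ^ p = 1 → x ∈ U := fun x hx => subset_closure ⟨mem_top x, hx⟩
    haveI hUn : U.Normal := ⟨fun x hx g => hUmem _ (by rw [conj_pow, hUe x hx, mul_one, mul_inv_cancel])⟩
    -- the socle of the cyclic subgroup
    set z := h ^ p ^ e with hz
    have hzo : orderOf z = p := by
      rw [hz, orderOf_pow_of_dvd (pow_ne_zero _ hp.out.ne_zero) (he ▸ pow_dvd_pow p e.le_succ), he, pow_succ,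
        Nat.mul_div_cancel_left _ (pow_pos hp.out.pos e)]
    have hzU : z ∈ U := hUmem z (by rw [← hzo, pow_orderOf_eq_one])
    have hsoc : ∀ x ∈ zpowers h, x ^ p = 1 → x ∈ zpowers z := by
      intro x hx hxp
      obtain ⟨k, rfl⟩ := (isOfFinOrder_of_finite h).mem_powers_iff_mem_zpowers.2 hx
      have := orderOf_dvd_of_pow_eq_one (show h ^ (k * p) = 1 by rw [pow_mul]; exact hxp)
      rw [he, pow_succ] at this
      obtain ⟨k', rfl⟩ := Nat.dvd_of_mul_dvd_mul_right hp.out.pos this
      show h ^ (p ^ e * k') ∈ zpowers z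
      rw [pow_mul]; exact pow_mem (mem_zpowers z) k'
    have hU2 : Nat.card U = p ^ 2 := by
      refine le_antisymm hG.small ?_
      by_contra hlt
      have hzpU : zpowers z = U := by
        refine eq_of_le_of_card_ge (zpowers_le.2 hzU) ?_
        rw [Nat.card_zpowers, hzo]
        obtain ⟨a, ha⟩ := IsPGroup.iff_card.1 (hG.isP.to_subgroup U)
        rw [ha] at hlt ⊢
        exact (Nat.pow_le_pow_right hp.out.pos (by
          by_contra h2; exact hlt (Nat.pow_le_pow_right hp.out.pos (by omega)) : a ≤ 1)).trans (pow_one p).le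
      have hcyc := RankTwoOdd.isCyclic_of_omega_le hp2 hG.isP ⊤ U (by rw [← hzpU, Nat.card_zpowers, hzo])
        fun c _ hc => hUmem c hc
      obtain ⟨c, hc⟩ := IsCyclic.exists_ofOrder_eq_natCard (α := (⊤ : Subgroup G))
      have := hmax c
      rw [Subgroup.orderOf_coe, hc, card_top, ← Nat.card_zpowers] at this
      exact htop (eq_top_of_card_eq _ (le_antisymm (card_le_card_group _) this))
    set π := QuotientGroup.mk' U with hπ
    have hQ : Good p (G ⧸ U) := by
      have law2 := law 2
      refine ⟨hG.isP.to_quotient U, ?_, ?_⟩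
      · have hle : Cfsg.omegaOne p (⊤ : Subgroup (G ⧸ U)) ≤ (Regular.torsion hG.isP law2).map π :=
          (closure_le _).2 fun q hq => by
            obtain ⟨x, rfl⟩ := QuotientGroup.mk'_surjective U q
            have hx : x ^ p ∈ U := (QuotientGroup.eq_one_iff _).1 (by rw [← hq.2]; rfl)
            refine mem_map_of_mem π (show x ^ p ^ 2 = 1 from ?_)
            rw [pow_two, pow_mul]
            exact hUe _ hx
        refine (card_le_of_le hle).trans (Nat.le_of_mul_le_mul_left ?_ (Nat.card_pos (α := U)))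
        have hUT : U ≤ Regular.torsion hG.isP law2 := fun x hx =>
          show x ^ p ^ 2 = 1 by rw [pow_two, pow_mul, hUe x hx, one_pow]
        have e' := relIndex_mul_relIndex ⊥ U (Regular.torsion hG.isP law2) bot_le hUT
        rw [relIndex_bot_left, relIndex_bot_left] at e'
        rw [← relIndex_ker, QuotientGroup.ker_mk', e']
        refine (card_le_of_fibre (p := p) _ U U (fun x hx => hUmem _ ?_) fun a _ b _ eab => hUmem _ ?_).trans ?_
        · have : x ^ p ^ 2 = 1 := hx
          rwa [pow_two, pow_mul] at this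
        · simpa using (Regular.pow_eq_iff hG.isP (law 1) a b).1 (by simpa using eab)
        · rw [hU2]
      · haveI := hG.cyc
        have hmap : (commutator G).map π = commutator (G ⧸ U) := by
          rw [_root_.commutator_def, map_commutator,
            map_top_of_surjective _ (QuotientGroup.mk'_surjective _), ← _root_.commutator_def]
        rw [← hmap]
        exact isCyclic_of_surjective (π.subgroupMap (commutator G)) (π.subgroupMap_surjective _)
    have hQN : Nat.card (G ⧸ U) ≤ N := by
      have e' := U.card_mul_index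
      rw [index_eq_card] at e'
      have : Nat.card (G ⧸ U) < Nat.card G := by
        rw [← e']
        exact lt_mul_of_one_lt_left Nat.card_pos (by rw [hU2]; exact Nat.one_lt_pow two_ne_zero hp.out.one_lt)
      omega
    have hhQ : orderOf (π h) = p ^ e := by
      rcases e with _ | i
      · rw [pow_zero, orderOf_eq_one_iff]
        exact (QuotientGroup.eq_one_iff _).2 (by simpa [hz] using hzU)
      refine orderOf_eq_prime_pow (fun hcon => ?_) ?_
      · rw [← map_pow] at hcon
        have h1 := hUe _ ((QuotientGroup.eq_one_iff _).1 hcon)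
        rw [← pow_mul, ← pow_succ] at h1
        have := orderOf_dvd_of_pow_eq_one h1
        rw [he] at this
        exact absurd ((Nat.pow_dvd_pow_iff_le_right hp.out.one_lt).1 this) (by omega)
      · rw [← map_pow]; exact (QuotientGroup.eq_one_iff _).2 hzU
    have hmaxQ : ∀ q : G ⧸ U, orderOf q ≤ orderOf (π h) := by
      intro q
      obtain ⟨x, rfl⟩ := QuotientGroup.mk'_surjective U q
      rw [hhQ]
      refine orderOf_le_of_pow_eq_one (pow_pos hp.out.pos e) ?_
      rw [← map_pow]
      refine (QuotientGroup.eq_one_iff _).2 (hUmem _ ?_)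
      rw [← pow_mul, ← pow_succ]; exact hexp x
    obtain ⟨v', hdisj, hprod⟩ := ih hQN hQ (π h) hmaxQ
    obtain ⟨v, rfl⟩ := QuotientGroup.mk'_surjective U v'
    obtain ⟨f, hf⟩ := IsPGroup.iff_orderOf.1 (hG.isP.to_quotient U) (π v)
    -- an element `w` with the right socle
    obtain ⟨w, hwo, hwz⟩ : ∃ w : G, orderOf w = p ^ (f + 1) ∧ w ^ p ^ f ∉ zpowers z := by
      rcases f with _ | i
      · obtain ⟨w, hwU, hwz⟩ := SetLike.exists_of_lt
          (lt_of_le_of_ne (zpowers_le.2 hzU) fun e' => by
            have := hU2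
            rw [← e', Nat.card_zpowers, hzo] at this
            exact absurd this (ne_of_lt (lt_self_pow₀ hp.out.one_lt one_lt_two)) : zpowers z < U)
        refine ⟨w, ?_, by simpa using hwz⟩
        rw [pow_one]
        exact orderOf_eq_prime (hUe w hwU) fun e' => hwz (e' ▸ one_mem _)
      refine ⟨v, ?_, ?_⟩
      · refine orderOf_eq_prime_pow (fun hcon => ?_) ?_
        · have h0 : π v ^ p ^ i = 1 := by
            rw [← map_pow]
            refine (QuotientGroup.eq_one_iff _).2 (hUmem _ ?_)
            rw [← pow_mul, ← pow_succ]; exact hcon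
          have := orderOf_dvd_of_pow_eq_one h0
          rw [hf] at this
          exact absurd ((Nat.pow_dvd_pow_iff_le_right hp.out.one_lt).1 this) (by omega)
        · rw [pow_succ, pow_mul]
          refine hUe _ ((QuotientGroup.eq_one_iff _).1 ?_)
          show π (v ^ p ^ (i + 1)) = 1
          rw [map_pow, ← hf, pow_orderOf_eq_one]
      · intro hmem
        have hie : i + 1 ≤ e := by
          have := hmaxQ (π v)
          rw [hhQ, hf] at this
          exact (Nat.pow_le_pow_iff_right hp.out.one_lt).1 this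
        obtain ⟨j, hj⟩ := mem_zpowers_iff.1 hmem
        set y := h ^ ((p ^ (e - (i + 1)) : ℕ) * j : ℤ) with hy
        have hye : y ^ p ^ (i + 1) = v ^ p ^ (i + 1) := by
          rw [← hj, hz, hy, ← zpow_natCast, ← zpow_natCast h (p ^ e), ← zpow_mul, ← zpow_mul]
          congr 1
          rw [show p ^ e = p ^ (e - (i + 1)) * p ^ (i + 1) by rw [← pow_add, Nat.sub_add_cancel hie]]
          push_cast
          ring
        have h1 := (Regular.pow_eq_iff hG.isP (law (i + 1)) v y).1 hye.symm
        have h2 : π (v * y⁻¹) ^ p ^ i = 1 := by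
          rw [← map_pow]
          refine (QuotientGroup.eq_one_iff _).2 (hUmem _ ?_)
          rw [← pow_mul, ← pow_succ]; exact h1
        rw [map_mul, map_inv] at h2
        have h3 := (Regular.pow_eq_iff (hG.isP.to_quotient U) (hQ.law hp2 i) (π v) (π y)).2 h2
        have h4 : π v ^ p ^ i ∈ zpowers (π h) ⊓ zpowers (π v) :=
          ⟨by rw [h3, hy, map_zpow]; exact pow_mem (zpow_mem (mem_zpowers _) _) _, pow_mem (mem_zpowers _) _⟩
        rw [hdisj, mem_bot] at h4
        have := orderOf_dvd_of_pow_eq_one h4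
        rw [hf] at this
        exact absurd ((Nat.pow_dvd_pow_iff_le_right hp.out.one_lt).1 this) (by omega)
    refine ⟨w, ?_, ?_⟩
    · by_contra hne
      obtain ⟨x, hx, hx1⟩ := (bot_or_exists_ne_one _).resolve_left hne
      obtain ⟨i, hi⟩ := IsPGroup.iff_orderOf.1 hG.isP x
      rcases i with _ | i
      · exact hx1 (orderOf_eq_one_iff.1 (by simpa using hi))
      set s := x ^ p ^ i with hs
      have hsp : s ^ p = 1 := by rw [hs, ← pow_mul, ← pow_succ, ← hi, pow_orderOf_eq_one]
      have hs1 : s ≠ 1 := fun e' => by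
        have := orderOf_dvd_of_pow_eq_one e'
        rw [hi] at this
        exact absurd ((Nat.pow_dvd_pow_iff_le_right hp.out.one_lt).1 this) (by omega)
      have hsz : s ∈ zpowers z := hsoc s (pow_mem hx.1 _) hsp
      obtain ⟨k, hk⟩ := (isOfFinOrder_of_finite w).mem_powers_iff_mem_zpowers.2
        (pow_mem hx.2 (p ^ i) : s ∈ zpowers w)
      simp only at hk
      have hdvd := orderOf_dvd_of_pow_eq_one (show w ^ (k * p) = 1 by rw [pow_mul, hk, hsp])
      rw [hwo, pow_succ] at hdvd
      obtain ⟨k', rfl⟩ := Nat.dvd_of_mul_dvd_mul_right hp.out.pos hdvd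
      rw [pow_mul] at hk
      have hgen : zpowers s = zpowers (w ^ p ^ f) := by
        refine eq_of_le_of_card_ge (zpowers_le.2 (by rw [show s = (w ^ p ^ f) ^ k' from hk.symm]; exact pow_mem (mem_zpowers _) k')) ?_
        rw [Nat.card_zpowers, Nat.card_zpowers, orderOf_eq_prime hsp hs1]
        refine orderOf_le_of_pow_eq_one hp.out.pos ?_
        rw [← pow_mul, ← pow_succ, ← hwo, pow_orderOf_eq_one]
      exact hwz ((zpowers_le.2 hsz) (hgen ▸ mem_zpowers _))
    · rw [he, hwo, ← U.card_mul_index, index_eq_card, ← hprod, hhQ, hf, hU2]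
      ring

end CfsgLib.FGSA.Metacyclic
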