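import Mathlib.GroupTheory.Sylow
import Mathlib.GroupTheory.IndexNormal
import Mathlib.Algebra.Polynomial.Roots
import Mathlib.Algebra.CharP.Lemmas
import Mathlib.FieldTheory.Finite.Basic
import Mathlib.GroupTheory.NoncommPiCoprod
import Cfsg.Prelude.Def_LocalStructure
import Cfsg.Prelude.Def_Transfer
import Cfsg.Agent.Solvable.Basics
import Cfsg.Agent.Coprime.Sylow

/-!
Minimal non-`p`-closed groups with a proper normal subgroup.
-/

set_option autoImplicit false
set_option linter.style.haveILetI false

namespace CfsgLib.MinNonPClosed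

open Polynomial

theorem card_le_of_pow_eq {R : Type*} [CommRing R] [IsDomain R] [Finite R] {n : ℕ} (hn : 1 < n)
    (h : ∀ r : R, r ^ n = r) : Nat.card R ≤ n := by
  classical
  haveI : Fintype R := Fintype.ofFinite R
  letI : Field R := (Finite.isDomain_to_isField R).toField
  rw [Nat.card_eq_fintype_card, ← Finset.card_univ]
  refine le_trans (Polynomial.card_le_degree_of_subset_roots (p := (X ^ n - X : R[X])) ?_)
    (FiniteField.X_pow_card_sub_X_natDegree_eq R hn).le
  intro r _
  rw [mem_roots (FiniteField.X_pow_card_sub_X_ne_zero R hn), IsRoot, eval_sub, eval_pow, eval_X, h,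
    sub_self]

/-- An irreducible automorphism of order dividing a prime `p` of an elementary abelian `q`-group
`V` lives in a field with at most `q ^ d` elements, `d` the order of `q` mod `p`. -/
theorem card_le {V : Type*} [AddCommGroup V] [Finite V] {p q : ℕ} [Fact p.Prime] [Fact q.Prime]
    (hpq : q ≠ p) (hq : ∀ v : V, q • v = 0) (s : AddMonoid.End V) (hs : s ^ p = 1)
    (hirr : ∀ W : AddSubgroup V, (∀ w ∈ W, s w ∈ W) → W = ⊥ ∨ W = ⊤) :
    Nat.card V ≤ q ^ orderOf (q : ZMod p) := by
  classical
  rcases subsingleton_or_nontrivial V with h | h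
  · rw [Nat.card_eq_one_iff_unique.2 ⟨h, ⟨0⟩⟩]
    exact Nat.one_le_pow _ _ (Fact.out : q.Prime).pos
  obtain ⟨R, hR⟩ : ∃ R : Subring (AddMonoid.End V), R = Subring.closure {s} := ⟨_, rfl⟩
  haveI : Finite (AddMonoid.End V) :=
    Finite.of_injective (fun f : AddMonoid.End V => (f : V → V)) DFunLike.coe_injective
  have hsR : s ∈ R := hR.ge (Subring.subset_closure rfl)
  have hcomm : ∀ f ∈ R, ∀ g ∈ R, f * g = g * f := by
    have h1 : R ≤ Subring.centralizer ({s} : Set (AddMonoid.End V)) :=
      hR.le.trans (Subring.closure_le.2 (Set.singleton_subset_iff.2 (Subring.mem_centralizer_iff.2 (by rintro x rfl; rfl))))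
    intro f hf g hg
    have h2 : R ≤ Subring.centralizer ({f} : Set (AddMonoid.End V)) := hR.le.trans <| Subring.closure_le.2 (by
      rintro x rfl
      simp only [SetLike.mem_coe, Subring.mem_centralizer_iff, Set.mem_singleton_iff, forall_eq]
      exact (Subring.mem_centralizer_iff.1 (h1 hf) x rfl).symm)
    exact Subring.mem_centralizer_iff.1 (h2 hg) f rfl
  have hinj : ∀ r ∈ R, r ≠ 0 → ∀ v, r v = 0 → v = 0 := by
    intro r hr hr0 v hv
    let W : AddSubgroup V :=
      { carrier := {w | r w = 0}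
        zero_mem' := map_zero r
        add_mem' := fun {a b} (ha : r a = 0) (hb : r b = 0) => by
          show r (a + b) = 0
          rw [map_add, ha, hb, add_zero]
        neg_mem' := fun {a} (ha : r a = 0) => by
          show r (-a) = 0
          rw [map_neg, ha, neg_zero] }
    rcases hirr W (fun w (hw : r w = 0) => by
        have h1 := congrArg (fun f : AddMonoid.End V => f w) (hcomm r hr s hsR)
        have h2 : r (s w) = s (r w) := h1
        show r (s w) = 0
        rw [h2, hw, map_zero]) with hk | hk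
    · exact AddSubgroup.mem_bot.1 (hk ▸ (show v ∈ W from hv))
    · refine absurd (AddMonoidHom.ext fun w => ?_) hr0
      exact hk.ge (AddSubgroup.mem_top w)
  obtain ⟨v0, hv0⟩ := exists_ne (0 : V)
  letI : CommRing R := { (inferInstance : Ring R) with
    mul_comm := fun a b => Subtype.ext (hcomm a a.2 b b.2) }
  haveI : Nontrivial R := ⟨0, 1, fun h0 => hv0 (by
    have h1 := congrArg (fun r : R => (r : AddMonoid.End V) v0) h0
    exact h1.symm)⟩
  haveI : NoZeroDivisors R := ⟨fun {a b} hab => by
    by_contra hc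
    push Not at hc
    have hb : (b : AddMonoid.End V) v0 ≠ 0 := fun h0 =>
      hv0 (hinj b b.2 (fun e => hc.2 (Subtype.ext e)) v0 h0)
    have ha : (a : AddMonoid.End V) ((b : AddMonoid.End V) v0) = 0 := by
      have h1 := congrArg (fun r : R => (r : AddMonoid.End V) v0) hab
      exact h1
    exact hb (hinj a a.2 (fun e => hc.1 (Subtype.ext e)) _ ha)⟩
  haveI : IsDomain R := NoZeroDivisors.to_isDomain R
  haveI : CharP R q := (CharP.charP_iff_prime_eq_zero (Fact.out : q.Prime)).2 (Subtype.ext (by
    refine AddMonoidHom.ext fun v => ?_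
    show ((q : R) : AddMonoid.End V) v = 0
    rw [show ((q : R) : AddMonoid.End V) = (q : AddMonoid.End V) from map_natCast R.subtype q]
    exact hq v))
  set σ : R := ⟨s, hsR⟩
  set d := orderOf (q : ZMod p) with hd
  have hq0 : (q : ZMod p) ≠ 0 := by
    rw [Ne, ZMod.natCast_eq_zero_iff]
    exact fun h => hpq ((Nat.prime_dvd_prime_iff_eq Fact.out Fact.out).1 h).symm
  have hd0 : 0 < d := orderOf_pos_iff.2 (isOfFinOrder_iff_pow_eq_one.2
    ⟨p - 1, by have := (Fact.out : p.Prime).two_le; omega, ZMod.pow_card_sub_one_eq_one hq0⟩)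
  have hσ : σ ^ q ^ d = σ := by
    have hm : (q ^ d) % p = 1 := by
      have h1 : ((q ^ d : ℕ) : ZMod p) = ((1 : ℕ) : ZMod p) := by
        rw [Nat.cast_pow, hd, pow_orderOf_eq_one, Nat.cast_one]
      rw [ZMod.natCast_eq_natCast_iff'] at h1
      rwa [Nat.one_mod_eq_one.2 (Fact.out : p.Prime).ne_one] at h1
    have hsp : σ ^ p = 1 := Subtype.ext hs
    rw [← Nat.div_add_mod (q ^ d) p, hm, pow_add, pow_one, pow_mul, hsp, one_pow, one_mul]
  have hfix : ∀ r : R, r ^ q ^ d = r := by
    rintro ⟨r, hr⟩
    suffices h : ∀ r ∈ R, ∀ hr : r ∈ R, (⟨r, hr⟩ : R) ^ q ^ d = ⟨r, hr⟩ from h r hr hr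
    intro r hr0
    replace hr0 := hR.le hr0
    induction hr0 using Subring.closure_induction with
    | mem x hx => intro hx'; obtain rfl := Set.mem_singleton_iff.1 hx; exact hσ
    | zero => intro hx'; exact zero_pow (pow_ne_zero _ (Fact.out : q.Prime).ne_zero)
    | one => intro hx'; exact one_pow _
    | add x y hx hy ihx ihy =>
      intro hxy
      show ((⟨x, hR.ge hx⟩ : R) + ⟨y, hR.ge hy⟩) ^ q ^ d = _
      rw [add_pow_char_pow, ihx (hR.ge hx), ihy (hR.ge hy)]; rfl
    | neg x hx ih =>
      intro hx'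
      have hzero : ((⟨x, hR.ge hx⟩ : R) + -⟨x, hR.ge hx⟩) ^ q ^ d = 0 := by
        rw [add_neg_cancel, zero_pow (pow_ne_zero _ (Fact.out : q.Prime).ne_zero)]
      rw [add_pow_char_pow, ih (hR.ge hx)] at hzero
      exact eq_neg_of_add_eq_zero_right hzero
    | mul x y hx hy ihx ihy =>
      intro hxy
      show ((⟨x, hR.ge hx⟩ : R) * ⟨y, hR.ge hy⟩) ^ q ^ d = _
      rw [mul_pow, ihx (hR.ge hx), ihy (hR.ge hy)]; rfl
  -- evaluation at `v0` is bijective
  let e : R →+ V :=
    { toFun := fun r => (r : AddMonoid.End V) v0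
      map_zero' := rfl
      map_add' := fun _ _ => rfl }
  have hsur : Function.Surjective e := by
    rcases hirr e.range (by
      rintro _ ⟨r, rfl⟩
      exact ⟨σ * r, rfl⟩) with hb | ht
    · exact absurd (AddSubgroup.mem_bot.1 (hb ▸ ⟨1, rfl⟩)) hv0
    · exact fun v => ht.ge (AddSubgroup.mem_top v)
  refine (Nat.card_le_card_of_surjective e hsur).trans ?_
  exact card_le_of_pow_eq (Nat.one_lt_pow hd0.ne' (Fact.out : q.Prime).one_lt) hfix

section Group

open Subgroup
open scoped Pointwise

variable {G : Type*} [Group G] [Finite G] {p : ℕ} [Fact p.Prime]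

omit [Fact p.Prime] in
theorem normal_of_map_conj {H : Subgroup G}
    (h : ∀ g : G, ∀ x ∈ H, g * x * g⁻¹ ∈ H) : H.Normal := ⟨fun x hx g => h g x hx⟩

/-- A minimal elementary abelian normal subgroup of index `p` in a nonabelian group. -/
theorem card_of_minimal {q : ℕ} (hq : q.Prime) (hpq : q ≠ p) (hna : ¬ IsMulCommutative G)
    (A : Subgroup G) [A.Normal] (hA : Cfsg.IsElementaryAbelian q A) (hidx : A.index = p)
    (hmin : ∀ B : Subgroup G, B.Normal → B ≤ A → B = ⊥ ∨ B = A) :
    Nat.card A = q ^ orderOf (q : ZMod p) ∧ (∀ x : G, x ∉ A → ∀ a ∈ A, x * a = a * x → a = 1) := by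
  haveI := Fact.mk hq
  have hp : p.Prime := Fact.out
  have hcomm : ∀ a ∈ A, ∀ b ∈ A, a * b = b * a := fun a ha b hb =>
    congrArg Subtype.val (hA.1.is_comm.comm (⟨a, ha⟩ : A) ⟨b, hb⟩)
  have hgen : ∀ x : G, x ∉ A → ∀ g : G, ∃ (i : ℕ) (a : G), a ∈ A ∧ g = x ^ i * a := by
    intro x hx g
    haveI : Fact (Nat.card (G ⧸ A)).Prime := ⟨by rw [← index_eq_card, hidx]; exact hp⟩
    have hx1 : (x : G ⧸ A) ≠ 1 := fun h => hx ((QuotientGroup.eq_one_iff x).1 h)
    have hmem : (g : G ⧸ A) ∈ Submonoid.powers (x : G ⧸ A) := by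
      rw [mem_powers_iff_mem_zpowers,
        zpowers_eq_top_of_prime_card (p := p) (hidx) hx1]
      exact Subgroup.mem_top _
    obtain ⟨i, hi⟩ := hmem
    refine ⟨i, (x ^ i)⁻¹ * g, QuotientGroup.eq.1 (by simpa using hi), by group⟩
  have hfix : ∀ x : G, x ∉ A → ∀ a ∈ A, x * a = a * x → a = 1 := by
    intro x hx a ha hxa
    let B : Subgroup G := A ⊓ centralizer ({x} : Set G)
    have hBn : B.Normal := by
      refine normal_of_map_conj fun g b hb => ?_
      refine ⟨Normal.conj_mem inferInstance b hb.1 g, mem_centralizer_singleton_iff.2 ?_⟩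
      obtain ⟨i, c, hc, rfl⟩ := hgen x hx g
      have hxb : Commute x b := (mem_centralizer_singleton_iff.1 hb.2 : b * x = x * b).symm
      have e : x ^ i * c * b * (x ^ i * c)⁻¹ = b := by
        calc x ^ i * c * b * (x ^ i * c)⁻¹ = x ^ i * (c * b * c⁻¹) * (x ^ i)⁻¹ := by group
          _ = x ^ i * b * (x ^ i)⁻¹ := by rw [hcomm c hc b hb.1, mul_inv_cancel_right]
          _ = b := by rw [(hxb.pow_left i).eq, mul_inv_cancel_right]
      rw [e]; exact mem_centralizer_singleton_iff.1 hb.2
    rcases hmin B hBn inf_le_left with hb | hb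
    · exact mem_bot.1 (hb ▸ (⟨ha, mem_centralizer_singleton_iff.2 hxa.symm⟩ : a ∈ B))
    · refine absurd ?_ hna
      have hxA : ∀ b ∈ A, Commute x b := fun b hb' =>
        (mem_centralizer_singleton_iff.1 (hb.ge hb').2 : b * x = x * b).symm
      refine ⟨⟨fun g h => ?_⟩⟩
      obtain ⟨i, c, hc, rfl⟩ := hgen x hx g
      obtain ⟨j, d, hd, rfl⟩ := hgen x hx h
      exact (((Commute.pow_pow (Commute.refl x) i j).mul_right ((hxA d hd).pow_left i)).mul_left
        (((hxA c hc).pow_left j).symm.mul_right (hcomm c hc d hd))).eq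
  refine ⟨?_, hfix⟩
  have hAne : A ≠ ⊥ := by
    intro hA0
    refine hna ?_
    have hcard : Nat.card G = p := by
      rw [← A.card_mul_index, hidx, hA0, card_bot, one_mul]
    haveI := isCyclic_of_prime_card hcard
    exact inferInstance
  obtain ⟨P, hP⟩ := exists_prime_orderOf_dvd_card' (G := G) p (hidx ▸ A.index_dvd_card)
  have hPA : P ∉ A := by
    intro h
    have h1 : P ^ q = 1 := hA.2 P h
    have h2 := orderOf_dvd_of_pow_eq_one h1
    rw [hP, Nat.prime_dvd_prime_iff_eq hp hq] at h2
    exact hpq h2.symm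
  letI : CommGroup A := { (inferInstance : Group A) with
    mul_comm := fun a b => Subtype.ext (hcomm a a.2 b b.2) }
  let c : A →* A := (MulAut.conjNormal (H := A) P).toMonoidHom
  let T : AddMonoid.End (Additive A) := MonoidHom.toAdditive c
  have hcv : ∀ (i : ℕ) (a : A),
      (((T ^ i) (Additive.ofMul a)).toMul : G) =
        P ^ i * a * (P ^ i)⁻¹ := by
    intro i
    induction i with
    | zero => intro a; simp
    | succ i ih =>
      intro a
      rw [pow_succ' T]
      show P * (((T ^ i)
        (Additive.ofMul a)).toMul : G) * P⁻¹ = _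
      rw [ih, pow_succ']
      group
  have hupper : Nat.card A ≤ q ^ orderOf (q : ZMod p) := by
    rw [← Nat.card_congr Additive.toMul]
    refine card_le (p := p) hpq (fun v => ?_) T ?_ fun W hW => ?_
    · exact congrArg Additive.ofMul (Subtype.ext (hA.2 v.toMul v.toMul.2) : v.toMul ^ q = 1)
    · refine AddMonoidHom.ext fun v => Additive.toMul.injective (Subtype.ext ?_)
      show (((T ^ p)
        (Additive.ofMul v.toMul)).toMul : G) = (v.toMul : G)
      rw [hcv, ← hP, pow_orderOf_eq_one, one_mul, inv_one, mul_one]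
    · set B := (AddSubgroup.toSubgroup' W).map A.subtype with hB
      have hBn : B.Normal := by
        refine normal_of_map_conj fun g => ?_
        rintro _ ⟨b, hb, rfl⟩
        obtain ⟨i, a, ha, rfl⟩ := hgen P hPA g
        have hWpow : ∀ (i : ℕ), ∀ w ∈ W,
            (T ^ i) w ∈ W := by
          intro i
          induction i with
          | zero => intro w hw; exact hw
          | succ i ih =>
            intro w hw
            rw [pow_succ' T]
            exact hW _ (ih w hw)
        refine ⟨((T ^ i)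
          (Additive.ofMul b)).toMul, hWpow i _ hb, ?_⟩
        show (((T ^ i)
          (Additive.ofMul b)).toMul : G) = P ^ i * a * (b : G) * (P ^ i * a)⁻¹
        rw [hcv, mul_inv_rev, mul_assoc (P ^ i) a, hcomm a ha b b.2]
        group
      rcases hmin B hBn (map_subtype_le _) with hb | hb
      · left
        rw [AddSubgroup.eq_bot_iff_forall]
        intro w hw
        have hw' : (w.toMul : G) ∈ B := ⟨w.toMul, hw, rfl⟩
        rw [hb, mem_bot] at hw'
        exact Additive.toMul.injective (Subtype.ext hw')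
      · right
        rw [eq_top_iff]
        intro w _
        obtain ⟨b, hb', hbw⟩ := hb.ge w.toMul.2
        obtain rfl : b = w.toMul := Subtype.ext hbw
        exact hb'
  obtain ⟨n, hn⟩ := (IsPGroup.iff_card (p := q) (G := A)).1 fun a =>
    ⟨1, by rw [pow_one]; exact Subtype.ext (hA.2 (a : G) a.2)⟩
  rw [hn] at hupper ⊢
  have hn0 : n ≠ 0 := by
    intro h0
    rw [h0, pow_zero] at hn
    exact hAne (eq_bot_of_card_eq A hn)
  have hmod : (q : ZMod p) ^ n = 1 := by
    letI : MulAction (zpowers P) A := MulAction.compHom A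
      ((MulAut.conjNormal (H := A)).comp (zpowers P).subtype)
    have hPp : IsPGroup p (zpowers P) := IsPGroup.of_card (n := 1)
      (by rw [Nat.card_zpowers, hP, pow_one])
    have h1 := hPp.card_modEq_card_fixedPoints A
    have h2 : MulAction.fixedPoints (zpowers P) A = {1} := by
      ext a
      refine ⟨fun ha => ?_, fun ha => ?_⟩
      · have h3 := congrArg Subtype.val (ha ⟨P, mem_zpowers P⟩)
        exact Subtype.ext (hfix P hPA a a.2 (mul_inv_eq_iff_eq_mul.1 h3))
      · rw [Set.mem_singleton_iff] at ha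
        subst ha
        exact fun g => map_one (MulAut.conjNormal (H := A) (g : G))
    rw [h2, hn, Nat.card_eq_fintype_card, Set.card_singleton] at h1
    simpa using (ZMod.natCast_eq_natCast_iff _ _ _).2 h1
  exact le_antisymm hupper (Nat.pow_le_pow_right hq.pos
    (Nat.le_of_dvd (Nat.pos_of_ne_zero hn0) (orderOf_dvd_of_pow_eq_one hmod)))

theorem sylow_le_of_isPClosed {H : Subgroup G} (hH : Cfsg.IsPClosed p H) (P : Sylow p G)
    (hPH : (P : Subgroup G) ≤ H) : H ≤ normalizer ((P : Subgroup G) : Set G) := by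
  haveI := hH (P.subtype hPH)
  have h1 : ((P.subtype hPH : Sylow p H) : Subgroup H).Normal := inferInstance
  rw [Sylow.coe_subtype] at h1
  exact (normal_subgroupOf_iff_le_normalizer hPH).1 h1

/-- A minimal non-`p`-closed group with a proper normal subgroup. -/
theorem structure_of_not_simple (hnc : ¬ Cfsg.IsPClosed p G)
    (hsub : ∀ H : Subgroup G, H ≠ ⊤ → Cfsg.IsPClosed p H)
    (hquo : ∀ (N : Subgroup G) [N.Normal], N ≠ ⊥ → Cfsg.IsPClosed p (G ⧸ N))
    (hns : ¬ IsSimpleGroup G) :
    ∃ q : ℕ, q.Prime ∧ q ≠ p ∧ Nat.card G = p * q ^ orderOf (q : ZMod p) ∧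
      ∃ A : Subgroup G, A.Normal ∧ Nat.card A = q ^ orderOf (q : ZMod p) ∧
        Cfsg.IsElementaryAbelian q A ∧
        ∀ B : Subgroup G, B.Normal → B ≤ A → B = ⊥ ∨ B = A := by
  classical
  have hp : p.Prime := Fact.out
  obtain ⟨P, hPn⟩ : ∃ P : Sylow p G, ¬ (P : Subgroup G).Normal := by
    by_contra h
    push Not at h
    exact hnc h
  have hU : ∀ U : Subgroup G, U.Normal → IsPGroup p U → U = ⊥ := by
    intro U hUn hUp
    by_contra hU1
    haveI := hUn
    haveI := hquo U hU1 (P.mapSurjective (f := QuotientGroup.mk' U) (QuotientGroup.mk'_surjective U))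
    have h1 : (((P : Subgroup G).map (QuotientGroup.mk' U)).comap (QuotientGroup.mk' U)).Normal :=
      Normal.comap (by rw [← Sylow.coe_mapSurjective]; infer_instance) _
    rw [comap_map_eq, QuotientGroup.ker_mk'] at h1
    obtain ⟨S, hS⟩ := hUp.exists_le_sylow
    obtain ⟨g, hg⟩ := MulAction.exists_smul_eq G S P
    have hUP : U ≤ (P : Subgroup G) := by
      rw [← hg, Sylow.coe_subgroup_smul]
      intro x hx
      exact ⟨g⁻¹ * x * g, hS (by simpa using hUn.conj_mem x hx g⁻¹), by simp [mul_assoc]⟩
    rw [sup_eq_left.2 hUP] at h1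
    exact hPn h1
  -- a minimal normal subgroup
  haveI : Nontrivial G := by
    by_contra h
    rw [not_nontrivial_iff_subsingleton] at h
    exact hPn ⟨fun x hx g => by rwa [Subsingleton.elim (g * x * g⁻¹) x]⟩
  obtain ⟨H0, hH0n, hH0⟩ : ∃ H0 : Subgroup G, H0.Normal ∧ H0 ≠ ⊥ ∧ H0 ≠ ⊤ := by
    by_contra h
    push Not at h
    exact hns ⟨fun H hH => (eq_or_ne H ⊥).imp id fun h1 => h H hH h1⟩
  haveI := hH0n
  obtain ⟨N, hNn, hN1, hNH, hmin⟩ := Solvable.exists_minimal_normal_le hH0.1
  haveI := hNn
  have hNtop : N ≠ ⊤ := fun h => hH0.2 (top_le_iff.1 (h ▸ hNH))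
  have hNp : ¬ p ∣ Nat.card N := by
    intro hd
    obtain ⟨T⟩ := (inferInstance : Nonempty (Sylow p N))
    haveI := hsub N hNtop T
    haveI := Sylow.characteristic_of_normal T inferInstance
    have h1 := hU ((T : Subgroup N).map N.subtype) inferInstance (T.2.map N.subtype)
    rw [map_eq_bot_iff_of_injective _ N.subtype_injective] at h1
    exact T.ne_bot_of_dvd_card hd h1
  have hcop : (Nat.card N).Coprime p := (hp.coprime_iff_not_dvd.2 hNp).symm
  have hdisj : ∀ V : Subgroup G, V ≤ N → (P : Subgroup G) ⊓ V = ⊥ := fun V hV => by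
    obtain ⟨k, hk⟩ := IsPGroup.iff_card.1 P.2
    refine inf_eq_bot_of_coprime ?_
    rw [hk]
    exact (hcop.coprime_dvd_left (card_dvd_of_le hV)).symm.pow_left k
  have hsupn : ((P : Subgroup G) ⊔ N).Normal := by
    haveI := hquo N hN1 (P.mapSurjective (f := QuotientGroup.mk' N) (QuotientGroup.mk'_surjective N))
    have h1 : (((P : Subgroup G).map (QuotientGroup.mk' N)).comap (QuotientGroup.mk' N)).Normal :=
      Normal.comap (by rw [← Sylow.coe_mapSurjective]; infer_instance) _
    rwa [comap_map_eq, QuotientGroup.ker_mk'] at h1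
  have htop : (P : Subgroup G) ⊔ N = ⊤ := by
    by_contra hne
    haveI := hsupn
    haveI := hsub _ hne (P.subtype le_sup_left)
    haveI := Sylow.characteristic_of_normal (P.subtype (le_sup_left : (P : Subgroup G) ≤ (P : Subgroup G) ⊔ N)) inferInstance
    have h1 : (((P.subtype (le_sup_left : (P : Subgroup G) ≤ (P : Subgroup G) ⊔ N) :
      Sylow p ↥((P : Subgroup G) ⊔ N)) : Subgroup ↥((P : Subgroup G) ⊔ N)).map
        ((P : Subgroup G) ⊔ N).subtype).Normal := inferInstance
    rw [Sylow.coe_subtype, map_subgroupOf_eq_of_le le_sup_left] at h1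
    exact hPn h1
  -- an invariant Sylow subgroup of `N` generating `G` together with `P`
  obtain ⟨r, hr, Q, hQN, hQp, hPQ, hQ⟩ : ∃ r : ℕ, r.Prime ∧ ∃ Q : Subgroup G, Q ≤ N ∧
      IsPGroup r Q ∧ (P : Subgroup G) ≤ normalizer (Q : Set G) ∧ (P : Subgroup G) ⊔ Q = ⊤ := by
    by_contra hcon
    push Not at hcon
    apply hPn
    set C := N ⊓ centralizer ((P : Subgroup G) : Set G) with hC
    have hCN : C = N := by
      refine Solvable.eq_of_le_of_card_le inf_le_left (Nat.le_of_dvd Nat.card_pos ?_)
      rw [← Nat.factorization_le_iff_dvd Nat.card_pos.ne' Nat.card_pos.ne']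
      intro r
      by_cases hr : r.Prime
      swap
      · simp [Nat.factorization_eq_zero_of_not_prime _ hr]
      haveI := Fact.mk hr
      obtain ⟨T⟩ := (inferInstance : Nonempty (Sylow r N))
      set N0 := normalizer (((T : Subgroup N).map N.subtype : Subgroup G) : Set G) with hN0
      have hN0P : p ^ (Nat.card G).factorization p ∣ Nat.card N0 := by
        have h1 := Solvable.card_sup_mul_card_inf (A := N0) (K := N) le_normalizer_of_normal
        rw [show N0 ⊔ N = ⊤ from Sylow.normalizer_sup_eq_top T, card_top] at h1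
        refine (Nat.Coprime.pow_left _ hcop.symm).dvd_of_dvd_mul_right ?_
        rw [← h1]
        exact (Nat.ordProj_dvd _ _).mul_right _
      obtain ⟨R, hR⟩ := Sylow.exists_subgroup_card_pow_prime p hN0P
      obtain ⟨g, hg⟩ := MulAction.exists_smul_eq G
        (Sylow.ofCard (R.map N0.subtype)
          (by rw [card_map_of_injective N0.subtype_injective, hR])) P
      set T' := ((T : Subgroup N).map N.subtype).map (MulAut.conj g : G →* G) with hT'
      have hT'N : T' ≤ N := by
        rintro _ ⟨x, ⟨y, -, rfl⟩, rfl⟩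
        exact hNn.conj_mem y y.2 g
      have hPT : (P : Subgroup G) ≤ normalizer (T' : Set G) := by
        rw [← hg, Sylow.coe_subgroup_smul, Sylow.coe_ofCard]
        refine le_trans (map_mono (map_subtype_le R)) ?_
        exact le_normalizer_map _
      have hW := hcon r hr T' hT'N ((T.2.map _).map _) hPT
      have hPW := sylow_le_of_isPClosed (hsub _ hW) P le_sup_left
      have hT'C : T' ≤ C := by
        refine le_inf hT'N fun x hx => mem_centralizer_iff.2 fun y hy => ?_
        have h1 : y * x * y⁻¹ * x⁻¹ ∈ (P : Subgroup G) ⊓ T' := by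
          refine ⟨?_, ?_⟩
          · rw [mul_assoc, mul_assoc, ← mul_assoc x]
            exact mul_mem hy ((mem_normalizer_iff.1 (hPW (mem_sup_right hx)) _).1 ((P : Subgroup G).inv_mem hy))
          · exact mul_mem ((mem_normalizer_iff.1 (hPT hy) x).1 hx) (T'.inv_mem hx)
        rw [hdisj T' hT'N, mem_bot] at h1
        exact mul_inv_eq_iff_eq_mul.1 (mul_inv_eq_one.1 h1)
      have hcard : Nat.card T' = r ^ (Nat.card N).factorization r := by
        rw [hT', card_map_of_injective (MulAut.conj g).injective,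
          card_map_of_injective N.subtype_injective, T.card_eq_multiplicity]
      exact (hr.pow_dvd_iff_le_factorization Nat.card_pos.ne').1
        (hcard ▸ card_dvd_of_le hT'C)
    refine normalizer_eq_top_iff.1 (top_le_iff.1 (htop.ge.trans (sup_le le_normalizer ?_)))
    exact (hCN.ge.trans inf_le_right).trans (centralizer_le_normalizer _)
  have hcardN := Solvable.card_sup_of_disjoint (A := (P : Subgroup G)) (K := N)
    le_normalizer_of_normal (hdisj N le_rfl)
  rw [htop, card_top] at hcardN
  have hQeq : Q = N := by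
    refine Solvable.eq_of_le_of_card_le hQN ?_
    have h3 := Solvable.card_sup_of_disjoint hPQ (hdisj Q hQN)
    rw [hQ, card_top, hcardN] at h3
    exact (Nat.eq_of_mul_eq_mul_left Nat.card_pos h3).le
  haveI := Fact.mk hr
  rw [hQeq] at hQp
  obtain ⟨hNc, q, hq, hqexp, -⟩ := Solvable.minimal_normal_elementary hN1 hmin
    (haveI := hQp.isNilpotent; inferInstance)
  have hqN : q ∣ Nat.card N := by
    obtain ⟨x, hx, hx1⟩ := N.bot_or_exists_ne_one.resolve_left hN1
    haveI := Fact.mk hq
    rw [← orderOf_eq_prime (hqexp x hx) hx1]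
    exact orderOf_dvd_natCard _ hx
  have hqp : q ≠ p := fun h => hNp (h ▸ hqN)
  -- the Sylow subgroup has order `p`
  obtain ⟨k, hk⟩ := IsPGroup.iff_card.1 P.2
  have hk1 : k = 1 := by
    rcases k with _ | _ | k
    · exact absurd (eq_bot_of_card_eq _ (by simpa using hk) : (P : Subgroup G) = ⊥)
        (fun h => hPn (by rw [h]; infer_instance))
    · rfl
    exfalso
    obtain ⟨P0', hP0'⟩ := Sylow.exists_subgroup_card_pow_prime (G := (P : Subgroup G)) p (n := k + 1)
      (hk ▸ pow_dvd_pow p (Nat.le_succ _))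
    set P0 := P0'.map (P : Subgroup G).subtype with hP0
    have hP0c : Nat.card P0 = p ^ (k + 1) := by
      rw [hP0, card_map_of_injective (P : Subgroup G).subtype_injective, hP0']
    haveI hP0'n : P0'.Normal := by
      refine normal_of_index_eq_minFac_card ?_
      have h1 := P0'.card_mul_index
      rw [hP0', hk, pow_succ p (k + 1)] at h1
      rw [Nat.eq_of_mul_eq_mul_left (pow_pos hp.pos _) h1, hk, Nat.pow_minFac (by omega)]
      exact (Nat.Prime.minFac_eq hp).symm
    have hP0P : P0 ≤ (P : Subgroup G) := map_subtype_le _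
    have hPP0 : (P : Subgroup G) ≤ normalizer (P0 : Set G) := by
      refine (normal_subgroupOf_iff_le_normalizer hP0P).1 ?_
      rw [hP0, subgroupOf, comap_map_eq_self_of_injective (P : Subgroup G).subtype_injective]
      exact hP0'n
    set M0 := P0 ⊔ N with hM0
    haveI hM0n : M0.Normal := by
      refine normalizer_eq_top_iff.1 (top_le_iff.1 (htop.ge.trans (sup_le ?_ ?_)))
      · intro x hx
        rw [mem_normalizer_iff_map_conj_eq, hM0, Subgroup.map_sup,
          mem_normalizer_iff_map_conj_eq.1 (hPP0 hx),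
          mem_normalizer_iff_map_conj_eq.1 ((le_normalizer_of_normal (H := N)) hx)]
      · exact le_sup_right.trans le_normalizer
    have hM0c : Nat.card M0 = p ^ (k + 1) * Nat.card N := by
      rw [hM0, Solvable.card_sup_of_disjoint le_normalizer_of_normal
        (le_bot_iff.1 ((inf_le_inf_right N hP0P).trans (hdisj N le_rfl).le)), hP0c]
    have hM0top : M0 ≠ ⊤ := by
      intro h
      rw [h, card_top, hcardN, hk] at hM0c
      have := Nat.pow_right_injective hp.two_le (Nat.eq_of_mul_eq_mul_right Nat.card_pos hM0c)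
      omega
    obtain ⟨S, hS⟩ : ∃ S : Sylow p M0, (S : Subgroup M0) = P0.subgroupOf M0 := by
      refine ⟨Sylow.ofCard (P0.subgroupOf M0) ?_, rfl⟩
      rw [Nat.card_congr (subgroupOfEquivOfLe (le_sup_left : P0 ≤ M0)).toEquiv, hP0c, hM0c,
        Nat.factorization_mul (pow_ne_zero _ hp.ne_zero) Nat.card_pos.ne', Finsupp.add_apply,
        hp.factorization_pow, Finsupp.single_eq_same, Nat.factorization_eq_zero_of_not_dvd hNp,
        add_zero]
    haveI := hsub M0 hM0top S
    haveI := Sylow.characteristic_of_normal S inferInstance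
    have h1 := hU ((S : Subgroup M0).map M0.subtype) inferInstance (S.2.map M0.subtype)
    rw [hS, map_subgroupOf_eq_of_le (le_sup_left : P0 ≤ M0)] at h1
    rw [h1, card_bot] at hP0c
    exact (Nat.one_lt_pow (Nat.succ_ne_zero k) hp.one_lt).ne hP0c
  rw [hk1, pow_one] at hk
  have hidx : N.index = p := by
    have h1 := N.card_mul_index
    rw [hcardN, hk, mul_comm p] at h1
    exact Nat.eq_of_mul_eq_mul_left Nat.card_pos h1
  have hna : ¬ IsMulCommutative G := fun h => hPn (haveI := h; inferInstance)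
  obtain ⟨hcard, -⟩ := card_of_minimal hq hqp hna N ⟨hNc, hqexp⟩ hidx hmin
  exact ⟨q, hq, hqp, by rw [hcardN, hk, hcard], N, hNn, hcard, ⟨hNc, hqexp⟩, hmin⟩

end Group

end CfsgLib.MinNonPClosed
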