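import Cfsg.Agent.FGSA.RankTwoOperator
import Cfsg.Agent.FGSA.RankTwoSolvable
import Cfsg.Agent.FGSB.TameFocal
import Cfsg.Agent.Solvable.PGroupBasic
import Cfsg.Prelude.Def_OddOrder
import Mathlib.GroupTheory.SchurZassenhaus

/-!
Sylow subgroups of rank two in minimal simple groups of odd order.
-/

set_option autoImplicit false
set_option linter.unusedSectionVars false
set_option linter.style.haveILetI false

namespace CfsgLib.MinSimpleRankTwo

open Subgroup
open scoped commutatorElement Pointwise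

universe u

variable {G : Type u} [Group G] [Finite G] {p : ℕ} [hp : Fact p.Prime]

theorem commutator_center_of_cube {R : Type u} [Group R] [Finite R] (hR : Nat.card R = p ^ 3)
    (hna : ¬ IsMulCommutative R) : commutator R = center R := by
  have hRp : IsPGroup p R := IsPGroup.of_card hR
  haveI : Nontrivial R := Finite.one_lt_card_iff_nontrivial.1 (by
    rw [hR]; exact Nat.one_lt_pow (by norm_num) hp.out.one_lt)
  have hZ : center R ≠ ⊥ := (nontrivial_iff_ne_bot _).1 hRp.center_nontrivial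
  have hncyc : ¬ IsCyclic (R ⧸ center R) := fun hc => hna ⟨⟨fun a b =>
    commutative_of_cyclic_center_quotient (QuotientGroup.mk' (center R))
      (by rw [QuotientGroup.ker_mk']) a b⟩⟩
  obtain ⟨i, hi⟩ := (hRp.to_quotient (center R)).exists_card_eq
  obtain ⟨j, hj⟩ := (hRp.to_subgroup (center R)).exists_card_eq
  have hsum : p ^ i * p ^ j = p ^ 3 := by
    rw [← hi, ← hj, ← hR, ← card_eq_card_quotient_mul_card_subgroup]
  rw [← pow_add] at hsum
  have hij := Nat.pow_right_injective hp.out.two_le hsum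
  have hj0 : j ≠ 0 := fun h => hZ (eq_bot_of_card_eq _ (by rw [hj, h, pow_zero]))
  have hi2 : 2 ≤ i := by
    by_contra h
    apply hncyc
    interval_cases i
    · haveI : Subsingleton (R ⧸ center R) :=
        (Nat.card_eq_one_iff_unique.1 (by rw [hi, pow_zero])).1
      infer_instance
    · exact isCyclic_of_prime_card (p := p) (by rw [hi, pow_one])
  obtain rfl : i = 2 := by omega
  obtain rfl : j = 1 := by omega
  have hle : commutator R ≤ center R := by
    letI : CommGroup (R ⧸ center R) := IsPGroup.commGroupOfCardEqPrimeSq hi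
    exact Normal.quotient_commutative_iff_commutator_le.1 ⟨⟨mul_comm⟩⟩
  refine eq_of_le_of_card_ge hle ?_
  obtain ⟨k, hk⟩ := (hRp.to_subgroup (commutator R)).exists_card_eq
  rw [hj, hk]
  refine Nat.pow_le_pow_right hp.out.pos (Nat.one_le_iff_ne_zero.2 fun h => hna ?_)
  have hb : commutator R = ⊥ := eq_bot_of_card_eq _ (by rw [hk, h, pow_zero])
  refine ⟨⟨fun a b => commutatorElement_eq_one_iff_mul_comm.1 ?_⟩⟩
  rw [← mem_bot, ← hb]
  exact commutator_mem_commutator (mem_top a) (mem_top b)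

/-- The Sylow subgroup is the commutator with its normaliser. -/
theorem eq_commutator_normalizer (hodd : Odd (Nat.card G)) (hG : Cfsg.IsMinimalSimple G) (P : Sylow p G)
    (hr : Cfsg.PRankLE p 2 (P : Subgroup G)) :
    (P : Subgroup G) ≤ ⁅(P : Subgroup G), normalizer ((P : Subgroup G) : Set G)⁆ := by
  classical
  obtain ⟨hsimple, hna, hsol⟩ := hG
  haveI := hsimple
  have hperf : commutator G = ⊤ := by
    refine (Subgroup.Normal.eq_bot_or_eq_top inferInstance).resolve_left fun h => hna ?_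
    refine ⟨⟨fun a b => commutatorElement_eq_one_iff_mul_comm.1 ?_⟩⟩
    rw [← mem_bot, ← h]
    exact commutator_mem_commutator (mem_top a) (mem_top b)
  conv_lhs => rw [← inf_top_eq (P : Subgroup G), ← hperf, CfsgLib.TameFocal.inf_commutator_eq P]
  refine sup_le le_rfl (iSup_le fun Q => iSup_le fun hQ => iSup_le fun x => iSup_le fun hx => ?_)
  set F := ⁅(P : Subgroup G), normalizer ((P : Subgroup G) : Set G)⁆
  set D := (P : Subgroup G) ⊓ Q with hD
  by_cases hD1 : D = ⊥
  · rw [hD1, commutator_bot_left]; exact bot_le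
  set N := normalizer (D : Set G) with hN
  have hNtop : N ≠ ⊤ := by
    intro h
    haveI : D.Normal := normalizer_eq_top_iff.1 h
    rcases Subgroup.Normal.eq_bot_or_eq_top (inferInstance : D.Normal) with h1 | h1
    · exact hD1 h1
    · haveI := hsimple.toNontrivial
      have hPt : (P : Subgroup G) = ⊤ := top_unique (h1 ▸ inf_le_left)
      haveI : Nontrivial (P : Subgroup G) := (nontrivial_iff_ne_bot _).2 (by rw [hPt]; exact top_ne_bot)
      have hc : Nontrivial (center (P : Subgroup G)) := P.2.center_nontrivial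
      obtain ⟨⟨⟨z, hzP⟩, hz⟩, hz1⟩ := exists_ne (1 : center (P : Subgroup G))
      have hzc : z ∈ center G := mem_center_iff.2 fun g =>
        congrArg Subtype.val (mem_center_iff.1 hz ⟨g, hPt ▸ mem_top g⟩)
      rcases Subgroup.Normal.eq_bot_or_eq_top (inferInstance : (center G).Normal) with h2 | h2
      · rw [h2, mem_bot] at hzc
        exact hz1 (Subtype.ext (Subtype.ext hzc))
      · exact hna ⟨⟨fun a b => (mem_center_iff.1 (h2 ▸ mem_top a : a ∈ center G) b).symm⟩⟩
  haveI : Group.IsSolvable N := hsol N hNtop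
  set T := (P : Subgroup G) ⊓ N with hT
  let S : Sylow p N := ((P.2.to_le inf_le_left : IsPGroup p T).comap_subtype (K := N)).toSylow hQ.1
  have hrN : ∀ A : Subgroup N, IsMulCommutative A → (∀ a ∈ A, a ^ p = 1) → Nat.card A ≤ p ^ 2 := by
    intro A hA hAp
    have hAg : IsPGroup p (A.map N.subtype) := IsPGroup.map (fun a => ⟨1, by
      rw [pow_one]; exact Subtype.ext (hAp a a.2)⟩) _
    obtain ⟨g, hg⟩ : ∃ g : G, MulAut.conj g • A.map N.subtype ≤ (P : Subgroup G) := by
      obtain ⟨R, hR⟩ := hAg.exists_le_sylow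
      obtain ⟨g, hg⟩ := MulAction.exists_smul_eq G R P
      exact ⟨g, by rw [← hg, Sylow.coe_subgroup_smul]; exact pointwise_smul_le_pointwise_smul_iff.2 hR⟩
    haveI := hA
    have hc' : ∀ u ∈ MulAut.conj g • A.map N.subtype, ∀ v ∈ MulAut.conj g • A.map N.subtype,
        u * v = v * u := by
      rintro _ ⟨_, ⟨a, ha, rfl⟩, rfl⟩ _ ⟨_, ⟨b, hb, rfl⟩, rfl⟩
      show MulAut.conj g (a : G) * MulAut.conj g (b : G) = MulAut.conj g (b : G) * MulAut.conj g (a : G)
      rw [← map_mul, ← map_mul, ← Subgroup.coe_mul, ← Subgroup.coe_mul,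
        show a * b = b * a from congrArg Subtype.val (hA.is_comm.comm (⟨a, ha⟩ : A) ⟨b, hb⟩)]
    set B := (MulAut.conj g • A.map N.subtype).subgroupOf (P : Subgroup G)
    have hcard : Nat.card B = Nat.card A := by
      rw [Nat.card_congr (subgroupOfEquivOfLe hg).toEquiv,
        Nat.card_congr (equivSMul (MulAut.conj g) (A.map N.subtype)).toEquiv.symm,
        card_map_of_injective N.subtype_injective]
    rw [← hcard]
    refine hr B ⟨⟨fun a b => Subtype.ext (Subtype.ext (hc' _ a.2 _ b.2))⟩⟩ fun b hb => Subtype.ext ?_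
    obtain ⟨_, ⟨a, ha, rfl⟩, hab⟩ := hb
    show (b : G) ^ p = 1
    rw [show (b : G) = MulAut.conj g (a : G) from hab.symm, ← map_pow,
      show (a : G) ^ p = 1 from congrArg Subtype.val (hAp a ha), map_one]
  obtain ⟨hcomm, -⟩ := CfsgLib.FGSA.RankTwoSolvable.quotient_of_rank_two (p := p)
    (hodd.of_dvd_nat (card_subgroup_dvd_card N)) hrN
  set O := Cfsg.pPrimeCore p N with hO
  set π := QuotientGroup.mk' O with hπ
  set S' := S.mapSurjective (QuotientGroup.mk'_surjective O)
  have hS'c : (S' : Subgroup (N ⧸ O)) = (S : Subgroup N).map π := S.coe_mapSurjective _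
  have hcore : Cfsg.pCore p (N ⧸ O) ≤ (S' : Subgroup (N ⧸ O)) := by
    refine sSup_le fun W hW => ?_
    haveI := hW.1
    exact le_sup_left.trans (S'.3 (IsPGroup.to_sup_of_normal_left hW.2 S'.2) le_sup_right).le
  haveI hS'n : (S' : Subgroup (N ⧸ O)).Normal :=
    ⟨fun a ha g => by
      have h1 : ⁅g, a⁆ ∈ (S' : Subgroup (N ⧸ O)) :=
        hcore (hcomm (commutator_mem_commutator (mem_top g) (mem_top a)))
      have h2 := (S' : Subgroup (N ⧸ O)).mul_mem h1 ha
      rwa [commutatorElement_def, inv_mul_cancel_right] at h2⟩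
  have hOcard : (Nat.card O).Coprime p := CfsgLib.Solvable.coprime_card_pPrimeCore p
  -- every `p`-element acts on `D` like an element of `P`
  rw [commutator_le]
  intro a ha y hy
  obtain ⟨i, rfl⟩ := hy
  set y := x ^ i with hy
  have hyN : y ∈ N := zpow_mem hx.1 i
  have hyS : π ⟨y, hyN⟩ ∈ (S' : Subgroup (N ⧸ O)) := by
    have hyp : IsPGroup p (zpowers (π ⟨y, hyN⟩)) := by
      obtain ⟨k, hk⟩ := hx.2
      intro ⟨w, hw⟩
      obtain ⟨l, rfl⟩ := hw
      refine ⟨k, Subtype.ext ?_⟩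
      show (π ⟨y, hyN⟩ ^ l) ^ p ^ k = 1
      rw [← zpow_natCast, ← zpow_mul, mul_comm, zpow_mul, zpow_natCast, ← map_pow,
        show (⟨y, hyN⟩ : N) ^ p ^ k = 1 from Subtype.ext (by
          show y ^ p ^ k = 1
          rw [hy, ← zpow_natCast, ← zpow_mul, mul_comm, zpow_mul, zpow_natCast, ← hk,
            pow_orderOf_eq_one, one_zpow]), map_one, one_zpow]
    exact (le_sup_right.trans (S'.3 (IsPGroup.to_sup_of_normal_left S'.2 hyp) le_sup_left).le)
      (mem_zpowers _)
  rw [hS'c] at hyS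
  obtain ⟨t, ht, hty⟩ := hyS
  have htP : (t : G) ∈ (P : Subgroup G) := (show (t : G) ∈ T from ht).1
  have ho : t⁻¹ * ⟨y, hyN⟩ ∈ O := QuotientGroup.eq.1 hty
  -- elements of `O` centralise `D`
  have hocen : ∀ o ∈ O, ∀ d ∈ D, (o : G) * d = d * (o : G) := by
    intro o ho d hd
    have hdN : d ∈ N := le_normalizer hd
    haveI : (D.subgroupOf N).Normal :=
      (normal_subgroupOf_iff_le_normalizer le_normalizer).2 le_rfl
    have h1 : ⁅o, (⟨d, hdN⟩ : N)⁆ ∈ O ⊓ D.subgroupOf N := by
      have hm : ⁅o, (⟨d, hdN⟩ : N)⁆ ∈ ⁅O, D.subgroupOf N⁆ :=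
        commutator_mem_commutator ho (mem_subgroupOf.2 hd)
      exact ⟨commutator_le_left O _ hm, commutator_le_right O _ hm⟩
    have hbot : O ⊓ D.subgroupOf N = ⊥ := by
      refine inf_eq_bot_of_coprime ?_
      obtain ⟨k, hk⟩ := ((P.2.to_le inf_le_left : IsPGroup p D).comap_subtype (K := N)).exists_card_eq
      rw [show Nat.card (D.subgroupOf N) = p ^ k from hk]
      exact Nat.Coprime.pow_right _ hOcard
    rw [hbot, mem_bot, commutatorElement_eq_one_iff_mul_comm] at h1
    exact congrArg Subtype.val h1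
  have hconj : y * a⁻¹ * y⁻¹ = (t : G) * a⁻¹ * (t : G)⁻¹ := by
    have h1 := hocen _ ho a⁻¹ (inv_mem ha)
    rw [show y = (t : G) * ((t⁻¹ * ⟨y, hyN⟩ : N) : G) by
      rw [Subgroup.coe_mul, Subgroup.coe_inv, mul_inv_cancel_left]]
    generalize ((t⁻¹ * ⟨y, hyN⟩ : N) : G) = o at h1 ⊢
    rw [mul_inv_rev, mul_assoc (t : G) o, h1]
    group
  rw [show ⁅a, y⁆ = a * (y * a⁻¹ * y⁻¹) by simp [commutatorElement_def, mul_assoc], hconj,
    show a * ((t : G) * a⁻¹ * (t : G)⁻¹) = ⁅a, (t : G)⁆ by simp [commutatorElement_def, mul_assoc]]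
  exact commutator_mem_commutator ha.1 (le_normalizer htP)

theorem main (hG : Cfsg.IsMinSimpleOddOrder G) (P : Sylow p G)
    (hr : Cfsg.PRankLE p 2 (P : Subgroup G)) :
    IsMulCommutative (P : Subgroup G) ∨ ∃ P₁ P₂ : Subgroup G, P₁ ⊔ P₂ = (P : Subgroup G) ∧
      (∀ a ∈ P₁, ∀ b ∈ P₂, a * b = b * a) ∧ ¬ IsMulCommutative P₁ ∧ Nat.card P₁ = p ^ 3 ∧
      Monoid.exponent P₁ = p ∧ IsCyclic P₂ ∧
      closure {x : G | x ∈ P₂ ∧ x ^ p = 1} = P₁ ⊓ centralizer (P₁ : Set G) := by
  classical
  obtain ⟨hodd, hmin⟩ := hG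
  by_cases hP1 : (P : Subgroup G) = ⊥
  · exact Or.inl ⟨⟨fun a b => Subtype.ext (by
      rw [Subgroup.coe_mul, Subgroup.coe_mul, mem_bot.1 (hP1.le a.2 : (a : G) ∈ (⊥ : Subgroup G)),
        mem_bot.1 (hP1.le b.2 : (b : G) ∈ (⊥ : Subgroup G))])⟩⟩
  have hp2 : p ≠ 2 := by
    rintro rfl
    obtain ⟨k, hk⟩ := P.2.exists_card_eq
    have h := hodd.of_dvd_nat (card_subgroup_dvd_card (P : Subgroup G))
    rcases k with _ | k
    · exact hP1 (eq_bot_of_card_eq _ (by rw [hk, pow_zero]))
    · rw [hk, Nat.odd_iff, pow_succ, Nat.mul_mod_left] at h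
      exact absurd h (by norm_num)
  set N := normalizer ((P : Subgroup G) : Set G) with hN
  have hPN : (P : Subgroup G) ≤ N := le_normalizer
  haveI : ((P : Subgroup G).subgroupOf N).Normal :=
    (normal_subgroupOf_iff_le_normalizer hPN).2 le_rfl
  have hcop : (Nat.card ((P : Subgroup G).subgroupOf N)).Coprime ((P : Subgroup G).subgroupOf N).index := by
    obtain ⟨k, hk⟩ := (P.2.comap_subtype (K := N)).exists_card_eq
    rw [show Nat.card ((P : Subgroup G).subgroupOf N) = p ^ k from hk]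
    exact Nat.Coprime.pow_left _ (hp.out.coprime_iff_not_dvd.2
      fun h => P.not_dvd_index (h.trans (relIndex_dvd_index_of_le hPN)))
  obtain ⟨K, hK⟩ := exists_right_complement'_of_coprime hcop
  set A := K.map N.subtype with hA
  have hAN : A ≤ N := map_subtype_le _
  have hAcard : Nat.card A = ((P : Subgroup G).subgroupOf N).index := by
    rw [hA, card_map_of_injective N.subtype_injective, hK.symm.index_eq_card]
  have hAcop : (Nat.card A).Coprime p := by
    rw [hAcard]
    exact ((hp.out.coprime_iff_not_dvd.2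
      fun h => P.not_dvd_index (h.trans (relIndex_dvd_index_of_le hPN)))).symm
  have hPA : ⁅(P : Subgroup G), A⁆ = P := by
    have hle : ⁅(P : Subgroup G), A⁆ ≤ P := le_normalizer_iff_commutator_le_left.1 hAN
    refine le_antisymm hle ?_
    have h1 := eq_commutator_normalizer hodd hmin P hr
    have h2 : ⁅(P : Subgroup G), N⁆ ≤ ⁅(P : Subgroup G), A⁆ ⊔ ⁅(P : Subgroup G), (P : Subgroup G)⁆ := by
      rw [commutator_le]
      intro a ha n hn
      have htop := hK.sup_eq_top
      obtain ⟨b, hb, k, hk, hbk⟩ := mem_sup_of_normal_left.1 (htop ▸ mem_top (⟨n, hn⟩ : N) :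
        (⟨n, hn⟩ : N) ∈ (P : Subgroup G).subgroupOf N ⊔ K)
      rw [show n = (b : G) * (k : G) from (congrArg Subtype.val hbk).symm,
        show ⁅a, (b : G) * k⁆ = ⁅a, (b : G)⁆ * ((b : G) * ⁅a, (k : G)⁆ * (b : G)⁻¹) by
          simp only [commutatorElement_def]; group]
      refine mul_mem (mem_sup_right (commutator_mem_commutator ha (mem_subgroupOf.1 hb))) (mem_sup_left ?_)
      exact (mem_normalizer_iff.1 (normalizer_commutator_ge_left _ _ (mem_subgroupOf.1 hb)) _).1
        (commutator_mem_commutator ha (mem_map_of_mem _ hk))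
    have h3 : (⁅(P : Subgroup G), A⁆).subgroupOf P ⊔ frattini (P : Subgroup G) = ⊤ := by
      refine eq_top_iff.2 fun w _ => ?_
      have hw := h2 (h1 w.2)
      have hsub : ⁅(P : Subgroup G), A⁆ ⊔ ⁅(P : Subgroup G), (P : Subgroup G)⁆ ≤
          ((⁅(P : Subgroup G), A⁆).subgroupOf P ⊔ frattini (P : Subgroup G)).map (P : Subgroup G).subtype := by
        refine sup_le ?_ ?_
        · rw [Subgroup.map_sup, map_subgroupOf_eq_of_le hle]; exact le_sup_left
        · rw [← Subgroup.map_subtype_commutator]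
          exact map_mono ((CfsgLib.PGroupBasic.commutator_pow_le_frattini P.2).1.trans le_sup_right)
      obtain ⟨v, hv, hvw⟩ := hsub hw
      rwa [← Subtype.ext hvw]
    exact subgroupOf_eq_top.1 (frattini_nongenerating h3)
  obtain ⟨-, hcase⟩ := CfsgLib.FGSA.RankTwoOperator.main hp2 P.2 hP1 hr hAN hAcop
    (hodd.of_dvd_nat (card_subgroup_dvd_card A)) hPA
  refine hcase.imp_right ?_
  rintro ⟨R₁, R₂, h1, h2, h3, h4, h5, h6, h7⟩
  refine ⟨R₁, R₂, h1, h2, h3, h4, h5, h6, ?_⟩
  rw [h7, ← Subgroup.map_subtype_commutator, commutator_center_of_cube h4 h3]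
  refine le_antisymm ?_ ?_
  · rintro _ ⟨z, hz, rfl⟩
    exact ⟨z.2, mem_centralizer_iff.2 fun g hg => congrArg Subtype.val (mem_center_iff.1 hz ⟨g, hg⟩)⟩
  · rintro z ⟨hz1, hz2⟩
    exact ⟨⟨z, hz1⟩, mem_center_iff.2 fun g => Subtype.ext (mem_centralizer_iff.1 hz2 g g.2), rfl⟩

end CfsgLib.MinSimpleRankTwo
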