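import Cfsg.Agent.Solvable.CoprimeAct
import Cfsg.Agent.Solvable.Fitting
import Cfsg.Agent.KGroup.CharP

/-!
A coprime operator group with solvable commutator: `O_{q'}` of centralisers and `O_{q'}` of the group.
-/

set_option autoImplicit false
set_option linter.unusedSectionVars false
set_option linter.style.haveILetI false

namespace CfsgLib.OperatorCore

open Subgroup

variable {G : Type*} [Group G] [Finite G]

/-- `O_{q'}(J)` as a subgroup of `G`. -/
noncomputable abbrev oq (q : ℕ) (J : Subgroup G) : Subgroup G := (Cfsg.pPrimeCore q ↥J).map J.subtype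

theorem coprime_oq (q : ℕ) (J : Subgroup G) : (Nat.card (oq q J)).Coprime q := by
  rw [oq, card_map_of_injective J.subtype_injective]
  exact CfsgLib.Solvable.coprime_card_pPrimeCore q

theorem le_oq {q : ℕ} {J N : Subgroup G} (hNJ : N ≤ J) (hn : J ≤ normalizer (N : Set G))
    (hc : (Nat.card N).Coprime q) : N ≤ oq q J := by
  have h : N.subgroupOf J ≤ Cfsg.pPrimeCore q J :=
    CfsgLib.Solvable.le_pPrimeCore q ((normal_subgroupOf_iff_le_normalizer hNJ).2 hn)
      (by rwa [Nat.card_congr (subgroupOfEquivOfLe hNJ).toEquiv])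
  rw [← map_subgroupOf_eq_of_le hNJ]
  exact Subgroup.map_mono h

theorem self_le_normalizer_oq (q : ℕ) (J : Subgroup G) : J ≤ normalizer (oq q J : Set G) := by
  rw [← normal_subgroupOf_iff_le_normalizer (map_subtype_le _)]
  show (((Cfsg.pPrimeCore q ↥J).map J.subtype).comap J.subtype).Normal
  rw [comap_map_eq_self_of_injective J.subtype_injective]
  exact (CfsgLib.Solvable.pPrimeCore_spec (G := J) q).1

theorem normalizer_le_normalizer_oq (q : ℕ) (J : Subgroup G) :
    normalizer (J : Set G) ≤ normalizer (oq q J : Set G) := by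
  have key : ∀ a ∈ normalizer (J : Set G), ∀ w ∈ oq q J, a * w * a⁻¹ ∈ oq q J := by
    intro a ha w hw
    refine le_oq (N := (oq q J).map (MulAut.conj a).toMonoidHom) ?_ ?_ ?_ ⟨w, hw, rfl⟩
    · rintro _ ⟨x, hx, rfl⟩
      exact (mem_normalizer_iff.1 ha x).1 (map_subtype_le _ hx)
    · intro j hj
      have hj' : a⁻¹ * j * a ∈ J := by
        refine (mem_normalizer_iff.1 ha _).2 ?_
        rwa [show a * (a⁻¹ * j * a) * a⁻¹ = j by group]
      have h1 := self_le_normalizer_oq q J hj'
      rw [mem_normalizer_iff]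
      intro y
      simp only [mem_map_equiv, MulAut.conj_symm_apply]
      rw [mem_normalizer_iff.1 h1 (a⁻¹ * y * a)]
      rw [show a⁻¹ * j * a * (a⁻¹ * y * a) * (a⁻¹ * j * a)⁻¹ = a⁻¹ * (j * y * j⁻¹) * a by group]
    · rw [card_map_of_injective (MulAut.conj a).injective]
      exact coprime_oq q J
  intro a ha
  rw [mem_normalizer_iff]
  refine fun w => ⟨key a ha w, fun h => ?_⟩
  simpa [mul_assoc] using key a⁻¹ (inv_mem ha) _ h

theorem inf_eq_bot_of_pGroup {q : ℕ} [Fact q.Prime] {A B : Subgroup G} (hA : (Nat.card A).Coprime q)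
    (hB : IsPGroup q B) : A ⊓ B = ⊥ := by
  obtain ⟨i, hi⟩ := IsPGroup.iff_card.1 hB
  exact inf_eq_bot_of_coprime (by rw [hi]; exact hA.pow_right i)

/-- The case `O_{q'}(H) = 1`. -/
theorem core_eq_bot {p q : ℕ} [Fact q.Prime] {P H K : Subgroup G} [H.Normal] [K.Normal]
    (hP : IsPGroup p P) [Fact p.Prime] (hKH : K ≤ H) (hcop : (Nat.card P).Coprime (Nat.card H))
    (hHP : ⁅H, P⁆ ≤ K) [Group.IsSolvable K]
    (hO : ∀ N : Subgroup G, N ≤ H → H ≤ normalizer (N : Set G) → (Nat.card N).Coprime q → N = ⊥)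
    {z : G} (hzH : z ∈ H) (hz : ∃ k, orderOf z = q ^ k) {W X : Subgroup G}
    (hW : W ≤ H ⊓ centralizer ({z} : Set G)) (hWc : (Nat.card W).Coprime q)
    (hWn : H ⊓ centralizer ({z} : Set G) ≤ normalizer (W : Set G))
    (hX : X ≤ H ⊓ centralizer (P : Set G)) (hXc : (Nat.card X).Coprime q)
    (hXn : H ⊓ centralizer (P : Set G) ≤ normalizer (X : Set G)) :
    W ⊓ K = ⊥ ∧ W ⊓ X = ⊥ := by
  set R : Subgroup G := (Cfsg.pCore q K).map K.subtype with hR
  haveI : (Cfsg.pCore q K).Characteristic := characteristic_iff_map_le.mpr fun φ =>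
    CfsgLib.Solvable.le_pCore q ((CfsgLib.Solvable.pCore_spec (G := K) q).1.map φ.toMonoidHom φ.surjective)
      ((CfsgLib.Solvable.isPGroup_pCore (G := K) q).map φ.toMonoidHom)
  haveI hRn : R.Normal := inferInstance
  have hRK : R ≤ K := map_subtype_le _
  have hRq : IsPGroup q R := (CfsgLib.Solvable.isPGroup_pCore q).map _
  have hKO : Cfsg.pPrimeCore q K = ⊥ := by
    haveI : (K : Subgroup G).Normal := inferInstance
    have h : oq q K = ⊥ := hO _ ((map_subtype_le _).trans hKH)
      ((le_normalizer_of_normal (H := K)).trans (normalizer_le_normalizer_oq q K)) (coprime_oq q K)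
    rwa [oq, map_eq_bot_iff_of_injective _ K.subtype_injective] at h
  have hCR : ∀ k ∈ K, k ∈ centralizer (R : Set G) → k ∈ R := by
    intro k hk hc
    refine ⟨⟨k, hk⟩, CfsgLib.Fitting.centralizer_pCore_le hKO (mem_centralizer_iff.2 fun r hr =>
      Subtype.ext (mem_centralizer_iff.1 hc r ⟨r, hr, rfl⟩)), rfl⟩
  -- `W` centralises `R`
  have hWR : W ≤ centralizer (R : Set G) := by
    intro w hw
    obtain ⟨k, hk⟩ := hz
    have hwo : (orderOf w).Coprime q := hWc.coprime_dvd_left (Subgroup.orderOf_dvd_natCard W hw)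
    have hwz : w * z = z * w := mem_centralizer_singleton_iff.1 (hW hw).2
    have h := CfsgLib.CharP.centralizes_of_centralizes_fixed (p := q) (T := zpowers z) (R := R) (y := w)
      (IsPGroup.of_card (n := k) (by rw [Nat.card_zpowers, hk])) hRq (le_normalizer_of_normal (H := R))
      ((le_normalizer_of_normal (H := R) : (⊤ : Subgroup G) ≤ _) (mem_top w))
      (mem_centralizer_iff.2 (by rintro _ ⟨i, rfl⟩; exact ((show Commute w z from hwz).zpow_right i).eq.symm))
      hwo (by
        intro r hr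
        have hrz : r ∈ H ⊓ centralizer ({z} : Set G) := mem_inf.2 ⟨hKH (hRK hr.1),
          mem_centralizer_singleton_iff.2 (mem_centralizer_iff.1 hr.2 z (mem_zpowers z)).symm⟩
        have h1 : r * w * r⁻¹ * w⁻¹ ∈ W ⊓ R := mem_inf.2
          ⟨mul_mem ((mem_normalizer_iff.1 (hWn hrz) w).1 hw) (inv_mem hw), by
            rw [show r * w * r⁻¹ * w⁻¹ = r * (w * r⁻¹ * w⁻¹) by group]
            exact mul_mem hr.1 (hRn.conj_mem _ (inv_mem hr.1) w)⟩
        rw [inf_eq_bot_of_pGroup hWc hRq, mem_bot] at h1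
        exact mem_centralizer_singleton_iff.2 (mul_inv_eq_iff_eq_mul.1 (mul_inv_eq_one.1 h1)))
    exact mem_centralizer_iff.2 fun r hr => mem_centralizer_singleton_iff.1 (h hr)
  refine ⟨?_, ?_⟩
  · rw [eq_bot_iff]
    intro w hw
    have h1 : w ∈ W ⊓ R := mem_inf.2 ⟨hw.1, hCR w hw.2 (hWR hw.1)⟩
    rwa [inf_eq_bot_of_pGroup hWc hRq] at h1
  set M : Subgroup G := H ⊓ centralizer (R : Set G) with hM
  haveI : (centralizer (R : Set G)).Normal := inferInstance
  haveI : M.Normal := inferInstance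
  set X₀ : Subgroup G := X ⊓ centralizer (R : Set G) with hX₀
  have hX₀M : X₀ ≤ M := le_inf (inf_le_left.trans (hX.trans inf_le_left)) inf_le_right
  have hX₀n : M ≤ normalizer (X₀ : Set G) := by
    have hfac := CfsgLib.CoprimeAct.commutator_sup_centralizer (A := P) (K := M)
      (le_normalizer_of_normal (H := M)) (hcop.coprime_dvd_right (card_dvd_of_le inf_le_left))
      (Or.inl (by
        haveI : Group.IsNilpotent P := hP.isNilpotent
        infer_instance))
    rw [← hfac, sup_le_iff]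
    refine ⟨fun c hc => ?_, fun c hc => ?_⟩
    · have hcM : c ∈ M := (commutator_le_left M P) hc
      have hcR : c ∈ R := hCR c (hHP (commutator_mono inf_le_left le_rfl hc)) hcM.2
      refine centralizer_le_normalizer _ (mem_centralizer_iff.2 fun x hx => ?_)
      exact (mem_centralizer_iff.1 hx.2 c hcR).symm
    · exact ((le_inf (hXn ⟨hc.1.1, hc.2⟩ |> fun h => zpowers_le.2 h)
        ((zpowers_le.2 ((le_normalizer_of_normal (H := centralizer (R : Set G)) :
          (⊤ : Subgroup G) ≤ _) (mem_top c))))).trans inf_normalizer_le_normalizer_inf) (mem_zpowers c)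
  have h2 : X₀ ≤ oq q M := le_oq hX₀M hX₀n (hXc.coprime_dvd_left (card_dvd_of_le inf_le_left))
  have h3 : oq q M = ⊥ := hO _ ((map_subtype_le _).trans inf_le_left)
    ((le_normalizer_of_normal (H := M)).trans (normalizer_le_normalizer_oq q M)) (coprime_oq q M)
  rw [eq_bot_iff, ← h3]
  exact fun w hw => h2 ⟨hw.2, hWR hw.1⟩

/-- Fixed points of a coprime solvable group lift modulo a normal subgroup. -/
theorem exists_lift {A O : Subgroup G} [O.Normal] (hcop : (Nat.card A).Coprime (Nat.card O))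
    (hA : Group.IsSolvable A) {h : G} (hh : ∀ a ∈ A, h * a * h⁻¹ * a⁻¹ ∈ O) :
    ∃ k ∈ O, ∀ a ∈ A, k⁻¹ * h * a = a * (k⁻¹ * h) := by
  have hB : A.map (MulAut.conj h).toMonoidHom ≤ A ⊔ O := by
    rintro _ ⟨a, ha, rfl⟩
    show h * a * h⁻¹ ∈ _
    have e : h * a * h⁻¹ = h * a * h⁻¹ * a⁻¹ * a := by group
    rw [e]
    exact mul_mem (mem_sup_right (hh a ha)) (mem_sup_left ha)
  obtain ⟨k, hk, hkA⟩ := CfsgLib.SZ.conj_rel (le_normalizer_of_normal (H := O)) hcop (Or.inl hA) hB
    (card_map_of_injective (MulAut.conj h).injective)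
  refine ⟨k, hk, fun a ha => ?_⟩
  have h1 : h * a * h⁻¹ ∈ A.map (MulAut.conj h).toMonoidHom := ⟨a, ha, rfl⟩
  rw [← hkA] at h1
  obtain ⟨b, hb, hbe⟩ := h1
  change k * b * k⁻¹ = h * a * h⁻¹ at hbe
  have hbO : b * a⁻¹ ∈ O := by
    have e : b * a⁻¹ = k⁻¹ * (h * a * h⁻¹ * a⁻¹) * (a * k * a⁻¹) := by rw [← hbe]; group
    rw [e]
    exact mul_mem (mul_mem (inv_mem hk) (hh a ha)) (Normal.conj_mem inferInstance k hk a)
  have h2 : b * a⁻¹ ∈ A ⊓ O := mem_inf.2 ⟨mul_mem hb (inv_mem ha), hbO⟩
  rw [inf_eq_bot_of_coprime hcop, mem_bot] at h2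
  rw [mul_inv_eq_one.1 h2] at hbe
  calc k⁻¹ * h * a = k⁻¹ * (h * a * h⁻¹) * h := by group
    _ = a * (k⁻¹ * h) := by rw [← hbe]; group

/-- The main lemma. -/
theorem main {p : ℕ} [hp : Fact p.Prime] (P : Sylow p G)
    (hPH : Cfsg.pPrimeCore p G ⊔ (P : Subgroup G) = ⊤)
    (hsol : Group.IsSolvable ↥⁅Cfsg.pPrimeCore p G, (P : Subgroup G)⁆)
    {q : ℕ} [Fact q.Prime] (z : G) (hzH : z ∈ Cfsg.pPrimeCore p G)
    (hzP : z ∈ centralizer ((P : Subgroup G) : Set G)) (hz : ∃ k : ℕ, orderOf z = q ^ k) :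
    oq q (Cfsg.pPrimeCore p G ⊓ centralizer ({z} : Set G)) ⊓
        oq q (Cfsg.pPrimeCore p G ⊓ centralizer ((P : Subgroup G) : Set G)) ⊔
      ⁅oq q (Cfsg.pPrimeCore p G ⊓ centralizer ({z} : Set G)), (P : Subgroup G)⁆ ≤
    oq q (Cfsg.pPrimeCore p G) := by
  set H := Cfsg.pPrimeCore p G with hH
  haveI hHn : H.Normal := (CfsgLib.Solvable.pPrimeCore_spec (G := G) p).1
  set O := oq q H with hO
  have hOc := coprime_oq q H
  haveI hOn : O.Normal := normalizer_eq_top_iff.1 (eq_top_iff.2
    ((normalizer_eq_top (H := H)).ge.trans (normalizer_le_normalizer_oq q H)))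
  set W := oq q (H ⊓ centralizer ({z} : Set G)) with hW
  set X := oq q (H ⊓ centralizer ((P : Subgroup G) : Set G)) with hX
  set K := ⁅H, (P : Subgroup G)⁆ with hK
  haveI hKn : K.Normal := by
    refine normalizer_eq_top_iff.1 (eq_top_iff.2 ?_)
    rw [← hPH]
    exact sup_le (normalizer_commutator_ge_left _ _) (normalizer_commutator_ge_right _ _)
  have hKH : K ≤ H := commutator_le_left H _
  have hcopP : (Nat.card (P : Subgroup G)).Coprime (Nat.card H) := by
    obtain ⟨i, hi⟩ := IsPGroup.iff_card.1 P.2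
    rw [hi]
    exact (CfsgLib.Solvable.coprime_card_pPrimeCore (G := G) p).symm.pow_left i
  set f := QuotientGroup.mk' O with hf
  have hfs : Function.Surjective f := QuotientGroup.mk'_surjective O
  have hker : f.ker = O := QuotientGroup.ker_mk' O
  have hOH : O ≤ H := map_subtype_le _
  haveI : (H.map f).Normal := hHn.map f hfs
  haveI : (K.map f).Normal := hKn.map f hfs
  haveI : Group.IsSolvable (K.map f) := by
    haveI := hsol
    exact Group.isSolvable_of_surjective (f := f.subgroupMap K) (f.subgroupMap_surjective K)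
  have hqz : ∃ k, orderOf (f z) = q ^ k := by
    obtain ⟨k, hk⟩ := hz
    obtain ⟨j, -, hj⟩ := (Nat.dvd_prime_pow Fact.out).1 (hk ▸ orderOf_map_dvd f z)
    exact ⟨j, hj⟩
  have hzO : (Nat.card (zpowers z)).Coprime (Nat.card O) := by
    obtain ⟨k, hk⟩ := hz
    rw [Nat.card_zpowers, hk]
    exact hOc.symm.pow_left k
  have hCz : H.map f ⊓ centralizer ({f z} : Set (G ⧸ O)) ≤ (H ⊓ centralizer ({z} : Set G)).map f := by
    rintro _ ⟨⟨h, hh, rfl⟩, hc⟩
    have hc : f h * f z = f z * f h := mem_centralizer_singleton_iff.1 hc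
    have hcom : ∀ a ∈ zpowers z, h * a * h⁻¹ * a⁻¹ ∈ O := by
      rintro _ ⟨i, rfl⟩
      show h * z ^ i * h⁻¹ * (z ^ i)⁻¹ ∈ O
      rw [← hker, MonoidHom.mem_ker, map_mul, map_mul, map_mul, map_inv, map_inv, map_zpow,
        (Commute.zpow_right (show Commute (f h) (f z) from hc) i).eq]
      group
    obtain ⟨k, hk, hkc⟩ := exists_lift hzO (by infer_instance) hcom
    refine ⟨k⁻¹ * h, mem_inf.2 ⟨mul_mem (inv_mem (hOH hk)) hh,
      mem_centralizer_singleton_iff.2 (hkc z (mem_zpowers z))⟩, ?_⟩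
    rw [map_mul, map_inv, show f k = 1 from (QuotientGroup.eq_one_iff k).2 hk, inv_one, one_mul]
  have hPO : (Nat.card (P : Subgroup G)).Coprime (Nat.card O) :=
    hcopP.coprime_dvd_right (card_dvd_of_le hOH)
  have hCP : H.map f ⊓ centralizer (((P : Subgroup G).map f : Subgroup (G ⧸ O)) : Set (G ⧸ O)) ≤
      (H ⊓ centralizer ((P : Subgroup G) : Set G)).map f := by
    rintro _ ⟨⟨h, hh, rfl⟩, hc⟩
    have hcom : ∀ a ∈ (P : Subgroup G), h * a * h⁻¹ * a⁻¹ ∈ O := by
      intro a ha
      rw [← hker, MonoidHom.mem_ker, map_mul, map_mul, map_mul, map_inv, map_inv,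
        ← mem_centralizer_iff.1 hc (f a) ⟨a, ha, rfl⟩]
      group
    obtain ⟨k, hk, hkc⟩ := exists_lift hPO (by
      haveI : Group.IsNilpotent (P : Subgroup G) := P.2.isNilpotent
      infer_instance) hcom
    refine ⟨k⁻¹ * h, mem_inf.2 ⟨mul_mem (inv_mem (hOH hk)) hh,
      mem_centralizer_iff.2 fun a ha => (hkc a ha).symm⟩, ?_⟩
    rw [map_mul, map_inv, show f k = 1 from (QuotientGroup.eq_one_iff k).2 hk, inv_one, one_mul]
  have hcopP' : (Nat.card ((P : Subgroup G).map f)).Coprime (Nat.card (H.map f)) :=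
    (hcopP.coprime_dvd_left (Subgroup.card_map_dvd _ _)).coprime_dvd_right (Subgroup.card_map_dvd _ _)
  have hWle : W ≤ H ⊓ centralizer ({z} : Set G) := map_subtype_le _
  have hXle : X ≤ H ⊓ centralizer ((P : Subgroup G) : Set G) := map_subtype_le _
  obtain ⟨hWK, hWX⟩ := core_eq_bot (p := p) (q := q) (P := (P : Subgroup G).map f) (H := H.map f)
    (K := K.map f) (P.2.map f) (Subgroup.map_mono hKH) hcopP'
    (by rw [← map_commutator]) (fun N hN hn hc => by
      have h1 : N.comap f ≤ H := by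
        refine (Subgroup.comap_mono hN).trans ?_
        rw [comap_map_eq, hker]
        exact sup_le le_rfl hOH
      have h2 : H ≤ normalizer ((N.comap f : Subgroup G) : Set G) := fun h hh => by
        rw [mem_normalizer_iff]
        intro y
        simp only [mem_comap, map_mul, map_inv]
        exact mem_normalizer_iff.1 (hn (mem_map_of_mem f hh)) (f y)
      have h3 : (Nat.card (N.comap f)).Coprime q := by
        have e : Nat.card O * Nat.card N = Nat.card (N.comap f) := by
          have e0 : Nat.card N = O.relIndex (N.comap f) := by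
            rw [(congrArg (fun L => L.relIndex (N.comap f)) hker).symm, relIndex_ker,
              map_comap_eq_self_of_surjective hfs]
          rw [e0, ← relIndex_bot_left, ← relIndex_bot_left]
          exact relIndex_mul_relIndex ⊥ O _ bot_le (hker.ge.trans (f.ker_le_comap N))
        rw [← e]
        exact Nat.Coprime.mul_left hOc hc
      rw [← map_comap_eq_self_of_surjective hfs N, Subgroup.map_eq_bot_iff, hker]
      exact le_oq h1 h2 h3)
    (mem_map_of_mem f hzH) hqz (W := W.map f) (X := X.map f)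
    (le_inf (Subgroup.map_mono (hWle.trans inf_le_left)) (by
      rintro _ ⟨w, hw, rfl⟩
      rw [mem_centralizer_singleton_iff, ← map_mul, ← map_mul, mem_centralizer_singleton_iff.1 (hWle hw).2]))
    ((coprime_oq q _).coprime_dvd_left (Subgroup.card_map_dvd _ _))
    (hCz.trans ((Subgroup.map_mono (self_le_normalizer_oq q _)).trans (le_normalizer_map f)))
    (le_inf (Subgroup.map_mono (hXle.trans inf_le_left)) (by
      rintro _ ⟨x, hx, rfl⟩
      rw [mem_centralizer_iff]
      rintro _ ⟨a, ha, rfl⟩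
      rw [← map_mul, ← map_mul, mem_centralizer_iff.1 (hXle hx).2 a ha]))
    ((coprime_oq q _).coprime_dvd_left (Subgroup.card_map_dvd _ _))
    (hCP.trans ((Subgroup.map_mono (self_le_normalizer_oq q _)).trans (le_normalizer_map f)))
  have hPW : (P : Subgroup G) ≤ normalizer (W : Set G) := by
    refine le_trans ?_ (normalizer_le_normalizer_oq q _)
    refine le_trans (le_inf (le_normalizer_of_normal (H := H)) ?_) inf_normalizer_le_normalizer_inf
    intro a ha
    exact le_normalizer (mem_centralizer_singleton_iff.2 (mem_centralizer_iff.1 hzP a ha))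
  refine sup_le ?_ ?_
  · intro w hw
    have h1 : f w ∈ W.map f ⊓ X.map f := mem_inf.2 ⟨mem_map_of_mem f hw.1, mem_map_of_mem f hw.2⟩
    rw [hWX, mem_bot] at h1
    exact (QuotientGroup.eq_one_iff w).1 h1
  · intro w hw
    have h1 : f w ∈ W.map f ⊓ K.map f := mem_inf.2
      ⟨mem_map_of_mem f (le_normalizer_iff_commutator_le_left.1 hPW hw),
        mem_map_of_mem f (commutator_mono (hWle.trans inf_le_left) le_rfl hw)⟩
    rw [hWK, mem_bot] at h1
    exact (QuotientGroup.eq_one_iff w).1 h1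

end CfsgLib.OperatorCore
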