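import Cfsg.Agent.Solvable.Hall
import Cfsg.Agent.PLocal.PConstrained

/-!
# Hall `p'`-subgroups of `p`-soluble groups
-/

set_option autoImplicit false
set_option linter.style.haveILetI false
set_option linter.deprecated false

namespace CfsgLib.PComplement

open Subgroup Pointwise CfsgLib.Solvable CfsgLib.SZ

universe u

theorem aux (p : ℕ) [Fact p.Prime] (n : ℕ) : ∀ (G : Type u) [Group G] [Finite G], Nat.card G = n →
    Cfsg.IsPSolvable p G → ∀ a m : ℕ, Nat.card G = a * p ^ m → a.Coprime p →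
      ∃ H : Subgroup G, Nat.card H = a ∧
        ∀ K : Subgroup G, (Nat.card K).Coprime p → ∃ g : G, MulAut.conj g • K ≤ H := by
  induction n using Nat.strongRecOn with | ind n ih => ?_
  rintro G _ _ rfl hG a m hab hcop
  have hp : p.Prime := Fact.out
  by_cases htriv : (⊤ : Subgroup G) = ⊥
  · have h1 : Nat.card G = 1 := by rw [← card_top, htriv, card_bot]
    refine ⟨⊥, ?_, fun K _ => ⟨1, ?_⟩⟩
    · have hd : a ∣ 1 := ⟨p ^ m, h1.symm.trans hab⟩
      rw [card_bot, Nat.eq_one_of_dvd_one hd]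
    · exact le_trans le_top htriv.le
  haveI : Nontrivial G := by
    by_contra h
    rw [not_nontrivial_iff_subsingleton] at h
    exact htriv (Subsingleton.elim _ _)
  have hcore := PConstrained.exists_core_ne_bot hG
  obtain ⟨M, hMn, hM1, hMp⟩ : ∃ M : Subgroup G, M.Normal ∧ M ≠ ⊥ ∧
      (IsPGroup p M ∨ (Nat.card M).Coprime p) := by
    rcases hcore with h | h
    · exact ⟨_, pCore_normal p, h, Or.inl (isPGroup_pCore p)⟩
    · exact ⟨_, (pPrimeCore_spec p).1, h, Or.inr (coprime_card_pPrimeCore p)⟩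
  let f := QuotientGroup.mk' M
  have hf : Function.Surjective f := QuotientGroup.mk'_surjective M
  have hker : f.ker = M := QuotientGroup.ker_mk' M
  have hQ : Nat.card M * Nat.card (G ⧸ M) = Nat.card G := by
    rw [← index_eq_card, card_mul_index]
  have hcomap : ∀ X : Subgroup (G ⧸ M), Nat.card ↥(X.comap f) = Nat.card M * Nat.card X := by
    intro X
    conv_rhs => rw [← map_comap_eq_self_of_surjective hf X, ← relIndex_ker, hker]
    rw [← relIndex_bot_left, ← relIndex_bot_left]
    exact (relIndex_mul_relIndex ⊥ M _ bot_le (hker.ge.trans (f.ker_le_comap X))).symm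
  have hQs : Cfsg.IsPSolvable p (G ⧸ M) := PConstrained.isPSolvable_map f hf hG
  rcases hMp with hMp | hMp
  · obtain ⟨j, hj⟩ := IsPGroup.iff_card.1 hMp
    have hjm : j ≤ m := by
      have h : p ^ j ∣ a * p ^ m := by rw [← hj, ← hab]; exact card_subgroup_dvd_card M
      exact (Nat.pow_dvd_pow_iff_le_right hp.one_lt).1 ((hcop.symm.pow_left j).dvd_of_dvd_mul_left h)
    obtain ⟨X, hXc, hX⟩ := ih _ (card_quotient_lt hM1) (G ⧸ M) rfl hQs a (m - j)
      (Nat.eq_of_mul_eq_mul_left (Nat.card_pos (α := M)) (by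
        rw [hQ, hab, hj, mul_left_comm, ← pow_add, Nat.add_sub_cancel' hjm])) hcop
    set L := X.comap f
    have hL : Nat.card L = p ^ j * a := by rw [hcomap, hj, hXc]
    have hML : M ≤ L := hker ▸ f.ker_le_comap X
    have hMc : Nat.card (M.subgroupOf L) = p ^ j := by
      rw [Nat.card_congr (subgroupOfEquivOfLe hML).toEquiv, hj]
    have hMi : (M.subgroupOf L).index = a := by
      apply Nat.eq_of_mul_eq_mul_left (Nat.card_pos (α := M.subgroupOf L))
      rw [card_mul_index, hL, hMc]
    have hpa' : (p ^ j).Coprime a := hcop.symm.pow_left j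
    obtain ⟨B, hB⟩ := exists_right_complement'_of_coprime (N := M.subgroupOf L)
      (by rw [hMc, hMi]; exact hpa')
    have hBc : Nat.card (B.map L.subtype) = a := by
      rw [Nat.card_congr (B.equivMapOfInjective L.subtype L.subtype_injective).symm.toEquiv,
        ← hB.symm.index_eq_card, hMi]
    refine ⟨B.map L.subtype, hBc, fun K hK => ?_⟩
    obtain ⟨g', hg⟩ := hX (K.map f) (hK.coprime_dvd_left (card_map_dvd _ _))
    obtain ⟨g, rfl⟩ := hf g'
    rw [← conj_smul_map, map_le_iff_le_comap] at hg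
    have hLeq : B.map L.subtype ⊔ M = L := by
      refine eq_of_le_of_card_le (sup_le (map_subtype_le B) hML) (le_of_eq ?_)
      rw [card_sup_of_disjoint le_normalizer_of_normal
        (inf_eq_bot_of_coprime (by rw [hBc, hj]; exact hpa'.symm)), hBc, hj, hL, mul_comm]
    haveI : Group.IsNilpotent M := hMp.isNilpotent
    have hMs : Group.IsSolvable M := inferInstance
    obtain ⟨k, -, hkl⟩ := conj_le (A := B.map L.subtype) (K := M) (U := MulAut.conj g • K)
      le_normalizer_of_normal (by rw [hBc, hj]; exact hpa'.symm) (Or.inr hMs)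
      (hLeq.symm ▸ hg)
      (by rw [card_conj_smul, hj]; exact hK.pow_right j)
    exact ⟨k * g, by rw [conj_smul_mul]; exact hkl⟩
  · obtain ⟨a', rfl⟩ : Nat.card M ∣ a :=
      (hMp.pow_right m).dvd_of_dvd_mul_right (hab ▸ card_subgroup_dvd_card M)
    obtain ⟨X, hXc, hX⟩ := ih _ (card_quotient_lt hM1) (G ⧸ M) rfl hQs a' m
      (Nat.eq_of_mul_eq_mul_left (Nat.card_pos (α := M)) (by rw [hQ, hab, mul_assoc]))
      (hcop.coprime_dvd_left (Dvd.intro_left _ rfl))
    refine ⟨X.comap f, by rw [hcomap, hXc], fun K hK => ?_⟩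
    obtain ⟨g', hg⟩ := hX (K.map f) (hK.coprime_dvd_left (card_map_dvd _ _))
    obtain ⟨g, rfl⟩ := hf g'
    rw [← conj_smul_map, map_le_iff_le_comap] at hg
    exact ⟨g, hg⟩

/-- A `p`-soluble group has a `p`-complement which dominates the `p'`-subgroups. -/
theorem exists_complement {G : Type*} [Group G] [Finite G] {p : ℕ} [Fact p.Prime]
    (hG : Cfsg.IsPSolvable p G) :
    ∃ H : Subgroup G, (Nat.card H).Coprime p ∧ (∃ m, H.index = p ^ m) ∧
      ∀ K : Subgroup G, (Nat.card K).Coprime p → ∃ g : G, MulAut.conj g • K ≤ H := by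
  set n := Nat.card G
  have hn : 0 < n := Nat.card_pos
  have hcop := (Nat.coprime_ordCompl (Fact.out : p.Prime) hn.ne').symm
  obtain ⟨H, hH, hdom⟩ := aux p n G rfl hG _ (n.factorization p)
    (by rw [mul_comm, Nat.ordProj_mul_ordCompl_eq_self]) hcop
  refine ⟨H, hH.symm ▸ hcop, ⟨n.factorization p, ?_⟩, hdom⟩
  apply Nat.eq_of_mul_eq_mul_left (Nat.card_pos (α := H))
  rw [card_mul_index, hH, mul_comm (n / p ^ n.factorization p)]
  exact (Nat.ordProj_mul_ordCompl_eq_self n p).symm

end CfsgLib.PComplement
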