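import Cfsg.Agent.FGSA.Blackburn
import Cfsg.Agent.ZJ.Replacement
import Cfsg.Agent.PLocal.Uniserial
import Cfsg.Agent.Solvable.Basics
import Cfsg.Agent.Solvable.PGroupBasic
import Cfsg.Agent.Solvable.RankTwo

/-!
Chief factors of groups of odd `p`-rank at most two.
-/

set_option autoImplicit false
set_option linter.unusedSectionVars false
set_option linter.style.haveILetI false

namespace CfsgLib.RankTwoChief

open Subgroup
open scoped commutatorElement

universe u

variable {Q : Type u} [Group Q] [Finite Q] {p : ℕ} [hp : Fact p.Prime]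

/-- Two generators modulo the Frattini subgroup. -/
theorem relIndex_le_sq (hQ : IsPGroup p Q) {R : Subgroup Q} {a b : Q}
    (hR : R ≤ frattini Q ⊔ zpowers a ⊔ zpowers b) : (frattini Q).relIndex R ≤ p ^ 2 := by
  obtain ⟨hc, hpw⟩ := CfsgLib.PGroupBasic.commutator_pow_le_frattini (p := p) hQ
  set π := QuotientGroup.mk' (frattini Q)
  have hcomm : ∀ u v : Q ⧸ frattini Q, u * v = v * u := fun u v =>
    (Normal.quotient_commutative_iff_commutator_le.2 hc).is_comm.comm u v
  have hcard : ∀ w : Q, Nat.card (zpowers (π w)) ≤ p := fun w => by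
    rw [Nat.card_zpowers]
    refine Nat.le_of_dvd hp.out.pos (orderOf_dvd_of_pow_eq_one ?_)
    rw [← map_pow]
    exact (QuotientGroup.eq_one_iff _).2 (hpw w)
  have hmap : Nat.card (R.map π) = (frattini Q).relIndex R := by
    have h := Subgroup.relIndex_comap (⊥ : Subgroup (Q ⧸ frattini Q)) π R
    rw [MonoidHom.comap_bot, QuotientGroup.ker_mk', relIndex_bot_left] at h
    exact h.symm
  have hle : R.map π ≤ zpowers (π a) ⊔ zpowers (π b) := by
    refine (map_mono hR).trans ?_
    rw [Subgroup.map_sup, Subgroup.map_sup, MonoidHom.map_zpowers, MonoidHom.map_zpowers,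
      (Subgroup.map_eq_bot_iff _).2 (QuotientGroup.ker_mk' (frattini Q)).ge, bot_sup_eq]
  have hn : zpowers (π a) ≤ normalizer (zpowers (π b) : Set (Q ⧸ frattini Q)) := by
    rw [le_normalizer_iff]
    intro g _ x hx
    rwa [hcomm g x, mul_inv_cancel_right]
  have h1 := CfsgLib.Solvable.card_sup_mul_card_inf hn
  have h2 : Nat.card ↥(zpowers (π a) ⊔ zpowers (π b)) ≤ p ^ 2 :=
    calc Nat.card ↥(zpowers (π a) ⊔ zpowers (π b))
        ≤ Nat.card ↥(zpowers (π a) ⊔ zpowers (π b)) * Nat.card ↥(zpowers (π a) ⊓ zpowers (π b)) :=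
          Nat.le_mul_of_pos_right _ Nat.card_pos
      _ = Nat.card (zpowers (π a)) * Nat.card (zpowers (π b)) := h1
      _ ≤ p ^ 2 := pow_two p ▸ Nat.mul_le_mul (hcard a) (hcard b)
  exact hmap ▸ (card_le_of_le hle).trans h2

theorem index_frattini_le_sq (hQ : IsPGroup p Q) {a b : Q} {x y z : Q}
    (hgen : closure ({x, y, z} : Set Q) = ⊤) (hx : x ∈ frattini Q ⊔ zpowers a ⊔ zpowers b)
    (hy : y ∈ frattini Q ⊔ zpowers a ⊔ zpowers b) (hz : z ∈ frattini Q ⊔ zpowers a ⊔ zpowers b) :
    (frattini Q).index ≤ p ^ 2 := by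
  rw [← relIndex_top_right]
  refine relIndex_le_sq hQ (a := a) (b := b) ?_
  rw [← hgen, closure_le]
  rintro w (rfl | rfl | rfl) <;> assumption

/-- A characteristic subgroup splitting the Frattini quotient into two small pieces. -/
theorem exists_middle (hp2 : p ≠ 2) (hQ : IsPGroup p Q)
    (hrk : ∀ E : Subgroup Q, IsMulCommutative E → (∀ a ∈ E, a ^ p = 1) → Nat.card E ≤ p ^ 2) :
    ∃ R : Subgroup Q, R.Characteristic ∧ frattini Q ≤ R ∧ R.index ≤ p ^ 2 ∧
      (frattini Q).relIndex R ≤ p ^ 2 := by
  classical
  suffices h : (frattini Q).index ≤ p ^ 2 ∨ ∃ R : Subgroup Q, R.Characteristic ∧ frattini Q ≤ R ∧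
      R.index ≤ p ^ 2 ∧ (frattini Q).relIndex R ≤ p ^ 2 by
    rcases h with h | h
    · exact ⟨frattini Q, inferInstance, le_rfl, h, by
        rw [relIndex_self]; exact Nat.one_le_pow _ _ hp.out.pos⟩
    · exact h
  obtain ⟨n, hn⟩ := IsPGroup.iff_card.1 hQ
  obtain ⟨hc, hpw⟩ := CfsgLib.PGroupBasic.commutator_pow_le_frattini (p := p) hQ
  rcases CfsgLib.FGSA.Blackburn.main hp2 n hn hrk with
    hm | ⟨hn3, x, y, z, hgen, hx, hy, hz, hxz, hyz, hrel⟩ |
      ⟨-, s, x, y, z, -, hgen, -, -, -, -, -, hrelz⟩ | ⟨-, hn2, hmax⟩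
  · left
    obtain ⟨A, hAn, hA, hQA⟩ := hm
    obtain ⟨a, ha⟩ := hA.exists_generator
    obtain ⟨b, hb⟩ := hQA.exists_generator
    obtain ⟨b, rfl⟩ := QuotientGroup.mk_surjective b
    rw [← relIndex_top_right]
    refine relIndex_le_sq hQ (a := (a : Q)) (b := b) fun w _ => ?_
    obtain ⟨i, hi⟩ := hb (QuotientGroup.mk w)
    have h1 : (b ^ i)⁻¹ * w ∈ A := QuotientGroup.eq.1 (by rw [QuotientGroup.mk_zpow]; exact hi)
    obtain ⟨j, hj⟩ := ha ⟨_, h1⟩
    rw [show w = b ^ i * ((b ^ i)⁻¹ * w) by group,
      show (b ^ i)⁻¹ * w = (a : Q) ^ j from (congrArg Subtype.val hj).symm]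
    exact mul_mem (mem_sup_right (zpow_mem (mem_zpowers b) i))
      (mem_sup_left (mem_sup_right (zpow_mem (mem_zpowers _) j)))
  · by_cases hzΦ : z ∈ frattini Q
    · left
      exact index_frattini_le_sq hQ (a := x) (b := y) hgen
        (mem_sup_left (mem_sup_right (mem_zpowers x))) (mem_sup_right (mem_zpowers y))
        (mem_sup_left (mem_sup_left hzΦ))
    -- `w = z ^ (p ^ (n - 3))` is central of order dividing `p`
    set w := z ^ p ^ (n - 3) with hw
    have hwp : w ^ p = 1 := by
      rw [hw, ← pow_mul, ← pow_succ, show n - 3 + 1 = n - 2 by omega, hz]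
    have hxw : x * w = w * x := ((show Commute x z from hxz).pow_right _).eq
    have hyw : y * w = w * y := ((show Commute y z from hyz).pow_right _).eq
    have hn4 : 4 ≤ n := by
      by_contra h4
      refine hzΦ (hc ?_)
      have h0 : n - 3 = 0 := by omega
      rw [hw, h0, pow_zero, pow_one] at hrel
      rw [show z = y⁻¹ * x⁻¹ * y * x by rw [mul_assoc, mul_assoc, ← mul_assoc x⁻¹, hrel]; group,
        show y⁻¹ * x⁻¹ * y * x = ⁅y⁻¹, x⁻¹⁆ by simp [commutatorElement_def, mul_assoc]]
      exact commutator_mem_commutator (mem_top _) (mem_top _)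
    have hwΦ : w ∈ frattini Q := by
      rw [hw, show p ^ (n - 3) = p ^ (n - 4) * p by rw [← pow_succ]; congr 1; omega, pow_mul]
      exact hpw _
    by_cases hzp : z ^ p = 1
    · -- then `Q` is elementary abelian
      left
      have hw1 : w = 1 := by
        rw [hw, show p ^ (n - 3) = p * p ^ (n - 4) by rw [← pow_succ']; congr 1; omega, pow_mul,
          hzp, one_pow]
      rw [hw1, mul_one] at hrel
      have hxy : x * y = y * x := by
        calc x * y = x * (x⁻¹ * y * x) := by rw [hrel]
          _ = y * x := by group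
      have hcomm : ∀ a ∈ ({x, y, z} : Set Q), ∀ b ∈ ({x, y, z} : Set Q), a * b = b * a := by
        intro a ha b hb
        rcases ha with rfl | rfl | rfl <;> rcases hb with rfl | rfl | rfl <;>
          first | rfl | assumption | exact hxy.symm | exact hxz.symm | exact hyz.symm
      haveI := Subgroup.isMulCommutative_closure hcomm
      have hexp : ∀ a ∈ closure ({x, y, z} : Set Q), a ^ p = 1 := by
        intro a ha
        induction ha using closure_induction with
        | mem a ha => rcases ha with rfl | rfl | rfl <;> assumption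
        | one => exact one_pow p
        | mul a b ha hb iha ihb =>
          rw [(show Commute a b from congrArg Subtype.val
            (mul_comm' (⟨a, ha⟩ : closure ({x, y, z} : Set Q)) ⟨b, hb⟩)).mul_pow, iha, ihb, one_mul]
        | inv a _ ha => rw [inv_pow, ha, inv_one]
      have h := hrk _ inferInstance hexp
      rw [hgen, card_top] at h
      exact (Nat.le_of_dvd Nat.card_pos (frattini Q).index_dvd_card).trans h
    right
    refine ⟨closure {a : Q | a ^ p = 1} ⊔ frattini Q, ?_, le_sup_right, ?_, ?_⟩
    · refine characteristic_iff_map_le.2 fun φ => ?_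
      rw [Subgroup.map_sup]
      refine sup_le_sup ?_ (characteristic_iff_map_le.1 inferInstance φ)
      rw [MonoidHom.map_closure]
      refine closure_mono ?_
      rintro _ ⟨a, ha, rfl⟩
      show (φ.toMonoidHom a) ^ p = 1
      rw [← map_pow, show a ^ p = 1 from ha, map_one]
    · rw [← relIndex_top_right]
      refine le_trans ?_ (Nat.le_self_pow two_ne_zero p)
      set R := closure {a : Q | a ^ p = 1} ⊔ frattini Q with hRdef
      haveI : R.Normal := ⟨fun a ha g => by
        have h1 : ⁅g, a⁆ ∈ R := mem_sup_right (hc (commutator_mem_commutator (mem_top _) (mem_top _)))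
        have h2 := mul_mem h1 ha
        rwa [commutatorElement_def, inv_mul_cancel_right] at h2⟩
      have htop : (⊤ : Subgroup Q) ≤ R ⊔ zpowers z := by
        rw [← hgen, closure_le]
        rintro v (rfl | rfl | rfl)
        · exact mem_sup_left (mem_sup_left (subset_closure hx))
        · exact mem_sup_left (mem_sup_left (subset_closure hy))
        · exact mem_sup_right (mem_zpowers _)
      have h1 : R.index ∣ orderOf (QuotientGroup.mk' R z) := by
        rw [index_eq_card, ← card_top, ← Nat.card_zpowers]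
        refine card_dvd_of_le fun v _ => ?_
        obtain ⟨v, rfl⟩ := QuotientGroup.mk'_surjective R v
        have h2 := mem_map_of_mem (QuotientGroup.mk' R) (htop (mem_top v))
        rwa [Subgroup.map_sup, MonoidHom.map_zpowers,
          (Subgroup.map_eq_bot_iff _).2 (QuotientGroup.ker_mk' R).ge, bot_sup_eq] at h2
      rw [relIndex_top_right]
      refine Nat.le_of_dvd hp.out.pos (h1.trans (orderOf_dvd_of_pow_eq_one ?_))
      rw [← map_pow]
      exact (QuotientGroup.eq_one_iff _).2 (mem_sup_right (hpw z))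
    · refine relIndex_le_sq hQ (a := x) (b := y) (sup_le ?_ (le_sup_left.trans le_sup_left))
      rw [closure_le]
      intro a ha
      -- `Q = ⟨x, y⟩⟨z⟩`
      set H := closure ({x, y, w} : Set Q) with hH
      have hHT : H ≤ frattini Q ⊔ zpowers x ⊔ zpowers y := by
        rw [hH, closure_le]
        rintro v (rfl | rfl | rfl)
        · exact mem_sup_left (mem_sup_right (mem_zpowers _))
        · exact mem_sup_right (mem_zpowers _)
        · exact mem_sup_left (mem_sup_left hwΦ)
      have hzw : z * w = w * z := ((Commute.refl z).pow_right _).eq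
      have hzH : ∀ h ∈ H, h * z = z * h := by
        intro h hh
        have hle : H ≤ centralizer {z} := by
          rw [hH, closure_le]
          rintro v (rfl | rfl | rfl)
          · exact mem_centralizer_singleton_iff.2 hxz
          · exact mem_centralizer_singleton_iff.2 hyz
          · exact mem_centralizer_singleton_iff.2 hzw.symm
        exact mem_centralizer_singleton_iff.1 (hle hh)
      have hwH : ∀ h : Q, h ∈ H → h * w = w * h := fun h hh =>
        ((show Commute h z from hzH h hh).pow_right _).eq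
      -- commutators in `H` are powers of `w`
      have hcw : ∀ h ∈ H, ∀ h' ∈ H, ∃ c : Q, c ^ p = 1 ∧ (∀ g ∈ H, g * c = c * g) ∧
          h' * h = c * (h * h') := by
        haveI hZn : ((zpowers w).subgroupOf H).Normal := ⟨fun c hc g => by
          rw [mem_subgroupOf] at hc ⊢
          obtain ⟨k, hk⟩ := hc
          rw [Subgroup.coe_mul, Subgroup.coe_mul, Subgroup.coe_inv, ← hk,
            ((show Commute (g : Q) w from hwH g g.2).zpow_right k).eq, mul_inv_cancel_right]
          exact zpow_mem (mem_zpowers w) k⟩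
        have hab : ∀ h ∈ H, ∀ h' ∈ H, ⁅h', h⁆ ∈ zpowers w := by
          intro h hh h' hh'
          have hle : commutator H ≤ (zpowers w).subgroupOf H := by
            rw [← Normal.quotient_commutative_iff_commutator_le]
            have hgenH : closure ((fun v : H => (QuotientGroup.mk v : H ⧸ (zpowers w).subgroupOf H)) ''
                {v : H | (v : Q) ∈ ({x, y, w} : Set Q)}) = ⊤ := by
              have htop : Subgroup.closure {v : H | (v : Q) ∈ ({x, y, w} : Set Q)} = ⊤ :=
                Subgroup.closure_closure_coe_preimage (k := ({x, y, w} : Set Q))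
              rw [← QuotientGroup.coe_mk', ← MonoidHom.map_closure, htop,
                map_top_of_surjective _ (QuotientGroup.mk'_surjective _)]
            refine ⟨⟨fun u v => ?_⟩⟩
            have hxmem : x ∈ H := subset_closure (by simp)
            have hymem : y ∈ H := subset_closure (by simp)
            have hw0 : ∀ v : H, (v : Q) = w → (QuotientGroup.mk v : H ⧸ (zpowers w).subgroupOf H) = 1 :=
              fun v hv => (QuotientGroup.eq_one_iff v).2 (by rw [mem_subgroupOf, hv]; exact mem_zpowers w)
            have hxyq : Commute (QuotientGroup.mk ⟨x, hxmem⟩ : H ⧸ (zpowers w).subgroupOf H)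
                (QuotientGroup.mk ⟨y, hymem⟩) := by
              refine QuotientGroup.eq.2 ?_
              rw [mem_subgroupOf]
              show (x * y)⁻¹ * (y * x) ∈ zpowers w
              rw [show (x * y)⁻¹ * (y * x) = y⁻¹ * (x⁻¹ * y * x) by group, hrel, inv_mul_cancel_left]
              exact mem_zpowers w
            have hall : ∀ a ∈ (fun v : H => (QuotientGroup.mk v : H ⧸ (zpowers w).subgroupOf H)) ''
                  {v : H | (v : Q) ∈ ({x, y, w} : Set Q)},
                ∀ b ∈ (fun v : H => (QuotientGroup.mk v : H ⧸ (zpowers w).subgroupOf H)) ''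
                  {v : H | (v : Q) ∈ ({x, y, w} : Set Q)}, a * b = b * a := by
              rintro _ ⟨⟨a, ha'⟩, haS, rfl⟩ _ ⟨⟨b, hb'⟩, hbS, rfl⟩
              rcases haS with h1 | h1 | h1 <;> rcases hbS with h2 | h2 | h2
              all_goals first
                | (have e := hw0 ⟨a, ha'⟩ h1; simp only [e, one_mul, mul_one])
                | (have e := hw0 ⟨b, hb'⟩ h2; simp only [e, one_mul, mul_one])
                | (obtain rfl : a = x := h1; obtain rfl : b = a := h2; rfl)
                | (obtain rfl : a = y := h1; obtain rfl : b = a := h2; rfl)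
                | (obtain rfl : a = x := h1; obtain rfl : b = y := h2; exact hxyq.eq)
                | (obtain rfl : a = y := h1; obtain rfl : b = x := h2; exact hxyq.eq.symm)
            haveI := Subgroup.isMulCommutative_closure hall
            exact congrArg Subtype.val (mul_comm' (⟨u, hgenH ▸ mem_top u⟩ : Subgroup.closure _)
              ⟨v, hgenH ▸ mem_top v⟩)
          exact hle (commutator_mem_commutator (mem_top (⟨h', hh'⟩ : H)) (mem_top ⟨h, hh⟩))
        intro h hh h' hh'
        obtain ⟨k, hk⟩ := hab h hh h' hh'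
        refine ⟨⁅h', h⁆, ?_, fun g hg => ?_, by simp [commutatorElement_def, mul_assoc]⟩
        · rw [← hk, ← zpow_natCast, ← zpow_mul, mul_comm, zpow_mul, zpow_natCast, hwp, one_zpow]
        · rw [← hk]; exact ((show Commute g w from hwH g hg).zpow_right k).eq
      have hHexp : ∀ h ∈ H, h ^ p = 1 := by
        intro h hh
        induction hh using closure_induction with
        | mem v hv => rcases hv with rfl | rfl | rfl <;> assumption
        | one => exact one_pow p
        | mul u v hu hv ihu ihv =>
          obtain ⟨c, hcp, hcc, hvu⟩ := hcw u hu v hv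
          rw [CfsgLib.ZJ.mul_pow_of_central hvu (hcc u hu).symm (hcc v hv).symm p, ihu, ihv]
          obtain ⟨d, hd⟩ := hp.out.dvd_choose_self (k := 2) (by norm_num)
            (lt_of_le_of_ne hp.out.two_le (Ne.symm hp2))
          rw [hd, pow_mul, hcp]
          simp
        | inv v _ ih => rw [inv_pow, ih, inv_one]
      have hsup : H ⊔ zpowers z = ⊤ := by
        refine eq_top_iff.2 ?_
        rw [← hgen, closure_le]
        rintro v (rfl | rfl | rfl)
        · exact mem_sup_left (subset_closure (by simp))
        · exact mem_sup_left (subset_closure (by simp))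
        · exact mem_sup_right (mem_zpowers _)
      have hnorm : zpowers z ≤ normalizer (H : Set Q) := by
        rw [le_normalizer_iff]
        rintro _ ⟨i, rfl⟩ h hh
        rw [← ((show Commute h z from hzH h hh).zpow_right i).eq, mul_inv_cancel_right]
        exact hh
      obtain ⟨_, ⟨i, rfl⟩, h, hh, rfl⟩ :=
        (CfsgLib.Solvable.mem_sup_of_le_normalizer hnorm).1 (sup_comm H (zpowers z) ▸ hsup ▸ mem_top a :
          a ∈ zpowers z ⊔ H)
      refine mul_mem ?_ (hHT hh)
      have hzi : (z ^ i) ^ p = 1 := by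
        have h' : (z ^ i * h) ^ p = 1 := ha
        rwa [((show Commute h z from hzH h hh).zpow_right i).symm.mul_pow, hHexp h hh, mul_one] at h'
      -- `z ^ i` with trivial `p`th power lies in the Frattini subgroup
      by_cases hpi : (p : ℤ) ∣ i
      · obtain ⟨j, rfl⟩ := hpi
        dsimp only
        rw [mul_comm, zpow_mul, zpow_natCast]
        exact mem_sup_left (mem_sup_left (hpw _))
      · exfalso
        obtain ⟨t, ht⟩ := (Prime.coprime_iff_not_dvd (Nat.prime_iff_prime_int.1 hp.out)).2 hpi
        obtain ⟨u, hu⟩ := ht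
        refine hzp ?_
        obtain ⟨m, hm⟩ := hQ z
        have hz1 : z = (z ^ (p : ℤ)) ^ t * (z ^ i) ^ u := by
          rw [← zpow_mul, ← zpow_mul, ← zpow_add, mul_comm (p : ℤ) t, mul_comm i u, hu, zpow_one]
        have key : z ^ p = (z ^ p) ^ ((t : ℤ) * p) := by
          conv_lhs => rw [hz1]
          rw [((Commute.refl z).zpow_zpow _ _).zpow_zpow _ _ |>.mul_pow, zpow_natCast]
          rw [← zpow_natCast (((z ^ i) ^ u)) p, ← zpow_mul (z ^ i) u, mul_comm u, zpow_mul,
            zpow_natCast, hzi, one_zpow, mul_one, zpow_mul, zpow_natCast]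
        have hiter : ∀ k : ℕ, ∃ e : ℤ, z ^ p = (z ^ p) ^ ((p : ℤ) ^ k * e) := by
          intro k
          induction k with
          | zero => exact ⟨1, by simp⟩
          | succ k ih =>
            obtain ⟨e, he⟩ := ih
            refine ⟨e * t, ?_⟩
            conv_lhs => rw [he, key]
            rw [← zpow_mul]
            congr 1
            ring
        obtain ⟨e, he⟩ := hiter m
        rw [he, zpow_mul, ← Nat.cast_pow, zpow_natCast, ← pow_mul, mul_comm, pow_mul, hm, one_pow,
          one_zpow]
  · left
    refine index_frattini_le_sq hQ (a := x) (b := z) hgen (mem_sup_left (mem_sup_right (mem_zpowers x)))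
      (mem_sup_left (mem_sup_left ?_)) (mem_sup_right (mem_zpowers z))
    refine hc ?_
    rw [show y = x⁻¹ * z * x * z⁻¹ by rw [hrelz, mul_inv_cancel_right],
      show x⁻¹ * z * x * z⁻¹ = ⁅x⁻¹, z⁆ by simp [commutatorElement_def, mul_assoc]]
    exact commutator_mem_commutator (mem_top _) (mem_top _)
  · left
    refine le_trans (Nat.le_of_dvd (Nat.pos_of_ne_zero index_ne_zero_of_finite)
      (index_dvd_of_le hc)) ?_
    rcases Nat.lt_or_ge n 3 with h | h
    · exact (Nat.le_of_dvd Nat.card_pos (index_dvd_card _)).trans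
        (hn ▸ Nat.pow_le_pow_right hp.out.pos (by omega))
    set L := fun i => (⊤ : Subgroup Q).lowerCentralSeries i with hL
    have hne : ∀ i, i ≤ n - 2 → L i ≠ ⊥ := fun i hi e => hmax (le_bot_iff.1
      ((Subgroup.lowerCentralSeries_antitone (⊤ : Subgroup Q) hi).trans e.le))
    have hd : ∀ i, i ≤ n - 2 → p * Nat.card (L (i + 1)) ≤ Nat.card (L i) := fun i hi =>
      CfsgLib.Uniserial.descend (hQ.to_subgroup ⊤) le_top le_top
        ((⊤ : Subgroup Q).self_le_normalizer_lowerCentralSeries i) (hne i hi)
    have hdown : ∀ k i, 1 ≤ i → i + k = n - 2 → p ^ (k + 1) ≤ Nat.card (L i) := by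
      intro k
      induction k with
      | zero =>
        intro i _ hi
        obtain ⟨j, hj⟩ := IsPGroup.iff_card.1 (hQ.to_subgroup (L i))
        rw [hj]
        refine Nat.pow_le_pow_right hp.out.pos ?_
        by_contra hj0
        exact hne i (by omega) (eq_bot_of_card_eq _ (by rw [hj, show j = 0 by omega, pow_zero]))
      | succ k ih =>
        intro i h1 hi
        have h2 := ih (i + 1) (by omega) (by omega)
        calc p ^ (k + 1 + 1) = p * p ^ (k + 1) := by rw [pow_succ']
          _ ≤ p * Nat.card (L (i + 1)) := Nat.mul_le_mul_left _ h2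
          _ ≤ _ := hd i (by omega)
    have h1 := hdown (n - 3) 1 le_rfl (by omega)
    have hL1 : L 1 = commutator Q := by simp [hL, _root_.commutator_def]
    rw [hL1] at h1
    have h2 := (commutator Q).card_mul_index
    rw [hn] at h2
    refine Nat.le_of_mul_le_mul_left ?_ (Nat.card_pos (α := commutator Q))
    rw [h2]
    calc p ^ n = p ^ (n - 3 + 1) * p ^ 2 := by rw [← pow_add]; congr 1; omega
      _ ≤ _ := Nat.mul_le_mul_right _ h1

variable {G : Type u} [Group G] [Finite G]

theorem relIndex_le_sq_of_chief (hp2 : p ≠ 2)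
    (hrk : ∀ A : Subgroup G, IsMulCommutative A → (∀ a ∈ A, a ^ p = 1) → Nat.card A ≤ p ^ 2)
    (H K : Subgroup G) [H.Normal] [K.Normal] (hKH : K < H) (hpow : ∃ n : ℕ, K.relIndex H = p ^ n)
    (hchief : ∀ L : Subgroup G, L.Normal → K ≤ L → L ≤ H → L = K ∨ L = H) :
    K.relIndex H ≤ p ^ 2 := by
  classical
  obtain ⟨P⟩ := (inferInstance : Nonempty (Sylow p H))
  set Pg : Subgroup G := (P : Subgroup H).map H.subtype with hPg
  have hPH : Pg ≤ H := map_subtype_le _
  have hPp : IsPGroup p Pg := P.2.map _
  have hfr : normalizer (Pg : Set G) ⊔ H = ⊤ := Sylow.normalizer_sup_eq_top P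
  have hPK : Pg ⊔ K = H := by
    refine le_antisymm (sup_le hPH hKH.le) (relIndex_eq_one.1 ?_)
    obtain ⟨n, hn⟩ := hpow
    have h1 : (Pg ⊔ K).relIndex H ∣ p ^ n := hn ▸ relIndex_dvd_of_le_left H le_sup_right
    have h2 : (Pg ⊔ K).relIndex H ∣ (P : Subgroup H).index := by
      refine dvd_trans (relIndex_dvd_of_le_left H le_sup_left) (dvd_of_eq ?_)
      rw [Subgroup.relIndex, Subgroup.subgroupOf, hPg,
        comap_map_eq_self_of_injective H.subtype_injective]
    exact Nat.dvd_one.1 (((hp.out.coprime_iff_not_dvd.2 P.not_dvd_index).pow_left n) ▸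
      Nat.dvd_gcd h1 h2)
  have hrkP : ∀ E : Subgroup Pg, IsMulCommutative E → (∀ a ∈ E, a ^ p = 1) → Nat.card E ≤ p ^ 2 := by
    intro E hE hEp
    rw [← card_map_of_injective Pg.subtype_injective (K := E)]
    refine hrk _ (haveI := hE; inferInstance) ?_
    rintro _ ⟨a, ha, rfl⟩
    rw [← map_pow, hEp a ha, map_one]
  obtain ⟨R, hRc, hΦR, hR1, hR2⟩ := exists_middle hp2 hPp hrkP
  -- images of characteristic subgroups give normal subgroups between `K` and `H`
  have hchar : ∀ S : Subgroup Pg, S.Characteristic →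
      S.map Pg.subtype ⊔ K = K ∨ S.map Pg.subtype ⊔ K = H := by
    intro S hS
    refine hchief _ ?_ le_sup_right (sup_le ((map_subtype_le S).trans hPH) hKH.le)
    rw [← normalizer_eq_top_iff, eq_top_iff, ← hfr]
    have hN : normalizer (Pg : Set G) ≤ normalizer ((S.map Pg.subtype ⊔ K : Subgroup G) : Set G) := by
      intro g hg
      rw [mem_normalizer_iff_map_conj_eq, Subgroup.map_sup]
      refine congrArg₂ _ ?_ (mem_normalizer_iff_map_conj_eq.1 (by
        rw [normalizer_eq_top_iff.2 inferInstance]; exact mem_top g))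
      refine le_antisymm ?_ ?_
      · rintro _ ⟨_, ⟨s, hs, rfl⟩, rfl⟩
        exact ⟨Pg.normalizerMonoidHom ⟨g, hg⟩ s,
          characteristic_iff_map_le.1 hS _ ⟨s, hs, rfl⟩, rfl⟩
      · rintro _ ⟨s, hs, rfl⟩
        exact ⟨_, ⟨Pg.normalizerMonoidHom ⟨g⁻¹, inv_mem hg⟩ s,
          characteristic_iff_map_le.1 hS _ ⟨s, hs, rfl⟩, rfl⟩, by
          show g * (g⁻¹ * (s : G) * g⁻¹⁻¹) * g⁻¹ = s
          group⟩
    refine sup_le hN ?_
    rw [← hPK]
    exact sup_le (le_normalizer.trans hN) (le_sup_right.trans le_normalizer)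
  haveI hKn : (K.subgroupOf Pg).Normal := inferInstance
  have hΦK : (frattini Pg).map Pg.subtype ≤ K := by
    rcases hchar (frattini Pg) inferInstance with h | h
    · exact le_sup_left.trans h.le
    · exfalso
      have h1 : K.subgroupOf Pg ⊔ frattini Pg = ⊤ := by
        refine eq_top_iff.2 fun x _ => ?_
        obtain ⟨a, ha, k, hk, hak⟩ := mem_sup_of_normal_right.1 (h.ge (hPH x.2))
        obtain ⟨a, ha', rfl⟩ := ha
        have hkP : a⁻¹ * x ∈ K.subgroupOf Pg := by
          rw [mem_subgroupOf]
          show (a : G)⁻¹ * (x : G) ∈ K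
          rw [← hak]
          show (a : G)⁻¹ * ((a : G) * k) ∈ K
          rwa [inv_mul_cancel_left]
        rw [show x = a * (a⁻¹ * x) by group, sup_comm]
        exact mul_mem_sup ha' hkP
      have h2 := frattini_nongenerating h1
      refine hKH.not_ge ?_
      rw [← hPK]
      exact sup_le (subgroupOf_eq_top.1 h2) le_rfl
  have hrelP : K.relIndex H = K.relIndex Pg := by rw [← hPK, relIndex_sup_right]
  rcases hchar R hRc with h | h
  · refine le_trans ?_ hR1
    rw [hrelP, Subgroup.relIndex]
    refine Nat.le_of_dvd (Nat.pos_of_ne_zero index_ne_zero_of_finite) (index_dvd_of_le ?_)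
    intro x hx
    rw [mem_subgroupOf]
    exact h.le (mem_sup_left (mem_map_of_mem _ hx))
  · refine le_trans ?_ hR2
    rw [← h, relIndex_sup_right, Subgroup.relIndex, Subgroup.relIndex]
    have h3 : ((frattini Pg).map Pg.subtype).relIndex (R.map Pg.subtype) = (frattini Pg).relIndex R := by
      rw [← relIndex_comap, comap_map_eq_self_of_injective Pg.subtype_injective]
    rw [← Subgroup.relIndex, ← Subgroup.relIndex, ← h3]
    exact Nat.le_of_dvd (Nat.pos_of_ne_zero index_ne_zero_of_finite) (relIndex_dvd_of_le_left _ hΦK)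

end CfsgLib.RankTwoChief
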