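import Cfsg.Agent.FGSA.ClassSizeGraph
import Cfsg.Agent.Solvable.CoprimeIndex
import Cfsg.Agent.Solvable.Fitting

/-!
The graph on primes dividing class sizes of `p`-singular elements, `p` prime to `|Z(G)|`.
-/

set_option autoImplicit false
set_option linter.unusedSectionVars false
set_option linter.style.haveILetI false

namespace CfsgLib.SingGraph

open Subgroup
open scoped Pointwise

variable {G : Type*} [Group G] [Finite G]

/-- The index of the centraliser. -/
noncomputable abbrev ind (x : G) : ℕ := (centralizer ({x} : Set G)).index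

theorem ind_ne_zero (x : G) : ind x ≠ 0 := index_ne_zero_of_finite

theorem ind_conj (g x : G) : ind (g * x * g⁻¹) = ind x := by
  have h : centralizer ({g * x * g⁻¹} : Set G) =
      (centralizer ({x} : Set G)).map (MulAut.conj g).toMonoidHom := by
    ext y
    simp only [mem_map_equiv, MulAut.conj_symm_apply, mem_centralizer_singleton_iff]
    constructor
    · intro e
      calc g⁻¹ * y * g * x = g⁻¹ * (y * (g * x * g⁻¹)) * g := by group
        _ = g⁻¹ * (g * x * g⁻¹ * y) * g := by rw [e]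
        _ = x * (g⁻¹ * y * g) := by group
    · intro e
      calc y * (g * x * g⁻¹) = g * (g⁻¹ * y * g * x) * g⁻¹ := by group
        _ = g * (x * (g⁻¹ * y * g)) * g⁻¹ := by rw [e]
        _ = g * x * g⁻¹ * y := by group
  rw [ind, h]
  exact Subgroup.index_map_equiv (H := centralizer ({x} : Set G)) (MulAut.conj g)

theorem centralizer_le_of_mem_zpowers {x y : G} (h : y ∈ zpowers x) :
    centralizer ({x} : Set G) ≤ centralizer ({y} : Set G) := by
  intro c hc
  obtain ⟨i, rfl⟩ := h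
  rw [mem_centralizer_singleton_iff] at hc ⊢
  exact (Commute.zpow_right (show Commute c x from hc) i).eq

theorem ind_dvd_of_mem_zpowers {x y : G} (h : y ∈ zpowers x) : ind y ∣ ind x :=
  index_dvd_of_le (centralizer_le_of_mem_zpowers h)

variable {p : ℕ} [Fact p.Prime]

theorem ind_ne_one (hZ : ¬ p ∣ Nat.card ↥(center G)) {u : G} (hu : orderOf u = p) : ind u ≠ 1 := by
  intro h
  apply hZ
  rw [← hu]
  refine Subgroup.orderOf_dvd_natCard _ (mem_center_iff.2 fun g => ?_)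
  exact mem_centralizer_singleton_iff.1 ((index_eq_one.1 h).symm ▸ mem_top g)

theorem ne_one_of_p_dvd {x : G} (h : p ∣ orderOf x) : x ≠ 1 := fun e => by
  rw [e, orderOf_one] at h
  exact (Fact.out : p.Prime).not_dvd_one h

/-- An element of order `p` among the powers of a `p`-singular element. -/
theorem exists_order_p {x : G} (h : p ∣ orderOf x) : ∃ u ∈ zpowers x, orderOf u = p :=
  ⟨x ^ (orderOf x / p), pow_mem (mem_zpowers x) _, orderOf_pow_orderOf_div (orderOf_pos x).ne' h⟩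

/-- The `p`-part and the `p'`-part of an element. -/
theorem exists_parts (g : G) :
    ∃ y v : G, y ∈ zpowers g ∧ v ∈ zpowers g ∧ y * v = g ∧
      (∃ e, orderOf y = p ^ e) ∧ ¬ p ∣ orderOf v := by
  have hp : p.Prime := Fact.out
  obtain ⟨e, m, hm, hn⟩ := Nat.exists_eq_pow_mul_and_not_dvd (orderOf_pos g).ne' p hp.ne_one
  obtain ⟨a, b, hab⟩ : IsCoprime (m : ℤ) ((p ^ e : ℕ) : ℤ) := by
    rw [Nat.isCoprime_iff_coprime]
    exact ((hp.coprime_iff_not_dvd.2 hm).pow_left e).symm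
  have hz : g ^ ((p ^ e : ℕ) * m : ℤ) = 1 := by
    rw [← Nat.cast_mul, ← hn, zpow_natCast, pow_orderOf_eq_one]
  refine ⟨g ^ (a * (m : ℤ)), g ^ (b * ((p ^ e : ℕ) : ℤ)), ⟨_, rfl⟩, ⟨_, rfl⟩, ?_, ?_, fun h => ?_⟩
  · rw [← zpow_add, hab, zpow_one]
  · have h1 : (g ^ (a * (m : ℤ))) ^ p ^ e = 1 := by
      rw [← zpow_natCast, ← zpow_mul, show a * (m : ℤ) * ((p ^ e : ℕ) : ℤ) =
        ((p ^ e : ℕ) * m : ℤ) * a by ring, zpow_mul, hz, one_zpow]
    obtain ⟨k, -, hk⟩ := (Nat.dvd_prime_pow hp).1 (orderOf_dvd_of_pow_eq_one h1)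
    exact ⟨k, hk⟩
  · refine hm (h.trans (orderOf_dvd_of_pow_eq_one ?_))
    rw [← zpow_natCast, ← zpow_mul, show b * ((p ^ e : ℕ) : ℤ) * (m : ℤ) =
      ((p ^ e : ℕ) * m : ℤ) * b by ring, zpow_mul, hz, one_zpow]

/-- An element of `p`-power order centralising a Sylow `p`-subgroup lies in it. -/
theorem mem_sylow_of_centralizes {P : Sylow p G} {z : G} {e : ℕ} (hz : orderOf z = p ^ e)
    (hc : z ∈ centralizer ((P : Subgroup G) : Set G)) : z ∈ (P : Subgroup G) := by
  have hzp : IsPGroup p (zpowers z) := IsPGroup.of_card (n := e) (by rw [Nat.card_zpowers, hz])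
  have h1 : IsPGroup p ↥(zpowers z ⊔ (P : Subgroup G)) :=
    hzp.to_sup_of_normal_right' P.2 (zpowers_le.2 (centralizer_le_normalizer _ hc))
  exact P.3 h1 le_sup_right ▸ mem_sup_left (mem_zpowers z)

/-- A `p`-subgroup of `W` is conjugate in `W` into any Sylow subgroup contained in `W`. -/
theorem exists_conj_le {W : Subgroup G} {R : Sylow p G} (hR : (R : Subgroup G) ≤ W) {Q : Subgroup G}
    (hQ : Q ≤ W) (hQp : IsPGroup p Q) : ∃ g ∈ W, ∀ q ∈ Q, g * q * g⁻¹ ∈ (R : Subgroup G) := by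
  obtain ⟨T, hT⟩ := (hQp.comap_subtype (K := W)).exists_le_sylow
  obtain ⟨c, hc⟩ := MulAction.exists_smul_eq W T (R.subtype hR)
  refine ⟨c, c.2, fun q hq => ?_⟩
  have h1 : (MulAut.conj c) ⟨q, hQ hq⟩ ∈ ((c • T : Sylow p W) : Subgroup W) :=
    ⟨⟨q, hQ hq⟩, hT hq, rfl⟩
  rw [hc] at h1
  exact h1

theorem card_class (x : G) : Nat.card (Set.range fun g : G => g * x * g⁻¹) = ind x := by
  rw [ind, index_eq_card]
  refine (Nat.card_eq_of_bijective
    (Quotient.lift (fun g => (⟨g * x * g⁻¹, g, rfl⟩ : Set.range fun g : G => g * x * g⁻¹)) ?_) ⟨?_, ?_⟩).symm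
  · intro a b h
    have h1 : a⁻¹ * b ∈ centralizer ({x} : Set G) := QuotientGroup.leftRel_apply.1 h
    rw [mem_centralizer_singleton_iff] at h1
    apply Subtype.ext
    calc a * x * a⁻¹ = a * (x * (a⁻¹ * b)) * b⁻¹ := by group
      _ = a * (a⁻¹ * b * x) * b⁻¹ := by rw [h1]
      _ = b * x * b⁻¹ := by group
  · rintro ⟨a⟩ ⟨b⟩ h
    have h1 : a * x * a⁻¹ = b * x * b⁻¹ := congrArg Subtype.val h
    apply QuotientGroup.eq.2
    rw [mem_centralizer_singleton_iff]
    calc a⁻¹ * b * x = a⁻¹ * (b * x * b⁻¹) * b := by group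
      _ = a⁻¹ * (a * x * a⁻¹) * b := by rw [h1]
      _ = x * (a⁻¹ * b) := by group
  · rintro ⟨_, g, rfl⟩
    exact ⟨QuotientGroup.mk g, rfl⟩

theorem card_dvd_of_free {A Ω : Type*} [Group A] [MulAction A Ω] [Finite A] [Finite Ω]
    (h : ∀ (a : A) (w : Ω), a • w = w → a = 1) : Nat.card A ∣ Nat.card Ω := by
  classical
  haveI := Fintype.ofFinite A
  haveI := Fintype.ofFinite Ω
  haveI := Fintype.ofFinite (Quotient (MulAction.orbitRel A Ω))
  have hb := MulAction.sum_card_fixedBy_eq_card_orbits_mul_card_group A Ω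
  rw [Finset.sum_eq_single (1 : A)] at hb
  · rw [show Fintype.card (MulAction.fixedBy Ω (1 : A)) = Fintype.card Ω from
      Fintype.card_congr ((Equiv.setCongr (by ext; simp [MulAction.mem_fixedBy])).trans (Equiv.Set.univ Ω))] at hb
    rw [Nat.card_eq_fintype_card, Nat.card_eq_fintype_card]
    exact ⟨_, hb.trans (mul_comm _ _)⟩
  · intro a _ ha
    rw [Fintype.card_eq_zero_iff, Set.isEmpty_coe_sort, Set.eq_empty_iff_forall_notMem]
    exact fun w hw => ha (h a w hw)
  · simp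

/-- The key step for two elements of coprime class sizes prime to `p`. -/
theorem not_coprime_product (hZ : ¬ p ∣ Nat.card ↥(center G)) {u z : G} (hu : orderOf u = p)
    (huz : u * z = z * u) (hzn : ¬ p ∣ ind z) (hmn : (ind u).Coprime (ind z))
    (hk : (ind u).Coprime (ind (u * z))) : False := by
  apply ind_ne_one hZ hu
  set T : Set G := Set.range fun g : G => g * z * g⁻¹ with hT
  have hshift : ∀ g : G, ∀ t ∈ T, u⁻¹ * (g * u * g⁻¹) * t ∈ T := by
    rintro g _ ⟨d₀, rfl⟩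
    obtain ⟨c₁, hc₁, d₁, hd₁, hcd⟩ := CfsgLib.CoprimeIndex.exists_mul_eq
      (H := centralizer ({u} : Set G)) (K := centralizer ({z} : Set G)) hmn (g⁻¹ * d₀)
    rw [mem_centralizer_singleton_iff] at hc₁ hd₁
    obtain ⟨c₂, hc₂, d₂, hd₂, hcd₂⟩ := CfsgLib.CoprimeIndex.exists_mul_eq
      (H := centralizer ({u} : Set G)) (K := centralizer ({u * z} : Set G)) hk (g * c₁)
    rw [mem_centralizer_singleton_iff] at hc₂ hd₂
    refine ⟨c₂, ?_⟩
    have e1 : d₀ * z * d₀⁻¹ = g * (c₁ * z * c₁⁻¹) * g⁻¹ := by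
      rw [show d₀ = g * (g⁻¹ * d₀) by group, hcd]
      calc g * (c₁ * d₁) * z * (g * (c₁ * d₁))⁻¹ = g * c₁ * (d₁ * z) * d₁⁻¹ * c₁⁻¹ * g⁻¹ := by group
        _ = g * (c₁ * z * c₁⁻¹) * g⁻¹ := by rw [hd₁]; group
    have e2 : g * u * g⁻¹ * (g * (c₁ * z * c₁⁻¹) * g⁻¹) = c₂ * (u * z) * c₂⁻¹ := by
      calc g * u * g⁻¹ * (g * (c₁ * z * c₁⁻¹) * g⁻¹) = g * (u * c₁) * z * (g * c₁)⁻¹ := by group
        _ = (g * c₁) * (u * z) * (g * c₁)⁻¹ := by rw [← hc₁]; group
        _ = c₂ * (d₂ * (u * z)) * d₂⁻¹ * c₂⁻¹ := by rw [hcd₂]; group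
        _ = c₂ * (u * z) * c₂⁻¹ := by rw [hd₂]; group
    show c₂ * z * c₂⁻¹ = u⁻¹ * (g * u * g⁻¹) * (d₀ * z * d₀⁻¹)
    rw [e1, mul_assoc u⁻¹, e2]
    calc c₂ * z * c₂⁻¹ = u⁻¹ * (u * c₂) * z * c₂⁻¹ := by group
      _ = u⁻¹ * (c₂ * (u * z) * c₂⁻¹) := by rw [← hc₂]; group
  -- the stabiliser of `T` under left translation
  let S : Subgroup G := MulAction.stabilizer G T
  have hS : ∀ g : G, u⁻¹ * (g * u * g⁻¹) ∈ S := by
    intro g
    show (u⁻¹ * (g * u * g⁻¹)) • T = T
    have hsub : (u⁻¹ * (g * u * g⁻¹)) • T ⊆ T := by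
      rintro _ ⟨t, ht, rfl⟩
      exact hshift g t ht
    exact Set.eq_of_subset_of_ncard_le hsub (by rw [Set.ncard_smul_set]) (Set.toFinite _)
  have hTconj : ∀ g : G, ∀ t ∈ T, g * t * g⁻¹ ∈ T := by
    rintro g _ ⟨d, rfl⟩
    exact ⟨g * d, by group⟩
  haveI hSn : S.Normal := by
    refine ⟨fun h hh g => ?_⟩
    show (g * h * g⁻¹) • T = T
    have hh' : h • T = T := hh
    have hsub : (g * h * g⁻¹) • T ⊆ T := by
      rintro _ ⟨t, ht, rfl⟩
      have h1 : h * (g⁻¹ * t * g) ∈ T := by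
        rw [← hh']
        exact Set.smul_mem_smul_set (by simpa using hTconj g⁻¹ t ht)
      have h2 := hTconj g _ h1
      simpa [mul_assoc] using h2
    exact Set.eq_of_subset_of_ncard_le hsub (by rw [Set.ncard_smul_set]) (Set.toFinite _)
  -- its order divides `ind z`
  have hSdvd : Nat.card S ∣ ind z := by
    rw [← card_class z]
    letI : MulAction S T :=
      { smul := fun s t => ⟨(s : G) * t, by
          have hs : (s : G) • T = T := s.2
          have h1 := Set.smul_mem_smul_set (a := (s : G)) t.2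
          rwa [hs] at h1⟩
        one_smul := fun t => Subtype.ext (one_mul (t : G))
        mul_smul := fun a b t => Subtype.ext (mul_assoc (a : G) b t) }
    refine card_dvd_of_free (A := S) (Ω := T) fun a w h => Subtype.ext ?_
    exact mul_eq_right.1 (congrArg Subtype.val h)
  -- so it centralises `u`
  have hSu : S ≤ centralizer ({u} : Set G) := by
    set C := centralizer ({u} : Set G) with hC
    have h1 : C.relIndex S * S.index = S.relIndex C * C.index := by
      have e1 := relIndex_mul_index (inf_le_right : C ⊓ S ≤ S)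
      have e2 := relIndex_mul_index (inf_le_left : C ⊓ S ≤ C)
      rw [inf_relIndex_right] at e1
      rw [inf_relIndex_left] at e2
      rw [e1, e2]
    obtain ⟨l, hl⟩ := relIndex_dvd_index_of_normal S C
    rw [hl] at h1
    have hpos : S.relIndex C ≠ 0 := fun h0 => by
      rw [h0, zero_mul] at hl
      exact index_ne_zero_of_finite hl
    have h2 : C.relIndex S * l = C.index := by
      apply Nat.eq_of_mul_eq_mul_left (Nat.pos_of_ne_zero hpos)
      rw [← h1]; ring
    have h3 : C.relIndex S = 1 := by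
      refine Nat.eq_one_of_dvd_coprimes hmn ⟨l, h2.symm⟩ ?_
      exact (relIndex_dvd_card C S).trans hSdvd
    exact relIndex_eq_one.1 h3
  rw [ind, index_eq_one, eq_top_iff]
  intro g _
  set h := u⁻¹ * (g * u * g⁻¹) with hh
  have hc : Commute u h := (mem_centralizer_singleton_iff.1 (hSu (hS g))).symm
  have hp1 : h ^ p = 1 := by
    have e : (u * h) ^ p = 1 := by
      rw [hh, mul_inv_cancel_left, conj_pow, ← hu, pow_orderOf_eq_one, mul_one, mul_inv_cancel]
    rwa [hc.mul_pow, ← hu, pow_orderOf_eq_one, one_mul, hu] at e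
  have hh1 : h = 1 := by
    rcases (Nat.dvd_prime (Fact.out : p.Prime)).1 (orderOf_dvd_of_pow_eq_one hp1) with e | e
    · exact orderOf_eq_one_iff.1 e
    · exact absurd ((e ▸ Subgroup.orderOf_dvd_natCard S (hS g)).trans hSdvd) hzn
  rw [mem_centralizer_singleton_iff]
  have h4 : u = g * u * g⁻¹ := inv_mul_eq_one.1 hh1
  calc g * u = g * u * g⁻¹ * g := by group
    _ = u * g := by rw [← h4]

/-- Two elements of order `p` with class sizes prime to `p`. -/
theorem exists_adj_of_pPrime (hZ : ¬ p ∣ Nat.card ↥(center G)) {u z : G} (hu : orderOf u = p)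
    (hz : orderOf z = p) (hum : ¬ p ∣ ind u) (hzn : ¬ p ∣ ind z) (hcop : (ind u).Coprime (ind z)) :
    ∃ a b : ℕ, a.Prime ∧ b.Prime ∧ a ∣ ind u ∧ b ∣ ind z ∧ ∃ x : G, p ∣ orderOf x ∧ a * b ∣ ind x := by
  obtain ⟨P, hP⟩ := CfsgLib.ClassSizePrimes.exists_sylow_le_centralizer hzn
  obtain ⟨R, hR⟩ := CfsgLib.ClassSizePrimes.exists_sylow_le_centralizer hum
  obtain ⟨g, hg⟩ := MulAction.exists_smul_eq G R P
  set u' := g * u * g⁻¹ with hu'
  have hu'o : orderOf u' = p := by
    rw [hu', show g * u * g⁻¹ = (MulAut.conj g) u from rfl, MulEquiv.orderOf_eq, hu]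
  have hu'i : ind u' = ind u := ind_conj g u
  have hzP : z ∈ (P : Subgroup G) := mem_sylow_of_centralizes (e := 1) (by rw [hz, pow_one]) hP
  have hu'P : u' ∈ (P : Subgroup G) := by
    rw [← hg]
    exact ⟨u, mem_sylow_of_centralizes (e := 1) (by rw [hu, pow_one]) hR, rfl⟩
  have hcomm : u' * z = z * u' := mem_centralizer_iff.1 hP u' hu'P
  by_contra hcon
  push Not at hcon
  have hyne : u' * z ≠ 1 := by
    intro h
    have h1 : ind z = ind u' := by
      rw [eq_inv_of_mul_eq_one_left h]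
      have e1 : ind z⁻¹ ∣ ind z := ind_dvd_of_mem_zpowers (inv_mem (mem_zpowers z))
      have e2 : ind z ∣ ind z⁻¹ := ind_dvd_of_mem_zpowers (by simpa using inv_mem (mem_zpowers z⁻¹))
      exact Nat.dvd_antisymm e2 e1
    rw [hu'i] at h1
    rw [h1, Nat.coprime_self] at hcop
    exact ind_ne_one hZ hu hcop
  have hyo : orderOf (u' * z) = p := orderOf_eq_prime
    (by rw [(show Commute u' z from hcomm).mul_pow, ← hu'o, pow_orderOf_eq_one, hu'o, ← hz,
      pow_orderOf_eq_one, one_mul]) hyne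
  by_cases hku : (ind u').Coprime (ind (u' * z))
  · exact not_coprime_product hZ hu'o hcomm hzn (hu'i ▸ hcop) hku
  by_cases hkz : (ind z).Coprime (ind (u' * z))
  · exact not_coprime_product hZ hz hcomm.symm (hu'i ▸ hum) (hu'i ▸ hcop).symm (hcomm ▸ hkz)
  obtain ⟨a, ha, ha1, ha2⟩ := Nat.Prime.not_coprime_iff_dvd.1 hku
  obtain ⟨b, hb, hb1, hb2⟩ := Nat.Prime.not_coprime_iff_dvd.1 hkz
  refine hcon a b ha hb (hu'i ▸ ha1) hb1 (u' * z) (by rw [hyo]) ?_
  have hab : a ≠ b := by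
    rintro rfl
    exact ha.not_dvd_one (hcop ▸ Nat.dvd_gcd (hu'i ▸ ha1) hb1)
  exact ((Nat.coprime_primes ha hb).2 hab).mul_dvd_of_dvd_of_dvd ha2 hb2

/-- An element of order `p` with class size prime to `p` and `p` itself. -/
theorem exists_adj_p (hZ : ¬ p ∣ Nat.card ↥(center G)) {z : G} (hz : orderOf z = p) (hzn : ¬ p ∣ ind z)
    {x₀ : G} (hx₀ : p ∣ orderOf x₀) (hx₀p : p ∣ ind x₀) :
    ∃ b : ℕ, b.Prime ∧ b ∣ ind z ∧ ∃ x : G, p ∣ orderOf x ∧ p * b ∣ ind x := by
  classical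
  have hp : p.Prime := Fact.out
  by_contra hcon
  push Not at hcon
  have hfail : ∀ x : G, p ∣ orderOf x → p ∣ ind x → (ind x).Coprime (ind z) := fun x hx hxp =>
    Nat.coprime_of_dvd fun b hb h1 h2 => hcon b hb h2 x hx
      (((Nat.coprime_primes hp hb).2 fun e => hzn (e ▸ h2)).mul_dvd_of_dvd_of_dvd hxp h1)
  obtain ⟨P, hP⟩ := CfsgLib.ClassSizePrimes.exists_sylow_le_centralizer hzn
  have hzP : z ∈ (P : Subgroup G) := mem_sylow_of_centralizes (e := 1) (by rw [hz, pow_one]) hP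
  set K := centralizer ({z} : Set G) with hK
  have hPK : (P : Subgroup G) ≤ K := fun q hq => mem_centralizer_singleton_iff.2 (mem_centralizer_iff.1 hP q hq)
  set L := centralizer ((P : Subgroup G) : Set G) ⊔ (P : Subgroup G) with hL
  have hCK : centralizer ((P : Subgroup G) : Set G) ≤ K := fun c hc =>
    mem_centralizer_singleton_iff.2 (mem_centralizer_iff.1 hc z hzP).symm
  -- `K = P C(P)`
  have hKL : K ≤ L := by
    have htop : L.subgroupOf K = ⊤ := by
      refine CfsgLib.ClassSizeGraph.eq_top_of_forall_conj_mem _ fun d => ?_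
      obtain ⟨u, v, hud, hvd, huv, ⟨e, hue⟩, hvp⟩ := exists_parts (p := p) (d : G)
      have hdK : zpowers (d : G) ≤ K := zpowers_le.2 d.2
      have hzv : Commute z v := (mem_centralizer_singleton_iff.1 (hdK hvd)).symm
      have hcopv : (orderOf z).Coprime (orderOf v) := by rw [hz]; exact hp.coprime_iff_not_dvd.2 hvp
      have hxo : orderOf (z * v) = orderOf z * orderOf v :=
        hzv.orderOf_mul_eq_mul_orderOf_of_coprime hcopv
      have hxp : p ∣ orderOf (z * v) := by rw [hxo, hz]; exact dvd_mul_right p _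
      have hzx : z ∈ zpowers (z * v) ∧ v ∈ zpowers (z * v) := by
        obtain ⟨a, b, hab⟩ := Nat.isCoprime_iff_coprime.2 hcopv
        refine ⟨⟨b * (orderOf v : ℤ), ?_⟩, ⟨a * (orderOf z : ℤ), ?_⟩⟩
        · show (z * v) ^ (b * (orderOf v : ℤ)) = z
          rw [hzv.mul_zpow, mul_comm b, zpow_mul v, zpow_natCast v, pow_orderOf_eq_one, one_zpow, mul_one,
            mul_comm (orderOf v : ℤ), show b * (orderOf v : ℤ) = 1 - a * (orderOf z : ℤ) by omega,
            zpow_sub, zpow_one, mul_comm a, zpow_mul, zpow_natCast, pow_orderOf_eq_one, one_zpow,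
            inv_one, mul_one]
        · show (z * v) ^ (a * (orderOf z : ℤ)) = v
          rw [hzv.mul_zpow, mul_comm a, zpow_mul z, zpow_natCast z, pow_orderOf_eq_one, one_zpow, one_mul,
            mul_comm (orderOf z : ℤ), show a * (orderOf z : ℤ) = 1 - b * (orderOf v : ℤ) by omega,
            zpow_sub, zpow_one, mul_comm b, zpow_mul, zpow_natCast, pow_orderOf_eq_one, one_zpow,
            inv_one, mul_one]
      have hxi : ¬ p ∣ ind (z * v) := fun h => by
        have h1 := ind_dvd_of_mem_zpowers hzx.1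
        exact ind_ne_one hZ hz (Nat.eq_one_of_dvd_coprimes (hfail _ hxp h) h1 dvd_rfl)
      obtain ⟨R, hR⟩ := CfsgLib.ClassSizePrimes.exists_sylow_le_centralizer hxi
      set W := centralizer ({z * v} : Set G) with hW
      have hRW : (R : Subgroup G) ≤ W := fun r hr =>
        mem_centralizer_singleton_iff.2 (mem_centralizer_iff.1 hR r hr)
      have hWK : W ≤ K := centralizer_le_of_mem_zpowers hzx.1
      have hWv : W ≤ centralizer ({v} : Set G) := centralizer_le_of_mem_zpowers hzx.2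
      have huW : u ∈ W := by
        rw [hW, mem_centralizer_singleton_iff]
        obtain ⟨i, rfl⟩ := hud
        obtain ⟨j, rfl⟩ := hvd
        have hzd : Commute z (d : G) := (mem_centralizer_singleton_iff.1 d.2).symm
        exact ((Commute.mul_left (hzd.zpow_right i) (Commute.zpow_zpow_self _ j i)).symm).eq
      obtain ⟨g₁, hg₁, hgu⟩ := exists_conj_le hRW (zpowers_le.2 huW)
        (IsPGroup.of_card (n := e) (by rw [Nat.card_zpowers, hue]))
      obtain ⟨g₂, hg₂, hg₂R⟩ := exists_conj_le hPK (hRW.trans hWK) R.2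
      refine ⟨⟨g₂ * g₁, mul_mem hg₂ (hWK hg₁)⟩, ?_⟩
      rw [mem_subgroupOf]
      show g₂ * g₁ * (d : G) * (g₂ * g₁)⁻¹ ∈ L
      have hgv : g₁ * v * g₁⁻¹ = v := by
        rw [mem_centralizer_singleton_iff.1 (hWv hg₁), mul_inv_cancel_right]
      have : g₂ * g₁ * (d : G) * (g₂ * g₁)⁻¹ =
          (g₂ * (g₁ * u * g₁⁻¹) * g₂⁻¹) * (g₂ * v * g₂⁻¹) := by
        rw [← huv]
        conv_rhs => rw [← hgv]
        group
      rw [this]
      refine mul_mem (mem_sup_right (hg₂R _ (hgu u (mem_zpowers u)))) (mem_sup_left ?_)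
      -- `g₂ v g₂⁻¹` centralises `P = g₂ R g₂⁻¹`
      have hPR : ∀ q ∈ (P : Subgroup G), g₂⁻¹ * q * g₂ ∈ (R : Subgroup G) := by
        intro q hq
        have h1 : (R : Subgroup G).map (MulAut.conj g₂).toMonoidHom = (P : Subgroup G) := by
          refine CfsgLib.Solvable.eq_of_le_of_card_le (by rintro _ ⟨r, hr, rfl⟩; exact hg₂R r hr) ?_
          rw [card_map_of_injective (MulAut.conj g₂).injective]
          exact (Nat.card_congr (P.equiv R).toEquiv).le
        rw [← h1] at hq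
        obtain ⟨r, hr, rfl⟩ := hq
        have h2 : g₂⁻¹ * ((MulAut.conj g₂).toMonoidHom r) * g₂ = r := by simp [mul_assoc]
        rw [h2]; exact hr
      rw [mem_centralizer_iff]
      intro q hq
      have hvr := mem_centralizer_singleton_iff.1 (hWv (hRW (hPR q hq)))
      calc q * (g₂ * v * g₂⁻¹) = g₂ * (g₂⁻¹ * q * g₂ * v) * g₂⁻¹ := by group
        _ = g₂ * (v * (g₂⁻¹ * q * g₂)) * g₂⁻¹ := by rw [hvr]
        _ = g₂ * v * g₂⁻¹ * q := by group
    intro d hd
    exact mem_subgroupOf.1 (htop.symm ▸ mem_top (⟨d, hd⟩ : K))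
  -- classes in `P` of size prime to `ind z` are classes of `P`
  have horbit : ∀ k ∈ (P : Subgroup G), (ind k).Coprime (ind z) →
      ∀ g : G, ∃ q ∈ (P : Subgroup G), g * k * g⁻¹ = q * k * q⁻¹ := by
    intro k hk hcop g
    obtain ⟨b, hb, a, ha, rfl⟩ := CfsgLib.CoprimeIndex.exists_mul_eq
      (H := K) (K := centralizer ({k} : Set G)) hcop.symm g
    rw [mem_centralizer_singleton_iff] at ha
    obtain ⟨c, hc, q, hq, rfl⟩ := (CfsgLib.Solvable.mem_sup_of_le_normalizer
      (centralizer_le_normalizer _)).1 (hKL hb)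
    refine ⟨q, hq, ?_⟩
    have hqk : q * k * q⁻¹ ∈ (P : Subgroup G) := mul_mem (mul_mem hq hk) (inv_mem hq)
    have hck := mem_centralizer_iff.1 hc _ hqk
    calc c * q * a * k * (c * q * a)⁻¹ = c * q * (a * k) * a⁻¹ * q⁻¹ * c⁻¹ := by group
      _ = c * (q * k * q⁻¹) * c⁻¹ := by rw [ha]; group
      _ = q * k * q⁻¹ := by rw [← hck, mul_inv_cancel_right]
  have hsing : ∀ k ∈ (P : Subgroup G), k ≠ 1 → p ∣ orderOf k := by
    intro k hk hk1
    obtain ⟨j, hj⟩ := IsPGroup.iff_orderOf.1 P.2 ⟨k, hk⟩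
    rw [← Subgroup.orderOf_coe, Subtype.coe_mk] at hj
    rcases Nat.eq_zero_or_pos j with rfl | hj0
    · exact absurd (orderOf_eq_one_iff.1 (by simpa using hj)) hk1
    · rw [hj]; exact dvd_pow_self p hj0.ne'
  have hnotcentral : ∀ k ∈ (P : Subgroup G), k ≠ 1 → (∀ g : G, g * k = k * g) → False := by
    intro k hk hk1 hg
    apply hZ
    exact (hsing k hk hk1).trans (Subgroup.orderOf_dvd_natCard _ (mem_center_iff.2 hg))
  have hnc : ∀ k ∈ (P : Subgroup G), k ≠ 1 → (ind k).Coprime (ind z) →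
      ∃ q ∈ (P : Subgroup G), q * k ≠ k * q := by
    intro k hk hk1 hcop
    by_contra hall
    push Not at hall
    refine hnotcentral k hk hk1 fun g => ?_
    obtain ⟨q, hq, hgk⟩ := horbit k hk hcop g
    rw [hall q hq, mul_inv_cancel_right] at hgk
    exact mul_inv_eq_iff_eq_mul.1 hgk
  -- a noncentral element
  obtain ⟨k₀, hk₀P, hk₀1, hk₀cop⟩ : ∃ k ∈ (P : Subgroup G), k ≠ 1 ∧ (ind k).Coprime (ind z) := by
    obtain ⟨u, v, hux, -, huv, ⟨e, hue⟩, hvp⟩ := exists_parts (p := p) x₀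
    obtain ⟨T, hT⟩ := (IsPGroup.of_card (p := p) (n := e) (by rw [Nat.card_zpowers, hue]) :
      IsPGroup p (zpowers u)).exists_le_sylow
    obtain ⟨g, hg⟩ := MulAction.exists_smul_eq G T P
    refine ⟨g * u * g⁻¹, ?_, ?_, ?_⟩
    · rw [← hg]; exact ⟨u, hT (mem_zpowers u), rfl⟩
    · intro h
      rw [conj_eq_one_iff] at h
      rw [h, one_mul] at huv
      exact hvp (huv ▸ hx₀)
    · rw [ind_conj]
      exact (hfail x₀ hx₀ hx₀p).coprime_dvd_left (ind_dvd_of_mem_zpowers hux)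
  -- `P` is normal
  set O := Cfsg.pCore p G with hO
  haveI hOn : O.Normal := (CfsgLib.Solvable.pCore_spec (G := G) p).1
  have hOP : O ≤ (P : Subgroup G) := CfsgLib.Fitting.pCore_le_sylow P
  have hinO : ∀ k ∈ (P : Subgroup G), (ind k).Coprime (ind z) → k ∈ O := by
    intro k hk hcop
    have hle : normalClosure ({k} : Set G) ≤ (P : Subgroup G) := by
      rw [normalClosure, closure_le]
      intro y hy
      rw [Group.mem_conjugatesOfSet_iff] at hy
      obtain ⟨a, ha, hay⟩ := hy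
      rw [Set.mem_singleton_iff] at ha
      subst ha
      obtain ⟨g, rfl⟩ := isConj_iff.1 hay
      obtain ⟨q, hq, hgk⟩ := horbit a hk hcop g
      rw [hgk]
      exact mul_mem (mul_mem hq hk) (inv_mem hq)
    exact (CfsgLib.Solvable.le_pCore p normalClosure_normal (P.2.to_le hle)) (subset_normalClosure rfl)
  have hclass : ∀ k ∈ (P : Subgroup G), k ∉ O → ∀ r ∈ O, r * k = k * r := by
    intro k hk hkO r hr
    have hk1 : k ≠ 1 := fun e => hkO (e ▸ one_mem O)
    have hkp : ¬ p ∣ ind k := fun h => hkO (hinO k hk (hfail k (hsing k hk hk1) h))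
    obtain ⟨R, hR⟩ := CfsgLib.ClassSizePrimes.exists_sylow_le_centralizer hkp
    exact mem_centralizer_iff.1 hR r (CfsgLib.Fitting.pCore_le_sylow R hr)
  have hPO : (P : Subgroup G) ≤ O := by
    by_contra hne
    obtain ⟨k₁, hk₁, hk₁O⟩ := SetLike.not_le_iff_exists.1 hne
    have hk₀O := hinO k₀ hk₀P hk₀cop
    obtain ⟨q, hq, hqk⟩ := hnc k₀ hk₀P hk₀1 hk₀cop
    by_cases hqO : q ∈ O
    · have h1 : k₀ * (q * k₁) = q * k₁ * k₀ :=
        hclass (q * k₁) (mul_mem hq hk₁) (fun h => hk₁O (by simpa using mul_mem (inv_mem hqO) h)) k₀ hk₀O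
      have h2 := hclass k₁ hk₁ hk₁O k₀ hk₀O
      apply hqk
      refine mul_right_cancel (b := k₁) ?_
      rw [mul_assoc q, h2, ← mul_assoc, ← h1, mul_assoc]
    · exact hqk (hclass q hq hqO k₀ hk₀O).symm
  have hPn : (P : Subgroup G).Normal := (le_antisymm hPO hOP : (P : Subgroup G) = O) ▸ hOn
  -- noncentral elements of `P` have class sizes divisible by `p`
  have hncop : ∀ k ∈ (P : Subgroup G), (∃ q ∈ (P : Subgroup G), q * k ≠ k * q) →
      (ind k).Coprime (ind z) := by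
    rintro k hk ⟨q, hq, hqk⟩
    have hk1 : k ≠ 1 := fun e => hqk (by rw [e, one_mul, mul_one])
    refine hfail k (hsing k hk hk1) ?_
    by_contra hkp
    obtain ⟨R, hR⟩ := CfsgLib.ClassSizePrimes.exists_sylow_le_centralizer hkp
    exact hqk (mem_centralizer_iff.1 hR q (CfsgLib.Fitting.pCore_le_sylow R (hPO hq)))
  -- an element moving `z`
  obtain ⟨b, hb, hbn⟩ := Nat.exists_prime_and_dvd (ind_ne_one hZ hz)
  haveI := Fact.mk hb
  obtain ⟨g, e, hge, hgz⟩ : ∃ g : G, ∃ e, orderOf g = b ^ e ∧ g * z ≠ z * g := by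
    obtain ⟨Q⟩ := (inferInstance : Nonempty (Sylow b G))
    by_contra hall
    push Not at hall
    refine Q.not_dvd_index (hbn.trans (index_dvd_of_le fun q hq => ?_))
    obtain ⟨e, he⟩ := IsPGroup.iff_orderOf.1 Q.2 ⟨q, hq⟩
    exact mem_centralizer_singleton_iff.2 (hall q e (by rw [← he, ← Subgroup.orderOf_coe]))
  set C : Subgroup ↥(P : Subgroup G) := (centralizer ({g} : Set G)).subgroupOf (P : Subgroup G) with hC
  have hCne : C ≠ ⊤ := by
    intro h
    exact hgz (mem_centralizer_singleton_iff.1 (mem_subgroupOf.1 (h.symm ▸ mem_top (⟨z, hzP⟩ : ↥(P : Subgroup G))))).symm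
  obtain ⟨M, hM, hCM⟩ := (eq_top_or_exists_le_coatom C).resolve_left hCne
  haveI : Group.IsNilpotent ↥(P : Subgroup G) := P.2.isNilpotent
  haveI hMn : M.Normal := NormalizerCondition.normal_of_coatom M Group.normalizerCondition_of_isNilpotent hM
  have hcover : ∀ x : ↥(P : Subgroup G), x ∈ center ↥(P : Subgroup G) ∨ x ∈ M := by
    intro x
    by_cases hx : x ∈ center ↥(P : Subgroup G)
    · exact Or.inl hx
    right
    have hx' : ∃ q ∈ (P : Subgroup G), q * (x : G) ≠ (x : G) * q := by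
      by_contra hall
      push Not at hall
      exact hx (mem_center_iff.2 fun q => Subtype.ext (hall q q.2))
    have hcop := hncop x x.2 hx'
    -- `g` fixes a point of the class
    letI : MulAction (zpowers g) (Set.range fun a : G => a * (x : G) * a⁻¹) :=
      { smul := fun h s => ⟨(h : G) * s * (h : G)⁻¹, by
          obtain ⟨a, ha⟩ := s.2
          exact ⟨(h : G) * a, by rw [← ha]; group⟩⟩
        one_smul := fun s => Subtype.ext (show (1 : G) * s * (1 : G)⁻¹ = s by simp)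
        mul_smul := fun h₁ h₂ s => Subtype.ext (show (h₁ : G) * h₂ * s * ((h₁ : G) * h₂)⁻¹ =
          h₁ * (h₂ * s * (h₂ : G)⁻¹) * (h₁ : G)⁻¹ by group) }
    obtain ⟨s, hs⟩ := (IsPGroup.of_card (p := b) (n := e) (by rw [Nat.card_zpowers, hge]) :
      IsPGroup b (zpowers g)).nonempty_fixed_point_of_prime_not_dvd_card
        (Set.range fun a : G => a * (x : G) * a⁻¹) (by
          rw [card_class]
          exact fun h => hb.not_dvd_one (hcop ▸ Nat.dvd_gcd h hbn))
    have hgs : g * (s : G) * g⁻¹ = s := congrArg Subtype.val (hs ⟨g, mem_zpowers g⟩)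
    obtain ⟨a, ha⟩ := s.2
    obtain ⟨q, hq, hq'⟩ := horbit x x.2 hcop a
    have hsq : (s : G) = q * x * q⁻¹ := ha.symm.trans hq'
    have hmem : (⟨q, hq⟩ : ↥(P : Subgroup G)) * x * (⟨q, hq⟩ : ↥(P : Subgroup G))⁻¹ ∈ C := by
      rw [hC, mem_subgroupOf, mem_centralizer_singleton_iff]
      show q * x * q⁻¹ * g = g * (q * x * q⁻¹)
      rw [← hsq]
      exact (mul_inv_eq_iff_eq_mul.1 hgs).symm
    have := hMn.conj_mem _ (hCM hmem) (⟨q, hq⟩ : ↥(P : Subgroup G))⁻¹
    simpa [mul_assoc] using this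
  obtain ⟨q₀, hq₀, hqk₀⟩ := hnc k₀ hk₀P hk₀1 hk₀cop
  obtain ⟨m, hm⟩ := SetLike.exists_not_mem_of_ne_top M hM.1
  have hmz : m ∈ center ↥(P : Subgroup G) := (hcover m).resolve_right hm
  have hk₀z : (⟨k₀, hk₀P⟩ : ↥(P : Subgroup G)) ∉ center ↥(P : Subgroup G) := fun h =>
    hqk₀ (congrArg Subtype.val (mem_center_iff.1 h ⟨q₀, hq₀⟩))
  have hk₀M := (hcover ⟨k₀, hk₀P⟩).resolve_left hk₀z
  rcases hcover (m * ⟨k₀, hk₀P⟩) with h | h
  · exact hk₀z (by simpa using mul_mem (inv_mem hmz) h)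
  · exact hm (by simpa using mul_mem h (inv_mem hk₀M))

/-- Adjacency or equality. -/
def Near (p : ℕ) (G : Type*) [Group G] (r t : ℕ) : Prop :=
  r = t ∨ ∃ x : G, p ∣ orderOf x ∧ r * t ∣ (centralizer ({x} : Set G)).index

theorem Near.symm {r t : ℕ} (h : Near p G r t) : Near p G t r := by
  rcases h with h | ⟨x, hx, hd⟩
  · exact Or.inl h.symm
  · exact Or.inr ⟨x, hx, mul_comm r t ▸ hd⟩

theorem near_of_dvd {r t : ℕ} (hr : r.Prime) (ht : t.Prime) {x : G} (hx : p ∣ orderOf x) (h1 : r ∣ ind x)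
    (h2 : t ∣ ind x) : Near p G r t :=
  or_iff_not_imp_left.2 fun hne => ⟨x, hx, ((Nat.coprime_primes hr ht).2 hne).mul_dvd_of_dvd_of_dvd h1 h2⟩

/-- Any two vertices are joined by three steps. -/
theorem near_three (hZ : ¬ p ∣ Nat.card ↥(center G)) {r s : ℕ} (hr : r.Prime) (hs : s.Prime) {x y : G}
    (hx : p ∣ orderOf x) (hxr : r ∣ ind x) (hy : p ∣ orderOf y) (hys : s ∣ ind y) :
    ∃ t u : ℕ, t.Prime ∧ u.Prime ∧ Near p G r t ∧ Near p G t u ∧ Near p G u s := by
  have hp : p.Prime := Fact.out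
  have hone : ∀ x : G, p ∣ orderOf x → ∀ r : ℕ, r.Prime → r ∣ ind x → ¬ p ∣ ind x →
      ∃ u : G, orderOf u = p ∧ ¬ p ∣ ind u ∧ ∀ a : ℕ, a.Prime → a ∣ ind u → Near p G r a := by
    intro x hx r hr hxr hxp
    obtain ⟨u, hu, huo⟩ := exists_order_p hx
    exact ⟨u, huo, fun h => hxp (h.trans (ind_dvd_of_mem_zpowers hu)),
      fun a ha hau => near_of_dvd hr ha hx hxr (hau.trans (ind_dvd_of_mem_zpowers hu))⟩
  have hmixed : ∀ x : G, p ∣ orderOf x → p ∣ ind x → ∀ y : G, p ∣ orderOf y → ∀ s : ℕ, s.Prime →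
      s ∣ ind y → ¬ p ∣ ind y → ∃ b, b.Prime ∧ Near p G p b ∧ Near p G b s := by
    intro x hx hxp y hy s hs hys hyp
    obtain ⟨z, hzo, hzn, hzs⟩ := hone y hy s hs hys hyp
    obtain ⟨b, hb, hbz, w, hw, hwd⟩ := exists_adj_p hZ hzo hzn hx hxp
    exact ⟨b, hb, Or.inr ⟨w, hw, hwd⟩, (hzs b hb hbz).symm⟩
  by_cases hxp : p ∣ ind x
  · by_cases hyp : p ∣ ind y
    · exact ⟨p, p, hp, hp, near_of_dvd hr hp hx hxr hxp, Or.inl rfl, near_of_dvd hp hs hy hyp hys⟩
    · obtain ⟨b, hb, h1, h2⟩ := hmixed x hx hxp y hy s hs hys hyp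
      exact ⟨p, b, hp, hb, near_of_dvd hr hp hx hxr hxp, h1, h2⟩
  · by_cases hyp : p ∣ ind y
    · obtain ⟨b, hb, h1, h2⟩ := hmixed y hy hyp x hx r hr hxr hxp
      exact ⟨b, p, hb, hp, h2.symm, h1.symm, near_of_dvd hp hs hy hyp hys⟩
    · obtain ⟨u, huo, hum, hur⟩ := hone x hx r hr hxr hxp
      obtain ⟨z, hzo, hzn, hzs⟩ := hone y hy s hs hys hyp
      by_cases hcop : (ind u).Coprime (ind z)
      · obtain ⟨a, b, ha, hb, hau, hbz, w, hw, hwd⟩ := exists_adj_of_pPrime hZ huo hzo hum hzn hcop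
        exact ⟨a, b, ha, hb, hur a ha hau, Or.inr ⟨w, hw, hwd⟩, (hzs b hb hbz).symm⟩
      · obtain ⟨c, hc, hc1, hc2⟩ := Nat.Prime.not_coprime_iff_dvd.1 hcop
        exact ⟨c, c, hc, hc, hur c hc hc1, Or.inl rfl, (hzs c hc hc2).symm⟩

end CfsgLib.SingGraph
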