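import Cfsg.Agent.Solvable.PGroupBasic
import Mathlib.GroupTheory.Nilpotent
import Mathlib.GroupTheory.Index
import Mathlib.GroupTheory.PGroup
import Mathlib.Tactic

/-!
Soft subgroups of finite `p`-groups: elementary facts.
-/

set_option autoImplicit false
set_option linter.unusedSectionVars false
set_option linter.style.haveILetI false

namespace CfsgLib.Soft

open Subgroup
open scoped commutatorElement

variable {P : Type*} [Group P] [Finite P] {p : ℕ} [Fact p.Prime]

/-- A soft subgroup: abelian, containing its centralizer, of index `p` in its normalizer. -/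
structure IsSoft (p : ℕ) (E : Subgroup P) : Prop where
  comm : ∀ x ∈ E, ∀ y ∈ E, x * y = y * x
  cent : centralizer (E : Set P) ≤ E
  idx : E.relIndex (normalizer (E : Set P)) = p

theorem eq_of_relIndex_prime {E T N : Subgroup P} (hET : E < T) (hTN : T ≤ N)
    (h : E.relIndex N = p) : T = N := by
  have hp := (Fact.out : p.Prime)
  have h1 := relIndex_mul_relIndex E T N hET.le hTN
  rw [h] at h1
  rcases hp.eq_one_or_self_of_dvd _ (Dvd.intro _ h1) with h2 | h2
  · exact absurd (relIndex_eq_one.1 h2) hET.not_ge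
  · rw [h2, mul_eq_left₀ hp.ne_zero] at h1
    exact le_antisymm hTN (relIndex_eq_one.1 h1)

theorem prime_le_relIndex (hP : IsPGroup p P) {Y X : Subgroup P} (h : Y < X) :
    p ≤ Y.relIndex X ∧ ∃ k, Y.relIndex X = p ^ k := by
  obtain ⟨k, hk⟩ := (hP.to_subgroup X).index (Y.subgroupOf X)
  refine ⟨?_, k, hk⟩
  rw [relIndex, hk]
  refine Nat.le_self_pow ?_ p
  rintro rfl
  exact h.not_ge (relIndex_eq_one.1 (by rw [relIndex, hk, pow_zero]))

theorem lt_normalizer (hP : IsPGroup p P) {E : Subgroup P} (hE : E ≠ ⊤) :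
    E < normalizer (E : Set P) := by
  have := hP.isNilpotent
  exact Group.normalizerCondition_of_isNilpotent E (lt_top_iff_ne_top.2 hE)

/-- A subgroup strictly above `E` contains `N(E)` when the latter covers `E` minimally. -/
theorem normalizer_le_of_lt (hP : IsPGroup p P) {E K : Subgroup P}
    (hidx : E.relIndex (normalizer (E : Set P)) = p) (h : E < K) :
    normalizer (E : Set P) ≤ K := by
  have hlt := lt_normalizer (hP.to_subgroup K) (E := E.subgroupOf K)
    (fun h' => h.not_ge (subgroupOf_eq_top.1 h'))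
  obtain ⟨x, hxn, hxE⟩ := SetLike.exists_of_lt hlt
  have hxN : (x : P) ∈ normalizer (E : Set P) := by
    have h2 := le_normalizer_map K.subtype (mem_map_of_mem K.subtype hxn)
    rwa [map_subgroupOf_eq_of_le h.le] at h2
  have hE' : E < E ⊔ zpowers (x : P) := lt_of_le_of_ne le_sup_left fun he =>
    hxE (show (x : P) ∈ E from he ▸ mem_sup_right (mem_zpowers _))
  rw [← eq_of_relIndex_prime hE' (sup_le le_normalizer (zpowers_le.2 hxN)) hidx]
  exact sup_le h.le (zpowers_le.2 x.2)

/-- Overgroups form a chain when each has normalizer index `p`. -/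
theorem chain (hP : IsPGroup p P) : ∀ (E : Subgroup P),
    (∀ K : Subgroup P, E ≤ K → K ≠ ⊤ → K.relIndex (normalizer (K : Set P)) = p) →
    ∀ K L : Subgroup P, E ≤ K → E ≤ L → K ≤ L ∨ L ≤ K := by
  intro E
  induction E using (Finite.to_wellFoundedGT (α := Subgroup P)).wf.induction with
  | _ E ih =>
  intro h K L hK hL
  rcases eq_or_lt_of_le hK with rfl | hK'
  · exact Or.inl hL
  rcases eq_or_lt_of_le hL with rfl | hL'
  · exact Or.inr hK
  have hE : E ≠ ⊤ := fun h' => hK'.not_ge (h' ▸ le_top)
  exact ih _ (lt_normalizer hP hE) (fun M hM => h M (le_normalizer.trans hM)) K L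
    (normalizer_le_of_lt hP (h E le_rfl hE) hK') (normalizer_le_of_lt hP (h E le_rfl hE) hL')

/-- A normal subgroup of prime order is central. -/
theorem centralizes_of_card_prime {K D : Subgroup P} (hP : IsPGroup p P)
    (hD : Nat.card D = p) (hK : K ≤ normalizer (D : Set P)) :
    K ≤ centralizer (D : Set P) := by
  have hp := (Fact.out : p.Prime)
  set L := K ⊔ D
  have hL : L ≤ normalizer (D : Set P) := sup_le hK le_normalizer
  have hDL : D ≤ L := le_sup_right
  have : (D.subgroupOf L).Normal := (normal_subgroupOf_iff_le_normalizer hDL).2 hL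
  have := (hP.to_subgroup L).isNilpotent
  have hne : D.subgroupOf L ≠ ⊥ := fun h => by
    have := Nat.card_congr (subgroupOfEquivOfLe hDL).toEquiv
    rw [h, card_bot, hD] at this
    exact hp.one_lt.ne this
  have hz := CfsgLib.PGroupBasic.inf_center_ne_bot (D.subgroupOf L) hne
  have hle : D.subgroupOf L ≤ center L := by
    refine le_trans (eq_of_le_of_card_ge inf_le_left ?_).ge inf_le_right
    rw [Nat.card_congr (subgroupOfEquivOfLe hDL).toEquiv, hD]
    have hd := card_dvd_of_le (inf_le_left : D.subgroupOf L ⊓ center L ≤ D.subgroupOf L)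
    rw [Nat.card_congr (subgroupOfEquivOfLe hDL).toEquiv, hD] at hd
    rcases hp.eq_one_or_self_of_dvd _ hd with h | h
    · exact absurd (card_eq_one.1 h) hz
    · exact h.ge
  intro x hx
  rw [mem_centralizer_iff]
  intro d hd
  exact (congrArg Subtype.val (mem_center_iff.1
    (hle (show (⟨d, hDL hd⟩ : L) ∈ D.subgroupOf L from hd)) ⟨x, mem_sup_left hx⟩)).symm

variable {E : Subgroup P}

theorem IsSoft.ne_top (hE : IsSoft p E) : E ≠ ⊤ := fun h => by
  have := hE.idx
  rw [h, show normalizer ((⊤ : Subgroup P) : Set P) = ⊤ from normalizer_eq_top _, relIndex_self] at this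
  exact (Fact.out : p.Prime).one_lt.ne this

/-- Centralising elements of an overgroup lie in `E`. -/
theorem IsSoft.centralizer_le (hE : IsSoft p E) {K : Subgroup P} (hK : E ≤ K) :
    centralizer (K : Set P) ≤ E := (Subgroup.centralizer_le hK).trans hE.cent

/-- The structure of the first step of the normalizer tower. -/
theorem IsSoft.structure (hP : IsPGroup p P) (hE : IsSoft p E) {N : Subgroup P}
    (hN : N = normalizer (E : Set P)) (hNt : N ≠ ⊤) :
    Nat.card (⁅N, N⁆ : Subgroup P) = p ∧ ⁅N, N⁆ ≤ E ∧ N ≤ centralizer ((⁅N, N⁆ : Subgroup P) : Set P) ∧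
      N.relIndex (normalizer (N : Set P)) = p := by
  classical
  have hp := (Fact.out : p.Prime)
  have hEN : E ≤ N := hN ▸ le_normalizer
  have hidx : E.relIndex N = p := hN ▸ hE.idx
  have hnN : ∀ x ∈ N, x ∈ normalizer (E : Set P) := fun x hx => hN ▸ hx
  obtain ⟨g, hg, hgN⟩ := SetLike.exists_of_lt (lt_normalizer hP hNt)
  set E' := E.map (MulAut.conj g).toMonoidHom with hE'
  have hE'N : E' ≤ N := by
    rintro _ ⟨a, ha, rfl⟩
    exact (mem_normalizer_iff.1 hg a).1 (hEN ha)
  have hcard : Nat.card E' = Nat.card E := card_map_of_injective (MulAut.conj g).injective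
  have hne : ¬ E' ≤ E := by
    intro h
    have he : E' = E := eq_of_le_of_card_ge h hcard.ge
    refine hgN (hN ▸ mem_normalizer_iff.2 fun a => ⟨fun ha => he ▸ ⟨a, ha, rfl⟩, fun ha => ?_⟩)
    rw [← he] at ha
    obtain ⟨b, hb, hba⟩ := ha
    rwa [← show b = a by simpa using hba]
  have hE'n : N ≤ normalizer (E' : Set P) := by
    intro n hn
    have h1 : g⁻¹ * n * g ∈ N := (mem_normalizer_iff''.1 hg n).1 hn
    have h2 := le_normalizer_map (MulAut.conj g).toMonoidHom
      (mem_map_of_mem (MulAut.conj g).toMonoidHom (hnN _ h1))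
    have e : (MulAut.conj g).toMonoidHom (g⁻¹ * n * g) = n := by simp [mul_assoc]
    rw [e] at h2
    exact h2
  have hE'c : ∀ x ∈ E', ∀ y ∈ E', x * y = y * x := by
    rintro _ ⟨a, ha, rfl⟩ _ ⟨b, hb, rfl⟩
    rw [← map_mul, hE.comm a ha b hb, map_mul]
  have hE'cent : ∀ z, (∀ w ∈ E', w * z = z * w) → z ∈ E' := by
    intro z hz
    refine ⟨g⁻¹ * z * g, hE.cent (mem_centralizer_iff.2 fun a ha => ?_), by simp [mul_assoc]⟩
    have h1 := hz _ ⟨a, ha, rfl⟩
    simp only [MulEquiv.coe_toMonoidHom, MulAut.conj_apply] at h1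
    calc a * (g⁻¹ * z * g) = g⁻¹ * (g * a * g⁻¹ * z) * g := by group
      _ = g⁻¹ * (z * (g * a * g⁻¹)) * g := by rw [h1]
      _ = g⁻¹ * z * g * a := by group
  obtain ⟨x, hxE', hxE⟩ := SetLike.not_le_iff_exists.1 hne
  have hxN : x ∈ N := hE'N hxE'
  set F := E ⊓ E' with hF
  have hNgen : E ⊔ zpowers x = N :=
    eq_of_relIndex_prime (lt_of_le_of_ne le_sup_left fun h =>
      hxE (h ▸ mem_sup_right (mem_zpowers x))) (sup_le hEN (zpowers_le.2 hxN)) hidx
  have hNgen' : E ⊔ E' = N :=
    le_antisymm (sup_le hEN hE'N) (hNgen ▸ sup_le_sup_left (zpowers_le.2 hxE') E)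
  have hFN : N ≤ centralizer (F : Set P) := by
    rw [← hNgen']
    refine sup_le (fun a ha => mem_centralizer_iff.2 fun f hf => hE.comm f hf.1 a ha)
      (fun a ha => mem_centralizer_iff.2 fun f hf => hE'c f hf.2 a ha)
  have hFidx : F.relIndex E ≤ p := by
    rw [hF, inf_relIndex_left]
    have h1 : E'.relIndex N = p := by
      have h2 := relIndex_mul_relIndex ⊥ E' N bot_le hE'N
      rw [relIndex_bot_left, relIndex_bot_left, hcard, ← relIndex_bot_left,
        ← relIndex_bot_left, ← relIndex_mul_relIndex ⊥ E N bot_le hEN, hidx] at h2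
      exact Nat.eq_of_mul_eq_mul_left (by rw [relIndex_bot_left]; exact Nat.card_pos) h2
    exact (relIndex_le_of_le_right (H := E') hEN (by rw [h1]; exact hp.ne_zero)).trans h1.le
  have hFE : F < E := lt_of_le_of_ne inf_le_left fun h => hne
    (eq_of_le_of_card_ge (h ▸ inf_le_right : E ≤ E') hcard.le).ge
  have hFp : F.relIndex E = p := le_antisymm hFidx (prime_le_relIndex hP hFE).1
  obtain ⟨e, he, heF⟩ := SetLike.exists_of_lt hFE
  have hEgen : F ⊔ zpowers e = E :=
    eq_of_relIndex_prime (lt_of_le_of_ne le_sup_left fun h =>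
      heF (h ▸ mem_sup_right (mem_zpowers e))) (sup_le inf_le_left (zpowers_le.2 he)) hFp
  -- the commutator map on `E`
  have hconj : ∀ a ∈ E, ⁅a, x⁆ ∈ F := fun a ha =>
    ⟨by
      rw [commutatorElement_def, mul_assoc, mul_assoc, ← mul_assoc x]
      exact mul_mem ha ((mem_normalizer_iff.1 (hnN x hxN) _).1 (inv_mem ha)), by
      rw [commutatorElement_def]
      exact E'.mul_mem ((mem_normalizer_iff.1 (hE'n (hEN ha)) x).1 hxE') (E'.inv_mem hxE')⟩
  let ψ : E →* P := MonoidHom.mk' (fun a => ⁅(a : P), x⁆) fun a b => by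
    have h1 : (a : P) * ⁅(b : P), x⁆ = ⁅(b : P), x⁆ * a :=
      hE.comm _ a.2 _ (hconj _ b.2).1
    have h2 : ⁅(b : P), x⁆ * ⁅(a : P), x⁆ = ⁅(a : P), x⁆ * ⁅(b : P), x⁆ :=
      hE.comm _ (hconj _ b.2).1 _ (hconj _ a.2).1
    calc ⁅((a * b : E) : P), x⁆ = (a : P) * ⁅(b : P), x⁆ * (a : P)⁻¹ * ⁅(a : P), x⁆ := by
          simp only [commutatorElement_def, Subgroup.coe_mul]; group
      _ = _ := by rw [h1, mul_inv_cancel_right, h2]
  set R := ψ.range with hR
  have hRF : R ≤ F := by rintro _ ⟨a, rfl⟩; exact hconj a a.2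
  have hker : F.subgroupOf E ≤ ψ.ker := fun a ha =>
    commutatorElement_eq_one_iff_mul_comm.2 ((mem_centralizer_iff.1 (hFN hxN)) a ha)
  have hRcard : Nat.card R ≤ p := by
    refine Nat.le_of_dvd hp.pos ?_
    rw [hR, ← Subgroup.index_ker, ← hFp]
    exact index_dvd_of_le hker
  have hDR : ⁅N, N⁆ ≤ R := by
    have hclosure : N = closure ((E : Set P) ∪ {x}) := by
      rw [Subgroup.closure_union, Subgroup.closure_eq, ← zpowers_eq_closure, hNgen]
    have hNR : ∀ a ∈ N, ∀ r ∈ R, a * r = r * a := fun a ha r hr =>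
      ((mem_centralizer_iff.1 (hFN ha)) r (hRF hr)).symm
    have h1 : ∀ a ∈ N, ∀ s ∈ (E : Set P) ∪ {x}, ⁅a, s⁆ ∈ R := by
      intro a ha s hs
      have hs' : ∀ t ∈ (E : Set P) ∪ {x}, ⁅t, s⁆ ∈ R := by
        intro t ht
        rcases hs with hs | hs <;> rcases ht with ht | ht
        · rw [commutatorElement_eq_one_iff_mul_comm.2 (hE.comm t ht s hs)]; exact one_mem R
        · rw [Set.mem_singleton_iff.1 ht, ← commutatorElement_inv]
          exact inv_mem ⟨⟨s, hs⟩, rfl⟩
        · rw [Set.mem_singleton_iff.1 hs]; exact ⟨⟨t, ht⟩, rfl⟩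
        · rw [Set.mem_singleton_iff.1 hs, Set.mem_singleton_iff.1 ht, commutatorElement_self]
          exact one_mem R
      rw [hclosure] at ha
      induction ha using closure_induction with
      | mem t ht => exact hs' t ht
      | one => rw [commutatorElement_one_left]; exact one_mem R
      | mul a b ha hb iha ihb =>
        rw [show ⁅a * b, s⁆ = a * ⁅b, s⁆ * a⁻¹ * ⁅a, s⁆ by simp only [commutatorElement_def]; group,
          hNR a (hclosure ▸ ha) _ ihb, mul_inv_cancel_right]
        exact mul_mem ihb iha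
      | inv a ha iha =>
        rw [show ⁅a⁻¹, s⁆ = a⁻¹ * ⁅a, s⁆⁻¹ * a by simp only [commutatorElement_def]; group,
          hNR a⁻¹ (hclosure ▸ inv_mem ha) _ (inv_mem iha), inv_mul_cancel_right]
        exact inv_mem iha
    rw [commutator_le]
    intro a ha b hb
    rw [hclosure] at hb
    induction hb using closure_induction with
    | mem t ht => exact h1 a ha t ht
    | one => rw [commutatorElement_one_right]; exact one_mem R
    | mul b c hb hc ihb ihc =>
      rw [show ⁅a, b * c⁆ = ⁅a, b⁆ * (b * ⁅a, c⁆ * b⁻¹) by simp only [commutatorElement_def]; group,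
        hNR b (hclosure ▸ hb) _ ihc, mul_inv_cancel_right]
      exact mul_mem ihb ihc
    | inv b hb ihb =>
      rw [show ⁅a, b⁻¹⁆ = b⁻¹ * ⁅a, b⁆⁻¹ * b by simp only [commutatorElement_def]; group,
        hNR b⁻¹ (hclosure ▸ inv_mem hb) _ (inv_mem ihb), inv_mul_cancel_right]
      exact inv_mem ihb
  have hDne : ⁅N, N⁆ ≠ ⊥ := fun h => hxE (hE.cent (mem_centralizer_iff.2 fun a ha =>
    (mem_centralizer_iff.1 (commutator_eq_bot_iff_le_centralizer.1 h hxN) a (hEN ha))))
  refine ⟨le_antisymm ((card_le_of_le hDR).trans hRcard) ?_, hDR.trans (hRF.trans inf_le_left), ?_, ?_⟩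
  · obtain ⟨k, hk⟩ := IsPGroup.iff_card.1 (hP.to_subgroup ⁅N, N⁆)
    rcases k with _ | k
    · exact absurd (card_eq_one.1 (by simpa using hk)) hDne
    · rw [hk]; exact Nat.le_self_pow k.succ_ne_zero p
  · exact hFN.trans (Subgroup.centralizer_le (hDR.trans hRF))
  · -- the conjugates of `E` under the normalizer of `N`
    set M := normalizer (N : Set P) with hM
    let conjE : P → Subgroup P := fun h => E.map (MulAut.conj h).toMonoidHom
    let S : Finset (Subgroup P) :=
      insert E ((Finset.range p).image fun j => F ⊔ zpowers (e ^ j * x))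
    have hin : ∀ h ∈ M, conjE h ∈ S := by
      intro h hh
      have hle : conjE h ≤ N := by
        rintro _ ⟨a, ha, rfl⟩
        exact (mem_normalizer_iff.1 hh a).1 (hEN ha)
      have hc : Nat.card (conjE h) = Nat.card E := card_map_of_injective (MulAut.conj h).injective
      by_cases hEh : conjE h ≤ E
      · rw [eq_of_le_of_card_ge hEh hc.ge]; exact Finset.mem_insert_self _ _
      refine Finset.mem_insert_of_mem (Finset.mem_image.2 ?_)
      have hFh : F ≤ conjE h := by
        intro f hf
        refine ⟨h⁻¹ * f * h, hE.cent (mem_centralizer_iff.2 fun a ha => ?_), by simp [mul_assoc]⟩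
        have h1 := mem_centralizer_iff.1 (hFN (hle ⟨a, ha, rfl⟩)) f hf
        simp only [MulEquiv.coe_toMonoidHom, MulAut.conj_apply] at h1
        calc a * (h⁻¹ * f * h) = h⁻¹ * (h * a * h⁻¹ * f) * h := by group
          _ = h⁻¹ * (f * (h * a * h⁻¹)) * h := by rw [h1]
          _ = h⁻¹ * f * h * a := by group
      obtain ⟨y, hy, hyE⟩ := SetLike.not_le_iff_exists.1 hEh
      have hgen : E ⊔ conjE h = N := eq_of_relIndex_prime (lt_of_le_of_ne le_sup_left fun h' =>
        hEh (h'.symm ▸ le_sup_right)) (sup_le hEN hle) hidx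
      have hxmem : x ∈ (↑(conjE h ⊔ E) : Set P) := by rw [sup_comm, hgen]; exact hxN
      rw [coe_mul_of_left_le_normalizer_right (conjE h) E (hle.trans fun n hn => hnN n hn)] at hxmem
      obtain ⟨b, hb, a, ha, hba⟩ := Set.mem_mul.1 hxmem
      -- `b` is congruent to `x` modulo `E`
      have hb' : b * x⁻¹ ∈ E := by
        rw [← hba, mul_inv_rev, ← mul_assoc]
        simpa [mul_assoc] using (mem_normalizer_iff.1 (hnN b (hle hb)) a⁻¹).1 (inv_mem ha)
      rw [← hEgen] at hb'
      replace hb' : ∃ f ∈ F, ∃ j < p, f * e ^ j = b * x⁻¹ := by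
        have hnorm : zpowers e ≤ normalizer (F : Set P) := zpowers_le.2 (mem_normalizer_iff.2 fun a =>
          ⟨fun ha => by rw [hE.comm e he a ha.1, mul_inv_cancel_right]; exact ha, fun ha => by
            have h1 : e * a * e⁻¹ ∈ E := ha.1
            have h2 : a ∈ E := by simpa [mul_assoc] using mul_mem (mul_mem (inv_mem he) h1) he
            rwa [hE.comm e he a h2, mul_inv_cancel_right] at ha⟩)
        rw [← SetLike.mem_coe, coe_mul_of_right_le_normalizer_left F (zpowers e) hnorm] at hb'
        obtain ⟨f, hf, u, hu, hfu⟩ := Set.mem_mul.1 hb'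
        obtain ⟨i, rfl⟩ := mem_zpowers_iff.1 hu
        haveI : (F.subgroupOf E).Normal := (normal_subgroupOf_iff_le_normalizer inf_le_left).2 (by
          intro a ha
          rw [mem_normalizer_iff]
          exact fun z => ⟨fun hz => by rw [hE.comm a ha z hz.1, mul_inv_cancel_right]; exact hz,
            fun hz => by
              have h2 : z ∈ E := by simpa [mul_assoc] using mul_mem (mul_mem (inv_mem ha) hz.1) ha
              rwa [hE.comm a ha z h2, mul_inv_cancel_right] at hz⟩)
        have hep : e ^ p ∈ F := by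
          have := pow_index_mem (F.subgroupOf E) (⟨e, he⟩ : E)
          rw [show (F.subgroupOf E).index = p from hFp] at this
          exact this
        have hi0 : (0 : ℤ) ≤ i % p := Int.emod_nonneg _ (by exact_mod_cast hp.ne_zero)
        refine ⟨f * e ^ ((p : ℤ) * (i / p)), mul_mem hf (by
          rw [zpow_mul, zpow_natCast]; exact zpow_mem hep _), (i % p).toNat, ?_, ?_⟩
        · have := Int.emod_lt_of_pos i (show (0 : ℤ) < p by exact_mod_cast hp.pos)
          omega
        · rw [← zpow_natCast, Int.toNat_of_nonneg hi0, mul_assoc, ← zpow_add,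
            Int.mul_ediv_add_emod, hfu]
      obtain ⟨f, hf, j, hj, hbj⟩ := hb'
      refine ⟨j, Finset.mem_range.2 hj, ?_⟩
      have hmem : e ^ j * x ∈ conjE h := by
        have : e ^ j * x = f⁻¹ * b := by
          rw [eq_inv_mul_iff_mul_eq, ← mul_assoc, hbj, inv_mul_cancel_right]
        rw [this]
        exact mul_mem (inv_mem (hFh hf)) hb
      refine eq_of_relIndex_prime (p := p) (lt_of_le_of_ne le_sup_left fun h' => ?_)
        (sup_le hFh (zpowers_le.2 hmem)) ?_
      · have h1 : e ^ j * x ∈ E := (h'.symm ▸ mem_sup_right (mem_zpowers _) : e ^ j * x ∈ F).1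
        exact hxE (by simpa using mul_mem (inv_mem (pow_mem he j)) h1)
      · have h1 := relIndex_mul_relIndex ⊥ F (conjE h) bot_le hFh
        rw [relIndex_bot_left, relIndex_bot_left, hc, ← relIndex_bot_left, ← relIndex_bot_left,
          ← relIndex_mul_relIndex ⊥ F E bot_le inf_le_left, hFp] at h1
        exact Nat.eq_of_mul_eq_mul_left (by rw [relIndex_bot_left]; exact Nat.card_pos) h1
    have hlt : N < M := lt_normalizer hP hNt
    obtain ⟨hle', k, hk⟩ := prime_le_relIndex hP hlt
    have hcount : N.relIndex M ≤ p + 1 := by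
      let F' : M ⧸ N.subgroupOf M → S := fun q => ⟨conjE (q.out : M), hin _ (q.out : M).2⟩
      have hinj : Function.Injective F' := by
        intro q₁ q₂ h
        have h' : conjE (q₁.out : M) = conjE (q₂.out : M) := congrArg Subtype.val h
        rw [← QuotientGroup.out_eq' q₁, ← QuotientGroup.out_eq' q₂, QuotientGroup.eq]
        change ((q₁.out : M) : P)⁻¹ * (q₂.out : M) ∈ N
        suffices hh : _ ∈ normalizer (E : Set P) from hN.ge hh
        rw [mem_normalizer_iff]
        intro a
        constructor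
        · intro ha
          obtain ⟨b, hb, hba⟩ := (h'.symm ▸ ⟨a, ha, rfl⟩ :
            MulAut.conj ((q₂.out : M) : P) a ∈ conjE (q₁.out : M))
          simp only [MulEquiv.coe_toMonoidHom, MulAut.conj_apply] at hba
          have e : ((q₁.out : M) : P)⁻¹ * (q₂.out : M) * a *
              (((q₁.out : M) : P)⁻¹ * (q₂.out : M))⁻¹ = b := by
            calc _ = ((q₁.out : M) : P)⁻¹ * (((q₂.out : M) : P) * a * ((q₂.out : M) : P)⁻¹) *
                  (q₁.out : M) := by group
              _ = b := by rw [← hba]; group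
          rw [e]; exact hb
        · intro ha
          obtain ⟨b, hb, hba⟩ := (h' ▸ ⟨_, ha, rfl⟩ :
            MulAut.conj ((q₁.out : M) : P) (((q₁.out : M) : P)⁻¹ * (q₂.out : M) * a *
              (((q₁.out : M) : P)⁻¹ * (q₂.out : M))⁻¹) ∈ conjE (q₂.out : M))
          simp only [MulEquiv.coe_toMonoidHom, MulAut.conj_apply] at hba
          have e : a = b := by
            calc a = ((q₂.out : M) : P)⁻¹ * (((q₁.out : M) : P) * (((q₁.out : M) : P)⁻¹ * (q₂.out : M)
                  * a * (((q₁.out : M) : P)⁻¹ * (q₂.out : M))⁻¹) * ((q₁.out : M) : P)⁻¹) *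
                  (q₂.out : M) := by group
              _ = b := by rw [← hba]; group
          rw [e]; exact hb
      calc N.relIndex M = Nat.card (M ⧸ N.subgroupOf M) := rfl
        _ ≤ Nat.card S := Nat.card_le_card_of_injective F' hinj
        _ = S.card := by simp
        _ ≤ _ := (Finset.card_insert_le _ _).trans
          (Nat.add_le_add_right (Finset.card_image_le.trans (Finset.card_range p).le) 1)
    rcases k with _ | _ | k
    · rw [pow_zero] at hk; have := hp.two_le; omega
    · rw [hk, pow_one]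
    · exfalso
      have h2 : p ^ 2 ≤ p ^ (k + 2) := Nat.pow_le_pow_right hp.pos (by omega)
      have := hp.two_le
      nlinarith

end CfsgLib.Soft
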