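import Cfsg.Agent.FGSA.SoftBasic

/-!
The normalizer tower over a soft subgroup.
-/

set_option autoImplicit false
set_option linter.unusedSectionVars false
set_option linter.style.haveILetI false

namespace CfsgLib.Soft

open Subgroup
open scoped commutatorElement

universe u

variable {P : Type u} [Group P] [Finite P] {p : ℕ} [Fact p.Prime]

theorem normalizer_subgroupOf {E L : Subgroup P} (hEL : E ≤ L) :
    normalizer (E.subgroupOf L : Set L) = (normalizer (E : Set P)).subgroupOf L := by
  ext x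
  rw [mem_subgroupOf]
  simp only [mem_normalizer_iff, mem_subgroupOf, Subgroup.coe_mul, InvMemClass.coe_inv]
  refine ⟨fun h a => ⟨fun ha => (h ⟨a, hEL ha⟩).1 ha, fun ha => ?_⟩, fun h a => h a⟩
  have haL : a ∈ L := by
    simpa [mul_assoc] using mul_mem (mul_mem (inv_mem x.2) (hEL ha)) x.2
  exact (h ⟨a, haL⟩).2 ha

theorem IsSoft.subgroupOf {E L : Subgroup P} (hE : IsSoft p E) (hEL : E ≤ L)
    (hNL : normalizer (E : Set P) ≤ L) : IsSoft p (E.subgroupOf L) where
  comm x hx y hy := Subtype.ext (hE.comm _ hx _ hy)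
  cent x hx := by
    rw [mem_subgroupOf]
    refine hE.cent (mem_centralizer_iff.2 fun a ha => ?_)
    exact congrArg Subtype.val (mem_centralizer_iff.1 hx ⟨a, hEL ha⟩ ha)
  idx := by rw [normalizer_subgroupOf hEL, relIndex_subgroupOf hNL, hE.idx]

section Quotient

variable {Q : Type u} [Group Q] (φ : P →* Q)

theorem normalizer_map_eq (hφ : Function.Surjective φ) {E : Subgroup P} (hker : φ.ker ≤ E) :
    normalizer (E.map φ : Set Q) = (normalizer (E : Set P)).map φ := by
  apply comap_injective hφ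
  rw [comap_normalizer_eq_of_surjective _ hφ, comap_map_eq_self hker,
    comap_map_eq_self (hker.trans le_normalizer)]

theorem relIndex_map_eq {E L : Subgroup P} (hker : φ.ker ≤ E) :
    (E.map φ).relIndex (L.map φ) = E.relIndex L := by
  rw [← relIndex_comap, comap_map_eq_self hker]

theorem relIndex_normalizer_map (hφ : Function.Surjective φ) {K : Subgroup P}
    (hker : φ.ker ≤ K) : (K.map φ).relIndex (normalizer (K.map φ : Set Q)) =
      K.relIndex (normalizer (K : Set P)) := by
  rw [normalizer_map_eq φ hφ hker, relIndex_map_eq φ hker]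

theorem map_ne_top {K : Subgroup P} (hker : φ.ker ≤ K) (hK : K ≠ ⊤) : K.map φ ≠ ⊤ := fun h =>
  hK (by rw [← comap_map_eq_self hker, h, comap_top])

variable {E : Subgroup P}

theorem commutator_mem_ker {x a : P} (h : φ x * φ a = φ a * φ x) : ⁅x, a⁆ ∈ φ.ker := by
  rw [MonoidHom.mem_ker, map_commutatorElement]
  exact commutatorElement_eq_one_iff_mul_comm.2 h

theorem mem_normalizer_of_commutator {x : P} (hker : φ.ker ≤ E)
    (h : ∀ a ∈ E, φ x * φ a = φ a * φ x) : x ∈ normalizer (E : Set P) := by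
  have key : ∀ a ∈ E, x * a * x⁻¹ ∈ E := fun a ha => by
    have h1 := E.mul_mem (hker (commutator_mem_ker φ (h a ha))) ha
    simpa [commutatorElement_def] using h1
  rw [mem_normalizer_iff]
  refine fun a => ⟨key a, fun ha => ?_⟩
  have heq : E.map (MulAut.conj x).toMonoidHom = E :=
    eq_of_le_of_card_ge (by rintro _ ⟨b, hb, rfl⟩; exact key b hb)
      (card_map_of_injective (MulAut.conj x).injective).ge
  rw [← heq] at ha
  obtain ⟨b, hb, hba⟩ := ha
  rwa [← show b = a by simpa using hba]

theorem IsSoft.map_of_disjoint (hφ : Function.Surjective φ) (hE : IsSoft p E) (hker : φ.ker ≤ E)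
    (hdisj : ∀ x ∈ normalizer (E : Set P), ∀ a ∈ E, ⁅x, a⁆ ∈ φ.ker → ⁅x, a⁆ = 1) :
    IsSoft p (E.map φ) where
  comm := by
    rintro _ ⟨a, ha, rfl⟩ _ ⟨b, hb, rfl⟩
    rw [← map_mul, hE.comm a ha b hb, map_mul]
  cent := by
    intro y hy
    obtain ⟨x, rfl⟩ := hφ y
    have h : ∀ a ∈ E, φ x * φ a = φ a * φ x := fun a ha =>
      (mem_centralizer_iff.1 hy _ ⟨a, ha, rfl⟩).symm
    refine ⟨x, hE.cent (mem_centralizer_iff.2 fun a ha => ?_), rfl⟩
    exact (commutatorElement_eq_one_iff_mul_comm.1 (hdisj x (mem_normalizer_of_commutator φ hker h)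
      a ha (commutator_mem_ker φ (h a ha)))).symm
  idx := by rw [relIndex_normalizer_map φ hφ hker, hE.idx]

theorem IsSoft.map_step (hφ : Function.Surjective φ) (_hE : IsSoft p E) {N : Subgroup P}
    (hN : N = normalizer (E : Set P)) (hNidx : N.relIndex (normalizer (N : Set P)) = p)
    (hker : φ.ker ≤ E) (hD : ⁅N, N⁆ ≤ φ.ker) : IsSoft p (N.map φ) where
  comm := by
    rintro _ ⟨a, ha, rfl⟩ _ ⟨b, hb, rfl⟩
    exact commutatorElement_eq_one_iff_mul_comm.1 (by
      rw [← map_commutatorElement]; exact hD (commutator_mem_commutator ha hb))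
  cent := by
    intro y hy
    obtain ⟨x, rfl⟩ := hφ y
    exact ⟨x, hN ▸ mem_normalizer_of_commutator φ hker fun a ha =>
      (mem_centralizer_iff.1 hy _ ⟨a, hN ▸ le_normalizer ha, rfl⟩).symm, rfl⟩
  idx := by rw [relIndex_normalizer_map φ hφ (hker.trans (hN ▸ le_normalizer)), hNidx]

end Quotient

/-- The tower statement. -/
def TowerProp (p : ℕ) {P : Type u} [Group P] (E : Subgroup P) : Prop :=
  (∀ K : Subgroup P, E ≤ K → K ≠ ⊤ → K.relIndex (normalizer (K : Set P)) = p) ∧
  (∀ K : Subgroup P, normalizer (E : Set P) ≤ K → K ≠ ⊤ →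
    K ≤ centralizer ((⁅normalizer (E : Set P), normalizer (E : Set P)⁆ : Subgroup P) : Set P)) ∧
  ∀ (i : ℕ) (K : Subgroup P), E ≤ K → K ≠ ⊤ → K.index * p ^ i = E.index →
    K.lowerCentralSeries (i + 1) = ⊥

theorem index_zero_case {E : Subgroup P} (hE : IsSoft p E) {i : ℕ} (h : E.index * p ^ i = E.index) :
    E.lowerCentralSeries (i + 1) = ⊥ := by
  have hi : i = 0 := by
    by_contra hi
    have h1 : 1 < p ^ i := Nat.one_lt_pow hi (Fact.out : p.Prime).one_lt
    have h2 : 0 < E.index := Nat.pos_of_ne_zero index_ne_zero_of_finite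
    nlinarith
  subst hi
  rw [Subgroup.lowerCentralSeries_succ, Subgroup.lowerCentralSeries_zero, commutator_eq_bot_iff_le_centralizer]
  exact fun a ha => mem_centralizer_iff.2 fun b hb => hE.comm b hb a ha

theorem tower_aux (n : ℕ) : ∀ (P : Type u) [Group P] [Finite P], Nat.card P = n → IsPGroup p P →
    ∀ E : Subgroup P, IsSoft p E → TowerProp p E := by
  induction n using Nat.strong_induction_on with
  | _ n ih =>
  intro P _ _ hn hP E hE
  have hp := (Fact.out : p.Prime)
  set N := normalizer (E : Set P) with hN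
  have hEN : E ≤ N := le_normalizer
  by_cases hNt : N = ⊤
  · have hK : ∀ K : Subgroup P, E ≤ K → K ≠ ⊤ → K = E := fun K hK hKt =>
      (eq_or_lt_of_le hK).elim Eq.symm fun h => absurd (top_le_iff.1
        (hNt ▸ normalizer_le_of_lt hP hE.idx h)) hKt
    exact ⟨fun K hK' hKt => hK K hK' hKt ▸ hE.idx,
      fun K hK' hKt => absurd (top_le_iff.1 (hNt ▸ hK')) hKt,
      fun i K hK' hKt hi => by rw [hK K hK' hKt] at hi ⊢; exact index_zero_case hE hi⟩
  obtain ⟨hDc, hDE, hND, hNidx⟩ := hE.structure hP hN hNt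
  set D := (⁅N, N⁆ : Subgroup P) with hD
  have := hP.isNilpotent
  haveI : Nontrivial P := ⟨by
    by_contra h
    push Not at h
    exact hE.ne_top (eq_top_iff.2 fun x _ => h x 1 ▸ one_mem E)⟩
  obtain ⟨z, hz⟩ := exists_prime_orderOf_dvd_card' (G := center P) p (by
    obtain ⟨k, hk⟩ := IsPGroup.iff_card.1 (hP.to_subgroup (center P))
    have hne : center P ≠ ⊥ := fun h =>
      CfsgLib.PGroupBasic.inf_center_ne_bot (⊤ : Subgroup P) top_ne_bot (by rw [top_inf_eq, h])
    rcases k with _ | k
    · exact absurd (card_eq_one.1 (by simpa using hk)) hne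
    · exact hk ▸ dvd_pow_self p k.succ_ne_zero)
  set Z := zpowers (z : P) with hZ
  haveI hZn : Z.Normal := ⟨fun a ha g => by
    obtain ⟨j, rfl⟩ := mem_zpowers_iff.1 ha
    rw [mem_center_iff.1 (zpow_mem z.2 j) g, mul_inv_cancel_right]
    exact zpow_mem (mem_zpowers _) j⟩
  have hZc : Nat.card Z = p := by rw [hZ, Nat.card_zpowers, orderOf_coe, hz]
  have hZE : Z ≤ E := zpowers_le.2 (hE.cent (mem_centralizer_iff.2 fun a _ =>
    (mem_center_iff.1 z.2 a)))
  have hQlt : ∀ W : Subgroup P, W.Normal → W ≠ ⊥ → Nat.card (P ⧸ W) < n := fun W _ hW => by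
    rw [← hn, card_eq_card_quotient_mul_card_subgroup W]
    exact lt_mul_of_one_lt_right Nat.card_pos (W.one_lt_card_iff_ne_bot.2 hW)
  have hZne : Z ≠ ⊥ := fun h => by rw [h, card_bot] at hZc; exact hp.one_lt.ne hZc
  set π := QuotientGroup.mk' Z with hπ
  have hker : π.ker = Z := QuotientGroup.ker_mk' Z
  have hsurj : Function.Surjective π := QuotientGroup.mk'_surjective Z
  have hkE : π.ker ≤ E := by rw [hker]; exact hZE
  have hcase : (D = Z ∧ IsSoft p (N.map π)) ∨ (D ≠ Z ∧ IsSoft p (E.map π)) := by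
    by_cases hDZ : D = Z
    · exact Or.inl ⟨hDZ, hE.map_step π hsurj hN hNidx hkE (by rw [hker, ← hDZ])⟩
    refine Or.inr ⟨hDZ, hE.map_of_disjoint π hsurj hkE fun x hx a ha h => ?_⟩
    by_contra hne
    rw [hker] at h
    have h1 : D ⊓ Z ≠ ⊥ := fun h' => hne (mem_bot.1 (h' ▸
      ⟨commutator_mem_commutator hx (hEN ha), h⟩ : ⁅x, a⁆ ∈ (⊥ : Subgroup P)))
    have h2 := card_dvd_of_le (inf_le_left : D ⊓ Z ≤ D)
    rw [hDc] at h2
    rcases hp.eq_one_or_self_of_dvd _ h2 with h3 | h3
    · exact h1 (card_eq_one.1 h3)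
    · refine hDZ (eq_of_le_of_card_ge ?_ (by rw [hDc, hZc]))
      exact (eq_of_le_of_card_ge inf_le_left (by rw [h3, hDc]) : D ⊓ Z = D) ▸ inf_le_right
  have ihQ := ih _ (hQlt Z hZn hZne) (P ⧸ Z) rfl (hP.to_quotient Z)
  -- the chain step
  have hA : ∀ K : Subgroup P, E ≤ K → K ≠ ⊤ → K.relIndex (normalizer (K : Set P)) = p := by
    intro K hK hKt
    rcases eq_or_lt_of_le hK with rfl | hlt
    · exact hE.idx
    have hNK : N ≤ K := normalizer_le_of_lt hP hE.idx hlt
    rw [← relIndex_normalizer_map π hsurj (hkE.trans hK)]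
    rcases hcase with ⟨-, hs⟩ | ⟨-, hs⟩
    · exact (ihQ _ hs).1 _ (map_mono hNK) (map_ne_top π (hkE.trans hK) hKt)
    · exact (ihQ _ hs).1 _ (map_mono hK) (map_ne_top π (hkE.trans hK) hKt)
  -- reduction to a subgroup
  have hsub : ∀ K : Subgroup P, E ≤ K → K ≠ ⊤ → normalizer (K : Set P) ≠ ⊤ →
      TowerProp p (E.subgroupOf (normalizer (K : Set P))) ∧
      N ≤ normalizer (K : Set P) ∧ K.subgroupOf (normalizer (K : Set P)) ≠ ⊤ := by
    intro K hK hKt hLt
    have hlt := lt_normalizer hP hKt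
    have hNL : N ≤ normalizer (K : Set P) := by
      rcases eq_or_lt_of_le hK with rfl | h
      · exact le_rfl
      · exact (normalizer_le_of_lt hP hE.idx h).trans le_normalizer
    refine ⟨ih _ ?_ _ rfl (hP.to_subgroup _) _ (hE.subgroupOf (hK.trans hlt.le) hNL), hNL,
      fun h => hlt.not_ge (subgroupOf_eq_top.1 h)⟩
    rw [← hn]
    refine lt_of_le_of_ne (card_le_card_group _) fun h => hLt (eq_top_of_card_eq _ h)
  have hB : ∀ K : Subgroup P, N ≤ K → K ≠ ⊤ → K ≤ centralizer (D : Set P) := by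
    intro K hNK hKt
    have hK : E ≤ K := hEN.trans hNK
    by_cases hLt : normalizer (K : Set P) = ⊤
    swap
    · obtain ⟨⟨-, h, -⟩, hNL, hKL⟩ := hsub K hK hKt hLt
      have hle : K ≤ normalizer (K : Set P) := le_normalizer
      have h' := h (K.subgroupOf _)
        (by rw [normalizer_subgroupOf (hK.trans hle)]; exact fun x hx => hNK hx) hKL
      rw [normalizer_subgroupOf (hK.trans hle)] at h'
      intro k hk
      rw [mem_centralizer_iff]
      intro d hd
      have hd' : d ∈ (⁅N.subgroupOf (normalizer (K : Set P)), N.subgroupOf (normalizer (K : Set P))⁆).map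
          (normalizer (K : Set P)).subtype := by
        rw [map_commutator, map_subgroupOf_eq_of_le hNL]; exact hd
      obtain ⟨d', hd', rfl⟩ := hd'
      exact congrArg Subtype.val (mem_centralizer_iff.1
        (h' (show (⟨k, hle hk⟩ : normalizer (K : Set P)) ∈ K.subgroupOf _ from hk)) d' hd')
    by_contra hKD
    haveI : K.Normal := normalizer_eq_top_iff.1 hLt
    rcases hcase with ⟨hDZ, -⟩ | ⟨-, hs⟩
    · refine hKD fun k _ => mem_centralizer_iff.2 fun d hd => ?_
      obtain ⟨j, rfl⟩ := mem_zpowers_iff.1 (hDZ ▸ hd : d ∈ Z)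
      exact (mem_center_iff.1 (zpow_mem z.2 j) k).symm
    -- in the quotient the image of `D` is centralized
    have hq := (ihQ _ hs).2.1 (K.map π)
      (by rw [normalizer_map_eq π hsurj hkE]; exact map_mono hNK)
      (map_ne_top π (hkE.trans hK) hKt)
    rw [normalizer_map_eq π hsurj hkE, ← map_commutator] at hq
    set M := K ⊓ centralizer (D : Set P) with hM
    have hNM : N ≤ M := le_inf hNK hND
    have hMn : normalizer (M : Set P) = ⊤ := by
      refine eq_top_iff.2 fun g _ => ?_
      have hgE : ∀ d ∈ D, g * d * g⁻¹ ∈ E := by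
        intro d hd
        have hgd : π (g * d * g⁻¹) ∈ E.map π := by
          refine hs.cent (mem_centralizer_iff.2 ?_)
          rintro _ ⟨a, ha, rfl⟩
          have hk : g⁻¹ * a * g ∈ K := by simpa using Normal.conj_mem ‹K.Normal› a (hK ha) g⁻¹
          have h1 : π d * π (g⁻¹ * a * g) = π (g⁻¹ * a * g) * π d :=
            mem_centralizer_iff.1 (hq ⟨_, hk, rfl⟩) _ ⟨d, hd, rfl⟩
          rw [← map_mul, ← map_mul] at h1
          calc π a * π (g * d * g⁻¹) = π g * π (g⁻¹ * a * g * d) * π g⁻¹ := by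
                simp only [← map_mul]; congr 1; group
            _ = π g * π (d * (g⁻¹ * a * g)) * π g⁻¹ := by rw [h1]
            _ = π (g * d * g⁻¹) * π a := by simp only [← map_mul]; congr 1; group
        obtain ⟨a, ha, hae⟩ := hgd
        have : a⁻¹ * (g * d * g⁻¹) ∈ π.ker := by
          rw [MonoidHom.mem_ker, map_mul, map_inv, hae, inv_mul_cancel]
        simpa using mul_mem ha (hkE this)
      -- the conjugate of `M` contains `E`
      have hMg : E ≤ M.map (MulAut.conj g).toMonoidHom := by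
        intro a ha
        refine ⟨g⁻¹ * a * g, ⟨by simpa using Normal.conj_mem ‹K.Normal› a (hK ha) g⁻¹,
          mem_centralizer_iff.2 fun d hd => ?_⟩, by simp [mul_assoc]⟩
        calc d * (g⁻¹ * a * g) = g⁻¹ * (g * d * g⁻¹ * a) * g := by group
          _ = g⁻¹ * (a * (g * d * g⁻¹)) * g := by rw [hE.comm _ (hgE d hd) a ha]
          _ = g⁻¹ * a * g * d := by group
      have hc : Nat.card (M.map (MulAut.conj g).toMonoidHom) = Nat.card M :=
        card_map_of_injective (MulAut.conj g).injective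
      have heq : M.map (MulAut.conj g).toMonoidHom = M := by
        rcases chain hP E hA _ M hMg (hEN.trans hNM) with h | h
        · exact eq_of_le_of_card_ge h hc.ge
        · exact (eq_of_le_of_card_ge h hc.le).symm
      rw [mem_normalizer_iff]
      intro a
      constructor
      · exact fun ha => heq ▸ ⟨a, ha, rfl⟩
      · intro ha
        rw [← heq] at ha
        obtain ⟨b, hb, hba⟩ := ha
        rwa [← show b = a by simpa using hba]
    have hMK : M < K := lt_of_le_of_ne inf_le_left fun h => hKD (h ▸ inf_le_right)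
    have h1 := hA M (hEN.trans hNM) (fun h => hKt (top_le_iff.1 (h ▸ hMK.le)))
    rw [hMn] at h1
    exact hKt (eq_of_relIndex_prime hMK le_top h1)
  refine ⟨hA, hB, fun i K hK hKt hi => ?_⟩
  rcases eq_or_lt_of_le hK with rfl | hlt
  · exact index_zero_case hE hi
  have hNK : N ≤ K := normalizer_le_of_lt hP hE.idx hlt
  by_cases hLt : normalizer (K : Set P) = ⊤
  swap
  · obtain ⟨⟨-, -, h⟩, hNL, hKL⟩ := hsub K hK hKt hLt
    have hle : K ≤ normalizer (K : Set P) := le_normalizer
    have h' := h i (K.subgroupOf _) (fun x hx => hK hx) hKL (by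
      have h1 := relIndex_mul_index hle
      have h2 := relIndex_mul_index (hK.trans hle)
      apply Nat.eq_of_mul_eq_mul_right (Nat.pos_of_ne_zero
        (index_ne_zero_of_finite (H := normalizer (K : Set P))))
      change K.relIndex _ * p ^ i * _ = E.relIndex _ * _
      rw [mul_right_comm, h1, h2, hi])
    have h2 := congrArg (Subgroup.map (normalizer (K : Set P)).subtype) h'
    rwa [map_lowerCentralSeries, map_subgroupOf_eq_of_le hle, Subgroup.map_bot] at h2
  haveI : K.Normal := normalizer_eq_top_iff.1 hLt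
  set W := normalClosure (D : Set P) with hW
  have hWK : W ≤ centralizer (K : Set P) := normalClosure_le_normal fun d hd =>
    mem_centralizer_iff.2 fun k hk => ((mem_centralizer_iff.1 (hB K hNK hKt hk)) d hd).symm
  have hWE : W ≤ E := hWK.trans (hE.centralizer_le hK)
  have hWne : W ≠ ⊥ := fun h => by
    have hD' : D ≤ ⊥ := h ▸ le_normalClosure
    rw [le_bot_iff.1 hD', card_bot] at hDc
    exact hp.one_lt.ne hDc
  set ψ := QuotientGroup.mk' W with hψ
  have hkψ : ψ.ker = W := QuotientGroup.ker_mk' W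
  have hkψE : ψ.ker ≤ E := by rw [hkψ]; exact hWE
  have hψs : Function.Surjective ψ := QuotientGroup.mk'_surjective W
  have hs := hE.map_step ψ hψs hN hNidx hkψE (by rw [hkψ]; exact le_normalClosure)
  have hi1 : E.index = p * N.index := by rw [← relIndex_mul_index hEN, hN, hE.idx]
  obtain ⟨i, rfl⟩ : ∃ j, i = j + 1 := by
    refine ⟨i - 1, ?_⟩
    rcases Nat.eq_zero_or_pos i with h | h
    · subst h
      rw [pow_zero, mul_one] at hi
      have h2 := relIndex_mul_index hK
      rw [← hi, mul_eq_right₀ index_ne_zero_of_finite] at h2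
      exact absurd (relIndex_eq_one.1 h2) hlt.not_ge
    · omega
  have h' := (ih _ (hQlt W inferInstance hWne) (P ⧸ W) rfl (hP.to_quotient W) _ hs).2.2 i (K.map ψ)
    (map_mono hNK) (map_ne_top ψ (hkψE.trans hK) hKt) (by
      rw [index_map_eq _ hψs (hkψE.trans hK), index_map_eq _ hψs (hkψE.trans hEN)]
      apply Nat.eq_of_mul_eq_mul_left hp.pos
      rw [← hi1, ← hi]; ring)
  rw [← map_lowerCentralSeries, Subgroup.map_eq_bot_iff, hkψ] at h'
  rw [Subgroup.lowerCentralSeries_succ, commutator_eq_bot_iff_le_centralizer]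
  exact h'.trans hWK

theorem tower {P : Type u} [Group P] [Finite P] (hP : IsPGroup p P) {E : Subgroup P}
    (hE : IsSoft p E) : TowerProp p E := tower_aux (Nat.card P) P rfl hP E hE

end CfsgLib.Soft
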