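import Cfsg.Prelude.Def_HallClasses
import Mathlib
import Cfsg.Agent.FGSB.Jordan

/-!
A symmetric group of prime power degree without Hall π-subgroups.
-/

set_option autoImplicit false
set_option linter.style.haveILetI false

namespace CfsgLib.FGSA.SymNoHall

open MulAction Equiv Equiv.Perm
open scoped Pointwise

/-- A p-subgroup is conjugate into a subgroup of index prime to p. -/
theorem exists_conj_le {G : Type*} [Group G] [Finite G] {p : ℕ} [Fact p.Prime] {E H : Subgroup G}
    (hE : IsPGroup p E) (hH : ¬ p ∣ H.index) : ∃ g : G, ∀ e ∈ E, g * e * g⁻¹ ∈ H := by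
  obtain ⟨P⟩ := (inferInstance : Nonempty (Sylow p H))
  have hi : ((P : Subgroup H).map H.subtype).index = (P : Subgroup H).index * H.index :=
    Subgroup.index_map_subtype _
  have hndvd : ¬ p ∣ ((P : Subgroup H).map H.subtype).index := by
    rw [hi]
    exact fun h => ((Fact.out : p.Prime).dvd_mul.1 h).elim P.not_dvd_index hH
  let S : Sylow p G := (P.2.map H.subtype).toSylow hndvd
  obtain ⟨T, hT⟩ := hE.exists_le_sylow
  obtain ⟨g, hg⟩ := MulAction.exists_smul_eq G T S
  refine ⟨g, fun e he => ?_⟩
  have h1 : g * e * g⁻¹ ∈ (S : Subgroup G) := by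
    rw [← hg, Sylow.coe_subgroup_smul]
    exact ⟨e, hT he, rfl⟩
  exact Subgroup.map_subtype_le _ h1

variable {α : Type*} [Fintype α] [DecidableEq α]

/-- No proper "two-prime" Hall subgroup in degree a power of the larger prime. -/
theorem no_hall {p q r a : ℕ} (hp : p.Prime) (hq : q.Prime) (hpq : p < q) (hr : r.Prime)
    (hn : Fintype.card α = q ^ a) (ha : 2 ≤ a) (hrn : r ≤ q ^ a) (H : Subgroup (Perm α))
    (hHp : ¬ p ∣ H.index) (hHq : ¬ q ∣ H.index) (hHr : ¬ r ∣ Nat.card H) : False := by
  classical
  haveI := Fact.mk hp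
  haveI := Fact.mk hq
  set n := q ^ a with hndef
  have hqn : q * q ≤ n := by
    calc q * q = q ^ 2 := by ring
      _ ≤ q ^ a := Nat.pow_le_pow_right hq.pos ha
  have hn3 : p + 3 ≤ n := by
    have := Nat.mul_le_mul_left q (show 2 ≤ q from hq.two_le)
    have := hp.two_le
    omega
  have hn2 : 2 ≤ n := by omega
  set e : α ≃ Fin n := Fintype.equivFinOfCardEq hn
  -- a transitive cyclic subgroup
  set z : Perm α := e.symm.permCongr (finRotate n) with hz
  obtain ⟨gz, hgz⟩ := exists_conj_le (p := q) (E := Subgroup.zpowers z) (by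
    refine IsPGroup.of_card (n := a) ?_
    rw [Nat.card_zpowers, hz, show e.symm.permCongr (finRotate n) = e.symm.permCongrHom (finRotate n) from rfl,
      MulEquiv.orderOf_eq, (isCycle_finRotate_of_le hn2).orderOf, support_finRotate_of_le hn2,
      Finset.card_univ, Fintype.card_fin]) hHq
  haveI hpre : IsPretransitive H α := by
    refine ⟨fun x y => ?_⟩
    obtain ⟨i, hi⟩ := (isCycle_finRotate_of_le hn2).exists_zpow_eq
      (x := e (gz⁻¹ x)) (y := e (gz⁻¹ y))
      (mem_support.1 (by rw [support_finRotate_of_le hn2]; exact Finset.mem_univ _))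
      (mem_support.1 (by rw [support_finRotate_of_le hn2]; exact Finset.mem_univ _))
    refine ⟨⟨gz * z ^ i * gz⁻¹, hgz _ ⟨i, rfl⟩⟩, ?_⟩
    show gz ((z ^ i) (gz⁻¹ x)) = y
    have hzi : z ^ i = e.symm.permCongrHom ((finRotate n) ^ i) := by rw [map_zpow]; rfl
    rw [hzi]
    show gz (e.symm (((finRotate n) ^ i) (e (gz⁻¹ x)))) = y
    rw [hi, Equiv.symm_apply_apply, ← Equiv.Perm.mul_apply, mul_inv_cancel, Equiv.Perm.one_apply]
  -- disjoint p-cycles
  have hlt : ∀ (i : Fin (n / p)) (j : Fin p), (i : ℕ) * p + j < n := fun i j => by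
    have h1 : (i + 1 : ℕ) * p ≤ n / p * p := Nat.mul_le_mul_right _ i.2
    have h2 := Nat.div_mul_le_self n p
    have := j.2
    rw [add_mul, one_mul] at h1
    omega
  let l : Fin (n / p) → List α := fun i => List.ofFn fun j : Fin p => e.symm ⟨_, hlt i j⟩
  have hnodup : ∀ i, (l i).Nodup := fun i => List.nodup_ofFn.2 fun j j' h => by
    have := congrArg Fin.val (e.symm.injective h)
    exact Fin.ext (by simpa using this)
  let c : Fin (n / p) → Perm α := fun i => (l i).formPerm
  have hlen : ∀ i, (l i).length = p := fun i => List.length_ofFn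
  have hsupp : ∀ i, (c i).support = (l i).toFinset := fun i =>
    List.support_formPerm_of_nodup _ (hnodup i) fun x h => by
      have := hlen i
      rw [h] at this
      exact hp.one_lt.ne this
  have hcyc : ∀ i, (c i).IsCycle := fun i =>
    List.isCycle_formPerm (hnodup i) (by rw [hlen]; exact hp.two_le)
  have hcard : ∀ i, (c i).support.card = p := fun i => by
    rw [hsupp, List.toFinset_card_of_nodup (hnodup i), hlen]
  have hdisj : ∀ i i', i ≠ i' → (c i).Disjoint (c i') := fun i i' hne => by
    rw [disjoint_iff_disjoint_support, hsupp, hsupp, Finset.disjoint_left]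
    intro x hx hx'
    simp only [l, List.mem_toFinset, List.mem_ofFn] at hx hx'
    obtain ⟨j, rfl⟩ := hx
    obtain ⟨j', hj'⟩ := hx'
    have h1 := congrArg Fin.val (e.symm.injective hj')
    simp only at h1
    refine hne (Fin.ext ?_)
    have h2 := congrArg (· / p) h1
    simpa [Nat.add_comm _ (j : ℕ), Nat.add_comm _ (j' : ℕ), Nat.add_mul_div_right _ _ hp.pos,
      Nat.div_eq_of_lt j.2, Nat.div_eq_of_lt j'.2] using h2.symm
  have hord : ∀ i, orderOf (c i) = p := fun i => (hcyc i).orderOf.trans (hcard i)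
  have hE : IsPGroup p (Subgroup.closure (Set.range c)) := by
    intro x
    refine ⟨1, Subtype.ext ?_⟩
    show (x : Perm α) ^ p ^ 1 = 1
    rw [pow_one]
    have hcm : ∀ i i', Commute (c i) (c i') := fun i i' => by
      rcases eq_or_ne i i' with rfl | hne
      · exact Commute.refl _
      · exact (hdisj i i' hne).commute
    have hc2 : ∀ u ∈ Subgroup.closure (Set.range c), ∀ v ∈ Subgroup.closure (Set.range c), Commute u v :=
      fun u hu v hv => by
        refine Subgroup.closure_induction₂ (p := fun u v _ _ => Commute u v) ?_ (fun u _ => Commute.one_left u)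
          (fun u _ => Commute.one_right u) (fun _ _ _ _ _ _ h h' => h.mul_left h')
          (fun _ _ _ _ _ _ h h' => h.mul_right h') (fun _ _ _ _ h => h.inv_left)
          (fun _ _ _ _ h => h.inv_right) hu hv
        rintro _ _ ⟨i, rfl⟩ ⟨i', rfl⟩
        exact hcm i i'
    obtain ⟨x, hxc⟩ := x
    show x ^ p = 1
    induction hxc using Subgroup.closure_induction with
    | mem u hu =>
      obtain ⟨i, rfl⟩ := hu
      rw [← hord i, pow_orderOf_eq_one]
    | one => exact one_pow p
    | mul u v hu hv h h' => rw [(hc2 u hu v hv).mul_pow, h, h', one_mul]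
    | inv u _ h => rw [inv_pow, h, inv_one]
  obtain ⟨g, hg⟩ := exists_conj_le hE hHp
  let d : Fin (n / p) → Perm α := fun i => g * c i * g⁻¹
  have hdH : ∀ i, d i ∈ H := fun i => hg _ (Subgroup.subset_closure ⟨i, rfl⟩)
  have hdc : ∀ i, (d i).IsCycle := fun i => (hcyc i).conj
  have hds : ∀ i, (d i).support.card = p := fun i => by rw [card_support_conj, hcard]
  have hdd : ∀ i i', i ≠ i' → Disjoint (d i).support (d i').support := fun i i' hne => by
    rw [← disjoint_iff_disjoint_support]
    exact (disjoint_conj g).2 (hdisj i i' hne)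
  have hnp : 1 ≤ n / p := Nat.div_pos (by omega) hp.pos
  -- primitivity
  have hprim : IsPreprimitive H α := by
    refine ⟨fun {B} hB => ?_⟩
    by_contra hnt
    simp only [IsTrivialBlock, not_or, Set.not_subsingleton_iff] at hnt
    obtain ⟨hnt1, hnt2⟩ := hnt
    have hBne : B.Nonempty := hnt1.nonempty
    set m := B.ncard with hm
    set k := (orbit H B).ncard with hk
    have hmk : m * k = n := by
      rw [hm, hk, hB.ncard_block_mul_ncard_orbit_eq hBne, Nat.card_eq_fintype_card, hn]
    have hm1 : 1 < m := (Set.one_lt_ncard_iff_nontrivial).2 hnt1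
    have hk1 : k ≠ 1 := by
      intro h1
      rw [h1, mul_one] at hmk
      refine hnt2 (Set.eq_of_subset_of_ncard_le (Set.subset_univ B) ?_)
      rw [Set.ncard_univ, Nat.card_eq_fintype_card, hn, ← hm, hmk]
    have hmp : ¬ p ∣ m := fun h => by
      have h1 : p ∣ q ^ a := h.trans (Dvd.intro k hmk)
      exact hpq.ne ((Nat.prime_dvd_prime_iff_eq hp hq).1 (hp.dvd_of_dvd_pow h1))
    have hkq : q ≤ k := by
      obtain ⟨j, -, hj⟩ := (Nat.dvd_prime_pow hq).1 (Dvd.intro_left m hmk : k ∣ q ^ a)
      rcases Nat.eq_zero_or_pos j with rfl | hj0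
      · exact absurd (hj.trans (pow_zero q)) hk1
      · rw [hj]; exact Nat.le_self_pow hj0.ne' q
    have hblock : ∀ i, ∃ D ∈ orbit H B, ↑(d i).support ⊆ D := by
      intro i
      obtain ⟨x, hx⟩ := Finset.card_pos.1 (by rw [hds i]; exact hp.pos : 0 < (d i).support.card)
      obtain ⟨b, hb⟩ := hBne
      obtain ⟨h, hh⟩ := IsPretransitive.exists_smul_eq (M := H) b x
      refine ⟨h • B, mem_orbit B h, ?_⟩
      have hxD : x ∈ h • B := ⟨b, hb, hh⟩
      set cH : H := ⟨d i, hdH i⟩ with hcH
      have hfix : cH • (h • B) = h • B := by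
        have hblk : IsBlock H (h • B) := hB.translate h
        by_cases hall : ∀ y ∈ h • B, y ∈ (d i).support
        · obtain ⟨y, hy, hyx⟩ : ∃ y ∈ h • B, y ≠ x := by
            have h2 : 1 < (h • B).ncard := by rwa [Set.ncard_smul_set]
            exact Set.exists_ne_of_one_lt_ncard h2 x
          obtain ⟨j, hj⟩ := (hdc i).exists_pow_eq (mem_support.1 hx) (mem_support.1 (hall y hy))
          have hpj : ¬ p ∣ j := by
            rintro ⟨u, rfl⟩
            refine hyx ?_
            rw [← hj, pow_mul, show (d i) ^ p = 1 by rw [← hds i, ← (hdc i).orderOf, pow_orderOf_eq_one],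
              one_pow, Equiv.Perm.one_apply]
          have hst : cH ^ j ∈ stabilizer H (h • B) := by
            rw [mem_stabilizer_iff]
            by_contra hne
            refine (Set.disjoint_left.1 (hblk (g₁ := cH ^ j) (g₂ := 1) (by rwa [one_smul])))
              ⟨x, hxD, ?_⟩ (by rwa [one_smul])
            show ((cH ^ j : H) : Perm α) x = y
            rw [SubmonoidClass.coe_pow]
            exact hj
          obtain ⟨u, hu⟩ := exists_pow_eq_self_of_coprime (x := cH) (n := j) (by
            rw [← Subgroup.orderOf_coe, show ((cH : H) : Perm α) = d i from rfl, (hdc i).orderOf, hds i]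
            exact ((hp.coprime_iff_not_dvd).2 hpj).symm)
          exact mem_stabilizer_iff.1 (hu ▸ pow_mem hst u)
        · push Not at hall
          obtain ⟨y, hy, hy'⟩ := hall
          by_contra hne
          refine (Set.disjoint_left.1 (hblk (g₁ := cH) (g₂ := 1) (by rwa [one_smul])))
            ⟨y, hy, ?_⟩ (by rwa [one_smul])
          exact notMem_support.1 hy'
      intro y hy
      obtain ⟨j, hj⟩ := (hdc i).exists_pow_eq (mem_support.1 hx) (mem_support.1 hy)
      have hst : cH ^ j ∈ stabilizer H (h • B) := pow_mem (mem_stabilizer_iff.2 hfix) j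
      rw [← mem_stabilizer_iff.1 hst]
      refine ⟨x, hxD, ?_⟩
      show ((cH ^ j : H) : Perm α) x = y
      rw [SubmonoidClass.coe_pow]
      exact hj
    choose D hD hsub using hblock
    have hfib : ∀ C ∈ (Finset.univ : Finset (Fin (n / p))).image D,
        ((Finset.univ : Finset (Fin (n / p))).filter fun i => D i = C).card ≤ m / p := by
      intro C hC
      obtain ⟨i0, -, rfl⟩ := Finset.mem_image.1 hC
      rw [Nat.le_div_iff_mul_le hp.pos]
      set F := (Finset.univ : Finset (Fin (n / p))).filter fun i => D i = D i0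
      have h1 : (F.biUnion fun i => (d i).support).card = F.card * p := by
        rw [Finset.card_biUnion (fun i _ i' _ hne => hdd i i' hne),
          Finset.sum_congr rfl (fun i _ => hds i), Finset.sum_const, smul_eq_mul]
      have h2 : ↑(F.biUnion fun i => (d i).support) ⊆ D i0 := by
        intro x hx
        obtain ⟨i, hi, hxi⟩ := Finset.mem_biUnion.1 (Finset.mem_coe.1 hx)
        exact (Finset.mem_filter.1 hi).2 ▸ hsub i hxi
      have h3 := Set.ncard_le_ncard h2
      rw [Set.ncard_coe_finset, h1] at h3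
      obtain ⟨h, hh⟩ := hD i0
      refine h3.trans (le_of_eq ?_)
      rw [← hh, hm]
      exact Set.ncard_smul_set h B
    have h4 := Finset.card_le_mul_card_image (Finset.univ : Finset (Fin (n / p))) (m / p) hfib
    rw [Finset.card_univ, Fintype.card_fin] at h4
    have h5 : ((Finset.univ : Finset (Fin (n / p))).image D).card ≤ k := by
      rw [hk, ← Set.ncard_coe_finset]
      refine Set.ncard_le_ncard (fun C hC => ?_)
      obtain ⟨i, -, rfl⟩ := Finset.mem_image.1 (Finset.mem_coe.1 hC)
      exact hD i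
    have h6 : n / p ≤ m / p * k := h4.trans (Nat.mul_le_mul_left _ h5)
    have h7 : m / p * k + 1 ≤ n / p := by
      rw [Nat.le_div_iff_mul_le hp.pos, ← hmk]
      have h8 : 1 ≤ m % p := Nat.pos_of_ne_zero fun h => hmp (Nat.dvd_of_mod_eq_zero h)
      calc (m / p * k + 1) * p = p * (m / p) * k + p := by ring
        _ ≤ p * (m / p) * k + m % p * k := by
          have := Nat.le_mul_of_pos_left k h8
          omega
        _ = (p * (m / p) + m % p) * k := by ring
        _ = m * k := by rw [Nat.div_add_mod]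
    omega
  set i0 : Fin (n / p) := ⟨0, hnp⟩
  have hA := CfsgLib.Jordan.alternatingGroup_le_of_isCycle hprim (hdH i0) (hdc i0) (by rw [hds]; exact hp)
    (by rw [hds, hn]; exact hn3)
  refine hHr (dvd_trans ?_ (Subgroup.card_dvd_of_le hA))
  haveI : Nontrivial α := Fintype.one_lt_card_iff_nontrivial.1 (by omega)
  have h2 : 2 * Nat.card (alternatingGroup α) = n.factorial := by
    rw [Nat.card_eq_fintype_card, two_mul_card_alternatingGroup, Fintype.card_perm, hn]
  have hrf : r ∣ n.factorial := (hr.dvd_factorial).2 hrn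
  rcases eq_or_ne r 2 with rfl | hr2
  · have h4 : 2 * 2 ∣ n.factorial :=
      (show (2 * 2 : ℕ) ∣ Nat.factorial 4 by decide).trans (Nat.factorial_dvd_factorial (le_trans (Nat.mul_le_mul hq.two_le hq.two_le) hqn))
    rw [← h2] at h4
    exact (Nat.mul_dvd_mul_iff_left two_pos).1 h4
  · rw [← h2] at hrf
    exact ((Nat.coprime_primes hr Nat.prime_two).2 hr2).dvd_of_dvd_mul_left hrf

/-- Two primes in π and one outside: some finite group has no Hall π-subgroup. -/
theorem exists_not_EPi (π : Set ℕ) {p q r : ℕ} (hp : p.Prime) (hq : q.Prime) (hr : r.Prime)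
    (hpπ : p ∈ π) (hqπ : q ∈ π) (hpq : p < q) (hrπ : r ∉ π) :
    ¬ Cfsg.IsEPiGroup π (Equiv.Perm (Fin (q ^ (r + 2)))) := by
  rintro ⟨H, h1, h2⟩
  have hrn : r ≤ q ^ (r + 2) :=
    le_trans (by omega) (Nat.lt_pow_self hq.one_lt (n := r + 2)).le
  exact no_hall hp hq hpq hr (Fintype.card_fin _) (by omega) hrn H (h2 p hp hpπ) (h2 q hq hqπ)
    (fun h => hrπ (h1 r hr h))

end CfsgLib.FGSA.SymNoHall
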