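import Cfsg.Agent.FGSA.Extraspecial
import Cfsg.Agent.FGSB.PrimitiveRootAction
import Mathlib.LinearAlgebra.BilinearForm.Orthogonal
import Mathlib.GroupTheory.GroupAction.Quotient

/-!
# Fixed-point-free cyclic isometries of symplectic spaces over a prime field

The order of such an isometry of a space of order `p^(2n)` divides `p^n + 1` or `p^n - 1`.
-/

set_option autoImplicit false
set_option linter.unusedSectionVars false

open Polynomial

namespace CfsgLib.SymplecticCyclic

variable {p : ℕ} [hp : Fact p.Prime] {V : Type*} [AddCommGroup V] [Module (ZMod p) V]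

/-- A fixed-point-free cyclic operator of order `h` partitions the non-zero vectors of an invariant
subspace into orbits of length `h`. -/
theorem dvd_card_sub_one [Finite V] (g : Module.End (ZMod p) V) {h : ℕ} (h0 : 0 < h)
    (hg : g ^ h = 1) (fpf : ∀ i, 0 < i → i < h → ∀ v, (g ^ i) v = v → v = 0)
    (U : Submodule (ZMod p) V) (hU : ∀ v ∈ U, g v ∈ U) : h ∣ Nat.card U - 1 := by
  classical
  have hiter : ∀ (i : ℕ), ∀ v ∈ U, (g ^ i) v ∈ U := by
    intro i
    induction i with
    | zero => exact fun v hv => hv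
    | succ i ih => exact fun v hv => by rw [pow_succ', Module.End.mul_apply]; exact hU _ (ih v hv)
  have hinv : ∀ v : V, (g ^ (h - 1)) (g v) = v ∧ g ((g ^ (h - 1)) v) = v := fun v => by
    rw [← Module.End.mul_apply, ← Module.End.mul_apply, ← pow_succ, ← pow_succ',
      Nat.sub_add_cancel h0, hg]
    exact ⟨rfl, rfl⟩
  let X := {v : V // v ∈ U ∧ v ≠ 0}
  have : Finite X := inferInstance
  let σ : Equiv.Perm X :=
    { toFun := fun v => ⟨g v.1, hU _ v.2.1, fun e => v.2.2 (by rw [← (hinv v.1).1, e, map_zero])⟩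
      invFun := fun v => ⟨(g ^ (h - 1)) v.1, hiter _ _ v.2.1,
        fun e => v.2.2 (by rw [← (hinv v.1).2, e, map_zero])⟩
      left_inv := fun v => Subtype.ext (hinv v.1).1
      right_inv := fun v => Subtype.ext (hinv v.1).2 }
  have hpow : ∀ (i : ℕ) (v : X), ((σ ^ i) v).1 = (g ^ i) v.1 := by
    intro i
    induction i with
    | zero => exact fun v => rfl
    | succ i ih =>
      intro v
      rw [pow_succ', pow_succ', Equiv.Perm.mul_apply, Module.End.mul_apply, ← ih]
      rfl
  have hX : Nat.card U - 1 = Nat.card X := by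
    have e : X ≃ {v : U // v ≠ 0} :=
      ⟨fun v => ⟨⟨v.1, v.2.1⟩, fun e => v.2.2 (congrArg Subtype.val e)⟩,
        fun v => ⟨v.1.1, v.1.2, fun e => v.2 (Subtype.ext e)⟩, fun v => rfl, fun v => rfl⟩
    have := Fintype.ofFinite U
    rw [Nat.card_congr e, Nat.card_eq_fintype_card, Nat.card_eq_fintype_card]
    simp [Fintype.card_subtype_compl]
  rw [hX]
  by_cases hne : IsEmpty X
  · simp
  obtain ⟨v₀⟩ := not_isEmpty_iff.1 hne
  have hord : orderOf σ = h := by
    refine (orderOf_eq_iff h0).2 ⟨Equiv.ext fun v => Subtype.ext ?_, fun i hi hi0 e => ?_⟩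
    · rw [hpow, hg]
      rfl
    · refine v₀.2.2 (fpf i hi0 hi _ ?_)
      rw [← hpow, e]
      rfl
  have hst : ∀ v : X, MulAction.stabilizer (Subgroup.zpowers σ) v = ⊥ := by
    intro v
    rw [eq_bot_iff]
    rintro ⟨a, ha⟩ hs
    obtain ⟨i, hi⟩ := (mem_powers_iff_mem_zpowers.2 ha : a ∈ Submonoid.powers σ)
    rw [Subgroup.mem_bot]
    refine Subtype.ext ?_
    rw [MulAction.mem_stabilizer_iff] at hs
    have h1 : (σ ^ (i % h)) v = v := by
      rw [← hord, pow_mod_orderOf]
      have hs' : a • v = v := hs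
      rw [← hi] at hs'
      exact hs'
    rcases Nat.eq_zero_or_pos (i % h) with h2 | h2
    · show a = 1
      rw [← hi]
      show σ ^ i = 1
      rw [← pow_mod_orderOf, hord, h2, pow_zero]
    · exact absurd (fpf _ h2 (Nat.mod_lt _ h0) v.1 (by rw [← hpow, h1])) v.2.2
  rw [Nat.card_congr (MulAction.selfEquivOrbitsQuotientProd hst), Nat.card_prod, Nat.card_zpowers,
    hord]
  exact dvd_mul_left _ _

theorem aeval_mem (g : Module.End (ZMod p) V) {U : Submodule (ZMod p) V} (hU : ∀ v ∈ U, g v ∈ U)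
    (q : (ZMod p)[X]) {v : V} (hv : v ∈ U) : aeval g q v ∈ U := by
  induction q using Polynomial.induction_on' with
  | add a b ha hb => rw [map_add, LinearMap.add_apply]; exact add_mem ha hb
  | monomial i c =>
    rw [aeval_monomial, Module.End.mul_apply, Module.algebraMap_end_apply]
    refine U.smul_mem c ?_
    induction i with
    | zero => exact hv
    | succ i ih => rw [pow_succ', Module.End.mul_apply]; exact hU _ ih

/-- Inside an isometric operator, either a power of `p` is `-1` modulo the order or there is an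
invariant subspace equal to its orthogonal. -/
theorem dichotomy [Finite V] (B : LinearMap.BilinForm (ZMod p) V) (halt : ∀ v, B v v = 0)
    (g : Module.End (ZMod p) V) {h : ℕ} (h0 : 0 < h) (hg : g ^ h = 1)
    (iso : ∀ v w, B (g v) (g w) = B v w) (fpf : ∀ i, 0 < i → i < h → ∀ v, (g ^ i) v = v → v = 0)
    (hcop : h.Coprime p) :
    (∃ j : ℕ, h ∣ p ^ j + 1) ∨
      ∃ U : Submodule (ZMod p) V, (∀ v ∈ U, g v ∈ U) ∧ B.orthogonal U = U := by
  classical
  have hskew : ∀ v w, B v w = - B w v := fun v w => by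
    have := halt (v + w)
    simp only [map_add, LinearMap.add_apply, halt] at this
    linear_combination this
  set g' := g ^ (h - 1) with hg'
  have hgg' : ∀ v, g (g' v) = v := fun v => by
    rw [hg', ← Module.End.mul_apply, ← pow_succ', Nat.sub_add_cancel h0, hg]
    rfl
  have hg'g : ∀ v, g' (g v) = v := fun v => by
    rw [hg', ← Module.End.mul_apply, ← pow_succ, Nat.sub_add_cancel h0, hg]
    rfl
  have hadj : ∀ (q : (ZMod p)[X]) (v w : V), B (aeval g' q v) w = B v (aeval g q w) := by
    intro q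
    induction q using Polynomial.induction_on' with
    | add a b ha hb => intro v w; simp [map_add, ha, hb]
    | monomial i c =>
      induction i generalizing c with
      | zero => intro v w; simp [aeval_monomial]
      | succ i ih =>
        intro v w
        have h1 := ih c (g' v) w
        simp only [aeval_monomial, Module.End.mul_apply, Module.algebraMap_end_apply, map_smul,
          LinearMap.smul_apply] at h1 ⊢
        rw [pow_succ, pow_succ', Module.End.mul_apply, Module.End.mul_apply, h1]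
        congr 1
        rw [← iso (g' v), hgg']
  let good : Submodule (ZMod p) V → Prop := fun U => (∀ v ∈ U, g v ∈ U) ∧ U ≤ B.orthogonal U
  have : Finite (Submodule (ZMod p) V) := Finite.of_injective _ SetLike.coe_injective
  obtain ⟨U, ⟨hUg, hUo⟩, hUmax⟩ := (Set.toFinite {U | good U}).exists_maximal
    ⟨⊥, fun v hv => by rw [(Submodule.mem_bot _).1 hv, map_zero]; exact zero_mem _, bot_le⟩
  by_cases hU : B.orthogonal U = U
  · exact Or.inr ⟨U, hUg, hU⟩
  left
  have hog : ∀ {U' : Submodule (ZMod p) V}, (∀ v ∈ U', g v ∈ U') →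
      ∀ v ∈ B.orthogonal U', g v ∈ B.orthogonal U' := by
    intro U' hU' v hv u hu
    have h1 : g' u ∈ U' := by
      rw [hg']
      clear_value g'
      induction h - 1 with
      | zero => exact hu
      | succ i ih => rw [pow_succ', Module.End.mul_apply]; exact hU' _ ih
    show B u (g v) = 0
    rw [← hgg' u, iso]
    exact hv _ h1
  -- a minimal invariant subspace above `U` inside the orthogonal
  let above : Submodule (ZMod p) V → Prop := fun W =>
    (∀ v ∈ W, g v ∈ W) ∧ U < W ∧ W ≤ B.orthogonal U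
  obtain ⟨W, ⟨hWg, hUW, hWo⟩, hWmin⟩ := (Set.toFinite {W | above W}).exists_minimal
    ⟨B.orthogonal U, hog hUg, lt_of_le_of_ne hUo (Ne.symm hU), le_rfl⟩
  have hrad : ∀ y ∈ W, y ∈ B.orthogonal W → y ∈ U := by
    intro y hy hyo
    let R := W ⊓ B.orthogonal W
    have hUR : U ≤ R := le_inf hUW.le fun u hu w hw => by
      show B w u = 0
      rw [hskew, neg_eq_zero]
      exact hWo hw u hu
    rcases eq_or_lt_of_le hUR with e | hlt
    · rw [e]
      exact ⟨hy, hyo⟩
    · have hRW : W ≤ R := hWmin ⟨fun v hv => ⟨hWg v hv.1, hog hWg v hv.2⟩, hlt,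
        inf_le_left.trans hWo⟩ inf_le_left
      have hgood : good W := ⟨hWg, hRW.trans inf_le_right⟩
      exact absurd (hUmax hgood hUW.le) (not_le_of_gt hUW)
  obtain ⟨w₀, hw₀, hw₀U⟩ := SetLike.exists_of_lt hUW
  let I : Ideal (ZMod p)[X] :=
    { carrier := {q | ∀ w ∈ W, aeval g q w ∈ U}
      zero_mem' := fun w _ => by simp
      add_mem' := fun {a b} ha hb w hw => by
        rw [map_add, LinearMap.add_apply]
        exact add_mem (ha w hw) (hb w hw)
      smul_mem' := fun c a ha w hw => by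
        rw [smul_eq_mul, map_mul, Module.End.mul_apply]
        exact aeval_mem g hUg c (ha w hw) }
  have hsingle : ∀ (q : (ZMod p)[X]) (w : V), w ∈ W → w ∉ U → aeval g q w ∈ U → q ∈ I := by
    intro q w hw hwU hq
    let K := W ⊓ U.comap (aeval g q)
    have hK : ∀ v ∈ K, g v ∈ K := fun v hv => ⟨hWg v hv.1, by
      show aeval g q (g v) ∈ U
      have e : aeval g q (g v) = g (aeval g q v) := by
        have h1 : aeval g (q * X) v = aeval g (X * q) v := by rw [mul_comm]
        simpa [map_mul] using h1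
      rw [e]
      exact hUg _ hv.2⟩
    have hUK : U < K := lt_of_le_of_ne (le_inf hUW.le fun u hu => aeval_mem g hUg q hu)
      fun e => hwU (e ▸ ⟨hw, hq⟩)
    have hWK : W ≤ K := hWmin ⟨hK, hUK, inf_le_left.trans hWo⟩ inf_le_left
    exact fun v hv => (hWK hv).2
  have hIprime : I.IsPrime := by
    refine ⟨fun e => hw₀U ?_, fun {a b} hab => ?_⟩
    · have := (e ▸ Submodule.mem_top : (1 : (ZMod p)[X]) ∈ I) w₀ hw₀
      simpa using this
    · by_cases hb : aeval g b w₀ ∈ U
      · exact Or.inr (hsingle b w₀ hw₀ hw₀U hb)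
      · refine Or.inl (hsingle a _ (aeval_mem g hWg b hw₀) hb ?_)
        rw [← Module.End.mul_apply, ← map_mul]
        exact hab w₀ hw₀
  have hXI : (X ^ h - 1 : (ZMod p)[X]) ∈ I := fun w _ => by simp [hg]
  obtain ⟨f, hf⟩ := Submodule.IsPrincipal.principal I
  have hfI : ∀ q, q ∈ I ↔ f ∣ q := fun q => by
    rw [hf]
    exact Ideal.mem_span_singleton
  have hf0 : f ≠ 0 := fun e => by
    have := (hfI _).1 hXI
    rw [e, zero_dvd_iff] at this
    exact (X_pow_sub_C_ne_zero h0 (1 : ZMod p)) (by simpa using this)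
  have hfp : Irreducible f := by
    have h1 : (Ideal.span {f}).IsPrime := by
      rw [← Ideal.submodule_span_eq, ← hf]
      exact hIprime
    exact ((Ideal.span_singleton_prime hf0).1 h1).irreducible
  haveI : Fact (Irreducible f) := ⟨hfp⟩
  have hmk : ∀ q, AdjoinRoot.mk f q = 0 ↔ q ∈ I := fun q => AdjoinRoot.mk_eq_zero.trans (hfI q).symm
  have hadjI : aeval (AdjoinRoot.root f ^ (h - 1)) f = 0 := by
    have h1 : AdjoinRoot.mk f (f.comp (X ^ (h - 1))) = 0 := by
      rw [hmk]
      intro w hw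
      rw [aeval_comp, map_pow, aeval_X, ← hg']
      have hg'W : ∀ v ∈ W, g' v ∈ W := fun v hv => by
        have := aeval_mem g hWg (X ^ (h - 1)) hv
        simpa [hg'] using this
      refine hrad _ (aeval_mem g' hg'W f hw) fun w' hw' => ?_
      show B w' (aeval g' f w) = 0
      rw [hskew, hadj, neg_eq_zero, hskew, neg_eq_zero]
      exact hWo hw _ ((hfI f).2 dvd_rfl w' hw')
    rw [← AdjoinRoot.aeval_eq, aeval_comp, map_pow, aeval_X] at h1
    exact h1
  obtain ⟨i, hi⟩ := PrimRootAct.exists_pow_eq_of_root hadjI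
  have hrh : AdjoinRoot.root f ^ h = 1 := by
    have h1 := (hmk _).2 hXI
    rw [map_sub, map_pow, AdjoinRoot.mk_X, map_one, sub_eq_zero] at h1
    exact h1
  have hord : orderOf (AdjoinRoot.root f) = h := by
    refine (orderOf_eq_iff h0).2 ⟨hrh, fun m hm hm0 e => ?_⟩
    have h1 : (X ^ m - 1 : (ZMod p)[X]) ∈ I := (hmk _).1 (by
      rw [map_sub, map_pow, AdjoinRoot.mk_X, map_one, e, sub_self])
    have hk : ∀ k : ℕ, ((g ^ m) ^ k) w₀ - w₀ ∈ U := by
      intro k
      have h2 := I.mul_mem_left (∑ l ∈ Finset.range k, (X ^ m) ^ l) h1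
      rw [geom_sum_mul] at h2
      simpa using h2 w₀ hw₀
    set s := ∑ k ∈ Finset.range h, ((g ^ m) ^ k) w₀ with hs
    have hsfix : (g ^ m) s = s := by
      have h2 : (g ^ m) ^ h = 1 := by rw [← pow_mul, mul_comm, pow_mul, hg, one_pow]
      have h3 := Finset.sum_range_succ (fun k => ((g ^ m) ^ k) w₀) h
      have h4 := Finset.sum_range_succ' (fun k => ((g ^ m) ^ k) w₀) h
      rw [h2] at h3
      rw [hs, map_sum]
      rw [h3] at h4
      simp only [pow_zero] at h4
      have h5 : ∀ k, (g ^ m) (((g ^ m) ^ k) w₀) = ((g ^ m) ^ (k + 1)) w₀ := fun k => by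
        rw [pow_succ' (g ^ m) k, Module.End.mul_apply]
      simp only [h5]
      exact (add_right_cancel h4).symm
    have hs0 := fpf m hm0 hm s hsfix
    have h6 : (h : ZMod p) • w₀ ∈ U := by
      have h7 : s - (h : ZMod p) • w₀ = ∑ k ∈ Finset.range h, (((g ^ m) ^ k) w₀ - w₀) := by
        rw [Finset.sum_sub_distrib, Finset.sum_const, Finset.card_range, Nat.cast_smul_eq_nsmul]
      have h8 : s - (h : ZMod p) • w₀ ∈ U := h7 ▸ sum_mem fun k _ => hk k
      rw [hs0, zero_sub] at h8
      simpa using h8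
    refine hw₀U ?_
    have hne : (h : ZMod p) ≠ 0 := by
      rw [Ne, ZMod.natCast_eq_zero_iff]
      exact ((Fact.out : p.Prime).coprime_iff_not_dvd).1 hcop.symm
    have := U.smul_mem (h : ZMod p)⁻¹ h6
    rwa [smul_smul, inv_mul_cancel₀ hne, one_smul] at this
  refine ⟨i, hord ▸ orderOf_dvd_of_pow_eq_one ?_⟩
  rw [pow_succ, ← hi, ← pow_succ, Nat.sub_add_cancel h0, hrh]

/-- **Fixed-point-free cyclic isometries.** -/
theorem dvd_pow_pm [Finite V] (B : LinearMap.BilinForm (ZMod p) V) (halt : ∀ v, B v v = 0)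
    (hnd : B.Nondegenerate) (g : Module.End (ZMod p) V) {h : ℕ} (h0 : 0 < h) (hg : g ^ h = 1)
    (iso : ∀ v w, B (g v) (g w) = B v w) (fpf : ∀ i, 0 < i → i < h → ∀ v, (g ^ i) v = v → v = 0)
    (hcop : h.Coprime p) {n : ℕ} (hn : Nat.card V = p ^ (2 * n)) :
    h ∣ p ^ n + 1 ∨ h ∣ p ^ n - 1 := by
  rcases Nat.lt_or_ge h 3 with hlt | hge
  · interval_cases h
    · exact Or.inl (one_dvd _)
    · refine Or.inl ?_
      have : Odd (p ^ n) := Odd.pow (Nat.coprime_two_left.1 hcop)
      obtain ⟨k, hk⟩ := this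
      exact ⟨k + 1, by omega⟩
  rcases dichotomy B halt g h0 hg iso fpf hcop with ⟨j, hj⟩ | ⟨U, hUg, hU⟩
  · have h1 := dvd_card_sub_one g h0 hg fpf ⊤ fun _ _ => trivial
    rw [Nat.card_congr (Submodule.topEquiv (R := ZMod p) (M := V)).toEquiv, hn] at h1
    set x : ZMod h := (p : ZMod h) with hx
    have hx2n : x ^ (2 * n) = 1 := by
      have h2 := (ZMod.natCast_eq_zero_iff _ _).2 h1
      rwa [Nat.cast_sub (Nat.one_le_pow _ _ hp.out.pos), Nat.cast_pow, Nat.cast_one, sub_eq_zero]
        at h2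
    have hxj : x ^ j = -1 := by
      have h2 := (ZMod.natCast_eq_zero_iff _ _).2 hj
      rw [Nat.cast_add, Nat.cast_pow, Nat.cast_one] at h2
      exact eq_neg_of_add_eq_zero_left h2
    have hne : (1 : ZMod h) ≠ -1 := by
      haveI : Fact (2 < h) := ⟨hge⟩
      exact (ZMod.neg_one_ne_one (n := h)).symm
    have hd1 : orderOf x ∣ 2 * n := orderOf_dvd_of_pow_eq_one hx2n
    have hd2 : orderOf x ∣ 2 * j := orderOf_dvd_of_pow_eq_one (by
      rw [mul_comm, pow_mul, hxj, neg_one_sq])
    have key : x ^ n = 1 ∨ x ^ n = -1 := by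
      by_cases hdn : orderOf x ∣ n
      · exact Or.inl (orderOf_dvd_iff_pow_eq_one.1 hdn)
      right
      obtain ⟨e, he⟩ : 2 ∣ orderOf x := by
        by_contra h2
        exact hdn (((Nat.prime_two.coprime_iff_not_dvd).2 h2).symm.dvd_of_dvd_mul_left hd1)
      rw [he] at hd1 hd2 hdn
      obtain ⟨a, ha⟩ := (Nat.mul_dvd_mul_iff_left two_pos).1 hd2
      obtain ⟨b, hb⟩ := (Nat.mul_dvd_mul_iff_left two_pos).1 hd1
      have hy2 : (x ^ e) ^ 2 = 1 := by rw [← pow_mul, mul_comm, ← he, pow_orderOf_eq_one]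
      have hodd : ∀ c : ℕ, (x ^ e) ^ (2 * c + 1) = x ^ e := fun c => by
        rw [pow_succ, pow_mul, hy2, one_pow, one_mul]
      obtain ⟨c, hc⟩ : Odd a := by
        rw [← Nat.not_even_iff_odd]
        rintro ⟨c, hc⟩
        apply hne
        rw [← hxj, ha, hc, pow_mul, ← two_mul, pow_mul, hy2, one_pow]
      obtain ⟨c', hc'⟩ : Odd b := by
        rw [← Nat.not_even_iff_odd]
        rintro ⟨c', hc'⟩
        exact hdn ⟨c', by rw [hb, hc']; ring⟩
      have hye : x ^ e = -1 := by
        rw [← hodd c, ← hc, ← pow_mul, ← ha, hxj]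
      rw [hb, pow_mul, hc', hodd, hye]
    rcases key with k | k
    · refine Or.inr ((ZMod.natCast_eq_zero_iff _ _).1 ?_)
      rw [Nat.cast_sub (Nat.one_le_pow _ _ hp.out.pos), Nat.cast_pow, Nat.cast_one, k, sub_self]
    · refine Or.inl ((ZMod.natCast_eq_zero_iff _ _).1 ?_)
      rw [Nat.cast_add, Nat.cast_pow, Nat.cast_one, k, neg_add_cancel]
  · right
    have h1 := dvd_card_sub_one g h0 hg fpf U hUg
    have hrefl : B.IsRefl := LinearMap.IsAlt.isRefl halt
    have h2 := B.finrank_orthogonal hnd U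
    rw [hU] at h2
    have h3 : Module.finrank (ZMod p) V = 2 * n := by
      have := Module.natCard_eq_pow_finrank (K := ZMod p) (V := V)
      rw [Nat.card_zmod, hn] at this
      exact (Nat.pow_right_injective hp.out.two_le this).symm
    have h4 := Submodule.finrank_le U
    rw [h3] at h2 h4
    rw [Module.natCard_eq_pow_finrank (K := ZMod p), Nat.card_zmod,
      show Module.finrank (ZMod p) U = n by omega] at h1
    exact h1

end CfsgLib.SymplecticCyclic
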