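import Cfsg.Prelude.Def_CaseTheorems
import Cfsg.Agent.Solvable.PGroupBasic
import Cfsg.Agent.Solvable.CoprimeAct
import Cfsg.Agent.Frobenius.Fpf
import Mathlib.GroupTheory.Perm.Cycle.Type

/-!
An element of order nine cannot act faithfully on a 2-group whose abelian subgroups have rank at
most two.
-/

set_option autoImplicit false
set_option linter.unusedSectionVars false
set_option linter.style.haveILetI false

namespace CfsgLib.ThreeActTwo

open Subgroup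
open scoped commutatorElement

universe u

variable {X : Type u} [Group X] [Finite X]

/-- Normalisers normalise images of characteristic subgroups. -/
theorem norm_map_char {Q : Subgroup X} (R : Subgroup Q) [R.Characteristic] {g : X}
    (hg : g ∈ normalizer (Q : Set X)) : g ∈ normalizer (R.map Q.subtype : Set X) := by
  have key : ∀ g ∈ normalizer (Q : Set X), ∀ x ∈ R.map Q.subtype, g * x * g⁻¹ ∈ R.map Q.subtype := by
    rintro g hg _ ⟨x, hx, rfl⟩
    refine ⟨Q.normalizerMonoidHom ⟨g, hg⟩ x, ?_, rfl⟩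
    have h := (inferInstance : R.Characteristic).fixed (Q.normalizerMonoidHom ⟨g, hg⟩)
    rw [← h] at hx
    exact hx
  refine mem_normalizer_iff.2 fun x => ⟨key g hg x, fun h => ?_⟩
  have := key g⁻¹ (inv_mem hg) _ h
  simpa [mul_assoc] using this

/-- Permutations of the non-identity elements. -/
def toPerm (V : Type u) [Group V] : MulAut V →* Equiv.Perm {a : V // a ≠ 1} where
  toFun σ := σ.toEquiv.subtypeEquiv fun a => by simp
  map_one' := by ext; rfl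
  map_mul' _ _ := by ext; rfl

theorem toPerm_injective (V : Type u) [Group V] : Function.Injective (toPerm V) := by
  refine (injective_iff_map_eq_one _).2 fun σ hσ => MulEquiv.ext fun a => ?_
  by_cases h : a = 1
  · rw [h, map_one, map_one]
  · exact congrArg Subtype.val (DFunLike.congr_fun hσ ⟨a, h⟩)

theorem orderOf_dvd_three {V : Type u} [Group V] [Finite V] (h4 : Nat.card V ≤ 4) (σ : MulAut V)
    {n : ℕ} (hσ : orderOf σ ∣ 3 ^ n) : orderOf σ ∣ 3 := by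
  classical
  have h1 : orderOf σ ∣ (Nat.card {a : V // a ≠ 1}).factorial := by
    rw [← orderOf_injective _ (toPerm_injective V) σ, ← Nat.card_perm]
    exact orderOf_dvd_natCard _
  have hlt : Nat.card {a : V // a ≠ 1} < Nat.card V := Finite.card_subtype_lt (x := (1 : V)) (by simp)
  have h2 : orderOf σ ∣ 6 := h1.trans
    (show (Nat.card {a : V // a ≠ 1}).factorial ∣ (3).factorial from Nat.factorial_dvd_factorial (by omega))
  obtain ⟨i, -, hi⟩ := (Nat.dvd_prime_pow Nat.prime_three).1 hσ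
  rw [hi] at h2 ⊢
  rcases i with _ | _ | i
  · simp
  · simp
  · exfalso
    have h3 : 9 ∣ 6 := dvd_trans (show 9 ∣ 3 ^ (i + 2) from ⟨3 ^ i, by ring⟩) h2
    omega

/-- An element of order three fixing all involutions of an abelian 2-group fixes it. -/
theorem fix_of_fix_involutions (A : Subgroup X) (hA : IsPGroup 2 A)
    (hc : ∀ a ∈ A, ∀ b ∈ A, a * b = b * a) (e : X) (he : e ^ 3 = 1)
    (heA : ∀ a ∈ A, e * a * e⁻¹ ∈ A) (hfix : ∀ a ∈ A, a ^ 2 = 1 → e * a * e⁻¹ = a) :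
    ∀ a ∈ A, e * a * e⁻¹ = a := by
  have key : ∀ k : ℕ, ∀ a ∈ A, a ^ 2 ^ k = 1 → e * a * e⁻¹ = a := by
    intro k
    induction k with
    | zero => intro a _ h; simp at h; simp [h]
    | succ k ih =>
      intro a ha h
      have h2 : e * a ^ 2 * e⁻¹ = a ^ 2 :=
        ih _ (pow_mem ha 2) (by rw [← pow_mul, ← pow_succ', h])
      have hc1 : e * a * e⁻¹ * a⁻¹ ∈ A := mul_mem (heA a ha) (inv_mem ha)
      obtain ⟨c, hcdef⟩ : ∃ c, c = e * a * e⁻¹ * a⁻¹ := ⟨_, rfl⟩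
      have hcA : c ∈ A := hcdef ▸ hc1
      have hea : e * a * e⁻¹ = c * a := by rw [hcdef, inv_mul_cancel_right]
      have hc2 : c ^ 2 = 1 := by
        rw [hcdef, (show Commute (e * a * e⁻¹) a⁻¹ from hc _ (heA a ha) _ (inv_mem ha)).mul_pow,
          conj_pow, h2, inv_pow, mul_inv_cancel]
      have hce : e * c * e⁻¹ = c := hfix c hcA hc2
      have h3 : a = c ^ 3 * a := by
        calc a = e ^ 3 * a * (e ^ 3)⁻¹ := by rw [he]; simp
          _ = e * (e * (e * a * e⁻¹) * e⁻¹) * e⁻¹ := by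
            simp only [pow_succ, pow_zero, one_mul, mul_inv_rev, mul_assoc]
          _ = e * ((e * c * e⁻¹) * (e * a * e⁻¹)) * e⁻¹ := by
            conv_lhs => rw [hea]
            group
          _ = e * (c * (c * a)) * e⁻¹ := by rw [hce, hea]
          _ = (e * c * e⁻¹) * ((e * c * e⁻¹) * (e * a * e⁻¹)) := by group
          _ = c ^ 3 * a := by rw [hce, hea]; simp [pow_succ, mul_assoc]
      have h4 : c ^ 3 = 1 := mul_eq_right.1 h3.symm
      have h5 : c = 1 := by rw [pow_succ, hc2, one_mul] at h4; exact h4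
      rw [hea, h5, one_mul]
  intro a ha
  obtain ⟨k, hk⟩ := hA ⟨a, ha⟩
  exact key k a ha (congrArg Subtype.val hk)

variable {P : Subgroup X}

theorem fix_abelian (hP : IsPGroup 2 P)
    (hrank : ∀ V : Subgroup X, V ≤ P → IsMulCommutative V → Cfsg.PRankLE 2 2 V)
    {d : X} {n : ℕ} (hn : 2 ≤ n) (hd : orderOf d = 3 ^ n)
    (A : Subgroup X) (hAP : A ≤ P) (hc : ∀ a ∈ A, ∀ b ∈ A, a * b = b * a)
    (hdA : d ∈ normalizer (A : Set X)) :
    ∀ a ∈ A, d ^ 3 ^ (n - 1) * a * (d ^ 3 ^ (n - 1))⁻¹ = a := by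
  set e := d ^ 3 ^ (n - 1)
  have he3 : e ^ 3 = 1 := by
    rw [← pow_mul, ← pow_succ, show n - 1 + 1 = n by omega, ← hd, pow_orderOf_eq_one]
  refine fix_of_fix_involutions A (hP.to_le hAP) hc e he3
    (fun a ha => (mem_normalizer_iff.1 (pow_mem hdA _) a).1 ha) fun a ha ha2 => ?_
  let V : Subgroup X :=
    { carrier := {x | x ∈ A ∧ x ^ 2 = 1}
      mul_mem' := fun {x y} hx hy => ⟨mul_mem hx.1 hy.1, by
        rw [(show Commute x y from hc x hx.1 y hy.1).mul_pow, hx.2, hy.2, one_mul]⟩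
      one_mem' := ⟨one_mem A, one_pow 2⟩
      inv_mem' := fun {x} hx => ⟨inv_mem hx.1, by rw [inv_pow, hx.2, inv_one]⟩ }
  haveI hVc : IsMulCommutative V := ⟨⟨fun x y => Subtype.ext (hc x x.2.1 y y.2.1)⟩⟩
  have hV4 : Nat.card V ≤ 4 := by
    have h := hrank V (fun x hx => hAP hx.1) hVc ⊤
      ⟨⟨fun x y => Subtype.ext (hVc.is_comm.comm _ _)⟩⟩ (fun x _ => Subtype.ext x.2.2)
    rw [card_top] at h
    exact h
  have hdV : d ∈ normalizer (V : Set X) := by
    refine mem_normalizer_iff.2 fun x => ?_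
    show (x ∈ A ∧ x ^ 2 = 1) ↔ (d * x * d⁻¹ ∈ A ∧ (d * x * d⁻¹) ^ 2 = 1)
    rw [conj_pow, mul_inv_eq_one, mul_eq_left, ← mem_normalizer_iff.1 hdA x]
  set σ := V.normalizerMonoidHom ⟨d, hdV⟩ with hσ
  have h3 : orderOf σ ∣ 3 := orderOf_dvd_three hV4 σ (n := n) (by
    rw [← hd, ← Subgroup.orderOf_mk d hdV]
    exact orderOf_map_dvd _ _)
  have h4 : σ ^ 3 ^ (n - 1) = 1 :=
    orderOf_dvd_iff_pow_eq_one.1 (h3.trans (dvd_pow_self 3 (by omega)))
  rw [hσ, ← map_pow] at h4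
  exact congrArg Subtype.val (DFunLike.congr_fun h4 (⟨a, ha, ha2⟩ : V))

/-- Conjugation on the Frattini quotient. -/
def autFrat (Q : Subgroup X) : normalizer (Q : Set X) →* MulAut (Q ⧸ frattini Q) where
  toFun g := QuotientGroup.congr (frattini Q) (frattini Q) (Q.normalizerMonoidHom g)
    (Subgroup.characteristic_iff_map_eq.1 inferInstance _)
  map_one' := MulEquiv.ext fun w => by
    obtain ⟨q, rfl⟩ := QuotientGroup.mk_surjective w
    show (QuotientGroup.mk (Q.normalizerMonoidHom 1 q) : Q ⧸ frattini Q) = _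
    rw [map_one]
    rfl
  map_mul' g h := MulEquiv.ext fun w => by
    obtain ⟨q, rfl⟩ := QuotientGroup.mk_surjective w
    show (QuotientGroup.mk (Q.normalizerMonoidHom (g * h) q) : Q ⧸ frattini Q) = _
    rw [map_mul]
    rfl

theorem autFrat_mk (Q : Subgroup X) (g : normalizer (Q : Set X)) (q : Q) :
    autFrat Q g (QuotientGroup.mk q) = QuotientGroup.mk (Q.normalizerMonoidHom g q) := rfl

theorem card_sup_zpowers_le {Y : Subgroup X} {y : X} (hy : y ^ 2 ∈ Y)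
    (hn : y ∈ normalizer (Y : Set X)) : Nat.card ↥(Y ⊔ zpowers y) ≤ 2 * Nat.card Y := by
  classical
  have hconj : ∀ a ∈ Y, y * a * y⁻¹ ∈ Y := fun a ha => (mem_normalizer_iff.1 hn a).1 ha
  have hconj' : ∀ a ∈ Y, y⁻¹ * a * y ∈ Y := fun a ha => by
    simpa using (mem_normalizer_iff.1 (inv_mem hn) a).1 ha
  let S : Subgroup X :=
    { carrier := {x | x ∈ Y ∨ x * y⁻¹ ∈ Y}
      one_mem' := Or.inl (one_mem Y)
      mul_mem' := by
        rintro a b (ha | ha) (hb | hb)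
        · exact Or.inl (mul_mem ha hb)
        · exact Or.inr (by rw [mul_assoc]; exact mul_mem ha hb)
        · refine Or.inr ?_
          rw [show a * b * y⁻¹ = a * y⁻¹ * (y * b * y⁻¹) by group]
          exact mul_mem ha (hconj b hb)
        · refine Or.inl ?_
          rw [show a * b = a * y⁻¹ * (y * (b * y⁻¹) * y⁻¹) * y ^ 2 by group]
          exact mul_mem (mul_mem ha (hconj _ hb)) hy
      inv_mem' := by
        rintro a (ha | ha)
        · exact Or.inl (inv_mem ha)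
        · refine Or.inr ?_
          rw [show a⁻¹ * y⁻¹ = (y⁻¹ * (a * y⁻¹)⁻¹ * y) * (y ^ 2)⁻¹ by group]
          exact mul_mem (hconj' _ (inv_mem ha)) (inv_mem hy) }
  have hle : Y ⊔ zpowers y ≤ S :=
    sup_le (fun x hx => Or.inl hx) (zpowers_le.2 (Or.inr (by rw [mul_inv_cancel]; exact one_mem Y)))
  have hinj : Nat.card S ≤ Nat.card (Bool × Y) := by
    refine Nat.card_le_card_of_injective
      (fun x => if h : (x : X) ∈ Y then (true, ⟨x, h⟩) else (false, ⟨(x : X) * y⁻¹, x.2.resolve_left h⟩))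
      fun a b hab => ?_
    dsimp only at hab
    split_ifs at hab with h1 h2 h2
    · exact Subtype.ext (congrArg (fun t : Bool × Y => (t.2 : X)) hab)
    · exact absurd (congrArg Prod.fst hab) (by simp)
    · exact absurd (congrArg Prod.fst hab) (by simp)
    · exact Subtype.ext (mul_right_cancel (congrArg (fun t : Bool × Y => (t.2 : X)) hab))
  rw [Nat.card_prod] at hinj
  simp only [Nat.card_eq_fintype_card (α := Bool), Fintype.card_bool] at hinj
  exact (card_le_of_le hle).trans hinj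

theorem two_mul_card_le {Y Z : Subgroup X} (h : Y < Z) : 2 * Nat.card Y ≤ Nat.card Z := by
  have h1 := relIndex_mul_relIndex ⊥ Y Z bot_le h.le
  rw [relIndex_bot_left, relIndex_bot_left] at h1
  have h2 : Y.relIndex Z ≠ 1 := fun e => h.not_ge (relIndex_eq_one.1 e)
  have h3 : Y.relIndex Z ≠ 0 := fun e => by
    rw [e, mul_zero] at h1
    exact Nat.card_pos.ne' h1.symm
  rw [← h1, mul_comm 2]
  exact Nat.mul_le_mul_left _ (by omega)

/-- Two commuting elements independent modulo `Y` inside a large centraliser. -/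
theorem exists_commuting_pair {Q Φ Y : Subgroup X} {p q : X} (hΦY : Φ ≤ Y) (hYQ : Y ≤ Q)
    (hsq : ∀ a ∈ Q, a ^ 2 ∈ Φ) (hQY : ∀ R : Subgroup X, Y ≤ R → R ≤ Q → Q ≤ normalizer (R : Set X))
    (hbil : ∀ a ∈ Q, ∀ b ∈ Q, ∀ c ∈ Q,
      ⁅a, b * c⁆ = ⁅a, b⁆ * ⁅a, c⁆ ∧ ⁅a * b, c⁆ = ⁅a, c⁆ * ⁅b, c⁆ ∧ ⁅a, b⁆ = ⁅b, a⁆)
    (hV : ∀ a ∈ Q, ∀ b ∈ Q, ⁅a, b⁆ = 1 ∨ ⁅a, b⁆ = p ∨ ⁅a, b⁆ = q ∨ ⁅a, b⁆ = p * q)
    (hp : p * p = 1) (hq : q * q = 1) (hpq : p * q = q * p)
    (C : Subgroup X) (hCQ : C ≤ Q) (hYC : Y ≤ C) (hcard : 8 * Nat.card Y ≤ Nat.card C) :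
    ∃ u ∈ C, ∃ v ∈ C, u ∉ Y ∧ v ∉ Y ⊔ zpowers u ∧ u * v = v * u := by
  classical
  have hpos : 0 < Nat.card Y := Nat.card_pos
  have hgrow : ∀ R : Subgroup X, Y ≤ R → R ≤ C → Nat.card R < Nat.card C → ∃ y ∈ C, y ∉ R ∧
      R ⊔ zpowers y ≤ C ∧ Nat.card ↥(R ⊔ zpowers y) ≤ 2 * Nat.card R := by
    intro R hYR hRC hlt
    obtain ⟨y, hy, hyR⟩ := SetLike.not_le_iff_exists.1 fun h : C ≤ R =>
      absurd (card_le_of_le h) (by omega)
    exact ⟨y, hy, hyR, sup_le hRC (zpowers_le.2 hy), card_sup_zpowers_le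
      (hΦY.trans hYR (hsq y (hCQ hy))) (hQY R hYR (hRC.trans hCQ) (hCQ hy))⟩
  obtain ⟨a, ha, haY, h1, h1c⟩ := hgrow Y le_rfl hYC (by omega)
  obtain ⟨b, hb, hbY, h2, h2c⟩ := hgrow _ le_sup_left h1 (by omega)
  obtain ⟨c, hc, hcY, -, -⟩ := hgrow _ (le_sup_left.trans le_sup_left) h2 (by omega)
  set Y1 := Y ⊔ zpowers a
  set Y2 := Y1 ⊔ zpowers b
  have haY1 : a ∈ Y1 := mem_sup_right (mem_zpowers a)
  have hbY2 : b ∈ Y2 := mem_sup_right (mem_zpowers b)
  have haY2 : a ∈ Y2 := mem_sup_left haY1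
  have hbY' : b ∉ Y := fun h => hbY (mem_sup_left h)
  have hYY2 : Y ≤ Y2 := le_sup_left.trans le_sup_left
  have comm : ∀ {s t : X}, ⁅s, t⁆ = 1 → s * t = t * s := fun h =>
    commutatorElement_eq_one_iff_mul_comm.1 h
  obtain ⟨B1, -, -⟩ := hbil _ (hCQ ha) _ (hCQ hb) _ (hCQ hc)
  -- the seven candidate pairs
  by_cases hab : ⁅a, b⁆ = 1
  · exact ⟨a, ha, b, hb, haY, hbY, comm hab⟩
  by_cases hac : ⁅a, c⁆ = 1
  · exact ⟨a, ha, c, hc, haY, fun h => hcY (mem_sup_left h), comm hac⟩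
  by_cases hbc : ⁅b, c⁆ = 1
  · exact ⟨b, hb, c, hc, hbY', fun h => hcY (sup_le hYY2 (zpowers_le.2 hbY2) h), comm hbc⟩
  have e1 : ⁅a, b * c⁆ = ⁅a, b⁆ * ⁅a, c⁆ := B1
  have e2 : ⁅b, a * c⁆ = ⁅a, b⁆ * ⁅b, c⁆ := by
    rw [(hbil _ (hCQ hb) _ (hCQ ha) _ (hCQ hc)).1, (hbil _ (hCQ hb) _ (hCQ ha) _ (hCQ hc)).2.2]
  have e3 : ⁅a * b, c⁆ = ⁅a, c⁆ * ⁅b, c⁆ := (hbil _ (hCQ ha) _ (hCQ hb) _ (hCQ hc)).2.1
  have e4 : ⁅a * b, a * c⁆ = ⁅a, c⁆ * (⁅a, b⁆ * ⁅b, c⁆) := by
    rw [(hbil _ (hCQ ha) _ (hCQ hb) _ (mul_mem (hCQ ha) (hCQ hc))).2.1, e2,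
      (hbil _ (hCQ ha) _ (hCQ ha) _ (hCQ hc)).1,
      commutatorElement_self a, one_mul]
  have r1 : ∀ {v : X}, ⁅a, b⁆ = v → ⁅a, c⁆ = v → v * v = 1 →
      ∃ u ∈ C, ∃ v ∈ C, u ∉ Y ∧ v ∉ Y ⊔ zpowers u ∧ u * v = v * u := fun {v} k1 k2 hv =>
    ⟨a, ha, b * c, mul_mem hb hc, haY, fun h => hcY ((mul_mem_cancel_left hbY2).1 (mem_sup_left h)),
      comm (by rw [e1, k1, k2, hv])⟩
  have r2 : ∀ {v : X}, ⁅a, b⁆ = v → ⁅b, c⁆ = v → v * v = 1 →
      ∃ u ∈ C, ∃ v ∈ C, u ∉ Y ∧ v ∉ Y ⊔ zpowers u ∧ u * v = v * u := fun {v} k1 k2 hv =>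
    ⟨b, hb, a * c, mul_mem ha hc, hbY',
      fun h => hcY ((mul_mem_cancel_left haY2).1 (sup_le hYY2 (zpowers_le.2 hbY2) h)),
      comm (by rw [e2, k1, k2, hv])⟩
  have habY : a * b ∉ Y := fun h => hbY ((mul_mem_cancel_left haY1).1 (mem_sup_left h))
  have habY2 : Y ⊔ zpowers (a * b) ≤ Y2 := sup_le hYY2 (zpowers_le.2 (mul_mem haY2 hbY2))
  have r3 : ∀ {v : X}, ⁅a, c⁆ = v → ⁅b, c⁆ = v → v * v = 1 →
      ∃ u ∈ C, ∃ v ∈ C, u ∉ Y ∧ v ∉ Y ⊔ zpowers u ∧ u * v = v * u := fun {v} k1 k2 hv =>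
    ⟨a * b, mul_mem ha hb, c, hc, habY, fun h => hcY (habY2 h), comm (by rw [e3, k1, k2, hv])⟩
  have r4 : ⁅a, c⁆ * (⁅a, b⁆ * ⁅b, c⁆) = 1 →
      ∃ u ∈ C, ∃ v ∈ C, u ∉ Y ∧ v ∉ Y ⊔ zpowers u ∧ u * v = v * u := fun k =>
    ⟨a * b, mul_mem ha hb, a * c, mul_mem ha hc, habY,
      fun h => hcY ((mul_mem_cancel_left haY2).1 (habY2 h)), comm (e4.trans k)⟩
  have hpqpq : p * q * (p * q) = 1 := by
    rw [mul_assoc, ← mul_assoc q, ← hpq, mul_assoc p q, hq, mul_one, hp]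
  have hqp : q * p = p * q := hpq.symm
  have q1 : p * (q * (p * q)) = 1 := by rw [← mul_assoc p q, hpqpq]
  have q2 : p * ((p * q) * q) = 1 := by rw [mul_assoc p q q, hq, mul_one, hp]
  have q3 : q * (p * (p * q)) = 1 := by rw [← mul_assoc p p, hp, one_mul, hq]
  have q4 : q * ((p * q) * p) = 1 := by rw [← mul_assoc, ← mul_assoc, hqp, mul_assoc (p * q), hqp, hpqpq]
  have q5 : (p * q) * (p * q) = 1 := hpqpq
  have q6 : (p * q) * (q * p) = 1 := by rw [hqp, hpqpq]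
  rcases (hV a (hCQ ha) b (hCQ hb)).resolve_left hab with k1 | k1 | k1 <;>
  rcases (hV a (hCQ ha) c (hCQ hc)).resolve_left hac with k2 | k2 | k2 <;>
  rcases (hV b (hCQ hb) c (hCQ hc)).resolve_left hbc with k3 | k3 | k3 <;>
    first
      | exact r1 k1 k2 hp
      | exact r1 k1 k2 hq
      | exact r1 k1 k2 hpqpq
      | exact r2 k1 k3 hp
      | exact r2 k1 k3 hq
      | exact r2 k1 k3 hpqpq
      | exact r3 k2 k3 hp
      | exact r3 k2 k3 hq
      | exact r3 k2 k3 hpqpq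
      | exact r4 (by rw [k1, k2, k3]; exact q1)
      | exact r4 (by rw [k1, k2, k3]; exact q2)
      | exact r4 (by rw [k1, k2, k3]; exact q3)
      | exact r4 (by rw [k1, k2, k3]; exact q4)
      | exact r4 (by rw [k1, k2, k3]; exact q5)
      | exact r4 (by rw [k1, k2, k3]; exact q6)

theorem exists_pair_gen {G : Type u} [Group G] [Finite G] (V : Subgroup G)
    (h4 : Nat.card V ≤ 4) (h2 : ∀ z ∈ V, z * z = 1) :
    ∃ p ∈ V, ∃ q ∈ V, ∀ z ∈ V, z = 1 ∨ z = p ∨ z = q ∨ z = p * q := by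
  classical
  by_cases h1 : ∀ z ∈ V, z = 1
  · exact ⟨1, one_mem V, 1, one_mem V, fun z hz => Or.inl (h1 z hz)⟩
  push Not at h1
  obtain ⟨p, hp, hp1⟩ := h1
  by_cases h3 : ∀ z ∈ V, z = 1 ∨ z = p
  · exact ⟨p, hp, 1, one_mem V, fun z hz => (h3 z hz).imp_right Or.inl⟩
  push Not at h3
  obtain ⟨q, hq, hq1, hqp⟩ := h3
  refine ⟨p, hp, q, hq, fun z hz => ?_⟩
  by_contra hz'
  simp only [not_or] at hz'
  obtain ⟨hz1, hzp, hzq, hzpq⟩ := hz'
  have hpq1 : p * q ≠ 1 := fun h => hqp (mul_left_cancel (h.trans (h2 p hp).symm))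
  have hcard : Finset.card ({1, p, q, p * q, z} : Finset G) = 5 := by
    have e1 : p * q ≠ p := fun h => hq1 (mul_eq_left.1 h)
    have e2 : p * q ≠ q := fun h => hp1 (mul_eq_right.1 h)
    simp [Ne.symm hp1, Ne.symm hq1, Ne.symm hz1, Ne.symm hpq1, Ne.symm hqp, Ne.symm e1, Ne.symm e2,
      Ne.symm hzp, Ne.symm hzq, Ne.symm hzpq]
  haveI := Fintype.ofFinite G
  have hsub : ({1, p, q, p * q, z} : Finset G) ⊆ (V : Set G).toFinset := by
    intro w hw
    simp only [Finset.mem_insert, Finset.mem_singleton] at hw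
    rw [Set.mem_toFinset]
    rcases hw with rfl | rfl | rfl | rfl | rfl
    · exact one_mem V
    · exact hp
    · exact hq
    · exact mul_mem hp hq
    · exact hz
  have h5 := Finset.card_le_card hsub
  rw [hcard, Set.toFinset_card, ← Nat.card_eq_fintype_card] at h5
  exact absurd (h5.trans h4) (by omega)

theorem two_pow_mod_nine {j : ℕ} (hj : j ≠ 0) (h : 2 ^ j % 9 = 1) : 6 ≤ j := by
  by_contra hlt
  have hj6 : j < 6 := by omega
  interval_cases j <;> simp_all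

theorem orderOf_eq_three (d : X) (n : ℕ) (hn : 1 ≤ n) (hd : orderOf d = 3 ^ n) (P : Subgroup X)
    (hP : IsPGroup 2 P) (hdP : d ∈ normalizer (P : Set X))
    (hfaith : zpowers d ⊓ centralizer (P : Set X) = ⊥)
    (hrank : ∀ V : Subgroup X, V ≤ P → IsMulCommutative V → Cfsg.PRankLE 2 2 V) :
    orderOf d = 3 := by
  classical
  rcases eq_or_lt_of_le hn with rfl | hn2
  · rw [hd, pow_one]
  exfalso
  have hn2 : 2 ≤ n := hn2
  set e := d ^ 3 ^ (n - 1) with hedef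
  set d1 := d ^ 3 ^ (n - 2) with hd1def
  have hed1 : d1 ^ 3 = e := by
    rw [hd1def, hedef, ← pow_mul, ← pow_succ, show n - 2 + 1 = n - 1 by omega]
  have hoe : orderOf e = 3 := by
    rw [hedef, orderOf_pow_of_dvd (by positivity) (hd ▸ pow_dvd_pow 3 (by omega)), hd,
      Nat.pow_div (by omega) (by norm_num), show n - (n - 1) = 1 by omega, pow_one]
  have hod1 : orderOf d1 = 9 := by
    rw [hd1def, orderOf_pow_of_dvd (by positivity) (hd ▸ pow_dvd_pow 3 (by omega)), hd,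
      Nat.pow_div (by omega) (by norm_num), show n - (n - 2) = 2 by omega]
  -- a minimal subgroup moved by `e`
  have hPmem : P ≤ P ∧ d ∈ normalizer (P : Set X) ∧ ∃ q ∈ P, e * q * e⁻¹ ≠ q := by
    refine ⟨le_rfl, hdP, ?_⟩
    by_contra hall
    push Not at hall
    have h1 : e ∈ zpowers d ⊓ centralizer (P : Set X) :=
      ⟨pow_mem (mem_zpowers d) _, mem_centralizer_iff.2 fun q hq => (mul_inv_eq_iff_eq_mul.1 (hall q hq)).symm⟩
    rw [hfaith, mem_bot, ← orderOf_eq_one_iff, hoe] at h1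
    omega
  obtain ⟨Q, -, hQmin⟩ := Finite.exists_le_minimal
    (p := fun Q : Subgroup X => Q ≤ P ∧ d ∈ normalizer (Q : Set X) ∧ ∃ q ∈ Q, e * q * e⁻¹ ≠ q) hPmem
  obtain ⟨hQP, hdQ, q0, hq0, hq0e⟩ := hQmin.1
  have hfixR : ∀ R : Subgroup X, R < Q → d ∈ normalizer (R : Set X) → ∀ r ∈ R, e * r * e⁻¹ = r := by
    intro R hR hdR r hr
    by_contra h
    exact hR.not_ge (hQmin.2 ⟨hR.le.trans hQP, hdR, r, hr, h⟩ hR.le)
  have hQp : IsPGroup 2 Q := hP.to_le hQP
  set E := zpowers e with hE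
  have hEQ : E ≤ normalizer (Q : Set X) := zpowers_le.2 (pow_mem hdQ _)
  have hcop : (Nat.card E).Coprime (Nat.card Q) := by
    obtain ⟨k, hk⟩ := IsPGroup.iff_card.1 hQp
    rw [hE, Nat.card_zpowers, hoe, hk]
    exact Nat.Coprime.pow_right _ (by norm_num)
  have hEsol : Group.IsSolvable E ∨ Group.IsSolvable Q := Or.inr (by
    haveI : Group.IsNilpotent Q := hQp.isNilpotent
    exact IsNilpotent.to_isSolvable)
  -- `[Q, E] = Q`
  have hcomm : ⁅Q, E⁆ = Q := by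
    refine (le_normalizer_iff_commutator_le_left.1 hEQ).antisymm ?_
    by_contra hne
    have hlt : ⁅Q, E⁆ < Q := lt_of_le_not_ge (le_normalizer_iff_commutator_le_left.1 hEQ) hne
    have hdR : d ∈ normalizer ((⁅Q, E⁆ : Subgroup X) : Set X) := by
      rw [mem_normalizer_iff_map_conj_eq, map_commutator, mem_normalizer_iff_map_conj_eq.1 hdQ]
      congr 1
      rw [hE, MonoidHom.map_zpowers]
      congr 1
      show d * e * d⁻¹ = e
      rw [hedef, ← pow_succ', pow_succ, mul_inv_cancel_right]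
    have h1 : ⁅⁅Q, E⁆, E⁆ = ⊥ := by
      rw [commutator_eq_bot_iff_le_centralizer]
      intro r hr
      refine mem_centralizer_iff.2 fun a ha => ?_
      obtain ⟨i, rfl⟩ := ha
      have h := hfixR _ hlt hdR r hr
      exact ((show Commute e r from mul_inv_eq_iff_eq_mul.1 h).zpow_left i).eq
    rw [CfsgLib.CoprimeAct.commutator_commutator hEQ hcop hEsol, commutator_eq_bot_iff_le_centralizer] at h1
    refine hq0e ?_
    rw [mem_centralizer_iff.1 (h1 hq0) e (mem_zpowers e), mul_inv_cancel_right]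
  -- the Frattini subgroup
  set Φ := (frattini Q).map Q.subtype with hΦ
  have hΦQ : Φ ≤ Q := map_subtype_le _
  have hdΦ : d ∈ normalizer (Φ : Set X) := norm_map_char _ hdQ
  have hQne : Nontrivial Q := ⟨⟨q0, hq0⟩, 1, fun h => hq0e (by
    rw [show q0 = 1 from congrArg Subtype.val h]; simp)⟩
  have hΦlt : Φ < Q := by
    refine lt_of_le_not_ge hΦQ fun hle => ?_
    obtain h | ⟨M, hM, -⟩ := eq_top_or_exists_le_coatom (⊥ : Subgroup Q)
    · exact absurd h bot_ne_top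
    · have h2 : frattini Q ≤ M := frattini_le_coatom hM
      refine hM.1 (eq_top_iff.2 fun x _ => h2 ?_)
      obtain ⟨y, hy, hxy⟩ := hle x.2
      exact Subtype.ext hxy ▸ hy
  have hΦe : ∀ r ∈ Φ, e * r * e⁻¹ = r := hfixR Φ hΦlt hdΦ
  have hΦE : ⁅Φ, E⁆ = ⊥ := by
    rw [commutator_eq_bot_iff_le_centralizer]
    intro r hr
    refine mem_centralizer_iff.2 fun a ha => ?_
    obtain ⟨i, rfl⟩ := ha
    exact ((show Commute e r from mul_inv_eq_iff_eq_mul.1 (hΦe r hr)).zpow_left i).eq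
  have hQΦ : ⁅Φ, Q⁆ ≤ Φ := by
    rw [commutator_le]
    intro r hr q hq
    have hn : q ∈ normalizer (Φ : Set X) := norm_map_char _ (le_normalizer hq)
    rw [commutatorElement_def, mul_assoc r q, mul_assoc r]
    exact mul_mem hr ((mem_normalizer_iff.1 hn r⁻¹).1 (inv_mem hr))
  have hcen : ∀ r ∈ Φ, ∀ q ∈ Q, r * q = q * r := by
    have h1 : ⁅⁅Q, E⁆, Φ⁆ = ⊥ := by
      refine commutator_commutator_eq_bot_of_rotate ?_ ?_
      · rw [commutator_comm E Φ, hΦE, commutator_bot_left]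
      · exact le_bot_iff.1 ((commutator_mono hQΦ le_rfl).trans hΦE.le)
    rw [hcomm, commutator_eq_bot_iff_le_centralizer] at h1
    exact fun r hr q hq => mem_centralizer_iff.1 (h1 hq) r hr
  obtain ⟨hfc, hfp⟩ := CfsgLib.PGroupBasic.commutator_pow_le_frattini (p := 2) hQp
  have hsq : ∀ a ∈ Q, a ^ 2 ∈ Φ := fun a ha => ⟨_, hfp ⟨a, ha⟩, rfl⟩
  have hcΦ : ∀ a ∈ Q, ∀ b ∈ Q, ⁅a, b⁆ ∈ Φ := fun a ha b hb =>
    ⟨⁅(⟨a, ha⟩ : Q), ⟨b, hb⟩⁆, hfc (commutator_mem_commutator (mem_top _) (mem_top _)), rfl⟩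
  have hR1 : ∀ a ∈ Q, ∀ b ∈ Q, ∀ c ∈ Q, ⁅a, b * c⁆ = ⁅a, b⁆ * ⁅a, c⁆ := by
    intro a ha b hb c hc
    rw [show ⁅a, b * c⁆ = ⁅a, b⁆ * (b * ⁅a, c⁆ * b⁻¹) by
      simp only [commutatorElement_def]; group, ← hcen _ (hcΦ a ha c hc) b hb, mul_inv_cancel_right]
  have hR2 : ∀ a ∈ Q, ∀ b ∈ Q, ∀ c ∈ Q, ⁅a * b, c⁆ = ⁅a, c⁆ * ⁅b, c⁆ := by
    intro a ha b hb c hc
    rw [show ⁅a * b, c⁆ = (a * ⁅b, c⁆ * a⁻¹) * ⁅a, c⁆ by simp only [commutatorElement_def]; group,
      ← hcen _ (hcΦ b hb c hc) a ha, mul_inv_cancel_right]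
    exact hcen _ (hcΦ b hb c hc) _ (hΦQ (hcΦ a ha c hc))
  have hc2 : ∀ a ∈ Q, ∀ b ∈ Q, ⁅a, b⁆ * ⁅a, b⁆ = 1 := by
    intro a ha b hb
    rw [← hR2 a ha a ha b hb, commutatorElement_eq_one_iff_mul_comm, ← pow_two]
    exact hcen _ (hsq a ha) b hb
  have hbil : ∀ a ∈ Q, ∀ b ∈ Q, ∀ c ∈ Q,
      ⁅a, b * c⁆ = ⁅a, b⁆ * ⁅a, c⁆ ∧ ⁅a * b, c⁆ = ⁅a, c⁆ * ⁅b, c⁆ ∧ ⁅a, b⁆ = ⁅b, a⁆ :=
    fun a ha b hb c hc => ⟨hR1 a ha b hb c hc, hR2 a ha b hb c hc, by
      rw [← commutatorElement_inv a b]; exact (inv_eq_of_mul_eq_one_right (hc2 a ha b hb)).symm⟩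
  have hΦcomm : ∀ a ∈ Φ, ∀ b ∈ Φ, a * b = b * a := fun a ha b hb => hcen a ha b (hΦQ hb)
  let V : Subgroup X :=
    { carrier := {x | x ∈ Φ ∧ x * x = 1}
      mul_mem' := fun {x y} hx hy => ⟨mul_mem hx.1 hy.1, by
        rw [mul_assoc, ← mul_assoc y, hΦcomm y hy.1 x hx.1, mul_assoc x y, hy.2, mul_one, hx.2]⟩
      one_mem' := ⟨one_mem Φ, one_mul 1⟩
      inv_mem' := fun {x} hx => ⟨inv_mem hx.1, by rw [← mul_inv_rev, hx.2, inv_one]⟩ }
  haveI hVc : IsMulCommutative V := ⟨⟨fun x y => Subtype.ext (hΦcomm x x.2.1 y y.2.1)⟩⟩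
  have hV4 : Nat.card V ≤ 4 := by
    have h := hrank V (fun x hx => hQP (hΦQ hx.1)) hVc ⊤
      ⟨⟨fun x y => Subtype.ext (hVc.is_comm.comm _ _)⟩⟩
      (fun x _ => Subtype.ext ((pow_two (x : X)).trans x.2.2))
    rw [card_top] at h
    exact h
  obtain ⟨p, hp, q, hq, hpq⟩ := exists_pair_gen V hV4 fun z hz => hz.2
  -- the fixed-point-free action of an element of order nine on `Q / Φ`
  letI : CommGroup (Q ⧸ frattini Q) := { (inferInstance : Group (Q ⧸ frattini Q)) with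
    mul_comm := fun a b => (Normal.quotient_commutative_iff_commutator_le.2 hfc).is_comm.comm a b }
  let eN : normalizer (Q : Set X) := ⟨e, pow_mem hdQ _⟩
  let ψ : Q ⧸ frattini Q →* Q ⧸ frattini Q :=
    MonoidHom.mk' (fun w => autFrat Q eN w / w) fun a b => by
      simp only [map_mul, mul_div_mul_comm]
  have hψtop : ψ.range = ⊤ := by
    have hstab : ∀ (i : ℕ) (w : Q ⧸ frattini Q), autFrat Q (eN ^ i) w / w ∈ ψ.range := by
      intro i
      induction i with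
      | zero => intro w; rw [pow_zero, map_one]; simp
      | succ i ih =>
        intro w
        rw [pow_succ, map_mul, MulAut.mul_apply,
          ← div_mul_div_cancel _ (autFrat Q eN w) w]
        exact mul_mem (ih _) ⟨w, rfl⟩
    have hle : ⁅Q, E⁆ ≤ ((ψ.range).comap (QuotientGroup.mk' (frattini Q))).map Q.subtype := by
      rw [commutator_le]
      intro y hy a ha
      obtain ⟨i, rfl⟩ := (isOfFinOrder_of_finite e).mem_powers_iff_mem_zpowers.2 ha
      have h1 : QuotientGroup.mk' (frattini Q) ((⟨y, hy⟩ : Q) *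
          (Q.normalizerMonoidHom (eN ^ i) ⟨y, hy⟩)⁻¹) ∈ ψ.range := by
        rw [map_mul, map_inv, ← div_eq_mul_inv, ← inv_div]
        exact inv_mem (hstab i _)
      refine ⟨_, h1, ?_⟩
      show y * (e ^ i * y * (e ^ i)⁻¹)⁻¹ = y * e ^ i * y⁻¹ * (e ^ i)⁻¹
      group
    rw [hcomm] at hle
    refine eq_top_iff.2 fun w _ => ?_
    obtain ⟨y, rfl⟩ := QuotientGroup.mk_surjective w
    obtain ⟨z, hz, hzy⟩ := hle y.2
    rw [← Subtype.ext hzy]
    exact hz
  have hψinj : Function.Injective ψ :=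
    Finite.injective_iff_surjective.2 (MonoidHom.range_eq_top.1 hψtop)
  have hd1Q : zpowers d1 ≤ normalizer (Q : Set X) := zpowers_le.2 (pow_mem hdQ _)
  have hfpf : CfsgLib.Frobenius.IsFpf ((autFrat Q).comp (inclusion hd1Q)) := by
    intro g hg w hw
    obtain ⟨g, ⟨k, rfl⟩⟩ := g
    have hk : ¬ (9 : ℤ) ∣ k := fun h => hg (Subtype.ext (orderOf_dvd_iff_zpow_eq_one.1 (hod1 ▸ h)))
    have hd3 : Int.gcd k 9 ∣ 3 := by
      have h9 : Int.gcd k 9 ∣ 9 := by exact_mod_cast (Int.gcd_dvd_right k 9)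
      have hne : Int.gcd k 9 ≠ 9 := fun h => hk (by
        have := Int.gcd_dvd_left k 9
        rwa [h] at this)
      obtain ⟨i, hi, hgi⟩ := (Nat.dvd_prime_pow Nat.prime_three (m := 2)).1 h9
      rw [hgi]
      rcases i with _ | _ | _ | i
      · exact one_dvd _
      · exact dvd_rfl
      · exact absurd hgi hne
      · omega
    obtain ⟨m, hm⟩ := hd3
    have he' : (d1 ^ k) ^ (Int.gcdA k 9 * m) = e := by
      rw [← zpow_mul, ← hed1, ← zpow_natCast, hm, Nat.cast_mul, Int.gcd_eq_gcd_ab, add_mul, zpow_add,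
        mul_assoc (9 : ℤ), zpow_mul d1 9, show d1 ^ (9 : ℤ) = 1 by
          rw [show (9 : ℤ) = ((9 : ℕ) : ℤ) from rfl, zpow_natCast, ← hod1, pow_orderOf_eq_one],
        one_zpow, mul_one, mul_assoc]
    have hgN : d1 ^ k ∈ normalizer (Q : Set X) := hd1Q ⟨k, rfl⟩
    have hw' : autFrat Q ⟨d1 ^ k, hgN⟩ w = w := hw
    have hgfix : ∀ i : ℤ, (autFrat Q (⟨d1 ^ k, hgN⟩ ^ i)) w = w := by
      intro i
      induction i using Int.induction_on with
      | zero => simp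
      | succ i ih => rw [zpow_add_one, map_mul, MulAut.mul_apply]; exact (congrArg _ hw).trans ih
      | pred i ih =>
        rw [zpow_sub_one, map_mul, MulAut.mul_apply, map_inv, MulAut.inv_apply,
          (MulEquiv.symm_apply_eq _).2 hw'.symm]
        exact ih
    have h1 := hgfix (Int.gcdA k 9 * m)
    rw [show (⟨d1 ^ k, hgN⟩ : normalizer (Q : Set X)) ^ (Int.gcdA k 9 * m) = eN from
      Subtype.ext he'] at h1
    refine hψinj (Eq.trans ?_ (map_one ψ).symm)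
    show autFrat Q eN w / w = 1
    rw [h1, div_self']
  have hmod := hfpf.card_modEq_one
  rw [Nat.card_zpowers, hod1] at hmod
  have hWcard : 64 * Nat.card Φ ≤ Nat.card Q := by
    obtain ⟨j, hj⟩ := IsPGroup.iff_card.1 (hQp.to_quotient (frattini Q))
    rw [card_eq_card_quotient_mul_card_subgroup (frattini Q), hj,
      hΦ, card_map_of_injective Q.subtype_injective]
    refine Nat.mul_le_mul_right _ ?_
    rw [hj] at hmod
    have hj0 : j ≠ 0 := by
      rintro rfl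
      have h1 : frattini Q = ⊤ := by
        rw [← index_eq_one, index_eq_card, hj, pow_zero]
      refine hΦlt.ne ?_
      rw [hΦ, h1, ← MonoidHom.range_eq_map, range_subtype]
    calc (64 : ℕ) = 2 ^ 6 := by norm_num
      _ ≤ 2 ^ j := Nat.pow_le_pow_right (by norm_num) (two_pow_mod_nine hj0 hmod)
  -- the abelian subgroup
  obtain ⟨x, hxQ, hxΦ⟩ := SetLike.exists_of_lt hΦlt
  let cx : Q →* X := MonoidHom.mk' (fun y => ⁅x, (y : X)⁆) fun a b => hR1 x hxQ a a.2 b b.2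
  have hrange : Nat.card cx.range ≤ 4 := by
    refine le_trans (card_le_of_le ?_) hV4
    rintro _ ⟨y, rfl⟩
    exact ⟨hcΦ x hxQ y y.2, hc2 x hxQ y y.2⟩
  set C := cx.ker.map Q.subtype with hC
  have hCcard : Nat.card Q ≤ 4 * Nat.card C := by
    rw [hC, card_map_of_injective Q.subtype_injective, ← cx.ker.card_mul_index, index_ker, mul_comm]
    exact Nat.mul_le_mul_right _ hrange
  set Y := Φ ⊔ zpowers x with hY
  have hQY : ∀ R : Subgroup X, Φ ≤ R → R ≤ Q → Q ≤ normalizer (R : Set X) := by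
    intro R hΦR hRQ
    rw [le_normalizer_iff]
    intro g hg r hr
    rw [show g * r * g⁻¹ = ⁅g, r⁆ * r by simp only [commutatorElement_def]; group]
    exact mul_mem (hΦR (hcΦ g hg r (hRQ hr))) hr
  have hYcard : Nat.card Y ≤ 2 * Nat.card Φ :=
    card_sup_zpowers_le (hsq x hxQ) (hQY Φ le_rfl hΦQ hxQ)
  have hYQ : Y ≤ Q := sup_le hΦQ (zpowers_le.2 hxQ)
  have hmemC : ∀ {y : X}, y ∈ C ↔ y ∈ Q ∧ x * y = y * x := by
    intro y
    constructor
    · rintro ⟨y, hy, rfl⟩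
      exact ⟨y.2, commutatorElement_eq_one_iff_mul_comm.1 hy⟩
    · rintro ⟨hy, hxy⟩
      exact ⟨⟨y, hy⟩, commutatorElement_eq_one_iff_mul_comm.2 hxy, rfl⟩
  have hYC : Y ≤ C := sup_le (fun r hr => hmemC.2 ⟨hΦQ hr, (hcen r hr x hxQ).symm⟩)
    (zpowers_le.2 (hmemC.2 ⟨hxQ, rfl⟩))
  obtain ⟨u, hu, v, hv, huY, hvY, huv⟩ := exists_commuting_pair (Q := Q) (Φ := Φ) (Y := Y) (p := p) (q := q)
    le_sup_left hYQ hsq (fun R hR => hQY R (le_sup_left.trans hR)) hbil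
    (fun a ha b hb => hpq _ ⟨hcΦ a ha b hb, hc2 a ha b hb⟩) hp.2 hq.2 (hΦcomm p hp.1 q hq.1)
    C (map_subtype_le _) hYC (by omega)
  obtain ⟨huQ, hxu⟩ := hmemC.1 hu
  obtain ⟨hvQ, hxv⟩ := hmemC.1 hv
  set B := Y ⊔ zpowers u ⊔ zpowers v with hB
  have hBQ : B ≤ Q := sup_le (sup_le hYQ (zpowers_le.2 huQ)) (zpowers_le.2 hvQ)
  have hBc : ∀ a ∈ B, ∀ b ∈ B, a * b = b * a := by
    have hgen : ∀ s ∈ ({x, u, v} : Set X), B ≤ centralizer {s} := by
      intro s hs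
      have hsQ : s ∈ Q := by rcases hs with rfl | rfl | rfl <;> assumption
      have hx1 : x * s = s * x := by rcases hs with rfl | rfl | rfl <;> first | rfl | assumption
      have hu1 : u * s = s * u := by
        rcases hs with rfl | rfl | rfl <;> first | rfl | exact hxu.symm | exact huv
      have hv1 : v * s = s * v := by
        rcases hs with rfl | rfl | rfl <;> first | rfl | exact hxv.symm | exact huv.symm
      exact sup_le (sup_le (sup_le
        (fun r hr => mem_centralizer_singleton_iff.2 (hcen r hr s hsQ))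
        (zpowers_le.2 (mem_centralizer_singleton_iff.2 hx1)))
        (zpowers_le.2 (mem_centralizer_singleton_iff.2 hu1)))
        (zpowers_le.2 (mem_centralizer_singleton_iff.2 hv1))
    intro a ha
    have h1 : B ≤ centralizer {a} := by
      refine sup_le (sup_le (sup_le (fun r hr => ?_) (zpowers_le.2 ?_)) (zpowers_le.2 ?_)) (zpowers_le.2 ?_)
      · exact mem_centralizer_singleton_iff.2 (hcen r hr a (hBQ ha))
      all_goals refine mem_centralizer_singleton_iff.2 (mem_centralizer_singleton_iff.1 (hgen _ ?_ ha)).symm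
      all_goals simp
    exact fun b hb => (mem_centralizer_singleton_iff.1 (h1 hb)).symm
  have hB8 : 8 * Nat.card Φ ≤ Nat.card B := by
    have e1 : Φ < Y := lt_of_le_of_ne le_sup_left fun h => hxΦ (h.ge (mem_sup_right (mem_zpowers x)))
    have e2 : Y < Y ⊔ zpowers u :=
      lt_of_le_of_ne le_sup_left fun h => huY (h.ge (mem_sup_right (mem_zpowers u)))
    have e3 : Y ⊔ zpowers u < B :=
      lt_of_le_of_ne le_sup_left fun h => hvY (h.ge (mem_sup_right (mem_zpowers v)))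
    have := two_mul_card_le e1
    have := two_mul_card_le e2
    have := two_mul_card_le e3
    omega
  let sqB : B →* X := MonoidHom.mk' (fun y => (y : X) ^ 2) fun a b =>
    (show Commute (a : X) b from hBc a a.2 b b.2).mul_pow 2
  have hsr : Nat.card sqB.range ≤ Nat.card Φ := by
    refine card_le_of_le ?_
    rintro _ ⟨y, rfl⟩
    exact hsq y (hBQ y.2)
  have hker : Nat.card sqB.ker ≤ 4 := by
    haveI hKc : IsMulCommutative (sqB.ker.map B.subtype : Subgroup X) :=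
      ⟨⟨fun a b => Subtype.ext (hBc a (map_subtype_le _ a.2) b (map_subtype_le _ b.2))⟩⟩
    have h := hrank (sqB.ker.map B.subtype) ((map_subtype_le _).trans (hBQ.trans hQP)) hKc ⊤
      ⟨⟨fun x y => Subtype.ext (hKc.is_comm.comm _ _)⟩⟩ (fun a _ => Subtype.ext (by
        obtain ⟨b, hb, hba⟩ := a.2
        rw [SubmonoidClass.coe_pow, ← hba]
        exact hb))
    rw [card_top, card_map_of_injective B.subtype_injective] at h
    exact h
  have hfin : Nat.card B ≤ 4 * Nat.card Φ := by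
    rw [← sqB.ker.card_mul_index, index_ker]
    exact Nat.mul_le_mul hker hsr
  have : 0 < Nat.card Φ := Nat.card_pos
  omega

end CfsgLib.ThreeActTwo
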