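import Mathlib.Algebra.Module.Equiv.Basic
import Mathlib.GroupTheory.OrderOfElement
import Mathlib.Algebra.Group.Subgroup.Basic
import Mathlib.Data.ZMod.Basic
import Mathlib.Tactic.Group
import Mathlib.Tactic.Abel

/-!
A transvection which is the square of an element cannot invert an element of an odd-order subgroup
normalized by that element (vector spaces over the field with two elements).
-/

set_option autoImplicit false

namespace CfsgLib.TransvectionQuartic

variable {V : Type*} [AddCommGroup V] [Module (ZMod 2) V]

theorem fix_of_sq {K : Subgroup (V ≃ₗ[ZMod 2] V)} (hK : ∀ g ∈ K, Odd (orderOf g)) {g : V ≃ₗ[ZMod 2] V}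
    (hg : g ∈ K) {x : V} (h : g (g x) = x) : g x = x := by
  obtain ⟨k, hk⟩ := hK g hg
  have hf : ∀ j : ℕ, (g ^ (2 * j)) x = x := by
    intro j
    induction j with
    | zero => rfl
    | succ j ih =>
      rw [show 2 * (j + 1) = 2 + 2 * j by omega, pow_add]
      show (g ^ 2) ((g ^ (2 * j)) x) = x
      rw [ih, pow_two]
      exact h
  have he : (g ^ (2 * k + 1)) x = x := by rw [← hk, pow_orderOf_eq_one]; rfl
  rw [pow_succ'] at he
  change g ((g ^ (2 * k)) x) = x at he
  rwa [hf] at he

theorem eq_one_of_sq {K : Subgroup (V ≃ₗ[ZMod 2] V)} (hK : ∀ g ∈ K, Odd (orderOf g)) {g : V ≃ₗ[ZMod 2] V}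
    (hg : g ∈ K) (h : ∀ x, g (g x) = x) : g = 1 :=
  LinearEquiv.ext fun x => fix_of_sq hK hg (h x)

theorem false_of_data (K : Subgroup (V ≃ₗ[ZMod 2] V)) (hK : ∀ g ∈ K, Odd (orderOf g)) (v : V) (hv : v ≠ 0)
    (hdd : ∀ x : V, x + x = 0) (P : V ≃ₗ[ZMod 2] V) (hPv : P v = v) {t s : V ≃ₗ[ZMod 2] V} (hPt : t = P * P)
    (htt : t * t = 1) (hss : s * s = 1) (htd : ∀ x, t x = x ∨ t x = x + v) (htv : t v = v) {w : V}
    (hsd : ∀ x, s x = x ∨ s x = x + w) (hsw : s w = w) (hst : s ≠ t)
    (hPK : ∀ g ∈ K, P * g * P⁻¹ ∈ K) (hc : s * t ∈ K) : False := by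
  have hc1 : s * t ≠ 1 := fun e => hst (by
    rw [← mul_one s, ← htt, ← mul_assoc, e, one_mul])
  have hK2 : ∀ g ∈ K, g * g = 1 → g = 1 := fun g hg h =>
    eq_one_of_sq hK hg fun x => by
      show (g * g) x = x
      rw [h]; rfl
  have comm2 : Commute s t → False := fun h => hc1 (hK2 _ hc (by
    rw [show s * t * (s * t) = (s * t) ^ 2 from (pow_two _).symm, h.mul_pow, pow_two, pow_two, hss, htt, one_mul]))
  -- two transvections in the same direction commute
  have same : ∀ (u : V) (a b : V ≃ₗ[ZMod 2] V), (∀ x, a x = x ∨ a x = x + u) →
      (∀ x, b x = x ∨ b x = x + u) → a u = u → b u = u → Commute a b := by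
    intro u a b ha hb hau hbu
    refine LinearEquiv.ext fun x => ?_
    show a (b x) = b (a x)
    rcases ha x with h1 | h1 <;> rcases hb x with h2 | h2 <;>
      simp only [h1, h2, map_add, hau, hbu]
  have hvw : w ≠ v := fun e => comm2 (same v s t (e ▸ hsd) htd (e ▸ hsw) htv)
  have htw : t w = w + v := by
    rcases htd w with h | h
    · exfalso
      rcases hsd v with h' | h'
      · refine comm2 (LinearEquiv.ext fun x => ?_)
        show s (t x) = t (s x)
        rcases htd x with h1 | h1 <;> rcases hsd x with h2 | h2 <;> simp only [h1, h2, map_add, h, h']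
        abel
      · -- s t has order dividing four
        have hg : ∀ x, ((s * t) * (s * t)) (((s * t) * (s * t)) x) = x := by
          intro x
          have hv1 : (s * t) v = v + w := by show s (t v) = _; rw [htv, h']
          have hw1 : (s * t) w = w := by show s (t w) = _; rw [h, hsw]
          have hv2 : (s * t) ((s * t) v) = v := by
            rw [hv1, map_add, hv1, hw1, add_assoc, hdd, add_zero]
          have key : ∀ y, (s * t) ((s * t) y) = y ∨ (s * t) ((s * t) y) = y + w := by
            intro y
            have hd : (s * t) y = y ∨ (s * t) y = y + w ∨ (s * t) y = y + v ∨ (s * t) y = y + v + w := by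
              show s (t y) = _ ∨ s (t y) = _ ∨ s (t y) = _ ∨ s (t y) = _
              rcases htd y with h1 | h1 <;> rw [h1]
              · rcases hsd y with h2 | h2 <;> rw [h2] <;> simp
              · rw [map_add, h']
                rcases hsd y with h2 | h2 <;> rw [h2]
                · right; right; right; abel
                · right; right; left
                  calc y + w + (v + w) = y + v + (w + w) := by abel
                    _ = _ := by rw [hdd, add_zero]
            rcases hd with e | e | e | e
            · left; rw [e, e]
            · left; rw [e, map_add, hw1, e, add_assoc, hdd, add_zero]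
            · right; rw [e, map_add, hv1, e]
              calc y + v + (v + w) = y + w + (v + v) := by abel
                _ = _ := by rw [hdd, add_zero]
            · right; rw [e, map_add, map_add, hv1, hw1, e]
              calc y + v + w + (v + w) + w = y + w + (v + v) + (w + w) := by abel
                _ = _ := by rw [hdd, hdd, add_zero, add_zero]
          show (s * t) ((s * t) ((s * t) ((s * t) x))) = x
          rcases key x with e | e
          · rw [e, e]
          · rw [e, map_add, map_add, hw1, hw1, e, add_assoc, hdd, add_zero]
        exact hc1 (hK2 _ hc (eq_one_of_sq hK (mul_mem hc hc) hg))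
    · exact h
  have hsv : s v = v + w := by
    rcases hsd v with h | h
    · exfalso
      have hg : ∀ x, ((s * t) * (s * t)) (((s * t) * (s * t)) x) = x := by
        intro x
        have hw1 : (s * t) w = w + v := by show s (t w) = _; rw [htw, map_add, hsw, h]
        have hv1 : (s * t) v = v := by show s (t v) = _; rw [htv, h]
        have key : ∀ y, (s * t) ((s * t) y) = y ∨ (s * t) ((s * t) y) = y + v := by
          intro y
          have hd : (s * t) y = y ∨ (s * t) y = y + v ∨ (s * t) y = y + w ∨ (s * t) y = y + w + v := by
            show s (t y) = _ ∨ s (t y) = _ ∨ s (t y) = _ ∨ s (t y) = _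
            rcases htd y with h1 | h1 <;> rw [h1]
            · rcases hsd y with h2 | h2 <;> rw [h2] <;> simp
            · rw [map_add, h]
              rcases hsd y with h2 | h2 <;> rw [h2] <;> simp
          rcases hd with e | e | e | e
          · left; rw [e, e]
          · left; rw [e, map_add, hv1, e, add_assoc, hdd, add_zero]
          · right; rw [e, map_add, hw1, e]
            calc y + w + (w + v) = y + v + (w + w) := by abel
              _ = _ := by rw [hdd, add_zero]
          · right; rw [e, map_add, map_add, hv1, hw1, e]
            calc y + w + v + (w + v) + v = y + v + (w + w) + (v + v) := by abel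
              _ = _ := by rw [hdd, hdd, add_zero, add_zero]
        show (s * t) ((s * t) ((s * t) ((s * t) x))) = x
        rcases key x with e | e
        · rw [e, e]
        · rw [e, map_add, map_add, hv1, hv1, e, add_assoc, hdd, add_zero]
      exact hc1 (hK2 _ hc (eq_one_of_sq hK (mul_mem hc hc) hg))
    · exact h
  have hPtP : P * t * P⁻¹ = t := by rw [hPt, ← mul_assoc, mul_inv_cancel_right]
  set s' := P * s * P⁻¹ with hs'
  set w' := P w with hw'
  have hc' : s' * t ∈ K := by
    have h := hPK _ hc
    rwa [show P * (s * t) * P⁻¹ = s' * (P * t * P⁻¹) by rw [hs']; group, hPtP] at h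
  have happ : ∀ x, s' (P x) = P (s x) := fun x => by
    show P (s (P.symm (P x))) = _
    rw [LinearEquiv.symm_apply_apply]
  have hsd' : ∀ x, s' x = x ∨ s' x = x + w' := fun x => by
    have hx := happ (P.symm x)
    rw [LinearEquiv.apply_symm_apply] at hx
    rcases hsd (P.symm x) with h | h
    · left; rw [hx, h, LinearEquiv.apply_symm_apply]
    · right; rw [hx, h, map_add, LinearEquiv.apply_symm_apply]
  have hsw' : s' w' = w' := by rw [hw', happ, hsw]
  have hsv' : s' v = v + w' := by
    have := happ v
    rwa [hPv, hsv, map_add, hPv] at this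
  have hss' : s' * s' = 1 := by
    rw [hs', show P * s * P⁻¹ * (P * s * P⁻¹) = P * (s * s) * P⁻¹ by group, hss]; group
  have hPtP' : ∀ x, P (t x) = t (P x) := fun x => by rw [hPt]; rfl
  have htw' : t w' = w' + v := by rw [hw', ← hPtP', htw, map_add, hPv]
  have hg : s * s' ∈ K := by
    have h := mul_mem hc (inv_mem hc')
    rwa [mul_inv_rev, inv_eq_of_mul_eq_one_left htt, inv_eq_of_mul_eq_one_left hss',
      show s * t * (t * s') = s * (t * t) * s' by group, htt, mul_one] at h
  -- the key: w' is w or w + v
  have hw : w' = w ∨ w' = w + v := by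
    by_contra hne
    simp only [not_or] at hne
    have hcancel : ∀ a b : V, a + b = a → b = 0 := fun a b h => by simpa using h
    rcases hsd w' with ha | ha <;> rcases hsd' w with hb | hb
    · have hgv : (s * s') v = v + w + w' := by show s (s' v) = _; rw [hsv', map_add, hsv, ha]
      have hgv2 : (s * s') ((s * s') v) = v := by
        have hgw : (s * s') w = w := by show s (s' w) = _; rw [hb, hsw]
        have hgw' : (s * s') w' = w' := by show s (s' w') = _; rw [hsw', ha]
        rw [hgv, map_add, map_add, hgv, hgw, hgw']
        calc v + w + w' + w + w' = v + (w + w) + (w' + w') := by abel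
          _ = v := by rw [hdd, hdd, add_zero, add_zero]
      have h := fix_of_sq hK hg hgv2
      rw [hgv, add_assoc] at h
      have h0 := hcancel _ _ h
      exact hne.1 (by rw [← add_zero w', ← hdd w, ← add_assoc, add_comm w' w, h0, zero_add])
    · -- a = 0, b = 1
      have hgw : (s * s') w = w + w' := by show s (s' w) = _; rw [hb, map_add, hsw, ha]
      have hgw' : (s * s') w' = w' := by show s (s' w') = _; rw [hsw', ha]
      have h := fix_of_sq hK hg (x := w) (by rw [hgw, map_add, hgw, hgw', add_assoc, hdd, add_zero])
      rw [hgw] at h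
      exact hv (by
        have h0 := hcancel _ _ h
        have h1 := congrArg t h0
        rwa [htw', h0, zero_add, map_zero] at h1)
    · have hgw : (s * s') w = w := by show s (s' w) = _; rw [hb, hsw]
      have hgw' : (s * s') w' = w' + w := by show s (s' w') = _; rw [hsw', ha]
      have h := fix_of_sq hK hg (x := w') (by rw [hgw', map_add, hgw, hgw', add_assoc, hdd, add_zero])
      rw [hgw'] at h
      exact hv (by
        have h0 := hcancel _ _ h
        have h1 := congrArg t h0
        rwa [htw, h0, zero_add, map_zero] at h1)
    · have hgv : (s * s') v = v + w' := by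
        show s (s' v) = _
        rw [hsv', map_add, hsv, ha]
        calc v + w + (w' + w) = v + w' + (w + w) := by abel
          _ = _ := by rw [hdd, add_zero]
      have hgw : (s * s') w = w' := by
        show s (s' w) = _
        rw [hb, map_add, hsw, ha]
        calc w + (w' + w) = w' + (w + w) := by abel
          _ = _ := by rw [hdd, add_zero]
      have hgw' : (s * s') w' = w' + w := by show s (s' w') = _; rw [hsw', ha]
      have hcw : (s * t) w = v := by
        show s (t w) = _
        rw [htw, map_add, hsw, hsv]
        calc w + (v + w) = v + (w + w) := by abel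
          _ = _ := by rw [hdd, add_zero]
      have hcv : (s * t) v = v + w := by show s (t v) = _; rw [htv, hsv]
      have hcw' : (s * t) w' = w' + v := by
        show s (t w') = _
        rw [htw', map_add, ha, hsv]
        calc w' + w + (v + w) = w' + v + (w + w) := by abel
          _ = _ := by rw [hdd, add_zero]
      have hm := mul_mem hc hg
      have e1 : (s * t * (s * s')) v = w + w' := by
        show (s * t) ((s * s') v) = _
        rw [hgv, map_add, hcv, hcw']
        calc v + w + (w' + v) = w + w' + (v + v) := by abel
          _ = _ := by rw [hdd, add_zero]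
      have e2 : (s * t * (s * s')) ((s * t * (s * s')) v) = v := by
        rw [e1]
        show (s * t) ((s * s') (w + w')) = v
        rw [map_add, hgw, hgw', ← add_assoc, hdd, zero_add, hcw]
      have h := fix_of_sq hK hm e2
      rw [e1] at h
      exact hne.2 (by rw [← h, ← add_assoc, hdd, zero_add])
  have hPc : P * (s * t) * P⁻¹ = s * t ∨ P * (s * t) * P⁻¹ = (s * t)⁻¹ := by
    rw [show P * (s * t) * P⁻¹ = s' * (P * t * P⁻¹) by rw [hs']; group, hPtP]
    rcases hw with h | h
    · left
      have hco : Commute s s' := same w s s' hsd (h ▸ hsd') hsw (h ▸ hsw')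
      have h1 := hK2 _ hg (by
        rw [show s * s' * (s * s') = (s * s') ^ 2 from (pow_two _).symm, hco.mul_pow, pow_two, pow_two, hss,
          hss', one_mul])
      rw [eq_inv_of_mul_eq_one_right h1, inv_eq_of_mul_eq_one_left hss]
    · right
      have hu : ∀ x, (t * s * t) x = x ∨ (t * s * t) x = x + w' := fun x => by
        show t (s (t x)) = x ∨ t (s (t x)) = x + w'
        have hx : t (t x) = x := by show (t * t) x = x; rw [htt]; rfl
        rcases hsd (t x) with e | e
        · left; rw [e, hx]
        · right; rw [e, map_add, hx, htw, h]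
      have huw : (t * s * t) w' = w' := by
        show t (s (t w')) = w'
        have e : t w' = w := by rw [htw', h, add_assoc, hdd, add_zero]
        rw [e, hsw, htw, h]
      have hco : Commute (t * s * t) s' := same w' _ s' hu hsd' huw hsw'
      have hmem : t * s * t * s' ∈ K := by
        have := mul_mem (inv_mem hc) (inv_mem hc')
        rwa [mul_inv_rev, mul_inv_rev, inv_eq_of_mul_eq_one_left htt, inv_eq_of_mul_eq_one_left hss,
          inv_eq_of_mul_eq_one_left hss', show t * s * (t * s') = t * s * t * s' by group] at this
      have hsq : t * s * t * (t * s * t) = 1 := by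
        rw [show t * s * t * (t * s * t) = t * s * (t * t) * s * t by group, htt, mul_one,
          show t * s * s * t = t * (s * s) * t by group, hss, mul_one, htt]
      have h1 := hK2 _ hmem (by
        rw [show t * s * t * s' * (t * s * t * s') = (t * s * t * s') ^ 2 from (pow_two _).symm, hco.mul_pow,
          pow_two, pow_two, hsq, hss', one_mul])
      have : s' = t * s * t := by
        rw [eq_inv_of_mul_eq_one_right h1, inv_eq_of_mul_eq_one_left hsq]
      rw [this, mul_assoc, htt, mul_one, mul_inv_rev, inv_eq_of_mul_eq_one_left htt,
        inv_eq_of_mul_eq_one_left hss]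
  have h2 : P * (P * (s * t) * P⁻¹) * P⁻¹ = s * t := by
    rcases hPc with h | h
    · rw [h, h]
    · rw [h, show P * (s * t)⁻¹ * P⁻¹ = (P * (s * t) * P⁻¹)⁻¹ by group, h, inv_inv]
  rw [show P * (P * (s * t) * P⁻¹) * P⁻¹ = t * (s * t) * t⁻¹ by rw [hPt]; group,
    inv_eq_of_mul_eq_one_left htt, show t * (s * t) * t = t * s * (t * t) by group, htt, mul_one] at h2
  exact comm2 h2.symm

end CfsgLib.TransvectionQuartic
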