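import Cfsg.Agent.FGSA.ClassCount
import Cfsg.Agent.S0071
import Mathlib.GroupTheory.Sylow

/-!
More than half as many classes of `2`-elements as the order of a Sylow `2`-subgroup: no fusion.
-/

set_option autoImplicit false
set_option linter.style.haveILetI false

namespace CfsgLib.FGSA

open Subgroup

variable {G : Type*} [Group G] [Finite G]

/-- A map with fibres of size at least three outside `F`. -/
theorem three_mul_card_le {α β : Type*} [Finite α] (f : α → β) (hf : Function.Surjective f)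
    (F : Set α) (h : ∀ a, a ∉ F → ∃ a₁ a₂, a₁ ≠ a ∧ a₂ ≠ a ∧ a₁ ≠ a₂ ∧ f a₁ = f a ∧ f a₂ = f a) :
    3 * Nat.card β ≤ Nat.card α + 2 * Nat.card F := by
  classical
  haveI : Finite β := Finite.of_surjective f hf
  choose s hs using hf
  have key : ∀ b : β, ∃ t₁ t₂ : α ⊕ F ⊕ F, t₁ ≠ Sum.inl (s b) ∧ t₂ ≠ Sum.inl (s b) ∧ t₁ ≠ t₂ ∧
      f (Sum.elim id (Sum.elim Subtype.val Subtype.val) t₁) = b ∧
      f (Sum.elim id (Sum.elim Subtype.val Subtype.val) t₂) = b := by
    intro b
    by_cases hb : s b ∈ F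
    · exact ⟨Sum.inr (Sum.inl ⟨s b, hb⟩), Sum.inr (Sum.inr ⟨s b, hb⟩), by simp, by simp, by simp,
        hs b, hs b⟩
    · obtain ⟨a₁, a₂, h1, h2, h3, h4, h5⟩ := h _ hb
      exact ⟨Sum.inl a₁, Sum.inl a₂, by simpa using h1, by simpa using h2, by simpa using h3,
        by simpa [hs b] using h4, by simpa [hs b] using h5⟩
  choose t₁ t₂ h1 h2 h3 h4 h5 using key
  let g : β ⊕ β ⊕ β → α ⊕ F ⊕ F := Sum.elim (fun b => Sum.inl (s b)) (Sum.elim t₁ t₂)
  have hg : Function.Injective g := by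
    intro u v huv
    have hval := congrArg (fun z => f (Sum.elim id (Sum.elim Subtype.val Subtype.val) z)) huv
    rcases u with b | b | b <;> rcases v with c | c | c <;>
      simp only [g, Sum.elim_inl, Sum.elim_inr, id, hs, h4, h5] at hval huv <;> subst hval
    all_goals first
      | rfl
      | exact absurd huv (h1 _)
      | exact absurd huv.symm (h1 _)
      | exact absurd huv (h2 _)
      | exact absurd huv.symm (h2 _)
      | exact absurd huv (h3 _)
      | exact absurd huv.symm (h3 _)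
  have := Nat.card_le_card_of_injective g hg
  simp only [Nat.card_sum] at this
  omega

/-- The orbits of an element of odd order normalising a `2`-subgroup. -/
theorem four_mul_card_centralizer_le {Q : Subgroup G} (hQ : IsPGroup 2 Q) {g : G}
    (hg : Odd (orderOf g)) (hgN : g ∈ normalizer (Q : Set G)) (hgC : g ∉ centralizer (Q : Set G)) :
    4 * Nat.card ((centralizer ({g} : Set G)).subgroupOf Q) ≤ Nat.card Q := by
  haveI := Fact.mk Nat.prime_two
  set F := (centralizer ({g} : Set G)).subgroupOf Q with hF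
  have hFne : F ≠ ⊤ := fun htop => hgC (mem_centralizer_iff.2 fun x hx => by
    have hx' : (⟨x, hx⟩ : Q) ∈ F := htop ▸ mem_top _
    exact (mem_centralizer_iff.1 (mem_subgroupOf.1 hx') g rfl).symm)
  obtain ⟨n, hn⟩ := hQ.index F
  rcases n with _ | _ | n
  · exact absurd (index_eq_one.1 (by simpa using hn)) hFne
  · exfalso
    rw [zero_add, pow_one] at hn
    refine hFne (eq_top_iff.2 fun x _ => ?_)
    by_contra hx
    have hgx : (⟨g * x * g⁻¹, (mem_normalizer_iff.1 hgN x).1 x.2⟩ : Q) ∉ F := fun h => hx (by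
      have h1 := mem_centralizer_iff.1 (mem_subgroupOf.1 h) g rfl
      rw [hF, mem_subgroupOf, mem_centralizer_iff]
      intro z hz
      rw [Set.mem_singleton_iff] at hz
      subst hz
      calc z * (x : G) = z⁻¹ * (z * (z * x * z⁻¹)) * z := by group
        _ = z⁻¹ * (z * x * z⁻¹ * z) * z := by rw [h1]
        _ = (x : G) * z := by group)
    set f : Q := ⟨g * x * g⁻¹, (mem_normalizer_iff.1 hgN x).1 x.2⟩ * x⁻¹ with hf
    have hfF : f ∈ F := by
      rw [hf, mul_mem_iff_of_index_two hn, inv_mem_iff]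
      exact iff_of_false hgx hx
    have hfg : g * (f : G) = f * g := mem_centralizer_iff.1 (mem_subgroupOf.1 hfF) g rfl
    have hstep : g * (x : G) * g⁻¹ = f * x := by simp [hf]
    have hpow : ∀ j : ℕ, g ^ j * (x : G) * (g ^ j)⁻¹ = (f : G) ^ j * x := by
      intro j
      induction j with
      | zero => simp
      | succ j ih =>
        have hc : g * (f : G) ^ j = (f : G) ^ j * g := (Commute.pow_right hfg j).eq
        calc g ^ (j + 1) * (x : G) * (g ^ (j + 1))⁻¹ = g * (g ^ j * x * (g ^ j)⁻¹) * g⁻¹ := by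
              rw [pow_succ']; group
          _ = g * (f : G) ^ j * x * g⁻¹ := by rw [ih]; group
          _ = (f : G) ^ j * (g * x * g⁻¹) := by rw [hc]; group
          _ = _ := by rw [hstep, pow_succ, mul_assoc]
    have hone : (f : G) ^ orderOf g = 1 := by
      have h := hpow (orderOf g)
      rw [pow_orderOf_eq_one, one_mul, inv_one, mul_one] at h
      exact mul_eq_right.1 h.symm
    obtain ⟨k, hk⟩ := IsPGroup.iff_orderOf.1 hQ f
    have h1 : orderOf f = 1 := by
      have h2 : orderOf f ∣ orderOf g := orderOf_dvd_of_pow_eq_one (Subtype.ext hone)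
      rw [hk] at h2 ⊢
      exact ((Nat.coprime_two_left.2 hg).pow_left k).eq_one_of_dvd h2
    have hf1 : (f : G) = 1 := by rw [orderOf_eq_one_iff.1 h1]; rfl
    rw [hf1, one_mul, mul_inv_eq_iff_eq_mul] at hstep
    exact hx (mem_subgroupOf.2 (mem_centralizer_iff.2 fun z hz => by
      rw [Set.mem_singleton_iff] at hz; subst hz; exact hstep))
  · rw [← F.card_mul_index, hn, mul_comm 4]
    refine Nat.mul_le_mul_left _ ?_
    calc 4 = 2 ^ 2 := rfl
      _ ≤ _ := Nat.pow_le_pow_right two_pos (by omega)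

/-- If a `2`-subgroup containing the centre of `S` is moved by an odd element, few classes. -/
theorem two_mul_card_pClasses_le (S : Sylow 2 G) {Q : Subgroup G} (hQS : Q ≤ (S : Subgroup G))
    (hZ : ∀ x ∈ (S : Subgroup G), (∀ y ∈ (S : Subgroup G), y * x = x * y) → x ∈ Q) {g : G}
    (hg : Odd (orderOf g)) (hgN : g ∈ normalizer (Q : Set G)) (hgC : g ∉ centralizer (Q : Set G)) :
    2 * Nat.card (pClasses 2 G) ≤ Nat.card (S : Subgroup G) := by
  classical
  haveI := Fact.mk Nat.prime_two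
  let f := toPClasses S
  let H : Set (pClasses 2 G) := Set.range fun x : Q => f ⟨x, hQS x.2⟩
  have hhit : 2 * Nat.card H ≤ Nat.card Q := by
    let f₀ : Q → H := fun x => ⟨f ⟨x, hQS x.2⟩, x, rfl⟩
    have hsame : ∀ (x : Q) (y : Q), IsConj (x : G) (y : G) → f₀ y = f₀ x := fun x y h =>
      Subtype.ext (Subtype.ext (ConjClasses.mk_eq_mk_iff_isConj.2 h.symm))
    have h3 := three_mul_card_le f₀ (fun ⟨c, x, hx⟩ => ⟨x, Subtype.ext hx⟩)
      ((centralizer ({g} : Set G)).subgroupOf Q : Set Q) (fun x hx => by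
        have hx' : g * (x : G) ≠ (x : G) * g := fun h => hx (mem_subgroupOf.2
          (mem_centralizer_iff.2 fun z hz => by rw [Set.mem_singleton_iff] at hz; subst hz; exact h))
        refine ⟨⟨g * x * g⁻¹, (mem_normalizer_iff.1 hgN x).1 x.2⟩,
          ⟨g * g * x * (g * g)⁻¹, (mem_normalizer_iff.1 (mul_mem hgN hgN) x).1 x.2⟩,
          fun h => hx' ?_, fun h => hx' ?_, fun h => hx' ?_, hsame _ _ (isConj_iff.2 ⟨g, rfl⟩),
          hsame _ _ (isConj_iff.2 ⟨g * g, rfl⟩)⟩
        · exact mul_inv_eq_iff_eq_mul.1 (congrArg Subtype.val h)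
        · obtain ⟨o, ho⟩ := hg
          have h2 : Commute (g * g) (x : G) := mul_inv_eq_iff_eq_mul.1 (congrArg Subtype.val h)
          have h' := h2.pow_left (o + 1)
          rwa [← pow_two, ← pow_mul, show 2 * (o + 1) = orderOf g + 1 by omega, pow_succ,
            pow_orderOf_eq_one, one_mul] at h'
        · have h' : g * (x : G) * g⁻¹ = g * g * x * (g * g)⁻¹ := congrArg Subtype.val h
          calc g * (x : G) = g⁻¹ * (g * g * x * (g * g)⁻¹) * g * g := by group
            _ = g⁻¹ * (g * x * g⁻¹) * g * g := by rw [h']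
            _ = (x : G) * g := by group)
    have h4 := four_mul_card_centralizer_le (S.isPGroup'.to_le hQS) hg hgN hgC
    have h5 : Nat.card (((centralizer ({g} : Set G)).subgroupOf Q : Set Q)) =
      Nat.card ((centralizer ({g} : Set G)).subgroupOf Q) := rfl
    omega
  let Q' : Set (S : Subgroup G) := {x | f x ∈ H}
  have hout : 2 * Nat.card (Hᶜ : Set (pClasses 2 G)) ≤ Nat.card (Q'ᶜ : Set (S : Subgroup G)) := by
    let f₁ : (Q'ᶜ : Set (S : Subgroup G)) → (Hᶜ : Set (pClasses 2 G)) := fun x => ⟨f x, x.2⟩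
    have h2 := two_mul_card_le_add f₁ (fun ⟨c, hc⟩ => by
        obtain ⟨x, rfl⟩ := toPClasses_surjective S c
        exact ⟨⟨x, hc⟩, rfl⟩) ∅ (fun x _ => by
        have hxQ : (x.1 : G) ∉ Q := fun h => x.2 ⟨⟨x.1, h⟩, rfl⟩
        obtain ⟨y, hy, hxy⟩ : ∃ y ∈ (S : Subgroup G), y * (x.1 : G) ≠ x.1 * y := by
          by_contra h
          exact hxQ (hZ _ x.1.2 fun y hy => not_not.1 fun h' => h ⟨y, hy, h'⟩)
        have hc : f ⟨y * x.1 * y⁻¹, mul_mem (mul_mem hy x.1.2) (inv_mem hy)⟩ = f x.1 :=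
          Subtype.ext (ConjClasses.mk_eq_mk_iff_isConj.2 (isConj_iff.2 ⟨y, rfl⟩).symm)
        refine ⟨⟨⟨y * x.1 * y⁻¹, mul_mem (mul_mem hy x.1.2) (inv_mem hy)⟩, ?_⟩, fun h => hxy ?_,
          Subtype.ext hc⟩
        · change f _ ∉ H; rw [hc]; exact x.2
        · exact mul_inv_eq_iff_eq_mul.1 (congrArg (fun z => (z.1.1 : G)) h))
    simpa using h2
  have e1 : Nat.card (pClasses 2 G) = Nat.card H + Nat.card (Hᶜ : Set (pClasses 2 G)) := by
    rw [← Nat.card_sum]; exact Nat.card_congr (Equiv.Set.sumCompl H).symm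
  have e2 : Nat.card (S : Subgroup G) = Nat.card Q' + Nat.card (Q'ᶜ : Set (S : Subgroup G)) := by
    rw [← Nat.card_sum]; exact Nat.card_congr (Equiv.Set.sumCompl Q').symm
  have e3 : Nat.card Q ≤ Nat.card Q' :=
    Nat.card_le_card_of_injective (fun x : Q => (⟨⟨x, hQS x.2⟩, x, rfl⟩ : Q'))
      fun a b h => Subtype.ext (congrArg (fun z : Q' => (z.1 : G)) h)
  omega

/-- Many classes of `2`-elements give a normal `2`-complement. -/
theorem hasNormalTwoComplement_of_card_pClasses (P : Sylow 2 G)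
    (h : Nat.card (P : Subgroup G) < 2 * Nat.card (pClasses 2 G)) :
    Cfsg.HasNormalPComplement 2 G := by
  classical
  haveI := Fact.mk Nat.prime_two
  by_contra hno
  let Bad : Subgroup G → Prop := fun Q =>
    IsPGroup 2 Q ∧ ∃ g ∈ normalizer (Q : Set G), Odd (orderOf g) ∧ g ∉ centralizer (Q : Set G)
  obtain ⟨Q₀, hQ₀⟩ : ∃ Q, Bad Q := by
    by_contra hb
    simp only [not_exists] at hb
    obtain ⟨N, hN, hc⟩ := (Cfsg.Agent.S0071.result P).2 fun Q hQ g hg hco => by
      by_contra hgc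
      exact hb Q ⟨P.isPGroup'.to_le hQ, g, hg, Nat.coprime_two_right.1 hco, hgc⟩
    exact hno ⟨P, N, hN, hc⟩
  obtain ⟨Q, -, hQmax⟩ := Finite.exists_le_maximal (p := Bad) hQ₀
  obtain ⟨hQ, g, hgN, hg, hgC⟩ := hQmax.prop
  set C := centralizer (Q : Set G) with hC
  obtain ⟨R₀⟩ := (inferInstance : Nonempty (Sylow 2 C))
  set D := (R₀ : Subgroup C).map C.subtype with hD
  have hDC : D ≤ C := map_subtype_le _
  set N := normalizer (Q : Set G) with hN
  have hCN : C ≤ N := fun x hx => by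
    rw [hN, mem_normalizer_iff]
    intro q
    constructor
    · intro hq
      rwa [← mem_centralizer_iff.1 hx q hq, mul_inv_cancel_right]
    · intro hq
      have h1 := mem_centralizer_iff.1 hx _ hq
      rw [inv_mul_cancel_right] at h1
      rw [mul_left_cancel h1]; exact hq
  -- Frattini argument inside `N`
  haveI : (C.subgroupOf N).Normal := ⟨fun c hc n => by
    rw [mem_subgroupOf, mem_centralizer_iff] at hc ⊢
    intro q hq
    have hq' := hc _ ((mem_normalizer_iff''.1 n.2 q).1 hq)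
    push_cast
    calc q * ((n : G) * c * (n : G)⁻¹) = n * ((n : G)⁻¹ * q * n * c) * (n : G)⁻¹ := by group
      _ = (n : G) * (c * ((n : G)⁻¹ * q * n)) * (n : G)⁻¹ := by rw [hq']
      _ = _ := by group⟩
  let R₁ : Sylow 2 (C.subgroupOf N) :=
    R₀.comapOfInjective (subgroupOfEquivOfLe hCN).toMonoidHom (subgroupOfEquivOfLe hCN).injective
      (by intro x _; exact ⟨(subgroupOfEquivOfLe hCN).symm x, by simp⟩)
  have hfr := Sylow.normalizer_sup_eq_top R₁
  have hgmem : (⟨g, hgN⟩ : N) ∈ (↑(normalizer (((R₁ : Subgroup (C.subgroupOf N)).map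
      (C.subgroupOf N).subtype : Subgroup N) : Set N) ⊔ C.subgroupOf N) : Set N) := by
    rw [hfr]; exact mem_top _
  rw [mul_normal] at hgmem
  obtain ⟨n, hn, c, hc, hnc⟩ := Set.mem_mul.1 hgmem
  have hnD : (n : G) ∈ normalizer (D : Set G) := by
    have h1 := le_normalizer_map N.subtype (mem_map_of_mem N.subtype hn)
    have he : (((R₁ : Subgroup (C.subgroupOf N)).map (C.subgroupOf N).subtype).map N.subtype) = D := by
      apply le_antisymm
      · rintro _ ⟨_, ⟨x, hx, rfl⟩, rfl⟩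
        exact ⟨subgroupOfEquivOfLe hCN x, hx, rfl⟩
      · rintro _ ⟨x, hx, rfl⟩
        exact ⟨_, ⟨(subgroupOfEquivOfLe hCN).symm x, by
          show subgroupOfEquivOfLe hCN ((subgroupOfEquivOfLe hCN).symm x) ∈ (R₀ : Subgroup C)
          rwa [MulEquiv.apply_symm_apply], rfl⟩, rfl⟩
    rw [he] at h1
    exact h1
  have hQD : ∀ x ∈ Q, ∀ y ∈ D, x * y = y * x := fun x hx y hy => mem_centralizer_iff.1 (hDC hy) x hx
  have hDQn : D ≤ normalizer (Q : Set G) := hDC.trans hCN
  have hR : IsPGroup 2 (Q ⊔ D : Subgroup G) :=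
    IsPGroup.to_sup_of_normal_left' hQ (R₀.isPGroup'.map _) hDQn
  -- an element of odd order acting on `Q` as a power of `g`
  obtain ⟨k, m, hm, hkm⟩ := Nat.exists_eq_two_pow_mul_odd (orderOf_pos (n : G)).ne'
  set h := (n : G) ^ 2 ^ k with hh
  have hho : Odd (orderOf h) := by
    rw [hh, orderOf_pow_of_dvd (by positivity) ⟨m, hkm⟩, hkm, Nat.mul_div_cancel_left _ (by positivity)]
    exact hm
  have hnQ : (n : G) ∈ normalizer (Q : Set G) := n.2
  have hact : ∀ q ∈ Q, (n : G) * q * (n : G)⁻¹ = g * q * g⁻¹ := by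
    intro q hq
    have hg' : g = (n : G) * (c : G) := (congrArg Subtype.val hnc).symm
    rw [hg', mul_inv_rev, ← mul_assoc, mul_assoc (n : G) (c : G) q,
      ← mem_centralizer_iff.1 (show (c : G) ∈ centralizer (Q : Set G) from hc) q hq]
    group
  have hact' : ∀ (j : ℕ), ∀ q ∈ Q, (n : G) ^ j * q * ((n : G) ^ j)⁻¹ = g ^ j * q * (g ^ j)⁻¹ := by
    intro j
    induction j with
    | zero => simp
    | succ j ih =>
      intro q hq
      calc (n : G) ^ (j + 1) * q * ((n : G) ^ (j + 1))⁻¹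
          = (n : G) * ((n : G) ^ j * q * ((n : G) ^ j)⁻¹) * (n : G)⁻¹ := by rw [pow_succ']; group
        _ = g * (g ^ j * q * (g ^ j)⁻¹) * g⁻¹ := by
          rw [hact _ ((mem_normalizer_iff.1 (pow_mem hnQ j) q).1 hq), ih q hq]
        _ = _ := by rw [pow_succ']; group
  have hhC : h ∉ centralizer (Q : Set G) := by
    intro hmem
    obtain ⟨o, ho⟩ := hg
    refine hgC (mem_centralizer_iff.2 fun q hq => ?_)
    have h1 : Commute (g ^ 2 ^ k) q := mul_inv_eq_iff_eq_mul.1 (by
      rw [← hact' _ q hq]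
      exact mul_inv_eq_iff_eq_mul.2 (mem_centralizer_iff.1 hmem q hq).symm)
    obtain ⟨e, he⟩ := exists_pow_eq_self_of_coprime (x := g) (n := 2 ^ k)
      ((Nat.coprime_two_left.2 ⟨o, ho⟩).pow_left k)
    exact (he ▸ h1.pow_left e : Commute g q).symm.eq
  have hhR : h ∈ normalizer ((Q ⊔ D : Subgroup G) : Set G) := by
    refine pow_mem ?_ _
    rw [mem_normalizer_iff]
    intro x
    have e : (Q ⊔ D).map (MulAut.conj (n : G)).toMonoidHom = Q ⊔ D := by
      rw [Subgroup.map_sup]
      congr 1 <;> refine eq_of_le_of_card_ge ?_ (card_map_of_injective (MulAut.conj (n : G)).injective).ge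
      · rintro _ ⟨a, ha, rfl⟩; exact (mem_normalizer_iff.1 hnQ a).1 ha
      · rintro _ ⟨a, ha, rfl⟩; exact (mem_normalizer_iff.1 hnD a).1 ha
    constructor
    · exact fun hx => e ▸ ⟨x, hx, rfl⟩
    · intro hx
      rw [← e] at hx
      obtain ⟨a, ha, hax⟩ := hx
      rwa [← show a = x by simpa using hax]
  have hbad : Bad (Q ⊔ D) :=
    ⟨hR, h, hhR, hho, fun hc' => hhC (centralizer_le (SetLike.coe_subset_coe.2 le_sup_left) hc')⟩
  have hDQ : D ≤ Q := le_sup_right.trans (hQmax.le_of_ge hbad le_sup_left)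
  obtain ⟨S, hS⟩ := hQ.exists_le_sylow
  have hle := two_mul_card_pClasses_le S hS (fun x hx hxc => ?_) hg hgN hgC
  · rw [Nat.card_congr (S.equiv P).toEquiv] at hle
    omega
  · have hxC : x ∈ C := mem_centralizer_iff.2 fun q hq => hxc q (hS hq)
    have hxp : IsPGroup 2 (zpowers (⟨x, hxC⟩ : C)) := by
      obtain ⟨j, hj⟩ := IsPGroup.iff_orderOf.1 S.isPGroup' ⟨x, hx⟩
      exact IsPGroup.of_card (n := j) (by rw [Nat.card_zpowers, Subgroup.orderOf_mk,
        ← hj, Subgroup.orderOf_mk])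
    obtain ⟨R₂, hR₂⟩ := hxp.exists_le_sylow
    obtain ⟨u, hu⟩ := MulAction.exists_smul_eq C R₀ R₂
    have hx' := hR₂ (mem_zpowers (⟨x, hxC⟩ : C))
    rw [← hu, Sylow.coe_subgroup_smul] at hx'
    obtain ⟨r, hr, hrx⟩ := hx'
    have hrQ : (r : G) ∈ Q := hDQ ⟨r, hr, rfl⟩
    have hx2 : x = (u : G) * r * (u : G)⁻¹ := (congrArg Subtype.val hrx).symm
    rw [hx2, ← mem_centralizer_iff.1 u.2 _ hrQ, mul_inv_cancel_right]
    exact hrQ

end CfsgLib.FGSA
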