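import Mathlib.GroupTheory.FiniteAbelian.Duality
import Mathlib.RingTheory.IntegralDomain
import Mathlib.GroupTheory.GroupAction.Quotient
import Mathlib.GroupTheory.Sylow
import Cfsg.Agent.Coprime.Generation

/-!
# The operator lemma for fixed point free groups of type `(p, p)`

`A` of order `p ^ 2` acts on `H`, which acts on a module, and every element fixed by some `a ≠ 1`
fixes the norm of `a` on the module. Then suitable central subgroups of `[Q, T]`-type groups act
trivially.
-/

set_option autoImplicit false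

namespace CfsgLib.WardCore

open Finset

section Chars

variable {k R : Type*} [Field k] [Ring R] [Algebra k R] {Z : Type*} [CommGroup Z] [Fintype Z]

/-- Unnormalised character projection. -/
def E (π : Z →* R) (χ : Z →* kˣ) : R := ∑ z : Z, ((χ z)⁻¹ : kˣ).val • π z

theorem mul_E (π : Z →* R) (χ : Z →* kˣ) (x : Z) : π x * E π χ = (χ x : k) • E π χ := by
  unfold E
  rw [Finset.mul_sum, Finset.smul_sum]
  refine Fintype.sum_equiv (Equiv.mulLeft x) _ _ fun z => ?_
  rw [Equiv.coe_mulLeft, mul_smul_comm, ← map_mul π, smul_smul, map_mul χ, mul_inv,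
    Units.val_mul, ← mul_assoc, Units.mul_inv, one_mul]

theorem E_commute_of_commute (π : Z →* R) (χ : Z →* kˣ) {x : R} (h : ∀ z, x * π z = π z * x) :
    x * E π χ = E π χ * x := by
  simp only [E, Finset.mul_sum, Finset.sum_mul, mul_smul_comm, smul_mul_assoc, h]

theorem E_conj (π : Z →* R) (χ : Z →* kˣ) (e : MulAut Z) {x : R}
    (h : ∀ z, x * π z = π (e z) * x) :
    x * E π χ = E π (χ.comp e.symm.toMonoidHom) * x := by
  simp only [E, Finset.mul_sum, Finset.sum_mul, mul_smul_comm, smul_mul_assoc, h]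
  refine Fintype.sum_equiv e.toEquiv _ _ fun z => ?_
  simp

theorem E_mul_E_self (π : Z →* R) (χ : Z →* kˣ) :
    E π χ * E π χ = (Fintype.card Z : k) • E π χ := by
  calc E π χ * E π χ = ∑ z : Z, ((χ z)⁻¹ : kˣ).val • (π z * E π χ) := by
        conv_lhs => arg 1; unfold E
        simp only [Finset.sum_mul, smul_mul_assoc]
    _ = ∑ _z : Z, E π χ := Finset.sum_congr rfl fun z _ => by
        rw [mul_E, smul_smul, ← Units.val_mul, inv_mul_cancel, Units.val_one, one_smul]
    _ = (Fintype.card Z : k) • E π χ := by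
        rw [Finset.sum_const, Finset.card_univ, Nat.cast_smul_eq_nsmul]

theorem E_mul_E_ne (π : Z →* R) {χ ψ : Z →* kˣ} (h : χ ≠ ψ) : E π χ * E π ψ = 0 := by
  calc E π χ * E π ψ = ∑ z : Z, ((χ z)⁻¹ : kˣ).val • (π z * E π ψ) := by
        conv_lhs => arg 1; unfold E
        simp only [Finset.sum_mul, smul_mul_assoc]
    _ = (∑ z : Z, ((Units.coeHom k).comp (χ⁻¹ * ψ)) z) • E π ψ := by
        rw [Finset.sum_smul]
        refine Finset.sum_congr rfl fun z _ => ?_
        rw [mul_E, smul_smul]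
        simp
    _ = 0 := by
        classical
        rw [sum_hom_units_eq_zero _ fun he => h ?_, zero_smul]
        ext z
        have hz := DFunLike.congr_fun he z
        simp only [MonoidHom.comp_apply, Units.coeHom_apply, MonoidHom.mul_apply,
          MonoidHom.inv_apply, MonoidHom.one_apply, Units.val_eq_one, inv_mul_eq_one] at hz
        rw [hz]

theorem eq_one_of_fix_all [HasEnoughRootsOfUnity k (Monoid.exponent Z)] (hZ : (Fintype.card Z : k) ≠ 0)
    (π : Z →* R) {x : Z} (h : ∀ χ : Z →* kˣ, π x * E π χ = E π χ) : π x = 1 := by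
  classical
  obtain ⟨f⟩ := CommGroup.monoidHom_mulEquiv_of_hasEnoughRootsOfUnity Z k
  haveI : Fintype (Z →* kˣ) := Fintype.ofEquiv _ f.toEquiv.symm
  have hsum : ∑ χ : Z →* kˣ, E π χ = (Fintype.card Z : k) • π 1 := by
    simp only [E]
    rw [Finset.sum_comm, Finset.sum_eq_single 1]
    · simp only [map_one, inv_one, Units.val_one, one_smul, Finset.sum_const, Finset.card_univ]
      rw [Fintype.card_congr f.toEquiv, Nat.cast_smul_eq_nsmul]
    · intro z _ hz
      rw [← Finset.sum_smul]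
      obtain ⟨φ, hφ⟩ := CommGroup.exists_apply_ne_one_of_hasEnoughRootsOfUnity Z k hz
      have hs : (φ z : k)⁻¹ * ∑ χ : Z →* kˣ, ((χ z)⁻¹ : kˣ).val =
          ∑ χ : Z →* kˣ, ((χ z)⁻¹ : kˣ).val := by
        rw [Finset.mul_sum]
        refine Fintype.sum_equiv (Equiv.mulLeft φ) _ _ fun χ => ?_
        simp [mul_comm]
      have hne : (φ z : k)⁻¹ ≠ 1 := fun he => hφ (Units.ext (inv_eq_one.1 he))
      have : ∑ χ : Z →* kˣ, ((χ z)⁻¹ : kˣ).val = 0 := by
        by_contra h0
        exact hne (mul_right_cancel₀ h0 (hs.trans (one_mul _).symm))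
      rw [this, zero_smul]
    · exact fun h => absurd (Finset.mem_univ _) h
  have h2 : π x * ∑ χ : Z →* kˣ, E π χ = ∑ χ : Z →* kˣ, E π χ := by
    rw [Finset.mul_sum]
    exact Finset.sum_congr rfl fun χ _ => h χ
  rw [hsum, mul_smul_comm, ← map_mul, mul_one, map_one] at h2
  have := congrArg (fun y => (Fintype.card Z : k)⁻¹ • y) h2
  simpa [smul_smul, inv_mul_cancel₀ hZ] using this

end Chars

variable {k R : Type*} [Field k] [Ring R] [Algebra k R]
variable {H A Z : Type*} [Group H] [Finite H] [CommGroup A] [Finite A] [MulDistribMulAction A H]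
  [CommGroup Z] [Finite Z]

theorem eq_zpowers_sup_of_card {p : ℕ} (hp : p.Prime) (hcard : Nat.card A = p ^ 2)
    {b c : A} (hb : b ≠ 1) (hc : c ∉ Subgroup.zpowers b) :
    Subgroup.zpowers b ⊔ Subgroup.zpowers c = ⊤ := by
  obtain ⟨i, hi, hi'⟩ := (Nat.dvd_prime_pow hp).1
    (hcard ▸ Subgroup.card_subgroup_dvd_card (Subgroup.zpowers b ⊔ Subgroup.zpowers c))
  obtain ⟨j, hj, hj'⟩ := (Nat.dvd_prime_pow hp).1
    (hcard ▸ Subgroup.card_subgroup_dvd_card (Subgroup.zpowers b))
  have hlt : Nat.card (Subgroup.zpowers b) <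
      Nat.card ↥(Subgroup.zpowers b ⊔ Subgroup.zpowers c) := by
    by_contra h
    exact hc ((Subgroup.eq_of_le_of_card_ge (le_sup_left (b := Subgroup.zpowers c))
      (Nat.le_of_not_lt h)).ge (Subgroup.mem_sup_right (Subgroup.mem_zpowers c)))
  rw [hi', hj'] at hlt
  have hj0 : j ≠ 0 := by
    rintro rfl
    rw [pow_zero, Subgroup.card_eq_one] at hj'
    exact hb (Subgroup.mem_bot.1 (hj' ▸ Subgroup.mem_zpowers b))
  have hij := (Nat.pow_lt_pow_iff_right hp.one_lt).1 hlt
  obtain rfl : i = 2 := by omega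
  exact Subgroup.eq_top_of_card_eq _ (hi'.trans hcard.symm)

variable (ρ : H →* R) (σ : A →* R)

/-- Norm of `a` on the module. -/
def N (p : ℕ) (a : A) : R := ∑ i ∈ Finset.range p, σ (a ^ i)

/-- The core lemma. -/
theorem acts_trivially {p : ℕ} (hp : p.Prime) (hexp : ∀ a : A, a ^ p = 1)
    (hcard : Nat.card A = p ^ 2) (hcop : (Nat.card A).Coprime (Nat.card H))
    (hfpf : ∀ h : H, (∀ a : A, a • h = h) → h = 1)
    (hcov : ∀ (a : A) (h : H), σ a * ρ h = ρ (a • h) * σ a)
    (Q T : Subgroup H) [Group.IsSolvable Q]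
    (hQ : CfsgLib.Coprime.IsInvariant A Q) (hT : CfsgLib.Coprime.IsInvariant A T)
    (hTQ : ∀ t ∈ T, ∀ g ∈ Q, t * g * t⁻¹ ∈ Q)
    (hQT : ∀ K : Subgroup H, K ≤ Q → (∀ g ∈ Q, ∀ t ∈ T, g * (t * g⁻¹ * t⁻¹) ∈ K) → Q ≤ K)
    (a₀ : A) (ha₀ : a₀ ≠ 1) (hTa : ∀ t ∈ T, a₀ • t = t)
    (hTC : ∀ t ∈ T, ∀ g ∈ Q, a₀ • g = g → t * g * t⁻¹ = g)
    (hfix : ∀ a : A, a ≠ 1 → ∀ g ∈ Q, a • g = g → ρ g * N σ p a = N σ p a)
    (ι : Z →* H) (hι : Function.Injective ι) (hZQ : ∀ z, ι z ∈ Q)
    (hZc : ∀ z, ∀ g ∈ Q, g * ι z = ι z * g)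
    (cT : T →* MulAut Z) (hcT : ∀ (t : T) (z : Z), ι (cT t z) = t * ι z * (t : H)⁻¹)
    (cA : A →* MulAut Z) (hcA : ∀ (a : A) (z : Z), ι (cA a z) = a • ι z)
    [HasEnoughRootsOfUnity k (Monoid.exponent Z)] (hZ0 : (Nat.card Z : k) ≠ 0) (z₀ : Z) :
    ρ (ι z₀) = 1 := by
  classical
  haveI := Fintype.ofFinite Z
  haveI := Fact.mk hp
  rw [Nat.card_eq_fintype_card] at hZ0
  set π : Z →* R := ρ.comp ι with hπ
  refine eq_one_of_fix_all hZ0 π (x := z₀) fun χ => ?_
  show π z₀ * E π χ = E π χ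
  by_cases hE : E π χ = 0
  · rw [hE, mul_zero]
  by_cases hχ : χ = 1
  · rw [mul_E, hχ, MonoidHom.one_apply, Units.val_one, one_smul]
  exfalso
  -- the action on characters
  let act : MulAut Z → (Z →* kˣ) → (Z →* kˣ) := fun e μ => μ.comp e.symm.toMonoidHom
  have act_one : ∀ μ, act 1 μ = μ := fun μ => rfl
  have act_mul : ∀ e f μ, act (e * f) μ = act e (act f μ) := fun e f μ => rfl
  have hρT : ∀ (t : T) (μ : Z →* kˣ), ρ t * E π μ = E π (act (cT t) μ) * ρ t := fun t μ =>
    E_conj π μ (cT t) fun z => by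
      simp only [hπ, MonoidHom.comp_apply, ← map_mul, hcT, inv_mul_cancel_right]
  have hσA : ∀ (a : A) (μ : Z →* kˣ), σ a * E π μ = E π (act (cA a) μ) * σ a := fun a μ =>
    E_conj π μ (cA a) fun z => by
      simp only [hπ, MonoidHom.comp_apply, hcA, hcov]
  have hQE : ∀ g ∈ Q, ∀ μ : Z →* kˣ, ρ g * E π μ = E π μ * ρ g := fun g hg μ =>
    E_commute_of_commute π μ fun z => by
      simp only [hπ, MonoidHom.comp_apply, ← map_mul, hZc z g hg]
  let sm : A → T → T := fun a t => ⟨a • (t : H), hT a t t.2⟩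
  have hcomp : ∀ (a : A) (t : T) μ,
      act (cA a) (act (cT t) μ) = act (cT (sm a t)) (act (cA a) μ) := by
    intro a t μ
    have he : cA a * cT t = cT (sm a t) * cA a := by
      ext z
      apply hι
      simp only [MulAut.mul_apply, hcA, hcT, sm, smul_mul', smul_inv']
    rw [← act_mul, ← act_mul, he]
  let O : Set (Z →* kˣ) := Set.range fun t : T => act (cT t) χ
  have hEO : ∀ μ ∈ O, E π μ ≠ 0 := by
    rintro μ ⟨t, rfl⟩ h0
    apply hE
    have h2 := hρT t χ
    rw [h0, zero_mul] at h2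
    calc E π χ = ρ ((t : H)⁻¹) * (ρ t * E π χ) := by
          rw [← mul_assoc, ← map_mul, inv_mul_cancel, map_one, one_mul]
      _ = 0 := by rw [h2, mul_zero]
  have hO1 : ∀ μ ∈ O, μ ≠ 1 := by
    rintro μ ⟨t, rfl⟩ h1
    apply hχ
    ext z
    have h2 := DFunLike.congr_fun h1 (cT t z)
    simp only [act, MonoidHom.comp_apply, MulEquiv.coe_toMonoidHom, MulEquiv.symm_apply_apply,
      MonoidHom.one_apply] at h2
    rw [h2]; rfl
  -- no character of the orbit is fixed by all of `A`
  have hnotA : ∀ μ ∈ O, ¬ ∀ a, act (cA a) μ = μ := by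
    intro μ hμ hall
    haveI := Fintype.ofFinite A
    apply hO1 μ hμ
    refine MonoidHom.ext fun z => ?_
    rw [MonoidHom.one_apply]
    have hinv : ∀ a : A, μ (cA a z) = μ z := fun a => by
      have := DFunLike.congr_fun (hall a) (cA a z)
      simpa [act] using this.symm
    have hprod : ∏ a : A, cA a z = 1 := by
      apply hι
      rw [map_one]
      refine hfpf _ fun c => ?_
      rw [← hcA, map_prod]
      congr 1
      exact Fintype.prod_equiv (Equiv.mulLeft c) _ _ fun a => by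
        simp [map_mul, MulAut.mul_apply]
    have h1 : μ z ^ Fintype.card A = 1 := by
      have h2 := congrArg μ hprod
      simp only [map_prod, hinv, Finset.prod_const, Finset.card_univ, map_one] at h2
      exact h2
    have h3 : μ z ^ Fintype.card Z = 1 := by rw [← map_pow, pow_card_eq_one, map_one]
    refine orderOf_eq_one_iff.1 (Nat.eq_one_of_dvd_coprimes ?_ (orderOf_dvd_of_pow_eq_one h1)
      (orderOf_dvd_of_pow_eq_one h3))
    rw [← Nat.card_eq_fintype_card, ← Nat.card_eq_fintype_card]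
    exact hcop.coprime_dvd_right (Subgroup.card_dvd_of_injective ι hι)
  have hgen : ∀ L : Subgroup H, (∀ a : A, a ≠ 1 → ∀ g ∈ Q, a • g = g → g ∈ L) → Q ≤ L := by
    intro L hL g hg
    have hnc : ¬ IsCyclic A := fun hc => by
      have h1 : Monoid.exponent A = Nat.card A := IsCyclic.exponent_eq_card
      have h2 : Monoid.exponent A ∣ p := Monoid.exponent_dvd_of_forall_pow_eq_one hexp
      rw [h1, hcard] at h2
      have h3 := Nat.le_of_dvd hp.pos h2
      rw [pow_two] at h3
      have h4 := Nat.mul_lt_mul_of_pos_left hp.one_lt hp.pos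
      omega
    letI : MulDistribMulAction A Q :=
      { smul := fun a x => ⟨a • (x : H), hQ a x x.2⟩
        one_smul := fun x => Subtype.ext (one_smul A (x : H))
        mul_smul := fun a b x => Subtype.ext (mul_smul a b (x : H))
        smul_mul := fun a x y => Subtype.ext (smul_mul' a (x : H) y)
        smul_one := fun a => Subtype.ext (smul_one a) }
    have h := CfsgLib.Coprime.le_closure_fixed_of_isSolvable (A := A) (G := Q) hnc
      (⊤ : Subgroup Q) (CfsgLib.Coprime.IsInvariant.top A)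
      (by
        rw [Subgroup.card_top]
        exact hcop.coprime_dvd_right (Subgroup.card_subgroup_dvd_card Q))
      (Subgroup.mem_top ⟨g, hg⟩)
    have hle : Subgroup.closure {x : Q | ∃ a : A, a ≠ 1 ∧ a • x = x} ≤ L.subgroupOf Q := by
      rw [Subgroup.closure_le]
      rintro x ⟨a, ha, hx⟩
      exact hL a ha x x.2 (congrArg Subtype.val hx)
    exact hle h
  have hpow_fix : ∀ μ (b c : A), act (cA c) μ = μ → b ∈ Subgroup.zpowers c →
      act (cA b) μ = μ := by
    intro μ b c hc hb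
    let S : Subgroup A :=
      { carrier := {a | act (cA a) μ = μ}
        mul_mem' := fun {x y} (hx : act (cA x) μ = μ) (hy : act (cA y) μ = μ) => by
          show act (cA (x * y)) μ = μ
          rw [map_mul, act_mul, hy, hx]
        one_mem' := by show act (cA 1) μ = μ; rw [map_one, act_one]
        inv_mem' := fun {x} (hx : act (cA x) μ = μ) => by
          show act (cA x⁻¹) μ = μ
          conv_lhs => rw [← hx]
          rw [← act_mul, ← map_mul, inv_mul_cancel, map_one, act_one] }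
    exact (Subgroup.zpowers_le.2 (show c ∈ S from hc)) hb
  have hzpow : ∀ (a : A) (i : ℕ), 0 < i → i < p → a ∈ Subgroup.zpowers (a ^ i) := by
    intro a i hi0 hip
    obtain ⟨l, hl⟩ := exists_pow_eq_self_of_coprime (x := a) (n := i)
      ((((hp.coprime_iff_not_dvd).2 (Nat.not_dvd_of_pos_of_lt hi0 hip)).symm).coprime_dvd_right
        (orderOf_dvd_of_pow_eq_one (hexp a)))
    rw [Subgroup.mem_zpowers_iff]
    exact ⟨l, by rw [zpow_natCast, hl]⟩
  have key : ∀ a : A, a ≠ 1 → ∀ g ∈ Q, a • g = g → ∀ μ : Z →* kˣ, act (cA a) μ ≠ μ →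
      ρ g * E π μ = E π μ := by
    intro a ha g hg hag μ hμ
    have h0 : E π μ * N σ p a * E π μ = (Fintype.card Z : k) • E π μ := by
      rw [N, Finset.mul_sum, Finset.sum_mul, Finset.sum_eq_single 0]
      · rw [pow_zero, map_one, mul_one, E_mul_E_self]
      · intro i hi hi0
        rw [mul_assoc, hσA, ← mul_assoc, E_mul_E_ne, zero_mul]
        intro h
        exact hμ (hpow_fix μ a _ h.symm (hzpow a i (Nat.pos_of_ne_zero hi0) (Finset.mem_range.1 hi)))
      · exact fun h => absurd (Finset.mem_range.2 hp.pos) h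
    have h1 : ρ g * (E π μ * N σ p a * E π μ) = E π μ * N σ p a * E π μ := by
      rw [← mul_assoc, ← mul_assoc, hQE g hg, mul_assoc _ (ρ g), hfix a ha g hg hag]
    rw [h0, mul_smul_comm] at h1
    have := congrArg (fun y => (Fintype.card Z : k)⁻¹ • y) h1
    simpa [smul_smul, inv_mul_cancel₀ hZ0] using this
  have contra : ∀ μ ∈ O, ¬ ∀ g ∈ Q, ρ g * E π μ = E π μ := by
    intro μ hμ hQ'
    apply hO1 μ hμ
    ext z
    rw [MonoidHom.one_apply, Units.val_one]
    have h := hQ' _ (hZQ z)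
    rw [show ρ (ι z) = π z from rfl, mul_E] at h
    by_contra hne
    apply hEO μ hμ
    have h2 : ((μ z : k) - 1) • E π μ = 0 := by rw [sub_smul, one_smul, h, sub_self]
    exact (smul_eq_zero.1 h2).resolve_left (sub_ne_zero.2 hne)
  have hfixQ : ∀ μ : Z →* kˣ, ∀ g ∈ Q, ∀ h ∈ Q, ρ g * E π μ = E π μ → ρ h * E π μ = E π μ →
      ρ (g * h) * E π μ = E π μ := fun μ g _ h _ hg hh => by
    rw [map_mul, mul_assoc, hh, hg]
  -- stabilizers
  have hexists : ∀ μ ∈ O, ∃ b : A, b ≠ 1 ∧ act (cA b) μ = μ := by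
    intro μ hμ
    by_contra! hno
    apply contra μ hμ
    let L : Subgroup H :=
      { carrier := {g | g ∈ Q ∧ ρ g * E π μ = E π μ}
        mul_mem' := fun {x y} hx hy => ⟨Q.mul_mem hx.1 hy.1, hfixQ μ x hx.1 y hy.1 hx.2 hy.2⟩
        one_mem' := ⟨Q.one_mem, by rw [map_one, one_mul]⟩
        inv_mem' := fun {x} hx => ⟨Q.inv_mem hx.1, by
          conv_lhs => rw [← hx.2]
          rw [← mul_assoc, ← map_mul, inv_mul_cancel, map_one, one_mul]⟩ }
    exact fun g hg => (hgen L (fun a ha g hg hag => ⟨hg, key a ha g hg hag μ (hno a ha)⟩) hg).2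
  have hχO : χ ∈ O := ⟨1, by show act (cT 1) χ = χ; rw [map_one, act_one]⟩
  obtain ⟨b, hb1, hbχ⟩ := hexists χ hχO
  have hbO : ∀ μ ∈ O, act (cA b) μ ∈ O := by
    rintro μ ⟨t, rfl⟩
    exact ⟨sm b t, by show _ = act (cA b) (act (cT t) χ); rw [hcomp, hbχ]⟩
  -- the whole orbit is stabilized by `b`
  have hball : ∀ μ ∈ O, act (cA b) μ = μ := by
    intro μ hμ
    obtain ⟨c, hc1, hcμ⟩ := hexists μ hμ
    by_cases hcb : c ∈ Subgroup.zpowers b
    · obtain ⟨i, hip, hi⟩ : ∃ i, i < p ∧ b ^ i = c := by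
        obtain ⟨i, rfl⟩ := Subgroup.mem_zpowers_iff.1 hcb
        refine ⟨(i % (p : ℤ)).toNat, ?_, ?_⟩
        · have h1 := Int.emod_lt_of_pos i (Int.natCast_pos.2 hp.pos)
          have h2 := Int.emod_nonneg i (Int.natCast_ne_zero.2 hp.ne_zero)
          omega
        · rw [← zpow_natCast, Int.toNat_of_nonneg (Int.emod_nonneg i
            (Int.natCast_ne_zero.2 hp.ne_zero))]
          conv_rhs => rw [← Int.emod_add_mul_ediv i p, zpow_add, zpow_mul, zpow_natCast, hexp,
            one_zpow, mul_one]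
      have hbc : b ∈ Subgroup.zpowers c := hi ▸ hzpow b i
        (Nat.pos_of_ne_zero fun h => hc1 (by rw [← hi, h, pow_zero])) hip
      exact hpow_fix μ b c hcμ hbc
    · exfalso
      obtain ⟨t, rfl⟩ := hμ
      have hcχ : ∀ ν ∈ O, act (cA c) ν ∈ O := by
        rintro ν ⟨u, rfl⟩
        refine ⟨sm c u * (sm c t)⁻¹ * t, ?_⟩
        show _ = act (cA c) (act (cT u) χ)
        have e : act (cT u) χ = act (cT (u * t⁻¹)) (act (cT t) χ) := by
          rw [← act_mul, ← map_mul, inv_mul_cancel_right]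
        rw [e, hcomp]
        simp only at hcμ
        rw [hcμ, ← act_mul, ← map_mul]
        congr 2
        ext
        simp [sm, smul_mul', smul_inv']
      let St : Subgroup A :=
        { carrier := {a | ∀ ν ∈ O, act (cA a) ν ∈ O}
          mul_mem' := fun {x y} hx hy ν hν => by rw [map_mul, act_mul]; exact hx _ (hy _ hν)
          one_mem' := fun ν hν => by rw [map_one, act_one]; exact hν
          inv_mem' := fun {x} hx => by
            have : ∀ n : ℕ, ∀ ν ∈ O, act (cA (x ^ n)) ν ∈ O := by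
              intro n
              induction n with
              | zero => intro ν hν; rwa [pow_zero, map_one, act_one]
              | succ n ihn =>
                intro ν hν
                rw [pow_succ, map_mul, act_mul]
                exact ihn _ (hx _ hν)
            intro ν hν
            have hx' : x⁻¹ = x ^ (p - 1) := inv_eq_of_mul_eq_one_right (by
              rw [← pow_succ', Nat.sub_add_cancel hp.one_le, hexp])
            rw [hx']
            exact this _ ν hν }
      have htop : St = ⊤ := eq_top_iff.2 ((eq_zpowers_sup_of_card hp hcard hb1 hcb) ▸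
        sup_le (Subgroup.zpowers_le.2 hbO) (Subgroup.zpowers_le.2 hcχ))
      letI : MulAction A O :=
        { smul := fun a ν => ⟨act (cA a) ν, (htop ▸ Subgroup.mem_top a : a ∈ St) ν ν.2⟩
          one_smul := fun ν => Subtype.ext (by show act (cA 1) ν.1 = ν.1; rw [map_one, act_one])
          mul_smul := fun x y ν => Subtype.ext (by
            show act (cA (x * y)) ν.1 = act (cA x) (act (cA y) ν.1)
            rw [map_mul, act_mul]) }
      have hA : IsPGroup p A := IsPGroup.of_card hcard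
      haveI : Finite O := Set.finite_range _
      have hdvd : ¬ p ∣ Nat.card O := by
        intro hd
        letI : MulAction T (Z →* kˣ) :=
          { smul := fun t μ => act (cT t) μ
            one_smul := fun μ => by show act (cT 1) μ = μ; rw [map_one, act_one]
            mul_smul := fun x y μ => by
              show act (cT (x * y)) μ = act (cT x) (act (cT y) μ)
              rw [map_mul, act_mul] }
        haveI := Fintype.ofFinite T
        haveI : Finite (MulAction.orbit T χ) := Set.finite_range _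
        haveI := Fintype.ofFinite (MulAction.orbit T χ)
        have h1 : p ∣ Nat.card T := by
          refine hd.trans ⟨Nat.card (MulAction.stabilizer T χ), ?_⟩
          show Nat.card T = Nat.card (MulAction.orbit T χ) * _
          rw [Nat.card_eq_fintype_card, Nat.card_eq_fintype_card, Nat.card_eq_fintype_card]
          exact (MulAction.card_orbit_mul_card_stabilizer_eq_card_group T χ).symm
        have h2 : p ∣ Nat.card A := hcard ▸ dvd_pow_self p two_ne_zero
        exact hp.ne_one (Nat.eq_one_of_dvd_coprimes hcop h2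
          (h1.trans (Subgroup.card_subgroup_dvd_card T)))
      obtain ⟨⟨ν, hν⟩, hνfix⟩ := hA.nonempty_fixed_point_of_prime_not_dvd_card O hdvd
      exact hnotA ν hν fun a => congrArg Subtype.val (hνfix a)
  have hout : ∀ c : A, c ∉ Subgroup.zpowers b → ∀ g ∈ Q, c • g = g → ∀ μ ∈ O,
      ρ g * E π μ = E π μ := by
    intro c hc g hg hcg μ hμ
    refine key c (fun h => hc (h ▸ one_mem _)) g hg hcg μ fun hcμ => hnotA μ hμ fun a => ?_
    let S : Subgroup A :=
      { carrier := {a | act (cA a) μ = μ}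
        mul_mem' := fun {x y} (hx : act (cA x) μ = μ) (hy : act (cA y) μ = μ) => by
          show act (cA (x * y)) μ = μ
          rw [map_mul, act_mul, hy, hx]
        one_mem' := by show act (cA 1) μ = μ; rw [map_one, act_one]
        inv_mem' := fun {x} (hx : act (cA x) μ = μ) => hpow_fix μ x⁻¹ x hx
          ((Subgroup.zpowers x).inv_mem (Subgroup.mem_zpowers x)) }
    have : (⊤ : Subgroup A) ≤ S := (eq_zpowers_sup_of_card hp hcard hb1 hc) ▸
      sup_le (Subgroup.zpowers_le.2 (hball μ hμ)) (Subgroup.zpowers_le.2 hcμ)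
    exact this (Subgroup.mem_top a)
  -- the kernel on the orbit
  let K : Subgroup H :=
    { carrier := {g | g ∈ Q ∧ ∀ μ ∈ O, ρ g * E π μ = E π μ}
      mul_mem' := fun {x y} hx hy =>
        ⟨Q.mul_mem hx.1 hy.1, fun μ hμ => hfixQ μ x hx.1 y hy.1 (hx.2 μ hμ) (hy.2 μ hμ)⟩
      one_mem' := ⟨Q.one_mem, fun μ _ => by rw [map_one, one_mul]⟩
      inv_mem' := fun {x} hx => ⟨Q.inv_mem hx.1, fun μ hμ => by
        conv_lhs => rw [← hx.2 μ hμ]
        rw [← mul_assoc, ← map_mul, inv_mul_cancel, map_one, one_mul]⟩ }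
  have hKn : ∀ g ∈ Q, ∀ x ∈ K, g * x * g⁻¹ ∈ K := fun g hg x hx =>
    ⟨Q.mul_mem (Q.mul_mem hg hx.1) (Q.inv_mem hg), fun μ hμ => by
      rw [map_mul, mul_assoc, hQE _ (Q.inv_mem hg), ← mul_assoc, map_mul, mul_assoc (ρ g),
        hx.2 μ hμ, hQE g hg, mul_assoc, ← map_mul, mul_inv_cancel, map_one, mul_one]⟩
  have hKT : ∀ t ∈ T, ∀ x ∈ K, t * x * t⁻¹ ∈ K := fun t ht x hx =>
    ⟨hTQ t ht x hx.1, fun μ hμ => by
      obtain ⟨u, rfl⟩ := hμ
      have hmem : act (cT ((⟨t, ht⟩ : T)⁻¹ * u)) χ ∈ O := ⟨_, rfl⟩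
      have h1 := hρT (⟨t, ht⟩ : T) (act (cT ((⟨t, ht⟩ : T)⁻¹ * u)) χ)
      rw [← act_mul, ← map_mul, mul_inv_cancel_left] at h1
      simp only at h1 ⊢
      calc ρ (t * x * t⁻¹) * E π (act (cT u) χ)
          = ρ (t * x * t⁻¹) * (E π (act (cT u) χ) * ρ t) * ρ t⁻¹ := by
            rw [mul_assoc, mul_assoc, mul_assoc, ← map_mul, mul_inv_cancel, map_one, mul_one]
        _ = ρ t * ρ x * (ρ t⁻¹ * ρ t) * E π (act (cT ((⟨t, ht⟩ : T)⁻¹ * u)) χ) * ρ t⁻¹ := by
            rw [← h1, map_mul, map_mul]; simp only [mul_assoc]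
        _ = E π (act (cT u) χ) * (ρ t * ρ t⁻¹) := by
            rw [← map_mul ρ t⁻¹, inv_mul_cancel, map_one, mul_one, mul_assoc (ρ t),
              hx.2 _ hmem, h1, mul_assoc]
        _ = E π (act (cT u) χ) := by rw [← map_mul, mul_inv_cancel, map_one, mul_one]⟩
  have hKb : ∀ x ∈ K, b • x ∈ K := fun x hx => ⟨hQ b x hx.1, fun μ hμ => by
    have hμb := hσA b μ
    rw [hball μ hμ] at hμb
    calc ρ (b • x) * E π μ = ρ (b • x) * (E π μ * σ b) * σ b⁻¹ := by
          rw [mul_assoc, mul_assoc, ← map_mul σ, mul_inv_cancel, map_one, mul_one]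
      _ = σ b * ρ x * E π μ * σ b⁻¹ := by rw [← hμb, ← mul_assoc, hcov]
      _ = E π μ * (σ b * σ b⁻¹) := by rw [mul_assoc (σ b), hx.2 μ hμ, hμb, mul_assoc]
      _ = E π μ := by rw [← map_mul σ, mul_inv_cancel, map_one, mul_one]⟩
  -- `b` is trivial on `Q / K`
  let L₂ : Subgroup H :=
    { carrier := {x | x ∈ Q ∧ x⁻¹ * b • x ∈ K}
      mul_mem' := fun {x y} hx hy => ⟨Q.mul_mem hx.1 hy.1, by
        have := K.mul_mem (hKn y⁻¹ (Q.inv_mem hy.1) _ hx.2) hy.2
        simpa [smul_mul', mul_assoc] using this⟩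
      one_mem' := ⟨Q.one_mem, by simp⟩
      inv_mem' := fun {x} hx => ⟨Q.inv_mem hx.1, by
        have := hKn x hx.1 _ (K.inv_mem hx.2)
        simpa [smul_inv', mul_assoc] using this⟩ }
  have hL₂ : Q ≤ L₂ := hgen L₂ fun c hc g hg hcg => by
    refine ⟨hg, ?_⟩
    by_cases hcb : c ∈ Subgroup.zpowers b
    · have hbg : b • g = g := by
        have hbc : b ∈ Subgroup.zpowers c := by
          have h1 : Subgroup.zpowers c ≤ Subgroup.zpowers b := Subgroup.zpowers_le.2 hcb
          have h2 : Subgroup.zpowers c = Subgroup.zpowers b :=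
            Subgroup.eq_of_le_of_card_ge h1 (by
              rw [Nat.card_zpowers, Nat.card_zpowers, orderOf_eq_prime (hexp b) hb1,
                orderOf_eq_prime (hexp c) hc])
          exact h2 ▸ Subgroup.mem_zpowers b
        have : Subgroup.zpowers c ≤ MulAction.stabilizer A g := Subgroup.zpowers_le.2 hcg
        exact this hbc
      rw [hbg, inv_mul_cancel]
      exact K.one_mem
    · have hgK : g ∈ K := ⟨hg, fun μ hμ => hout c hcb g hg hcg μ hμ⟩
      exact K.mul_mem (K.inv_mem hgK) (hKb g hgK)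
  let L : Subgroup H :=
    { carrier := {g | g ∈ Q ∧ ∀ t ∈ T, g * (t * g⁻¹ * t⁻¹) ∈ K}
      mul_mem' := fun {x y} hx hy => ⟨Q.mul_mem hx.1 hy.1, fun t ht => by
        have := K.mul_mem (hKn x hx.1 _ (hy.2 t ht)) (hx.2 t ht)
        simpa [mul_assoc] using this⟩
      one_mem' := ⟨Q.one_mem, fun t _ => by simp⟩
      inv_mem' := fun {x} hx => ⟨Q.inv_mem hx.1, fun t ht => by
        have := hKn x⁻¹ (Q.inv_mem hx.1) _ (K.inv_mem (hx.2 t ht))
        simpa [mul_assoc] using this⟩ }
  have hL : Q ≤ L := hgen L fun c hc g hg hcg => by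
    refine ⟨hg, fun t ht => ?_⟩
    by_cases hcb : c ∈ Subgroup.zpowers b
    swap
    · have hgK : g ∈ K := ⟨hg, fun μ hμ => hout c hcb g hg hcg μ hμ⟩
      exact K.mul_mem hgK (hKT t ht _ (K.inv_mem hgK))
    have hzc : Subgroup.zpowers c = Subgroup.zpowers b :=
      Subgroup.eq_of_le_of_card_ge (Subgroup.zpowers_le.2 hcb) (by
        rw [Nat.card_zpowers, Nat.card_zpowers, orderOf_eq_prime (hexp b) hb1,
          orderOf_eq_prime (hexp c) hc])
    have hst : Subgroup.zpowers b ≤ MulAction.stabilizer A g :=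
      hzc ▸ Subgroup.zpowers_le.2 hcg
    by_cases hab : a₀ ∈ Subgroup.zpowers b
    · have hag : a₀ • g = g := hst hab
      have htg := hTC t ht g⁻¹ (Q.inv_mem hg) (by rw [smul_inv', hag])
      rw [htg, mul_inv_cancel]
      exact K.one_mem
    have hbg : b • g = g := hst (Subgroup.mem_zpowers b)
    -- `u = t₁⁻¹ (b • t₁)` covers `T`
    have hinj : Function.Injective fun s : T => s⁻¹ * sm b s := by
      intro x y hxy
      have hxy' : (x : H)⁻¹ * b • (x : H) = (y : H)⁻¹ * b • (y : H) := congrArg Subtype.val hxy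
      have hfixw : b • ((y : H) * (x : H)⁻¹) = (y : H) * (x : H)⁻¹ := by
        rw [smul_mul', smul_inv']
        calc b • (y : H) * (b • (x : H))⁻¹
            = y * ((y : H)⁻¹ * b • (y : H)) * (b • (x : H))⁻¹ := by group
          _ = y * ((x : H)⁻¹ * b • (x : H)) * (b • (x : H))⁻¹ := by rw [hxy']
          _ = y * (x : H)⁻¹ := by group
      have hw := hfpf ((y : H) * (x : H)⁻¹) fun a => by
        have : (⊤ : Subgroup A) ≤ MulAction.stabilizer A ((y : H) * (x : H)⁻¹) :=
          (eq_zpowers_sup_of_card hp hcard hb1 hab) ▸ sup_le (Subgroup.zpowers_le.2 hfixw)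
            (Subgroup.zpowers_le.2 (hTa _ (T.mul_mem y.2 (T.inv_mem x.2))))
        exact this (Subgroup.mem_top a)
      exact Subtype.ext (mul_inv_eq_one.1 hw).symm
    obtain ⟨s, hs⟩ := Finite.injective_iff_surjective.1 hinj ⟨t, ht⟩
    have hu : t = (s : H)⁻¹ * b • (s : H) := (congrArg Subtype.val hs).symm
    have h1 := (hL₂ (hTQ s s.2 g⁻¹ (Q.inv_mem hg))).2
    have h2 := hKT _ (T.inv_mem s.2) _ h1
    rw [inv_inv, smul_mul', smul_mul', smul_inv', smul_inv', hbg] at h2
    rw [hu]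
    simpa [mul_assoc] using h2
  have hQK : Q ≤ K := hQT K (fun g hg => hg.1) fun g hg t ht => (hL hg).2 t ht
  exact contra χ hχO fun g hg => (hQK hg).2 χ hχO

end CfsgLib.WardCore
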