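import Mathlib.FieldTheory.IsAlgClosed.AlgebraicClosure
import Mathlib.LinearAlgebra.Matrix.ToLin
import Mathlib.LinearAlgebra.Dimension.Free
import Mathlib.Algebra.Module.ZMod
import Mathlib.Algebra.Field.ZMod
import Mathlib.Algebra.Group.End

/-!
# Automorphisms of an elementary abelian group as matrices over an algebraically closed field
-/

set_option autoImplicit false

namespace CfsgLib.WardRep

theorem exists_endHom {W : Type*} [AddCommGroup W] [Finite W] {r : ℕ} [Fact r.Prime]
    [Module (ZMod r) W] :
    ∃ (n : ℕ) (M : AddMonoid.End W →+* Matrix (Fin n) (Fin n) (AlgebraicClosure (ZMod r))),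
      Function.Injective M := by
  haveI : Module.Finite (ZMod r) W := Module.Finite.of_finite
  let b := Module.finBasis (ZMod r) W
  let L : AddMonoid.End W →+* Module.End (ZMod r) W :=
    { toFun := fun f => AddMonoidHom.toZModLinearMap r f
      map_one' := LinearMap.ext fun x => rfl
      map_mul' := fun f g => LinearMap.ext fun x => rfl
      map_zero' := LinearMap.ext fun x => rfl
      map_add' := fun f g => LinearMap.ext fun x => rfl }
  have hL : Function.Injective L := fun f g h => AddMonoidHom.toZModLinearMap_injective r h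
  refine ⟨_, ((algebraMap (ZMod r) (AlgebraicClosure (ZMod r))).mapMatrix).comp
    ((LinearMap.toMatrixAlgEquiv b).toRingEquiv.toRingHom.comp L), ?_⟩
  exact ((Matrix.map_injective (algebraMap (ZMod r) (AlgebraicClosure (ZMod r))).injective).comp
    (LinearMap.toMatrixAlgEquiv b).injective).comp hL

theorem exists_rep {V : Type*} [CommGroup V] [Finite V] {r : ℕ} [Fact r.Prime]
    (hr : ∀ v : V, v ^ r = 1) :
    ∃ (n : ℕ) (Φ : MulAut V →* Matrix (Fin n) (Fin n) (AlgebraicClosure (ZMod r))),
      Function.Injective Φ ∧ ∀ (f : MulAut V) (m : ℕ) (a : ℕ → MulAut V),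
        (∀ v, f (∏ i ∈ Finset.range m, a i v) = ∏ i ∈ Finset.range m, a i v) →
          Φ f * (∑ i ∈ Finset.range m, Φ (a i)) = ∑ i ∈ Finset.range m, Φ (a i) := by
  have hr' : ∀ x : Additive V, r • x = 0 := fun x => congrArg Additive.ofMul (hr x.toMul)
  obtain ⟨n, M, hM⟩ := @exists_endHom (Additive V) _ _ r _ (AddCommGroup.zmodModule hr')
  let L : MulAut V →* AddMonoid.End (Additive V) :=
    { toFun := fun f => MonoidHom.toAdditive f.toMonoidHom
      map_one' := DFunLike.ext _ _ fun x => rfl
      map_mul' := fun f g => DFunLike.ext _ _ fun x => rfl }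
  have hL : ∀ (f : MulAut V) (v : V), L f (Additive.ofMul v) = Additive.ofMul (f v) :=
    fun f v => rfl
  refine ⟨n, M.toMonoidHom.comp L, fun f g h => ?_, fun f m a h => ?_⟩
  · refine MulEquiv.ext fun v => ?_
    have := DFunLike.congr_fun (hM h : L f = L g) (Additive.ofMul v)
    exact Additive.ofMul.injective this
  · show M (L f) * ∑ i ∈ Finset.range m, M (L (a i)) = ∑ i ∈ Finset.range m, M (L (a i))
    rw [← map_sum, ← map_mul]
    congr 1
    refine DFunLike.ext _ _ fun x => ?_
    obtain ⟨v, rfl⟩ := Additive.ofMul.surjective x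
    let ev : AddMonoid.End (Additive V) →+ Additive V :=
      { toFun := fun T => T (Additive.ofMul v)
        map_zero' := rfl
        map_add' := fun _ _ => rfl }
    show L f (ev (∑ i ∈ Finset.range m, L (a i))) = ev (∑ i ∈ Finset.range m, L (a i))
    rw [map_sum ev]
    show L f (∑ i ∈ Finset.range m, L (a i) (Additive.ofMul v)) =
      ∑ i ∈ Finset.range m, L (a i) (Additive.ofMul v)
    simp only [hL, ← ofMul_prod]
    rw [h v]

end CfsgLib.WardRep
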