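import Mathlib.GroupTheory.Nilpotent
import Cfsg.Agent.FGSA.FPFPrime
import Mathlib.RingTheory.RootsOfUnity.AlgebraicallyClosed
import Cfsg.Agent.FGSA.Basic
import Cfsg.Agent.FGSA.Nilpotent
import Cfsg.Agent.FGSA.WardCore
import Cfsg.Agent.FGSA.WardRep
import Cfsg.Agent.Solvable.CoprimeAct

/-!
# Ward's theorem

A solvable group with a fixed point free automorphism group of type `(p, p)` is nilpotent by
nilpotent.
-/

set_option autoImplicit false

namespace CfsgLib.Ward

open CfsgLib.Coprime
open scoped commutatorElement Pointwise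

universe u v

variable {A : Type v} [CommGroup A] [Finite A]

/-- A minimal invariant normal subgroup, elementary abelian. -/
theorem exists_min {G : Type u} [Group G] [Finite G] [Nontrivial G] [MulDistribMulAction A G]
    (hG : Group.IsSolvable G) :
    ∃ (V : Subgroup G) (r : ℕ), r.Prime ∧ V ≠ ⊥ ∧ V.Normal ∧ IsInvariant A V ∧
      (∀ m ∈ V, ∀ n ∈ V, m * n = n * m) ∧ (∀ n ∈ V, n ^ r = 1) ∧
      ∀ U : Subgroup G, U ≤ V → U.Normal → IsInvariant A U → U = ⊥ ∨ U = V := by
  haveI := hG
  have hne : {U : Subgroup G | U ≠ ⊥ ∧ U.Normal ∧ IsInvariant A U}.Nonempty :=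
    ⟨⊤, top_ne_bot, inferInstance, IsInvariant.top A⟩
  obtain ⟨V, hV⟩ := (Set.toFinite _).exists_minimal hne
  obtain ⟨hV0, hVn, hVi⟩ := hV.1
  haveI := hVn
  have hmin : ∀ U : Subgroup G, U ≤ V → U.Normal → IsInvariant A U → U = ⊥ ∨ U = V := by
    intro U hU hUn hUi
    by_contra! h
    exact h.2 (le_antisymm hU (hV.2 ⟨h.1, hUn, hUi⟩ hU))
  haveI : Nontrivial V := V.nontrivial_iff_ne_bot.2 hV0
  have hcomm : ∀ m ∈ V, ∀ n ∈ V, m * n = n * m := by
    rcases hmin ⁅V, V⁆ V.commutator_le_self inferInstance hVi.commutator with h | h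
    · intro m hm n hn
      have : ⁅m, n⁆ ∈ (⊥ : Subgroup G) := h ▸ Subgroup.commutator_mem_commutator hm hn
      rwa [Subgroup.mem_bot, commutatorElement_eq_one_iff_mul_comm] at this
    · exfalso
      rw [← Subgroup.map_subtype_commutator] at h
      have h2 : commutator V = ⊤ := Subgroup.map_injective V.subtype_injective
        (h.trans (by rw [← MonoidHom.range_eq_map, Subgroup.range_subtype]))
      exact (Group.IsSolvable.commutator_lt_top_of_nontrivial V).ne h2
  obtain ⟨r, hr, hrd⟩ := Nat.exists_prime_and_dvd (Finite.one_lt_card (α := V)).ne'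
  haveI := Fact.mk hr
  obtain ⟨x, hx⟩ := exists_prime_orderOf_dvd_card' (G := V) r hrd
  let U : Subgroup G :=
    { carrier := {n | n ∈ V ∧ n ^ r = 1}
      mul_mem' := fun {a b} ha hb => ⟨V.mul_mem ha.1 hb.1, by
        rw [(show Commute a b from hcomm a ha.1 b hb.1).mul_pow, ha.2, hb.2, one_mul]⟩
      one_mem' := ⟨V.one_mem, one_pow _⟩
      inv_mem' := fun {a} ha => ⟨V.inv_mem ha.1, by rw [inv_pow, ha.2, inv_one]⟩ }
  refine ⟨V, r, hr, hV0, hVn, hVi, hcomm, fun n hn => ?_, hmin⟩
  have hUV : U = V := by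
    refine (hmin U (fun n hn => hn.1) ⟨fun n hn g => ⟨hVn.conj_mem n hn.1 g, ?_⟩⟩
      (fun a n hn => ⟨hVi a n hn.1, ?_⟩)).resolve_left fun h => ?_
    · rw [conj_pow, hn.2, mul_one, mul_inv_cancel]
    · rw [← smul_pow', hn.2, smul_one]
    · have hxU : (x : G) ∈ U := ⟨x.2, by rw [← Subgroup.coe_pow, ← hx, pow_orderOf_eq_one]; rfl⟩
      rw [h, Subgroup.mem_bot] at hxU
      rw [← Subgroup.orderOf_coe, hxU, orderOf_one] at hx
      exact hr.one_lt.ne hx
  exact (show n ∈ U from hUV ▸ hn).2

/-- The action on an invariant subgroup. -/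
@[reducible] def subAction {G : Type u} [Group G] [MulDistribMulAction A G] (S : Subgroup G)
    (hS : IsInvariant A S) : MulDistribMulAction A S where
  smul a x := ⟨a • (x : G), hS a x x.2⟩
  one_smul x := Subtype.ext (one_smul A (x : G))
  mul_smul a b x := Subtype.ext (mul_smul a b (x : G))
  smul_mul a x y := Subtype.ext (smul_mul' a (x : G) y)
  smul_one a := Subtype.ext (smul_one a)

/-- The automorphism group of a quotient by an invariant normal subgroup. -/
@[reducible] def quotAction {G : Type u} [Group G] [MulDistribMulAction A G] (C : Subgroup G)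
    [C.Normal] (hC : IsInvariant A C) : MulDistribMulAction A (G ⧸ C) where
  smul a := QuotientGroup.map C C (MulDistribMulAction.toMonoidHom G a) (fun x hx => hC a x hx)
  one_smul x := by
    induction x using QuotientGroup.induction_on with
    | _ g => exact congrArg (QuotientGroup.mk (s := C)) (one_smul A g)
  mul_smul a b x := by
    induction x using QuotientGroup.induction_on with
    | _ g => exact congrArg (QuotientGroup.mk (s := C)) (mul_smul a b g)
  smul_mul a x y := map_mul (QuotientGroup.map C C (MulDistribMulAction.toMonoidHom G a)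
    (fun x hx => hC a x hx)) x y
  smul_one a := map_one (QuotientGroup.map C C (MulDistribMulAction.toMonoidHom G a)
    (fun x hx => hC a x hx))

/-- An invariant solvable subgroup is generated by its elements fixed by some `a ≠ 1`. -/
theorem le_closure_fixed_within {G : Type u} [Group G] [Finite G] [MulDistribMulAction A G]
    (hnc : ¬ IsCyclic A) (hcop : (Nat.card A).Coprime (Nat.card G)) (S : Subgroup G)
    [Group.IsSolvable S] (hS : IsInvariant A S) :
    S ≤ Subgroup.closure {g : G | g ∈ S ∧ ∃ a : A, a ≠ 1 ∧ a • g = g} := by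
  letI := subAction S hS
  intro g hg
  have h := le_closure_fixed_of_isSolvable (A := A) (G := S) hnc (⊤ : Subgroup S)
    (IsInvariant.top A)
    (by rw [Subgroup.card_top]; exact hcop.coprime_dvd_right (Subgroup.card_subgroup_dvd_card S))
    (Subgroup.mem_top ⟨g, hg⟩)
  have hle : Subgroup.closure {x : S | ∃ a : A, a ≠ 1 ∧ a • x = x} ≤
      (Subgroup.closure {g : G | g ∈ S ∧ ∃ a : A, a ≠ 1 ∧ a • g = g}).subgroupOf S := by
    rw [Subgroup.closure_le]
    rintro x ⟨a, ha, hx⟩
    exact Subgroup.subset_closure ⟨x.2, a, ha, congrArg Subtype.val hx⟩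
  exact hle h

theorem not_isCyclic {p : ℕ} (hp : p.Prime) (hexp : ∀ a : A, a ^ p = 1)
    (hcard : Nat.card A = p ^ 2) : ¬ IsCyclic A := fun hc => by
  have h1 : Monoid.exponent A = Nat.card A := IsCyclic.exponent_eq_card
  have h2 : Monoid.exponent A ∣ p := Monoid.exponent_dvd_of_forall_pow_eq_one hexp
  rw [h1, hcard] at h2
  have h3 := Nat.le_of_dvd hp.pos h2
  rw [pow_two] at h3
  have h4 := Nat.mul_lt_mul_of_pos_left hp.one_lt hp.pos
  omega

/-- Fixed points of `a ≠ 1` form a nilpotent subgroup, in element form. -/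
theorem commute_of_fixed {G : Type u} [Group G] [Finite G] [MulDistribMulAction A G]
    (hG : Group.IsSolvable G) {p : ℕ} (hp : p.Prime) (hexp : ∀ a : A, a ^ p = 1)
    (hcard : Nat.card A = p ^ 2) (hfpf : ∀ g : G, (∀ a : A, a • g = g) → g = 1) {a : A}
    (ha : a ≠ 1) {x y : G} (hx : a • x = x) (hy : a • y = y)
    (hxy : (orderOf x).Coprime (orderOf y)) : x * y = y * x := by
  obtain ⟨c, hc⟩ : ∃ c, c ∉ Subgroup.zpowers a := by
    by_contra! h
    exact not_isCyclic hp hexp hcard ⟨a, h⟩
  let S : Subgroup G :=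
    { carrier := {g | a • g = g}
      mul_mem' := fun {u w} (hu : a • u = u) (hw : a • w = w) => by
        show a • (u * w) = u * w
        rw [smul_mul', hu, hw]
      one_mem' := smul_one a
      inv_mem' := fun {u} (hu : a • u = u) => by
        show a • u⁻¹ = u⁻¹
        rw [smul_inv', hu] }
  have hS : IsInvariant A S := fun b g (hg : a • g = g) => by
    show a • b • g = b • g
    rw [← mul_smul, mul_comm, mul_smul, hg]
  letI := subAction S hS
  let f : A →* MulAut S := MulDistribMulAction.toMulAut A S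
  have hfix : ∀ s : S, f c s = s → s = 1 := by
    intro s hs
    apply Subtype.ext
    refine hfpf _ fun b => ?_
    have hs' : c • (s : G) = s := congrArg Subtype.val hs
    have : (⊤ : Subgroup A) ≤ MulAction.stabilizer A (s : G) :=
      (WardCore.eq_zpowers_sup_of_card hp hcard ha hc) ▸
        sup_le (Subgroup.zpowers_le.2 s.2) (Subgroup.zpowers_le.2 hs')
    exact this (Subgroup.mem_top b)
  haveI := hG
  haveI : Group.IsNilpotent S := FPFPrime.isNilpotent (G := S) inferInstance hp (f c)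
    (by rw [← map_pow, hexp, map_one]) hfix
  have h := CfsgLib.FGSA.commute_of_coprime_orderOf (⟨x, hx⟩ : S) ⟨y, hy⟩
    (by rwa [← Subgroup.orderOf_coe, ← Subgroup.orderOf_coe])
  exact congrArg Subtype.val h.eq

theorem coprime_of_fpf {G : Type u} [Group G] [Finite G] [MulDistribMulAction A G] {p : ℕ}
    (hp : p.Prime) (hcard : Nat.card A = p ^ 2) (hfpf : ∀ g : G, (∀ a : A, a • g = g) → g = 1) :
    (Nat.card A).Coprime (Nat.card G) := by
  haveI := Fact.mk hp
  rw [hcard]
  refine Nat.Coprime.pow_left 2 ((hp.coprime_iff_not_dvd).2 fun hd => ?_)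
  obtain ⟨x, -, hx1, hx⟩ := exists_fixed_ne_one_of_isPGroup (IsPGroup.of_card hcard (p := p))
    (⊤ : Subgroup G) (IsInvariant.top A) (by rwa [Subgroup.card_top])
  exact hx1 (hfpf x hx)

theorem quot_fpf {G : Type u} [Group G] [Finite G] [MulDistribMulAction A G] (C : Subgroup G)
    [C.Normal] (hC : IsInvariant A C) (hcop : (Nat.card A).Coprime (Nat.card G))
    (hfpf : ∀ g : G, (∀ a : A, a • g = g) → g = 1) :
    letI := quotAction C hC
    ∀ x : G ⧸ C, (∀ a : A, a • x = x) → x = 1 := by
  letI := quotAction C hC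
  intro x
  induction x using QuotientGroup.induction_on with
  | _ g =>
    intro hx
    obtain ⟨c, hc, hcg⟩ := exists_fixed_mk_eq hcop C hC g hx
    rw [← hcg, hfpf c hc]
    rfl

/-- If `[N, ⊤] = N` and `N` is covered by subgroups all of whose iterated commutators with `⊤`
vanish, then `N = ⊥`. -/
theorem eq_bot_of_commutator_eq {G : Type u} [Group G] {ι : Type} [Finite ι] (P : ι → Subgroup G)
    (hP : ∀ i, ∃ n, ((fun Y => ⁅Y, (⊤ : Subgroup G)⁆)^[n]) (P i) = ⊥) (hPn : ∀ i, (P i).Normal)
    {N : Subgroup G} (hN : ⁅N, (⊤ : Subgroup G)⁆ = N) (hle : N ≤ ⨆ i, P i) : N = ⊥ := by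
  set f := fun Y : Subgroup G => ⁅Y, (⊤ : Subgroup G)⁆ with hf
  have hmono : Monotone f := fun X Y h => Subgroup.commutator_mono h le_rfl
  have hsup : ∀ Y : ι → Subgroup G, (∀ i, (Y i).Normal) → f (⨆ i, Y i) ≤ ⨆ i, f (Y i) := by
    intro Y hY
    have hYn : ∀ i, (f (Y i)).Normal := fun i => by
      haveI := hY i
      exact Subgroup.commutator_normal _ _
    haveI : (⨆ i, f (Y i)).Normal := Subgroup.iSup_normal _
    set M := ⨆ i, f (Y i) with hM
    have h1 : ∀ i, Y i ≤ (Subgroup.center (G ⧸ M)).comap (QuotientGroup.mk' M) := by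
      intro i y hy
      rw [Subgroup.mem_comap, Subgroup.mem_center_iff]
      intro q
      induction q using QuotientGroup.induction_on with
      | _ g =>
        rw [eq_comm, QuotientGroup.mk'_apply, ← commutatorElement_eq_one_iff_mul_comm]
        exact (QuotientGroup.eq_one_iff _).2
          ((le_iSup (fun i => f (Y i)) i) (Subgroup.commutator_mem_commutator hy trivial))
    rw [hf]
    refine Subgroup.commutator_le.2 fun y hy g _ => ?_
    have h2 := (iSup_le h1) hy
    rw [Subgroup.mem_comap, Subgroup.mem_center_iff] at h2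
    rw [← QuotientGroup.eq_one_iff, ← QuotientGroup.mk'_apply, map_commutatorElement,
      commutatorElement_eq_one_iff_mul_comm]
    exact (h2 _).symm
  have hiter : ∀ n, f^[n] (⨆ i, P i) ≤ ⨆ i, f^[n] (P i) := by
    intro n
    induction n with
    | zero => exact le_rfl
    | succ n ih =>
      simp only [Function.iterate_succ_apply']
      refine (hmono ih).trans (hsup _ fun i => ?_)
      have : ∀ m, (f^[m] (P i)).Normal := by
        intro m
        induction m with
        | zero => exact hPn i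
        | succ m ihm =>
          rw [Function.iterate_succ_apply']
          haveI := ihm
          exact Subgroup.commutator_normal _ _
      exact this n
  have hNn : ∀ n, N ≤ f^[n] (⨆ i, P i) := by
    intro n
    induction n with
    | zero => exact hle
    | succ n ih => rw [Function.iterate_succ_apply', ← hN]; exact hmono ih
  choose m hm using hP
  haveI := Fintype.ofFinite ι
  refine eq_bot_iff.2 ((hNn (Finset.univ.sup m)).trans ((hiter _).trans (iSup_le fun i => ?_)))
  have hle : m i ≤ Finset.univ.sup m := Finset.le_sup (Finset.mem_univ i)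
  obtain ⟨d, hd⟩ := Nat.exists_eq_add_of_le hle
  rw [hd, add_comm, Function.iterate_add_apply, hm i]
  have hb : ∀ d, f^[d] (⊥ : Subgroup G) = ⊥ := by
    intro d
    induction d with
    | zero => rfl
    | succ d ih =>
      rw [Function.iterate_succ_apply', ih]
      exact Subgroup.commutator_bot_left _
  rw [hb]

/-- If `C` is normal and contains all elements of prime power order for primes other than `q`,
then `C ⊔ S` contains every conjugate of the Sylow `q`-subgroup `S`. -/
theorem mem_of_conj_mem {G : Type u} [Group G] [Finite G] (C : Subgroup G) [C.Normal] {q : ℕ}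
    [Fact q.Prime] (S : Sylow q G)
    (hC : ∀ t : ℕ, t.Prime → t ≠ q → ∀ z : G, (∃ e, orderOf z = t ^ e) → z ∈ C) (x h : G)
    (hx : h⁻¹ * x * h ∈ (S : Subgroup G)) : x ∈ C ⊔ (S : Subgroup G) := by
  have hcard : (C ⊔ (S : Subgroup G)) = ⊤ := by
    refine Subgroup.eq_top_of_card_eq _ (Nat.dvd_antisymm (Subgroup.card_subgroup_dvd_card _) ?_)
    refine Nat.dvd_of_primeFactorsList_subperm Nat.card_pos.ne' ?_
    rw [List.subperm_ext_iff]
    intro t ht
    haveI := Fact.mk (Nat.prime_of_mem_primeFactorsList ht)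
    rw [Nat.primeFactorsList_count_eq, Nat.primeFactorsList_count_eq]
    by_cases htq : t = q
    · subst htq
      rw [← Nat.Prime.pow_dvd_iff_le_factorization Fact.out Nat.card_pos.ne']
      exact S.card_eq_multiplicity ▸ Subgroup.card_dvd_of_le le_sup_right
    · obtain ⟨T⟩ := (inferInstance : Nonempty (Sylow t G))
      have hTC : (T : Subgroup G) ≤ C ⊔ (S : Subgroup G) := fun z hz => Subgroup.mem_sup_left
        (hC t Fact.out htq z (by
          obtain ⟨e, he⟩ := IsPGroup.iff_orderOf.1 T.isPGroup' ⟨z, hz⟩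
          exact ⟨e, by rw [← he, ← Subgroup.orderOf_coe]⟩))
      rw [← Nat.Prime.pow_dvd_iff_le_factorization Fact.out Nat.card_pos.ne']
      exact T.card_eq_multiplicity ▸ Subgroup.card_dvd_of_le hTC
  rw [hcard]
  exact Subgroup.mem_top x

theorem aux {p : ℕ} (hp : p.Prime) (hexp : ∀ a : A, a ^ p = 1) (hcard : Nat.card A = p ^ 2) :
    ∀ (n : ℕ) (G : Type u) [Group G] [Finite G] [MulDistribMulAction A G], Nat.card G = n →
      Group.IsSolvable G → (∀ g : G, (∀ a : A, a • g = g) → g = 1) →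
        ∃ k, Group.IsNilpotent ↥((⊤ : Subgroup G).lowerCentralSeries k) := by
  intro n
  induction n using Nat.strong_induction_on with
  | _ n ih =>
  intro G _ _ _ hn hG hfpf
  subst hn
  rcases subsingleton_or_nontrivial G with hG1 | hG1
  · exact ⟨0, inferInstance⟩
  haveI := hG
  have hcop := coprime_of_fpf hp hcard hfpf
  obtain ⟨V, r, hr, hV0, hVn, hVi, hVcomm, hVexp, hVmin⟩ := exists_min (A := A) hG
  haveI := hVn
  haveI := Fact.mk hr
  letI : CommGroup V :=
    { (inferInstance : Group V) with mul_comm := fun a b => Subtype.ext (hVcomm a a.2 b b.2) }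
  letI := quotAction V hVi
  obtain ⟨k₀, hk₀⟩ := ih (Nat.card (G ⧸ V))
    (by
      rw [Subgroup.card_eq_card_quotient_mul_card_subgroup V]
      haveI : Nontrivial V := V.nontrivial_iff_ne_bot.2 hV0
      exact lt_mul_right Nat.card_pos Finite.one_lt_card)
    (G ⧸ V) rfl inferInstance (quot_fpf V hVi hcop hfpf)
  obtain ⟨k, hk, hstab⟩ : ∃ k, k₀ ≤ k ∧ ⁅(⊤ : Subgroup G).lowerCentralSeries k, ⊤⁆ =
      (⊤ : Subgroup G).lowerCentralSeries k := by
    obtain ⟨N, ⟨k, hk, hkN⟩, hmin⟩ :=
      (Set.toFinite {N : Subgroup G | ∃ k, k₀ ≤ k ∧ (⊤ : Subgroup G).lowerCentralSeries k = N}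
        ).exists_minimal ⟨_, k₀, le_rfl, rfl⟩
    have h1 : (⊤ : Subgroup G).lowerCentralSeries (k + 1) ≤
        (⊤ : Subgroup G).lowerCentralSeries k :=
      Subgroup.lowerCentralSeries_antitone _ k.le_succ
    refine ⟨k, hk, le_antisymm h1 ?_⟩
    exact hkN.le.trans (hmin ⟨k + 1, hk.trans k.le_succ, rfl⟩ (h1.trans hkN.le))
  refine ⟨k, ?_⟩
  set N := (⊤ : Subgroup G).lowerCentralSeries k with hNdef
  haveI hNn : N.Normal := inferInstance
  -- the image in `G ⧸ V` is nilpotent
  have hmapV : N.map (QuotientGroup.mk' V) = (⊤ : Subgroup (G ⧸ V)).lowerCentralSeries k := by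
    rw [hNdef, Subgroup.map_lowerCentralSeries,
      Subgroup.map_top_of_surjective _ (QuotientGroup.mk'_surjective V)]
  haveI hnilV : Group.IsNilpotent (N.map (QuotientGroup.mk' V)) := by
    rw [hmapV]
    haveI := hk₀
    exact Subgroup.isNilpotent_of_ker_le_center
      (Subgroup.inclusion (Subgroup.lowerCentralSeries_antitone _ hk))
      (by rw [MonoidHom.ker_eq_bot _ (Subgroup.inclusion_injective _)]; exact bot_le)
  suffices hcentral : ∀ n ∈ N, ∀ v ∈ V, n * v = v * n by
    let f : N →* N.map (QuotientGroup.mk' V) := (QuotientGroup.mk' V).subgroupMap N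
    refine Subgroup.isNilpotent_of_ker_le_center f fun x hx => ?_
    rw [Subgroup.mem_center_iff]
    intro y
    have hxV : (x : G) ∈ V := by
      have h1 : ((f x : N.map (QuotientGroup.mk' V)) : G ⧸ V) = 1 := by
        rw [MonoidHom.mem_ker.1 hx]; rfl
      exact (QuotientGroup.eq_one_iff (x : G)).1 h1
    exact Subtype.ext (hcentral y y.2 x hxV)
  -- the action on `V`
  let φ : G →* MulAut V := MulAut.conjNormal
  have hφ : ∀ (g : G) (v : V), ((φ g v : V) : G) = g * v * g⁻¹ := fun g v => rfl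
  letI := subAction V hVi
  let σ₀ : A →* MulAut V := MulDistribMulAction.toMulAut A V
  have hσ₀ : ∀ (a : A) (v : V), ((σ₀ a v : V) : G) = a • (v : G) := fun a v => rfl
  have hcov₀ : ∀ (a : A) (g : G), σ₀ a * φ g = φ (a • g) * σ₀ a := by
    intro a g
    refine MulEquiv.ext fun v => Subtype.ext ?_
    simp only [MulAut.mul_apply, hσ₀, hφ, smul_mul', smul_inv']
  have hCi : IsInvariant A φ.ker := fun a g hg => by
    rw [MonoidHom.mem_ker] at hg ⊢
    have h := hcov₀ a g
    rw [hg, mul_one] at h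
    calc φ (a • g) = φ (a • g) * σ₀ a * (σ₀ a)⁻¹ := by group
      _ = 1 := by rw [← h]; group
  letI := quotAction φ.ker hCi
  have hfpfH : ∀ x : G ⧸ φ.ker, (∀ a : A, a • x = x) → x = 1 := quot_fpf φ.ker hCi hcop hfpf
  have hcopH : (Nat.card A).Coprime (Nat.card (G ⧸ φ.ker)) := coprime_of_fpf hp hcard hfpfH
  let ψ : G ⧸ φ.ker →* MulAut V := QuotientGroup.kerLift φ
  have hψ : ∀ g : G, ψ (g : G ⧸ φ.ker) = φ g := fun g => rfl
  have hψinj : Function.Injective ψ := QuotientGroup.kerLift_injective φ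
  have hcov : ∀ (a : A) (x : G ⧸ φ.ker), σ₀ a * ψ x = ψ (a • x) * σ₀ a := by
    intro a x
    induction x using QuotientGroup.induction_on with
    | _ g => exact hcov₀ a g
  set M := N.map (QuotientGroup.mk' φ.ker) with hMdef
  suffices hM : M = ⊥ by
    intro n hn v hv
    have h1 : (n : G ⧸ φ.ker) = 1 := Subgroup.mem_bot.1 (hM ▸ ⟨n, hn, rfl⟩)
    have h2 : φ n = 1 := MonoidHom.mem_ker.1 ((QuotientGroup.eq_one_iff n).1 h1)
    have h3 : ((φ n ⟨v, hv⟩ : V) : G) = v := by rw [h2]; rfl
    exact mul_inv_eq_iff_eq_mul.1 h3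
  haveI hMn : M.Normal := hNn.map _ (QuotientGroup.mk'_surjective _)
  have hMi : IsInvariant A M := by
    rintro a - ⟨g, hg, rfl⟩
    refine ⟨a • g, ?_, rfl⟩
    have hch : (N.map (MulDistribMulAction.toMulAut A G a).toMonoidHom) = N := by
      rw [hNdef, Subgroup.map_lowerCentralSeries,
        Subgroup.map_top_of_surjective ((MulDistribMulAction.toMulAut A G a).toMonoidHom)
          (MulDistribMulAction.toMulAut A G a).surjective]
    rw [← hch]
    exact ⟨g, hg, rfl⟩
  have hMcomm : ⁅M, (⊤ : Subgroup (G ⧸ φ.ker))⁆ = M := by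
    rw [hMdef, ← Subgroup.map_top_of_surjective _ (QuotientGroup.mk'_surjective φ.ker),
      ← Subgroup.map_commutator, hstab]
  haveI hMnil : Group.IsNilpotent M := by
    have hVker : V ≤ φ.ker := fun v hv => MonoidHom.mem_ker.2 (MulEquiv.ext fun w =>
      Subtype.ext (by
        rw [hφ, hVcomm v hv w w.2, mul_inv_cancel_right]; rfl))
    let π : G ⧸ V →* G ⧸ φ.ker := QuotientGroup.map V φ.ker (MonoidHom.id G) hVker
    have hM' : M = (N.map (QuotientGroup.mk' V)).map π := by
      rw [hMdef, Subgroup.map_map]; rfl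
    rw [hM']
    exact Group.nilpotent_of_surjective (π.subgroupMap (N.map (QuotientGroup.mk' V)))
      (π.subgroupMap_surjective _)
  -- the prime parts
  have hpart : ∀ q : ℕ, q.Prime → ∃ P : Subgroup (G ⧸ φ.ker), P.Normal ∧ IsInvariant A P ∧
      IsPGroup q P ∧ P ≤ M ∧ ∀ x ∈ M, (∃ e, orderOf x = q ^ e) → x ∈ P := by
    intro q hq
    haveI := Fact.mk hq
    obtain ⟨P, hPM, hPq, hPall⟩ := CfsgLib.FGSA.exists_pPart hMnil q
    have hord : ∀ x ∈ P, ∃ e, orderOf x = q ^ e := fun x hx => by
      obtain ⟨e, he⟩ := IsPGroup.iff_orderOf.1 hPq ⟨x, hx⟩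
      exact ⟨e, by rw [← he, ← Subgroup.orderOf_coe]⟩
    refine ⟨P, ⟨fun x hx g => ?_⟩, fun a x hx => ?_, hPq, hPM, hPall⟩
    · obtain ⟨e, he⟩ := hord x hx
      exact hPall _ (hMn.conj_mem x (hPM hx) g) ⟨e, by
        rw [← he]
        exact (MulAut.conj g).orderOf_eq x⟩
    · obtain ⟨e, he⟩ := hord x hx
      exact hPall _ (hMi a x (hPM hx)) ⟨e, by
        rw [← he]
        exact (MulDistribMulAction.toMulAut A (G ⧸ φ.ker) a).orderOf_eq x⟩
  choose P hPn hPi hPq hPM hPall using hpart
  obtain ⟨m₀, Φ, hΦinj, hΦsum⟩ := CfsgLib.WardRep.exists_rep (V := V) (r := r)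
    (fun v => Subtype.ext (by rw [Subgroup.coe_pow]; exact hVexp v v.2))
  haveI hVnt : Nontrivial V := V.nontrivial_iff_ne_bot.2 hV0
  -- the `r`-part is trivial
  have hPr : P r hr = ⊥ := by
    set R := P r hr with hR
    letI : MulDistribMulAction R V := MulDistribMulAction.compHom V (ψ.comp R.subtype)
    have hrV : r ∣ Nat.card V := by
      obtain ⟨v, hv⟩ := exists_ne (1 : V)
      rw [← orderOf_eq_prime (Subtype.ext (by rw [Subgroup.coe_pow]; exact hVexp v v.2) :
        v ^ r = 1) hv]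
      exact orderOf_dvd_natCard v
    obtain ⟨x, -, hx1, hx⟩ := exists_fixed_ne_one_of_isPGroup (A := R) (hPq r hr)
      (⊤ : Subgroup V) (IsInvariant.top R) (by rwa [Subgroup.card_top])
    let W : Subgroup G :=
      { carrier := {g | ∃ hg : g ∈ V, ∀ y ∈ R, ψ y ⟨g, hg⟩ = ⟨g, hg⟩}
        mul_mem' := fun {u w} hu hw => by
          obtain ⟨hu, hu'⟩ := hu
          obtain ⟨hw, hw'⟩ := hw
          refine ⟨V.mul_mem hu hw, fun y hy => ?_⟩
          show ψ y (⟨u, hu⟩ * ⟨w, hw⟩) = ⟨u, hu⟩ * ⟨w, hw⟩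
          rw [map_mul, hu' y hy, hw' y hy]
        one_mem' := ⟨V.one_mem, fun y _ => map_one _⟩
        inv_mem' := fun {u} hu => by
          obtain ⟨hu, hu'⟩ := hu
          refine ⟨V.inv_mem hu, fun y hy => ?_⟩
          show ψ y (⟨u, hu⟩⁻¹) = ⟨u, hu⟩⁻¹
          rw [map_inv, hu' y hy] }
    have hW : W = V := by
      refine (hVmin W (fun g hg => hg.1) ⟨fun g hg h => ?_⟩ (fun a g hg => ?_)).resolve_left
        fun h => ?_
      · obtain ⟨hgV, hg'⟩ := hg
        refine ⟨hVn.conj_mem g hgV h, fun y hy => ?_⟩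
        have h1 := hg' _ ((hPn r hr).conj_mem y hy (h : G ⧸ φ.ker)⁻¹)
        rw [map_mul, map_mul, map_inv, inv_inv, MulAut.mul_apply, MulAut.mul_apply, hψ,
          MulAut.inv_apply, MulEquiv.symm_apply_eq] at h1
        exact h1
      · obtain ⟨hgV, hg'⟩ := hg
        refine ⟨hVi a g hgV, fun y hy => ?_⟩
        have h2 : ψ y * σ₀ a = σ₀ a * ψ (a⁻¹ • y) := by rw [hcov, smul_inv_smul]
        show ψ y (σ₀ a ⟨g, hgV⟩) = σ₀ a ⟨g, hgV⟩
        rw [← MulAut.mul_apply, h2, MulAut.mul_apply, hg' _ (hPi r hr a⁻¹ y hy)]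
      · apply hx1
        have : (x : G) ∈ W := ⟨x.2, fun y hy => hx ⟨y, hy⟩⟩
        rw [h, Subgroup.mem_bot] at this
        exact Subtype.ext this
    rw [Subgroup.eq_bot_iff_forall]
    intro y hy
    apply hψinj
    rw [map_one]
    refine MulEquiv.ext fun v => ?_
    obtain ⟨hv, hv'⟩ : (v : G) ∈ W := hW.symm ▸ v.2
    exact hv' y hy
  -- elements fixed by `a` of order prime to `r` fix the fixed points of `a` on `V`
  have hfixV : ∀ (a : A), a ≠ 1 → ∀ (x : G ⧸ φ.ker), (orderOf x).Coprime r → a • x = x →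
      ∀ v : V, σ₀ a v = v → ψ x v = v := by
    intro a ha x hxr hax v hv
    induction x using QuotientGroup.induction_on with
    | _ g =>
      haveI : Group.IsSolvable (Subgroup.zpowers a) :=
        Group.isSolvable_of_comm fun u w => mul_comm u w
      letI : MulDistribMulAction (Subgroup.zpowers a) G :=
        MulDistribMulAction.compHom G (Subgroup.zpowers a).subtype
      have hfix : ∀ b ∈ Subgroup.zpowers a, b • (g : G ⧸ φ.ker) = g := fun b hb =>
        (Subgroup.zpowers_le.2 (show a ∈ MulAction.stabilizer A (g : G ⧸ φ.ker) from hax)) hb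
      obtain ⟨c, hc, hcg⟩ := exists_fixed_mk_eq (A := Subgroup.zpowers a)
        (hcop.coprime_dvd_left (Subgroup.card_subgroup_dvd_card _)) φ.ker
        (fun b n hn => hCi (b : A) n hn) g (fun b => hfix b b.2)
      rw [← hcg] at hxr ⊢
      rw [hψ]
      obtain ⟨e, s, hs, hes⟩ :=
        Nat.exists_eq_pow_mul_and_not_dvd (orderOf_pos c).ne' r hr.ne_one
      have hac : a • c = c := hc ⟨a, Subgroup.mem_zpowers a⟩
      have h1 : (c ^ r ^ e) * (v : G) = v * c ^ r ^ e := by
        refine commute_of_fixed hG hp hexp hcard hfpf ha ?_ ?_ ?_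
        · rw [smul_pow', hac]
        · exact congrArg Subtype.val hv
        · have h2 : orderOf (c ^ r ^ e) = s := by
            rw [orderOf_pow' c (pow_ne_zero e hr.ne_zero), hes, Nat.gcd_eq_right (dvd_mul_right _ _),
              Nat.mul_div_cancel_left _ (pow_pos hr.pos e)]
          rw [h2]
          refine Nat.Coprime.coprime_dvd_right (orderOf_dvd_of_pow_eq_one (hVexp v v.2)) ?_
          exact ((hr.coprime_iff_not_dvd).2 hs).symm
      have hS : c ^ r ^ e ∈ (MulAction.stabilizer (MulAut V) v).comap φ := by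
        refine Subtype.ext ?_
        show ((φ (c ^ r ^ e) v : V) : G) = v
        rw [hφ, h1, mul_inv_cancel_right]
      obtain ⟨l, hl⟩ := exists_pow_eq_self_of_coprime (x := (c : G ⧸ φ.ker)) (n := r ^ e)
        (Nat.Coprime.pow_left e hxr.symm)
      have h3 : φ c ∈ MulAction.stabilizer (MulAut V) v := by
        have h4 : φ c = φ (c ^ r ^ e) ^ l := by
          rw [← hψ, ← hψ, QuotientGroup.mk_pow, ← map_pow, hl]
        rw [h4, ← map_pow]
        exact Subgroup.pow_mem _ hS l
      exact h3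
  -- each prime part is centralized by the other Sylow subgroups
  have hcent : ∀ (q : ℕ) (hq : q.Prime) (t : ℕ), t.Prime → t ≠ q →
      ∀ x : G ⧸ φ.ker, (∃ e, orderOf x = t ^ e) → ∀ g ∈ P q hq, x * g = g * x := by
    intro q hq t ht htq
    by_cases hqr : q = r
    · subst hqr
      intro x _ g hg
      rw [hPr, Subgroup.mem_bot] at hg
      rw [hg, mul_one, one_mul]
    haveI := Fact.mk hq
    haveI := Fact.mk ht
    haveI := hPn q hq
    obtain ⟨T, hT⟩ := exists_invariant_sylow (A := A) hcopH t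
    have hT0 : ∀ a₀ : A, a₀ ≠ 1 → ∀ x ∈ (T : Subgroup (G ⧸ φ.ker)), a₀ • x = x →
        ∀ g ∈ P q hq, x * g = g * x := by
      intro a₀ ha₀
      let T₀ : Subgroup (G ⧸ φ.ker) :=
        { carrier := {x | x ∈ (T : Subgroup (G ⧸ φ.ker)) ∧ a₀ • x = x}
          mul_mem' := fun {u w} hu hw => ⟨mul_mem hu.1 hw.1, by rw [smul_mul', hu.2, hw.2]⟩
          one_mem' := ⟨one_mem _, smul_one a₀⟩
          inv_mem' := fun {u} hu => ⟨inv_mem hu.1, by rw [smul_inv', hu.2]⟩ }
      have hT₀i : IsInvariant A T₀ := fun b x hx => ⟨hT b x hx.1, by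
        rw [← mul_smul, mul_comm, mul_smul, hx.2]⟩
      set Q₁ := ⁅P q hq, T₀⁆ with hQ₁
      have hnorm : T₀ ≤ Subgroup.normalizer ((P q hq : Subgroup (G ⧸ φ.ker)) : Set (G ⧸ φ.ker)) := by
        rw [Subgroup.normalizer_eq_top]; exact le_top
      obtain ⟨e₁, he₁⟩ := IsPGroup.iff_card.1 (hPq q hq)
      have hT₀t : IsPGroup t T₀ := T.isPGroup'.to_le fun x hx => hx.1
      obtain ⟨e₂, he₂⟩ := IsPGroup.iff_card.1 hT₀t
      have hcc : ⁅⁅P q hq, T₀⁆, T₀⁆ = ⁅P q hq, T₀⁆ := CoprimeAct.commutator_commutator hnorm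
        (by
          rw [he₁, he₂]
          exact Nat.Coprime.pow _ _ ((Nat.coprime_primes ht hq).2 htq))
        (Or.inl (CfsgLib.FGSA.isSolvable_of_isPGroup hT₀t))
      have hQ₁P : Q₁ ≤ P q hq := Subgroup.commutator_le_left _ _
      have hQ₁q : IsPGroup q Q₁ := (hPq q hq).to_le hQ₁P
      haveI hQ₁sol : Group.IsSolvable Q₁ := CfsgLib.FGSA.isSolvable_of_isPGroup hQ₁q
      have hQ₁i : IsInvariant A Q₁ := by
        intro b x hx
        have h : (MulDistribMulAction.toMulAut A (G ⧸ φ.ker) b).toMonoidHom x ∈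
            Q₁.map (MulDistribMulAction.toMulAut A (G ⧸ φ.ker) b).toMonoidHom :=
          Subgroup.mem_map_of_mem _ hx
        rw [hQ₁, Subgroup.map_commutator] at h
        have h5 : (P q hq).map
            (MulDistribMulAction.toMulAut A (G ⧸ φ.ker) b).toMonoidHom ≤ P q hq := by
          rintro - ⟨y, hy, rfl⟩; exact hPi q hq b y hy
        have h6 : T₀.map (MulDistribMulAction.toMulAut A (G ⧸ φ.ker) b).toMonoidHom ≤ T₀ := by
          rintro - ⟨y, hy, rfl⟩; exact hT₀i b y hy
        exact Subgroup.commutator_mono h5 h6 h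
      have hT₀Q₁ : ∀ x ∈ T₀, ∀ g ∈ Q₁, x * g * x⁻¹ ∈ Q₁ := fun x hx g hg =>
        (Subgroup.mem_normalizer_iff.1
          (Subgroup.normalizer_commutator_ge_right (P q hq) T₀ hx) g).1 hg
      have hordq : ∀ g ∈ P q hq, ∃ e, orderOf g = q ^ e := fun g hg => by
        obtain ⟨e, he⟩ := IsPGroup.iff_orderOf.1 (hPq q hq) ⟨g, hg⟩
        exact ⟨e, by rw [← he, ← Subgroup.orderOf_coe]⟩
      suffices hbot : Q₁ = ⊥ by
        intro x hx hax g hg
        have : ⁅g, x⁆ ∈ Q₁ := Subgroup.commutator_mem_commutator hg ⟨hx, hax⟩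
        rw [hbot, Subgroup.mem_bot, commutatorElement_eq_one_iff_mul_comm] at this
        exact this.symm
      haveI := hG
      by_contra hne
      haveI : Nontrivial Q₁ := Q₁.nontrivial_iff_ne_bot.2 hne
      haveI : Nontrivial (Subgroup.center Q₁) := hQ₁q.center_nontrivial
      let ι : Subgroup.center Q₁ →* G ⧸ φ.ker := Q₁.subtype.comp (Subgroup.center Q₁).subtype
      have hι : Function.Injective ι :=
        Q₁.subtype_injective.comp (Subgroup.center Q₁).subtype_injective
      -- automorphisms of the centre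
      letI := subAction Q₁ hQ₁i
      let cT₁ : T₀ →* MulAut Q₁ :=
        { toFun := fun x =>
            { toFun := fun g => ⟨x * g * (x : G ⧸ φ.ker)⁻¹, hT₀Q₁ x x.2 g g.2⟩
              invFun := fun g => ⟨(x : G ⧸ φ.ker)⁻¹ * g * x, by
                simpa using hT₀Q₁ _ (T₀.inv_mem x.2) g g.2⟩
              left_inv := fun g => Subtype.ext (by simp [mul_assoc])
              right_inv := fun g => Subtype.ext (by simp [mul_assoc])
              map_mul' := fun g h => Subtype.ext (by simp [mul_assoc]) }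
          map_one' := MulEquiv.ext fun g => Subtype.ext (by simp)
          map_mul' := fun x y => MulEquiv.ext fun g => Subtype.ext (by simp [mul_assoc]) }
      let res : MulAut Q₁ →* MulAut (Subgroup.center Q₁) :=
        { toFun := fun f => (Subgroup.centerCongr f)
          map_one' := MulEquiv.ext fun z => Subtype.ext rfl
          map_mul' := fun f g => MulEquiv.ext fun z => Subtype.ext rfl }
      letI : CommGroup (Subgroup.center Q₁) :=
        { (inferInstance : Group (Subgroup.center Q₁)) with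
          mul_comm := fun a b => Subtype.ext (Subgroup.mem_center_iff.1 b.2 a) }
      let ρR := Φ.comp ψ
      let σR := Φ.comp σ₀
      obtain ⟨e₃, he₃⟩ := IsPGroup.iff_card.1 (hQ₁q.to_subgroup (Subgroup.center Q₁))
      have hqr' : ((q : ℕ) : ZMod r) ≠ 0 := fun h => by
        rw [ZMod.natCast_eq_zero_iff] at h
        exact hqr (((Nat.prime_dvd_prime_iff_eq hr hq).1 h).symm)
      obtain ⟨e₄, -, he₄⟩ := (Nat.dvd_prime_pow hq).1
        (he₃ ▸ Group.exponent_dvd_nat_card (G := Subgroup.center Q₁))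
      haveI : NeZero ((Monoid.exponent (Subgroup.center Q₁) : ℕ) : ZMod r) := ⟨by
        rw [he₄, Nat.cast_pow]; exact pow_ne_zero _ hqr'⟩
      haveI : HasEnoughRootsOfUnity (AlgebraicClosure (ZMod r))
          (Monoid.exponent (Subgroup.center Q₁)) := AlgebraicClosure.hasEnoughRootsOfUnity _ _
      have key := WardCore.acts_trivially (k := AlgebraicClosure (ZMod r)) (Z := Subgroup.center Q₁) ρR σR hp hexp hcard hcopH
        hfpfH
        (fun a x => by
          show Φ (σ₀ a) * Φ (ψ x) = Φ (ψ (a • x)) * Φ (σ₀ a)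
          rw [← map_mul, hcov, map_mul])
        Q₁ T₀ hQ₁i hT₀i hT₀Q₁
        (fun K hK h => by
          rw [hQ₁, ← hcc, ← hQ₁, Subgroup.commutator_le]
          intro g hg x hx
          have := h g hg x hx
          simpa [commutatorElement_def, mul_assoc] using this)
        a₀ ha₀ (fun x hx => hx.2)
        (fun x hx g hg hag => by
          obtain ⟨e, he⟩ := hordq g (hQ₁P hg)
          obtain ⟨e', he'⟩ := IsPGroup.iff_orderOf.1 hT₀t ⟨x, hx⟩
          rw [← Subgroup.orderOf_coe] at he'
          have h := commute_of_fixed (G := G ⧸ φ.ker) inferInstance hp hexp hcard hfpfH ha₀ hx.2 hag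
            (by
              rw [he, show orderOf x = t ^ e' from he']
              exact Nat.Coprime.pow _ _ ((Nat.coprime_primes ht hq).2 htq))
          rw [h, mul_inv_cancel_right])
        (fun a ha g hg hag => by
          have hfv := hfixV a ha g (by
            obtain ⟨e, he⟩ := hordq g (hQ₁P hg)
            rw [he]
            exact Nat.Coprime.pow_left _ ((Nat.coprime_primes hq hr).2 hqr)) hag
          show Φ (ψ g) * ∑ i ∈ Finset.range p, Φ (σ₀ (a ^ i)) =
            ∑ i ∈ Finset.range p, Φ (σ₀ (a ^ i))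
          refine hΦsum (ψ g) p (fun i => σ₀ (a ^ i)) fun v => hfv _ ?_
          rw [map_prod]
          obtain ⟨p', hp'⟩ : ∃ p', p = p' + 1 := ⟨p - 1, by have := hp.pos; omega⟩
          have e : ∀ (i : ℕ) (w : V), σ₀ a (σ₀ (a ^ i) w) = σ₀ (a ^ (i + 1)) w := fun i w => by
            rw [pow_succ', map_mul, MulAut.mul_apply]
          simp only [e]
          rw [hp', Finset.prod_range_succ, Finset.prod_range_succ' (fun i => σ₀ (a ^ i) v),
            ← hp', hexp, pow_zero])
        ι hι (fun z => (z : Q₁).2)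
        (fun z g hg => congrArg Subtype.val (Subgroup.mem_center_iff.1 z.2 ⟨g, hg⟩))
        (res.comp cT₁) (fun x z => rfl)
        (res.comp (MulDistribMulAction.toMulAut A Q₁)) (fun a z => rfl)
        (by
          rw [he₃, Nat.cast_pow]
          refine pow_ne_zero _ ?_
          rw [← map_natCast (algebraMap (ZMod r) (AlgebraicClosure (ZMod r)))]
          exact fun h => hqr' ((map_eq_zero _).1 h))
      obtain ⟨z, hz⟩ := exists_ne (1 : Subgroup.center Q₁)
      apply hz
      apply hι
      apply hψinj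
      apply hΦinj
      rw [map_one, map_one, map_one]
      exact key z
    have hTall : ∀ x ∈ (T : Subgroup (G ⧸ φ.ker)), ∀ g ∈ P q hq, x * g = g * x := by
      have hle : (T : Subgroup (G ⧸ φ.ker)) ≤
          Subgroup.centralizer ((P q hq : Subgroup (G ⧸ φ.ker)) : Set (G ⧸ φ.ker)) := by
        haveI : Group.IsSolvable (T : Subgroup (G ⧸ φ.ker)) :=
          CfsgLib.FGSA.isSolvable_of_isPGroup T.isPGroup'
        refine (le_closure_fixed_within (not_isCyclic hp hexp hcard) hcopH _ hT).trans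
          ((Subgroup.closure_le _).2 ?_)
        rintro x ⟨hx, a, ha, hax⟩
        exact Subgroup.mem_centralizer_iff.2 fun g hg => (hT0 a ha x hx hax g hg).symm
      exact fun x hx g hg => (Subgroup.mem_centralizer_iff.1 (hle hx) g hg).symm
    intro x hx g hg
    obtain ⟨e, he⟩ := hx
    obtain ⟨S, hS⟩ := (IsPGroup.of_card (G := Subgroup.zpowers x) (n := e)
      (by rw [Nat.card_zpowers, he]) : IsPGroup t (Subgroup.zpowers x)).exists_le_sylow
    obtain ⟨h, rfl⟩ := MulAction.exists_smul_eq (G ⧸ φ.ker) T S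
    have hx' := hS (Subgroup.mem_zpowers x)
    rw [Sylow.coe_subgroup_smul, Subgroup.mem_pointwise_smul_iff_inv_smul_mem] at hx'
    simp only [MulAut.smul_def, ← map_inv, MulAut.conj_apply, inv_inv] at hx'
    have := hTall _ hx' _ ((hPn q hq).conj_mem g hg h⁻¹)
    simp only [inv_inv] at this
    calc x * g = h * ((h⁻¹ * x * h) * (h⁻¹ * g * h)) * h⁻¹ := by group
      _ = h * ((h⁻¹ * g * h) * (h⁻¹ * x * h)) * h⁻¹ := by rw [this]
      _ = g * x := by group
  -- conclusion
  refine eq_bot_of_commutator_eq (ι := ↥((Nat.card (G ⧸ φ.ker)).primeFactors))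
    (fun q => P q.1 (Nat.prime_of_mem_primeFactors q.2)) (fun q => ?_)
    (fun q => hPn q.1 (Nat.prime_of_mem_primeFactors q.2)) hMcomm ?_
  · have hq := Nat.prime_of_mem_primeFactors q.2
    haveI := Fact.mk hq
    haveI := hPn q.1 hq
    obtain ⟨S, hS⟩ := (hPq q.1 hq).exists_le_sylow
    set C := Subgroup.centralizer ((P q.1 hq : Subgroup (G ⧸ φ.ker)) : Set (G ⧸ φ.ker)) with hC
    have htop : C ⊔ (S : Subgroup (G ⧸ φ.ker)) = ⊤ := by
      rw [eq_top_iff]
      refine CfsgLib.FGSA.le_of_prime_power_mem fun t ht x _ hx => ?_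
      by_cases htq : t = q.1
      · subst htq
        obtain ⟨e, he⟩ := hx
        obtain ⟨S', hS'⟩ := (IsPGroup.of_card (G := Subgroup.zpowers x) (n := e)
          (by rw [Nat.card_zpowers, he]) : IsPGroup q.1 (Subgroup.zpowers x)).exists_le_sylow
        obtain ⟨h, rfl⟩ := MulAction.exists_smul_eq (G ⧸ φ.ker) S S'
        have hx' := hS' (Subgroup.mem_zpowers x)
        rw [Sylow.coe_subgroup_smul, Subgroup.mem_pointwise_smul_iff_inv_smul_mem] at hx'
        simp only [MulAut.smul_def, ← map_inv, MulAut.conj_apply, inv_inv] at hx'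
        haveI : C.Normal := Subgroup.normal_centralizer
        exact mem_of_conj_mem C S (fun t' ht' htq' z hz => Subgroup.mem_centralizer_iff.2
          fun u hu => (hcent q.1 hq t' ht' htq' z hz u hu).symm) x h hx'
      · exact Subgroup.mem_sup_left (Subgroup.mem_centralizer_iff.2 fun g hg =>
          (hcent q.1 hq t ht htq x hx g hg).symm)
    haveI : C.Normal := Subgroup.normal_centralizer
    have hcomm : ∀ Y : Subgroup (G ⧸ φ.ker), Y.Normal → Y ≤ P q.1 hq →
        ⁅Y, (⊤ : Subgroup (G ⧸ φ.ker))⁆ ≤ ⁅Y, (S : Subgroup (G ⧸ φ.ker))⁆ := by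
      intro Y hY hYP
      rw [Subgroup.commutator_le]
      intro g hg x _
      have hx : x ∈ (C : Set (G ⧸ φ.ker)) * ((S : Subgroup (G ⧸ φ.ker)) : Set (G ⧸ φ.ker)) := by
        rw [← Subgroup.normal_mul, SetLike.mem_coe, htop]; exact Subgroup.mem_top x
      obtain ⟨c, hc, s, hs, rfl⟩ := hx
      have h1 := Subgroup.mem_centralizer_iff.1 hc g (hYP hg)
      have h2 : ⁅g, s⁆ ∈ P q.1 hq := by
        rw [commutatorElement_def, mul_assoc, mul_assoc, ← mul_assoc s]
        exact mul_mem (hYP hg) ((hPn q.1 hq).conj_mem _ (inv_mem (hYP hg)) s)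
      have h3 := Subgroup.mem_centralizer_iff.1 hc _ h2
      have h4 : ⁅g, c * s⁆ = ⁅g, s⁆ := by
        calc ⁅g, c * s⁆ = g * c * s * g⁻¹ * s⁻¹ * c⁻¹ := by
              rw [commutatorElement_def]; group
          _ = c * ⁅g, s⁆ * c⁻¹ := by rw [h1, commutatorElement_def]; group
          _ = ⁅g, s⁆ := by rw [← h3, mul_inv_cancel_right]
      rw [h4]
      exact Subgroup.commutator_mem_commutator hg hs
    haveI : Group.IsNilpotent (S : Subgroup (G ⧸ φ.ker)) := S.isPGroup'.isNilpotent
    obtain ⟨n, hn⟩ := (Subgroup.isNilpotent_iff_lowerCentralSeries _).1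
      (inferInstance : Group.IsNilpotent (S : Subgroup (G ⧸ φ.ker)))
    have hiter : ∀ j, ((fun Y => ⁅Y, (⊤ : Subgroup (G ⧸ φ.ker))⁆)^[j]) (P q.1 hq) ≤
          P q.1 hq ⊓ (S : Subgroup (G ⧸ φ.ker)).lowerCentralSeries j ∧
        (((fun Y => ⁅Y, (⊤ : Subgroup (G ⧸ φ.ker))⁆)^[j]) (P q.1 hq)).Normal := by
      intro j
      induction j with
      | zero => exact ⟨le_inf le_rfl hS, hPn q.1 hq⟩
      | succ j ihj =>
        obtain ⟨h1, h2⟩ := ihj
        haveI := h2
        rw [Function.iterate_succ_apply']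
        refine ⟨le_inf ((Subgroup.commutator_le_left _ _).trans (h1.trans inf_le_left)) ?_,
          Subgroup.commutator_normal _ _⟩
        exact (hcomm _ h2 (h1.trans inf_le_left)).trans
          (Subgroup.commutator_mono (h1.trans inf_le_right) le_rfl)
    exact ⟨n, eq_bot_iff.2 ((hiter n).1.trans (inf_le_right.trans hn.le))⟩
  · refine CfsgLib.FGSA.le_of_prime_power_mem fun t ht x hx hxt => ?_
    by_cases hx1 : x = 1
    · rw [hx1]; exact one_mem _
    obtain ⟨e, he⟩ := hxt
    have hmem : t ∈ (Nat.card (G ⧸ φ.ker)).primeFactors := by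
      refine Nat.mem_primeFactors.2 ⟨ht, ?_, Nat.card_pos.ne'⟩
      have he0 : e ≠ 0 := fun h => hx1 (orderOf_eq_one_iff.1 (by rw [he, h, pow_zero]))
      exact (dvd_pow_self t he0).trans (he ▸ orderOf_dvd_natCard x)
    exact le_iSup (fun q : ↥((Nat.card (G ⧸ φ.ker)).primeFactors) =>
      P q.1 (Nat.prime_of_mem_primeFactors q.2)) ⟨t, hmem⟩ (hPall t ht x hx ⟨e, he⟩)

end CfsgLib.Ward
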